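import Mathlib
import Cfsg.Agent.Lib.Lie.CentralDouble

/-!
Data for the multiplier of the Suzuki group over eight elements.
-/

set_option autoImplicit false
set_option maxRecDepth 40000
set_option maxHeartbeats 4000000

namespace Cfsg.Agent.Lie.SuzukiEight

open Cfsg.Agent.Lie

def certSNext0 : Janko.Tree (ℕ) :=
  (.node (.node (.node (.node (.node (.leaf 1) (.leaf 1542)) (.leaf 459)) (.node (.leaf 810) (.leaf 1910))) (.node (.node (.leaf 433) (.leaf 1681)) (.node (.leaf 1134) (.leaf 233)))) (.node (.node (.node (.node (.leaf 228) (.leaf 2211)) (.leaf 1549)) (.node (.leaf 970) (.leaf 1997))) (.node (.node (.leaf 630) (.leaf 1722)) (.node (.leaf 1289) (.leaf 2143)))))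

def certSNext1 : Janko.Tree (ℕ) :=
  (.node (.node (.node (.node (.node (.leaf 2) (.leaf 1302)) (.leaf 1417)) (.node (.leaf 811) (.leaf 377))) (.node (.node (.leaf 434) (.leaf 1630)) (.node (.leaf 1066) (.leaf 723)))) (.node (.node (.node (.node (.leaf 229) (.leaf 1962)) (.leaf 1550)) (.node (.leaf 971) (.leaf 1998))) (.node (.node (.leaf 594) (.leaf 1792)) (.node (.leaf 1004) (.leaf 2069)))))

def certSNext2 : Janko.Tree (ℕ) :=
  (.node (.node (.node (.node (.node (.leaf 3) (.leaf 2197)) (.leaf 1036)) (.node (.leaf 812) (.leaf 1911))) (.node (.node (.leaf 435) (.leaf 869)) (.node (.leaf 1135) (.leaf 2080)))) (.node (.node (.node (.node (.leaf 230) (.leaf 1810)) (.leaf 991)) (.node (.leaf 650) (.leaf 1125))) (.node (.node (.leaf 631) (.leaf 1793)) (.node (.leaf 1062) (.leaf 788)))))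

def certSNext3 : Janko.Tree (ℕ) :=
  (.node (.node (.node (.node (.node (.leaf 4) (.leaf 1360)) (.leaf 1099)) (.node (.leaf 794) (.leaf 1729))) (.node (.node (.leaf 436) (.leaf 1257)) (.node (.leaf 1136) (.leaf 797)))) (.node (.node (.node (.node (.leaf 231) (.leaf 1808)) (.leaf 1190)) (.node (.leaf 546) (.leaf 1999))) (.node (.node (.leaf 632) (.leaf 1794)) (.node (.leaf 687) (.leaf 916)))))

def certSNext4 : Janko.Tree (ℕ) :=
  (.node (.node (.node (.node (.node (.leaf 5) (.leaf 387)) (.leaf 1251)) (.node (.leaf 813) (.leaf 1912))) (.node (.node (.leaf 437) (.leaf 1682)) (.node (.leaf 1137) (.leaf 457)))) (.node (.node (.node (.node (.leaf 232) (.leaf 1008)) (.leaf 1551)) (.node (.leaf 972) (.leaf 1593))) (.node (.node (.leaf 633) (.leaf 1795)) (.node (.leaf 1290) (.leaf 2086)))))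

def certSNext5 : Janko.Tree (ℕ) :=
  (.node (.node (.node (.node (.node (.leaf 6) (.leaf 2127)) (.leaf 1418)) (.node (.leaf 660) (.leaf 1864))) (.node (.node (.leaf 395) (.leaf 59)) (.node (.leaf 1138) (.leaf 943)))) (.node (.node (.node (.node (.leaf 233) (.leaf 1030)) (.leaf 1552)) (.node (.leaf 973) (.leaf 1850))) (.node (.node (.leaf 634) (.leaf 1796)) (.node (.leaf 752) (.leaf 963)))))

def certSNext6 : Janko.Tree (ℕ) :=
  (.node (.node (.node (.node (.node (.leaf 7) (.leaf 1942)) (.leaf 1419)) (.node (.leaf 452) (.leaf 951))) (.node (.node (.leaf 438) (.leaf 1515)) (.node (.leaf 919) (.leaf 1927)))) (.node (.node (.node (.node (.leaf 234) (.leaf 1899)) (.leaf 1553)) (.node (.leaf 49) (.leaf 2000))) (.node (.node (.leaf 635) (.leaf 1797)) (.node (.leaf 647) (.leaf 1794)))))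

def certSNext7 : Janko.Tree (ℕ) :=
  (.node (.node (.node (.node (.node (.leaf 8) (.leaf 1310)) (.leaf 1420)) (.node (.leaf 814) (.leaf 1913))) (.node (.node (.leaf 439) (.leaf 1323)) (.node (.leaf 1013) (.leaf 2081)))) (.node (.node (.node (.node (.leaf 94) (.leaf 2199)) (.leaf 1554)) (.node (.leaf 499) (.leaf 740))) (.node (.node (.leaf 636) (.leaf 1798)) (.node (.leaf 1291) (.leaf 2144)))))

def certSNext8 : Janko.Tree (ℕ) :=
  (.node (.node (.node (.node (.node (.leaf 9) (.leaf 1127)) (.leaf 474)) (.node (.leaf 714) (.leaf 1914))) (.node (.node (.leaf 440) (.leaf 1683)) (.node (.leaf 914) (.leaf 1621)))) (.node (.node (.node (.node (.leaf 235) (.leaf 2051)) (.leaf 1555)) (.node (.leaf 974) (.leaf 2001))) (.node (.node (.leaf 167) (.leaf 1799)) (.node (.leaf 739) (.leaf 1596)))))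

def certSNext9 : Janko.Tree (ℕ) :=
  (.node (.node (.node (.node (.node (.leaf 10) (.leaf 2198)) (.leaf 1421)) (.node (.leaf 815) (.leaf 1915))) (.node (.node (.leaf 441) (.leaf 272)) (.node (.leaf 1139) (.leaf 154)))) (.node (.node (.node (.node (.leaf 67) (.leaf 2061)) (.leaf 1556)) (.node (.leaf 975) (.leaf 2001))) (.node (.node (.leaf 637) (.leaf 1800)) (.node (.leaf 108) (.leaf 2145)))))

def certSNext10 : Janko.Tree (ℕ) :=
  (.node (.node (.node (.node (.node (.leaf 11) (.leaf 2189)) (.leaf 1422)) (.node (.leaf 330) (.leaf 1545))) (.node (.node (.leaf 178) (.leaf 1684)) (.node (.leaf 125) (.leaf 1443)))) (.node (.node (.node (.node (.leaf 236) (.leaf 1975)) (.leaf 1557)) (.node (.leaf 976) (.leaf 2002))) (.node (.node (.leaf 638) (.leaf 1801)) (.node (.leaf 851) (.leaf 1525)))))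

def certSNext11 : Janko.Tree (ℕ) :=
  (.node (.node (.node (.node (.node (.leaf 12) (.leaf 791)) (.leaf 84)) (.node (.leaf 539) (.leaf 1916))) (.node (.node (.leaf 204) (.leaf 667)) (.node (.leaf 1140) (.leaf 1779)))) (.node (.node (.node (.node (.leaf 237) (.leaf 2239)) (.leaf 1558)) (.node (.leaf 656) (.leaf 2003))) (.node (.node (.leaf 7) (.leaf 1802)) (.node (.leaf 1292) (.leaf 2146)))))

def certSNext12 : Janko.Tree (ℕ) :=
  (.node (.node (.node (.node (.node (.leaf 13) (.leaf 416)) (.leaf 1423)) (.node (.leaf 109) (.leaf 1895))) (.node (.node (.leaf 442) (.leaf 1460)) (.node (.leaf 690) (.leaf 1607)))) (.node (.node (.node (.node (.leaf 238) (.leaf 1732)) (.leaf 1559)) (.node (.leaf 977) (.leaf 2004))) (.node (.node (.leaf 8) (.leaf 904)) (.node (.leaf 1293) (.leaf 1587)))))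

def certSNext13 : Janko.Tree (ℕ) :=
  (.node (.node (.node (.node (.node (.leaf 14) (.leaf 2150)) (.leaf 1424)) (.node (.leaf 816) (.leaf 1917))) (.node (.node (.leaf 443) (.leaf 1285)) (.node (.leaf 1141) (.leaf 138)))) (.node (.node (.node (.node (.leaf 219) (.leaf 2220)) (.leaf 1560)) (.node (.leaf 435) (.leaf 1702))) (.node (.node (.leaf 639) (.leaf 1574)) (.node (.leaf 412) (.leaf 1046)))))

def certSNext14 : Janko.Tree (ℕ) :=
  (.node (.node (.node (.node (.node (.leaf 15) (.leaf 1247)) (.leaf 578)) (.node (.leaf 267) (.leaf 1416))) (.node (.node (.leaf 444) (.leaf 1291)) (.node (.leaf 1142) (.leaf 2082)))) (.node (.node (.node (.node (.leaf 239) (.leaf 1926)) (.leaf 1561)) (.node (.leaf 978) (.leaf 1077))) (.node (.node (.leaf 114) (.leaf 1453)) (.node (.leaf 563) (.leaf 2147)))))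

def certSNext15 : Janko.Tree (ℕ) :=
  (.node (.node (.node (.node (.node (.leaf 16) (.leaf 2120)) (.leaf 805)) (.node (.leaf 817) (.leaf 1918))) (.node (.node (.leaf 445) (.leaf 1423)) (.node (.leaf 1143) (.leaf 876)))) (.node (.node (.node (.node (.leaf 240) (.leaf 1705)) (.leaf 1562)) (.node (.leaf 979) (.leaf 1523))) (.node (.node (.leaf 640) (.leaf 1707)) (.node (.leaf 676) (.leaf 2115)))))

def certSNext16 : Janko.Tree (ℕ) :=
  (.node (.node (.node (.node (.node (.leaf 17) (.leaf 1884)) (.leaf 1425)) (.node (.leaf 818) (.leaf 225))) (.node (.node (.leaf 446) (.leaf 431)) (.node (.leaf 1144) (.leaf 2083)))) (.node (.node (.node (.node (.leaf 241) (.leaf 1262)) (.leaf 1563)) (.node (.leaf 763) (.leaf 1987))) (.node (.node (.leaf 641) (.leaf 1539)) (.node (.leaf 1169) (.leaf 1524)))))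

def certSNext17 : Janko.Tree (ℕ) :=
  (.node (.node (.node (.node (.node (.leaf 18) (.leaf 1011)) (.leaf 1426)) (.node (.leaf 819) (.leaf 1919))) (.node (.node (.leaf 190) (.leaf 1685)) (.node (.leaf 1145) (.leaf 2082)))) (.node (.node (.node (.node (.leaf 242) (.leaf 2000)) (.leaf 784)) (.node (.leaf 117) (.leaf 1692))) (.node (.node (.leaf 80) (.leaf 865)) (.node (.leaf 1294) (.leaf 2148)))))

def certSNext18 : Janko.Tree (ℕ) :=
  (.node (.node (.node (.node (.node (.leaf 19) (.leaf 2199)) (.leaf 1427)) (.node (.leaf 820) (.leaf 562))) (.node (.node (.leaf 56) (.leaf 1268)) (.node (.leaf 1146) (.leaf 1717)))) (.node (.node (.node (.node (.leaf 243) (.leaf 2057)) (.leaf 1564)) (.node (.leaf 980) (.leaf 1218))) (.node (.node (.leaf 642) (.leaf 771)) (.node (.leaf 712) (.leaf 169)))))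

def certSNext19 : Janko.Tree (ℕ) :=
  (.node (.node (.node (.node (.node (.leaf 20) (.leaf 2174)) (.leaf 1287)) (.node (.leaf 821) (.leaf 812))) (.node (.node (.leaf 96) (.leaf 1686)) (.node (.leaf 1147) (.leaf 1309)))) (.node (.node (.node (.node (.leaf 244) (.leaf 2163)) (.leaf 1289)) (.node (.leaf 981) (.leaf 1043))) (.node (.node (.leaf 643) (.leaf 1803)) (.node (.leaf 772) (.leaf 1300)))))

def certSNext20 : Janko.Tree (ℕ) :=
  (.node (.node (.node (.node (.node (.leaf 21) (.leaf 2200)) (.leaf 1428)) (.node (.leaf 553) (.leaf 1751))) (.node (.node (.leaf 447) (.leaf 1687)) (.node (.leaf 792) (.leaf 1913)))) (.node (.node (.node (.node (.leaf 245) (.leaf 1258)) (.leaf 1565)) (.node (.leaf 982) (.leaf 1921))) (.node (.node (.leaf 257) (.leaf 1149)) (.node (.leaf 1280) (.leaf 2149)))))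

def certSNext21 : Janko.Tree (ℕ) :=
  (.node (.node (.node (.node (.node (.leaf 22) (.leaf 1746)) (.leaf 1429)) (.node (.leaf 822) (.leaf 1920))) (.node (.node (.leaf 448) (.leaf 834)) (.node (.leaf 1019) (.leaf 1711)))) (.node (.node (.node (.node (.leaf 246) (.leaf 497)) (.leaf 891)) (.node (.leaf 304) (.leaf 2005))) (.node (.node (.leaf 467) (.leaf 101)) (.node (.leaf 1295) (.leaf 1349)))))

def certSNext22 : Janko.Tree (ℕ) :=
  (.node (.node (.node (.node (.node (.leaf 23) (.leaf 2131)) (.leaf 1430)) (.node (.leaf 823) (.leaf 1699))) (.node (.node (.leaf 401) (.leaf 1688)) (.node (.leaf 1148) (.leaf 2042)))) (.node (.node (.node (.node (.leaf 247) (.leaf 899)) (.leaf 1566)) (.node (.leaf 983) (.leaf 884))) (.node (.node (.leaf 407) (.leaf 1074)) (.node (.leaf 32) (.leaf 2150)))))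

def certSNext23 : Janko.Tree (ℕ) :=
  (.node (.node (.node (.node (.node (.leaf 24) (.leaf 2201)) (.leaf 1431)) (.node (.leaf 82) (.leaf 1921))) (.node (.node (.leaf 449) (.leaf 1228)) (.node (.leaf 1149) (.leaf 2084)))) (.node (.node (.node (.node (.leaf 248) (.leaf 1848)) (.leaf 831)) (.node (.leaf 984) (.leaf 195))) (.node (.node (.leaf 644) (.leaf 823)) (.node (.leaf 1186) (.leaf 2151)))))

def certSNext24 : Janko.Tree (ℕ) :=
  (.node (.node (.node (.node (.node (.leaf 25) (.leaf 1344)) (.leaf 1432)) (.node (.leaf 824) (.leaf 1922))) (.node (.node (.leaf 450) (.leaf 1689)) (.node (.leaf 1150) (.leaf 2019)))) (.node (.node (.node (.node (.leaf 249) (.leaf 2221)) (.leaf 1567)) (.node (.leaf 453) (.leaf 2006))) (.node (.node (.leaf 645) (.leaf 1804)) (.node (.leaf 944) (.leaf 2113)))))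

def certSNext25 : Janko.Tree (ℕ) :=
  (.node (.node (.node (.node (.node (.leaf 26) (.leaf 2202)) (.leaf 1433)) (.node (.leaf 825) (.leaf 809))) (.node (.node (.leaf 451) (.leaf 1517)) (.node (.leaf 429) (.leaf 1210)))) (.node (.node (.node (.node (.leaf 250) (.leaf 1698)) (.leaf 1463)) (.node (.leaf 985) (.leaf 1870))) (.node (.node (.leaf 575) (.leaf 1805)) (.node (.leaf 1296) (.leaf 2152)))))

def certSNext26 : Janko.Tree (ℕ) :=
  (.node (.node (.node (.node (.node (.leaf 27) (.leaf 745)) (.leaf 973)) (.node (.leaf 826) (.leaf 1236))) (.node (.node (.leaf 155) (.leaf 1690)) (.node (.leaf 68) (.leaf 1735)))) (.node (.node (.node (.node (.leaf 251) (.leaf 861)) (.leaf 1136)) (.node (.leaf 986) (.leaf 1828))) (.node (.node (.leaf 646) (.leaf 1806)) (.node (.leaf 1297) (.leaf 1686)))))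

def certSNext27 : Janko.Tree (ℕ) :=
  (.node (.node (.node (.node (.node (.leaf 28) (.leaf 2114)) (.leaf 1354)) (.node (.leaf 827) (.leaf 1357))) (.node (.node (.leaf 452) (.leaf 1180)) (.node (.leaf 1151) (.leaf 1814)))) (.node (.node (.node (.node (.leaf 252) (.leaf 2234)) (.leaf 1568)) (.node (.leaf 987) (.leaf 2007))) (.node (.node (.leaf 647) (.leaf 1807)) (.node (.leaf 1137) (.leaf 2153)))))

def certSNext28 : Janko.Tree (ℕ) :=
  (.node (.node (.node (.node (.node (.leaf 29) (.leaf 2009)) (.leaf 1189)) (.node (.leaf 828) (.leaf 654))) (.node (.node (.leaf 231) (.leaf 1626)) (.node (.leaf 1152) (.leaf 2062)))) (.node (.node (.node (.node (.leaf 253) (.leaf 1296)) (.leaf 1569)) (.node (.leaf 988) (.leaf 2008))) (.node (.node (.leaf 648) (.leaf 1808)) (.node (.leaf 917) (.leaf 1562)))))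

def certSNext29 : Janko.Tree (ℕ) :=
  (.node (.node (.node (.node (.node (.leaf 30) (.leaf 1765)) (.leaf 1434)) (.node (.leaf 515) (.leaf 1923))) (.node (.node (.leaf 453) (.leaf 1144)) (.node (.leaf 1153) (.leaf 1202)))) (.node (.node (.node (.node (.leaf 254) (.leaf 1797)) (.leaf 1570)) (.node (.leaf 989) (.leaf 1771))) (.node (.node (.leaf 613) (.leaf 1571)) (.node (.leaf 194) (.leaf 2154)))))

def certSNext30 : Janko.Tree (ℕ) :=
  (.node (.node (.node (.node (.node (.leaf 31) (.leaf 1995)) (.leaf 800)) (.node (.leaf 829) (.leaf 1924))) (.node (.node (.leaf 454) (.leaf 1691)) (.node (.leaf 1154) (.leaf 1496)))) (.node (.node (.node (.node (.leaf 255) (.leaf 2027)) (.leaf 1571)) (.node (.leaf 990) (.leaf 1917))) (.node (.node (.leaf 649) (.leaf 1809)) (.node (.leaf 900) (.leaf 1831)))))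

def certSNext31 : Janko.Tree (ℕ) :=
  (.node (.node (.node (.node (.node (.leaf 32) (.leaf 1733)) (.leaf 1435)) (.node (.leaf 266) (.leaf 1871))) (.node (.node (.leaf 455) (.leaf 1191)) (.node (.leaf 1051) (.leaf 633)))) (.node (.node (.node (.node (.leaf 256) (.leaf 2101)) (.leaf 1572)) (.node (.leaf 991) (.leaf 2009))) (.node (.node (.leaf 650) (.leaf 1810)) (.node (.leaf 1277) (.leaf 2155)))))

def certSNext32 : Janko.Tree (ℕ) :=
  (.node (.node (.node (.node (.node (.leaf 33) (.leaf 2076)) (.leaf 1436)) (.node (.leaf 508) (.leaf 1925))) (.node (.node (.leaf 456) (.leaf 1692)) (.node (.leaf 1155) (.leaf 2085)))) (.node (.node (.node (.node (.leaf 161) (.leaf 2033)) (.leaf 1256)) (.node (.leaf 837) (.leaf 2010))) (.node (.node (.leaf 651) (.leaf 1811)) (.node (.leaf 1298) (.leaf 2156)))))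

def certSNext33 : Janko.Tree (ℕ) :=
  (.node (.node (.node (.node (.node (.leaf 34) (.leaf 1629)) (.leaf 642)) (.node (.leaf 830) (.leaf 1926))) (.node (.node (.leaf 457) (.leaf 1693)) (.node (.leaf 491) (.leaf 2066)))) (.node (.node (.node (.node (.leaf 257) (.leaf 1768)) (.leaf 1047)) (.node (.leaf 284) (.leaf 1085))) (.node (.node (.leaf 652) (.leaf 1809)) (.node (.leaf 1299) (.leaf 1929)))))

def certSNext34 : Janko.Tree (ℕ) :=
  (.node (.node (.node (.node (.node (.leaf 35) (.leaf 1800)) (.leaf 1437)) (.node (.leaf 831) (.leaf 855))) (.node (.node (.leaf 458) (.leaf 1694)) (.node (.leaf 1156) (.leaf 141)))) (.node (.node (.node (.node (.leaf 258) (.leaf 2107)) (.leaf 1295)) (.node (.leaf 992) (.leaf 2011))) (.node (.node (.leaf 184) (.leaf 1812)) (.node (.leaf 343) (.leaf 1195)))))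

def certSNext35 : Janko.Tree (ℕ) :=
  (.node (.node (.node (.node (.node (.leaf 36) (.leaf 2203)) (.leaf 1438)) (.node (.leaf 832) (.leaf 1927))) (.node (.node (.leaf 459) (.leaf 1695)) (.node (.leaf 1157) (.leaf 2034)))) (.node (.node (.node (.node (.leaf 259) (.leaf 2030)) (.leaf 1573)) (.node (.leaf 993) (.leaf 1263))) (.node (.node (.leaf 329) (.leaf 685)) (.node (.leaf 918) (.leaf 2147)))))

def certSNext36 : Janko.Tree (ℕ) :=
  (.node (.node (.node (.node (.node (.leaf 37) (.leaf 1528)) (.leaf 1439)) (.node (.leaf 434) (.leaf 1928))) (.node (.node (.leaf 460) (.leaf 175)) (.node (.leaf 1158) (.leaf 1826)))) (.node (.node (.node (.node (.leaf 260) (.leaf 2203)) (.leaf 1574)) (.node (.leaf 994) (.leaf 1956))) (.node (.node (.leaf 653) (.leaf 1042)) (.node (.leaf 1187) (.leaf 2157)))))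

def certSNext37 : Janko.Tree (ℕ) :=
  (.node (.node (.node (.node (.node (.leaf 38) (.leaf 1158)) (.leaf 1176)) (.node (.leaf 142) (.leaf 1211))) (.node (.node (.leaf 461) (.leaf 1696)) (.node (.leaf 774) (.leaf 2086)))) (.node (.node (.node (.node (.leaf 261) (.leaf 1795)) (.leaf 648)) (.node (.leaf 995) (.leaf 870))) (.node (.node (.leaf 654) (.leaf 1445)) (.node (.leaf 907) (.leaf 1939)))))

def certSNext38 : Janko.Tree (ℕ) :=
  (.node (.node (.node (.node (.node (.leaf 39) (.leaf 1207)) (.leaf 1440)) (.node (.leaf 593) (.leaf 1929))) (.node (.node (.leaf 462) (.leaf 949)) (.node (.leaf 1159) (.leaf 1586)))) (.node (.node (.node (.node (.leaf 81) (.leaf 1034)) (.leaf 1575)) (.node (.leaf 996) (.leaf 1242))) (.node (.node (.leaf 655) (.leaf 1813)) (.node (.leaf 1300) (.leaf 2093)))))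

def certSNext39 : Janko.Tree (ℕ) :=
  (.node (.node (.node (.node (.node (.leaf 40) (.leaf 2204)) (.leaf 638)) (.node (.leaf 833) (.leaf 1731))) (.node (.node (.leaf 463) (.leaf 1697)) (.node (.leaf 1065) (.leaf 2087)))) (.node (.node (.node (.node (.leaf 262) (.leaf 2214)) (.leaf 810)) (.node (.leaf 997) (.leaf 1790))) (.node (.node (.leaf 390) (.leaf 345)) (.node (.leaf 966) (.leaf 2158)))))

def certSNext40 : Janko.Tree (ℕ) :=
  (.node (.node (.node (.node (.node (.leaf 41) (.leaf 2205)) (.leaf 1393)) (.node (.leaf 834) (.leaf 1930))) (.node (.node (.leaf 464) (.leaf 1698)) (.node (.leaf 1160) (.leaf 2088)))) (.node (.node (.node (.node (.leaf 263) (.leaf 1849)) (.leaf 681)) (.node (.leaf 998) (.leaf 1965))) (.node (.node (.leaf 518) (.leaf 935)) (.node (.leaf 1301) (.leaf 1570)))))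

def certSNext41 : Janko.Tree (ℕ) :=
  (.node (.node (.node (.node (.node (.leaf 27) (.leaf 2187)) (.leaf 691)) (.node (.leaf 718) (.leaf 1900))) (.node (.node (.leaf 152) (.leaf 1699)) (.node (.leaf 1161) (.leaf 1972)))) (.node (.node (.node (.node (.leaf 98) (.leaf 1847)) (.leaf 1576)) (.node (.leaf 840) (.leaf 1683))) (.node (.node (.leaf 473) (.leaf 1183)) (.node (.leaf 433) (.leaf 2159)))))

def certSNext42 : Janko.Tree (ℕ) :=
  (.node (.node (.node (.node (.node (.leaf 42) (.leaf 1999)) (.leaf 1441)) (.node (.leaf 157) (.leaf 1931))) (.node (.node (.leaf 465) (.leaf 1700)) (.node (.leaf 1162) (.leaf 2089)))) (.node (.node (.node (.node (.leaf 264) (.leaf 2233)) (.leaf 1577)) (.node (.leaf 684) (.leaf 2012))) (.node (.node (.leaf 656) (.leaf 1814)) (.node (.leaf 1302) (.leaf 1904)))))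

def certSNext43 : Janko.Tree (ℕ) :=
  (.node (.node (.node (.node (.node (.leaf 43) (.leaf 2205)) (.leaf 974)) (.node (.leaf 835) (.leaf 1932))) (.node (.node (.leaf 466) (.leaf 1701)) (.node (.leaf 1163) (.leaf 2071)))) (.node (.node (.node (.node (.leaf 265) (.leaf 1978)) (.leaf 288)) (.node (.leaf 483) (.leaf 245))) (.node (.node (.leaf 657) (.leaf 1815)) (.node (.leaf 977) (.leaf 1813)))))

def certSNext44 : Janko.Tree (ℕ) :=
  (.node (.node (.node (.node (.node (.leaf 44) (.leaf 1936)) (.leaf 1442)) (.node (.leaf 836) (.leaf 1933))) (.node (.node (.leaf 467) (.leaf 1702)) (.node (.leaf 1164) (.leaf 1902)))) (.node (.node (.node (.node (.leaf 266) (.leaf 2141)) (.leaf 1578)) (.node (.leaf 782) (.leaf 536))) (.node (.node (.leaf 658) (.leaf 259)) (.node (.leaf 1303) (.leaf 2160)))))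

def certSNext45 : Janko.Tree (ℕ) :=
  (.node (.node (.node (.node (.node (.leaf 45) (.leaf 2010)) (.leaf 1443)) (.node (.leaf 558) (.leaf 1341))) (.node (.node (.leaf 468) (.leaf 1293)) (.node (.leaf 1165) (.leaf 1425)))) (.node (.node (.node (.node (.leaf 267) (.leaf 1371)) (.leaf 1579)) (.node (.leaf 577) (.leaf 1949))) (.node (.node (.leaf 659) (.leaf 1727)) (.node (.leaf 1304) (.leaf 2011)))))

def certSNext46 : Janko.Tree (ℕ) :=
  (.node (.node (.node (.node (.node (.leaf 46) (.leaf 2202)) (.leaf 1444)) (.node (.leaf 351) (.leaf 424))) (.node (.node (.leaf 469) (.leaf 1703)) (.node (.leaf 1166) (.leaf 2075)))) (.node (.node (.node (.node (.leaf 268) (.leaf 888)) (.leaf 1580)) (.node (.leaf 999) (.leaf 2013))) (.node (.node (.leaf 349) (.leaf 1816)) (.node (.leaf 602) (.leaf 1027)))))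

def certSNext47 : Janko.Tree (ℕ) :=
  (.node (.node (.node (.node (.node (.leaf 47) (.leaf 2206)) (.leaf 804)) (.node (.leaf 837) (.leaf 1934))) (.node (.node (.leaf 263) (.leaf 1703)) (.node (.leaf 1167) (.leaf 1123)))) (.node (.node (.node (.node (.leaf 269) (.leaf 2230)) (.leaf 1581)) (.node (.leaf 988) (.leaf 1321))) (.node (.node (.leaf 506) (.leaf 1817)) (.node (.leaf 1305) (.leaf 2161)))))

def certSNext48 : Janko.Tree (ℕ) :=
  (.node (.node (.node (.node (.node (.leaf 48) (.leaf 1957)) (.leaf 1445)) (.node (.leaf 838) (.leaf 1854))) (.node (.node (.leaf 470) (.leaf 604)) (.node (.leaf 273) (.leaf 2090)))) (.node (.node (.node (.node (.leaf 270) (.leaf 2232)) (.leaf 1582)) (.node (.leaf 1000) (.leaf 2014))) (.node (.node (.leaf 660) (.leaf 1818)) (.node (.leaf 1070) (.leaf 1667)))))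

def certSNext49 : Janko.Tree (ℕ) :=
  (.node (.node (.node (.node (.node (.leaf 49) (.leaf 1950)) (.leaf 1150)) (.node (.leaf 839) (.leaf 1640))) (.node (.node (.leaf 400) (.leaf 1351)) (.node (.leaf 23) (.leaf 1590)))) (.node (.node (.node (.node (.leaf 53) (.leaf 948)) (.leaf 530)) (.node (.leaf 1001) (.leaf 1314))) (.node (.node (.leaf 331) (.leaf 1819)) (.node (.leaf 1306) (.leaf 1834)))))

def certSNext50 : Janko.Tree (ℕ) :=
  (.node (.node (.node (.node (.node (.leaf 50) (.leaf 1743)) (.leaf 176)) (.node (.leaf 840) (.leaf 1315))) (.node (.node (.leaf 240) (.leaf 124)) (.node (.leaf 512) (.leaf 1805)))) (.node (.node (.node (.node (.leaf 271) (.leaf 2142)) (.leaf 1583)) (.node (.leaf 798) (.leaf 1802))) (.node (.node (.leaf 242) (.leaf 1820)) (.node (.leaf 1307) (.leaf 1017)))))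

def certSNext51 : Janko.Tree (ℕ) :=
  (.node (.node (.node (.node (.node (.leaf 41) (.leaf 1577)) (.leaf 1446)) (.node (.leaf 134) (.leaf 411))) (.node (.node (.leaf 406) (.leaf 1595)) (.node (.leaf 1168) (.leaf 1875)))) (.node (.node (.node (.node (.leaf 196) (.leaf 2231)) (.leaf 1584)) (.node (.leaf 954) (.leaf 953))) (.node (.node (.leaf 13) (.leaf 76)) (.node (.leaf 510) (.leaf 2162)))))

def certSNext52 : Janko.Tree (ℕ) :=
  (.node (.node (.node (.node (.node (.leaf 51) (.leaf 2054)) (.leaf 1447)) (.node (.leaf 841) (.leaf 1163))) (.node (.node (.leaf 471) (.leaf 1704)) (.node (.leaf 802) (.leaf 2032)))) (.node (.node (.node (.node (.leaf 272) (.leaf 1459)) (.leaf 1585)) (.node (.leaf 1002) (.leaf 2015))) (.node (.node (.leaf 661) (.leaf 496)) (.node (.leaf 843) (.leaf 2163)))))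

def certSNext53 : Janko.Tree (ℕ) :=
  (.node (.node (.node (.node (.node (.leaf 52) (.leaf 2207)) (.leaf 1448)) (.node (.leaf 842) (.leaf 1878))) (.node (.node (.leaf 472) (.leaf 1021)) (.node (.leaf 1169) (.leaf 2091)))) (.node (.node (.node (.node (.leaf 273) (.leaf 1155)) (.leaf 1586)) (.node (.leaf 1003) (.leaf 1362))) (.node (.node (.leaf 662) (.leaf 1427)) (.node (.leaf 1308) (.leaf 1909)))))

def certSNext54 : Janko.Tree (ℕ) :=
  (.node (.node (.node (.node (.node (.leaf 53) (.leaf 1495)) (.leaf 786)) (.node (.leaf 449) (.leaf 1935))) (.node (.node (.leaf 473) (.leaf 1705)) (.node (.leaf 1022) (.leaf 1969)))) (.node (.node (.node (.node (.leaf 274) (.leaf 1389)) (.leaf 256)) (.node (.leaf 1004) (.leaf 1475))) (.node (.node (.leaf 663) (.leaf 1821)) (.node (.leaf 1309) (.leaf 1920)))))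

def certSNext55 : Janko.Tree (ℕ) :=
  (.node (.node (.node (.node (.node (.leaf 54) (.leaf 2185)) (.leaf 1449)) (.node (.leaf 843) (.leaf 1936))) (.node (.node (.leaf 474) (.leaf 1303)) (.node (.leaf 1170) (.leaf 1335)))) (.node (.node (.node (.node (.leaf 140) (.leaf 2196)) (.leaf 1587)) (.node (.leaf 1005) (.leaf 1689))) (.node (.node (.leaf 664) (.leaf 1822)) (.node (.leaf 920) (.leaf 2164)))))

def certSNext56 : Janko.Tree (ℕ) :=
  (.node (.node (.node (.node (.node (.leaf 55) (.leaf 1791)) (.leaf 1205)) (.node (.leaf 844) (.leaf 1937))) (.node (.node (.leaf 475) (.leaf 1387)) (.node (.leaf 1171) (.leaf 1896)))) (.node (.node (.node (.node (.leaf 275) (.leaf 2186)) (.leaf 1168)) (.node (.leaf 940) (.leaf 1677))) (.node (.node (.leaf 665) (.leaf 1403)) (.node (.leaf 1310) (.leaf 2165)))))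

def certSNext57 : Janko.Tree (ℕ) :=
  (.node (.node (.node (.node (.node (.leaf 56) (.leaf 2074)) (.leaf 39)) (.node (.leaf 845) (.leaf 1938))) (.node (.node (.leaf 476) (.leaf 1706)) (.node (.leaf 1172) (.leaf 1569)))) (.node (.node (.node (.node (.leaf 234) (.leaf 2016)) (.leaf 1142)) (.node (.leaf 1006) (.leaf 1156))) (.node (.node (.leaf 666) (.leaf 1823)) (.node (.leaf 1311) (.leaf 1447)))))

def certSNext58 : Janko.Tree (ℕ) :=
  (.node (.node (.node (.node (.node (.leaf 57) (.leaf 2025)) (.leaf 1450)) (.node (.leaf 846) (.leaf 1095))) (.node (.node (.leaf 477) (.leaf 1707)) (.node (.leaf 1173) (.leaf 2092)))) (.node (.node (.node (.node (.leaf 276) (.leaf 2105)) (.leaf 1588)) (.node (.leaf 1007) (.leaf 2016))) (.node (.node (.leaf 667) (.leaf 1824)) (.node (.leaf 1312) (.leaf 1628)))))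

def certSNext59 : Janko.Tree (ℕ) :=
  (.node (.node (.node (.node (.node (.leaf 58) (.leaf 2123)) (.leaf 592)) (.node (.leaf 847) (.leaf 980))) (.node (.node (.leaf 478) (.leaf 1708)) (.node (.leaf 1146) (.leaf 1982)))) (.node (.node (.node (.node (.leaf 277) (.leaf 573)) (.leaf 1216)) (.node (.leaf 1008) (.leaf 744))) (.node (.node (.leaf 668) (.leaf 1458)) (.node (.leaf 678) (.leaf 296)))))

def certSNext60 : Janko.Tree (ℕ) :=
  (.node (.node (.node (.node (.node (.leaf 59) (.leaf 2145)) (.leaf 995)) (.node (.leaf 409) (.leaf 1890))) (.node (.node (.leaf 479) (.leaf 1709)) (.node (.leaf 38) (.leaf 1118)))) (.node (.node (.node (.node (.leaf 278) (.leaf 1638)) (.leaf 301)) (.node (.leaf 418) (.leaf 1505))) (.node (.node (.leaf 669) (.leaf 1825)) (.node (.leaf 1313) (.leaf 1366)))))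

def certSNext61 : Janko.Tree (ℕ) :=
  (.node (.node (.node (.node (.node (.leaf 60) (.leaf 1532)) (.leaf 611)) (.node (.leaf 567) (.leaf 1773))) (.node (.node (.leaf 480) (.leaf 1691)) (.node (.leaf 936) (.leaf 2093)))) (.node (.node (.node (.node (.leaf 279) (.leaf 2073)) (.leaf 1589)) (.node (.leaf 1009) (.leaf 1402))) (.node (.node (.leaf 670) (.leaf 1676)) (.node (.leaf 69) (.leaf 2166)))))

def certSNext62 : Janko.Tree (ℕ) :=
  (.node (.node (.node (.node (.node (.leaf 61) (.leaf 2206)) (.leaf 1451)) (.node (.leaf 848) (.leaf 1939))) (.node (.node (.leaf 481) (.leaf 925)) (.node (.leaf 1174) (.leaf 1513)))) (.node (.node (.node (.node (.leaf 280) (.leaf 2177)) (.leaf 1590)) (.node (.leaf 1010) (.leaf 217))) (.node (.node (.leaf 299) (.leaf 1492)) (.node (.leaf 1314) (.leaf 2167)))))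

def certSNext63 : Janko.Tree (ℕ) :=
  (.node (.node (.node (.node (.node (.leaf 62) (.leaf 2175)) (.leaf 1432)) (.node (.leaf 849) (.leaf 1940))) (.node (.node (.leaf 482) (.leaf 1709)) (.node (.leaf 1175) (.leaf 1747)))) (.node (.node (.node (.node (.leaf 281) (.leaf 2094)) (.leaf 1580)) (.node (.leaf 627) (.leaf 1327))) (.node (.node (.leaf 239) (.leaf 1826)) (.node (.leaf 1315) (.leaf 2122)))))

def certSNext64 : Janko.Tree (ℕ) :=
  (.node (.node (.node (.node (.node (.leaf 63) (.leaf 2208)) (.leaf 1452)) (.node (.leaf 850) (.leaf 1941))) (.node (.node (.leaf 483) (.leaf 735)) (.node (.leaf 1176) (.leaf 2094)))) (.node (.node (.node (.node (.leaf 282) (.leaf 1167)) (.leaf 969)) (.node (.leaf 1011) (.leaf 1350))) (.node (.node (.leaf 671) (.leaf 1827)) (.node (.leaf 938) (.leaf 1829)))))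

def certSNext65 : Janko.Tree (ℕ) :=
  (.node (.node (.node (.node (.node (.leaf 64) (.leaf 1898)) (.leaf 1453)) (.node (.leaf 851) (.leaf 1942))) (.node (.node (.leaf 321) (.leaf 1710)) (.node (.leaf 1177) (.leaf 2095)))) (.node (.node (.node (.node (.leaf 283) (.leaf 2029)) (.leaf 1591)) (.node (.leaf 1012) (.leaf 2017))) (.node (.node (.leaf 672) (.leaf 1828)) (.node (.leaf 1316) (.leaf 2168)))))

def certSNext66 : Janko.Tree (ℕ) :=
  (.node (.node (.node (.node (.node (.leaf 65) (.leaf 2078)) (.leaf 688)) (.node (.leaf 357) (.leaf 451))) (.node (.node (.leaf 443) (.leaf 1711)) (.node (.leaf 1178) (.leaf 614)))) (.node (.node (.node (.node (.leaf 284) (.leaf 2217)) (.leaf 606)) (.node (.leaf 1013) (.leaf 657))) (.node (.node (.leaf 673) (.leaf 1115)) (.node (.leaf 1317) (.leaf 362)))))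

def certSNext67 : Janko.Tree (ℕ) :=
  (.node (.node (.node (.node (.node (.leaf 66) (.leaf 1740)) (.leaf 1454)) (.node (.leaf 852) (.leaf 1943))) (.node (.node (.leaf 484) (.leaf 189)) (.node (.leaf 1179) (.leaf 799)))) (.node (.node (.node (.node (.leaf 1) (.leaf 2218)) (.leaf 1592)) (.node (.leaf 1014) (.leaf 402))) (.node (.node (.leaf 674) (.leaf 1829)) (.node (.leaf 1318) (.leaf 2169)))))

def certSNext68 : Janko.Tree (ℕ) :=
  (.node (.node (.node (.node (.node (.leaf 67) (.leaf 1990)) (.leaf 1455)) (.node (.leaf 215) (.leaf 1421))) (.node (.node (.leaf 305) (.leaf 1326)) (.node (.leaf 1180) (.leaf 2096)))) (.node (.node (.node (.node (.leaf 2) (.leaf 1098)) (.leaf 620)) (.node (.leaf 372) (.leaf 2018))) (.node (.node (.leaf 675) (.leaf 1141)) (.node (.leaf 1319) (.leaf 720)))))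

def certSNext69 : Janko.Tree (ℕ) :=
  (.node (.node (.node (.node (.node (.leaf 68) (.leaf 923)) (.leaf 803)) (.node (.leaf 836) (.leaf 1555))) (.node (.node (.leaf 485) (.leaf 1712)) (.node (.leaf 352) (.leaf 1684)))) (.node (.node (.node (.node (.leaf 285) (.leaf 1812)) (.leaf 1593)) (.node (.leaf 1015) (.leaf 2019))) (.node (.node (.leaf 347) (.leaf 1679)) (.node (.leaf 1320) (.leaf 1437)))))

def certSNext70 : Janko.Tree (ℕ) :=
  (.node (.node (.node (.node (.node (.leaf 69) (.leaf 1192)) (.leaf 1045)) (.node (.leaf 206) (.leaf 1767))) (.node (.node (.leaf 486) (.leaf 1713)) (.node (.leaf 1181) (.leaf 1891)))) (.node (.node (.node (.node (.leaf 286) (.leaf 1783)) (.leaf 1594)) (.node (.leaf 1016) (.leaf 1272))) (.node (.node (.leaf 676) (.leaf 1830)) (.node (.leaf 78) (.leaf 399)))))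

def certSNext71 : Janko.Tree (ℕ) :=
  (.node (.node (.node (.node (.node (.leaf 70) (.leaf 1988)) (.leaf 465)) (.node (.leaf 310) (.leaf 1853))) (.node (.node (.leaf 487) (.leaf 1377)) (.node (.leaf 371) (.leaf 879)))) (.node (.node (.node (.node (.leaf 287) (.leaf 1784)) (.leaf 1184)) (.node (.leaf 1017) (.leaf 1924))) (.node (.node (.leaf 617) (.leaf 1831)) (.node (.leaf 724) (.leaf 2170)))))

def certSNext72 : Janko.Tree (ℕ) :=
  (.node (.node (.node (.node (.node (.leaf 71) (.leaf 2209)) (.leaf 1456)) (.node (.leaf 586) (.leaf 769))) (.node (.node (.leaf 488) (.leaf 1714)) (.node (.leaf 1182) (.leaf 1701)))) (.node (.node (.node (.node (.leaf 288) (.leaf 2229)) (.leaf 494)) (.node (.leaf 793) (.leaf 1857))) (.node (.node (.leaf 381) (.leaf 1832)) (.node (.leaf 1321) (.leaf 637)))))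

def certSNext73 : Janko.Tree (ℕ) :=
  (.node (.node (.node (.node (.node (.leaf 72) (.leaf 2077)) (.leaf 1457)) (.node (.leaf 853) (.leaf 1436))) (.node (.node (.leaf 489) (.leaf 1715)) (.node (.leaf 393) (.leaf 1237)))) (.node (.node (.node (.node (.leaf 289) (.leaf 1827)) (.leaf 344)) (.node (.leaf 1018) (.leaf 2020))) (.node (.node (.leaf 677) (.leaf 1659)) (.node (.leaf 941) (.leaf 1270)))))

def certSNext74 : Janko.Tree (ℕ) :=
  (.node (.node (.node (.node (.node (.leaf 60) (.leaf 2210)) (.leaf 1458)) (.node (.leaf 854) (.leaf 868))) (.node (.node (.leaf 171) (.leaf 1716)) (.node (.leaf 1183) (.leaf 2028)))) (.node (.node (.node (.node (.leaf 290) (.leaf 2236)) (.leaf 1595)) (.node (.leaf 1019) (.leaf 2021))) (.node (.node (.leaf 678) (.leaf 1833)) (.node (.leaf 1322) (.leaf 1938)))))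

def certSNext75 : Janko.Tree (ℕ) :=
  (.node (.node (.node (.node (.node (.leaf 73) (.leaf 2211)) (.leaf 1459)) (.node (.leaf 585) (.leaf 247))) (.node (.node (.leaf 490) (.leaf 1717)) (.node (.leaf 826) (.leaf 1430)))) (.node (.node (.node (.node (.leaf 291) (.leaf 1010)) (.leaf 1596)) (.node (.leaf 1020) (.leaf 569))) (.node (.node (.leaf 679) (.leaf 1044)) (.node (.leaf 1290) (.leaf 1986)))))

def certSNext76 : Janko.Tree (ℕ) :=
  (.node (.node (.node (.node (.node (.leaf 74) (.leaf 1429)) (.leaf 455)) (.node (.leaf 14) (.leaf 560))) (.node (.node (.leaf 491) (.leaf 1649)) (.node (.leaf 1184) (.leaf 2097)))) (.node (.node (.node (.node (.leaf 292) (.leaf 2144)) (.leaf 246)) (.node (.leaf 1021) (.leaf 1260))) (.node (.node (.leaf 680) (.leaf 1834)) (.node (.leaf 1323) (.leaf 2171)))))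

def certSNext77 : Janko.Tree (ℕ) :=
  (.node (.node (.node (.node (.node (.leaf 75) (.leaf 1980)) (.leaf 1460)) (.node (.leaf 855) (.leaf 846))) (.node (.node (.leaf 492) (.leaf 1500)) (.node (.leaf 1185) (.leaf 2018)))) (.node (.node (.node (.node (.leaf 293) (.leaf 1963)) (.leaf 90)) (.node (.leaf 1022) (.leaf 1830))) (.node (.node (.leaf 681) (.leaf 355)) (.node (.leaf 1324) (.leaf 2143)))))

def certSNext78 : Janko.Tree (ℕ) :=
  (.node (.node (.node (.node (.node (.leaf 76) (.leaf 1612)) (.leaf 911)) (.node (.leaf 856) (.leaf 1671))) (.node (.node (.leaf 493) (.leaf 1718)) (.node (.leaf 1186) (.leaf 1674)))) (.node (.node (.node (.node (.leaf 262) (.leaf 1600)) (.leaf 1294)) (.node (.leaf 1023) (.leaf 1363))) (.node (.node (.leaf 180) (.leaf 1835)) (.node (.leaf 1325) (.leaf 2172)))))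

def certSNext79 : Janko.Tree (ℕ) :=
  (.node (.node (.node (.node (.node (.leaf 77) (.leaf 2195)) (.leaf 1461)) (.node (.leaf 857) (.leaf 164))) (.node (.node (.leaf 494) (.leaf 236)) (.node (.leaf 1187) (.leaf 1892)))) (.node (.node (.node (.node (.leaf 294) (.leaf 1881)) (.leaf 115)) (.node (.leaf 665) (.leaf 1682))) (.node (.node (.leaf 682) (.leaf 1182)) (.node (.leaf 1326) (.leaf 1166)))))

def certSNext80 : Janko.Tree (ℕ) :=
  (.node (.node (.node (.node (.node (.leaf 24) (.leaf 1498)) (.leaf 1170)) (.node (.leaf 858) (.leaf 1944))) (.node (.node (.leaf 495) (.leaf 129)) (.node (.leaf 127) (.leaf 1874)))) (.node (.node (.node (.node (.leaf 182) (.leaf 1014)) (.leaf 987)) (.node (.leaf 1024) (.leaf 967))) (.node (.node (.leaf 683) (.leaf 1426)) (.node (.leaf 1327) (.leaf 2166)))))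

def certSNext81 : Janko.Tree (ℕ) :=
  (.node (.node (.node (.node (.node (.leaf 78) (.leaf 1398)) (.leaf 1462)) (.node (.leaf 859) (.leaf 1583))) (.node (.node (.leaf 496) (.leaf 1719)) (.node (.leaf 1188) (.leaf 2041)))) (.node (.node (.node (.node (.leaf 295) (.leaf 1060)) (.leaf 1597)) (.node (.leaf 939) (.leaf 806))) (.node (.node (.leaf 684) (.leaf 1836)) (.node (.leaf 207) (.leaf 2173)))))

def certSNext82 : Janko.Tree (ℕ) :=
  (.node (.node (.node (.node (.node (.leaf 79) (.leaf 2095)) (.leaf 1463)) (.node (.leaf 860) (.leaf 1945))) (.node (.node (.leaf 497) (.leaf 1720)) (.node (.leaf 989) (.leaf 2098)))) (.node (.node (.node (.node (.leaf 296) (.leaf 2118)) (.leaf 1598)) (.node (.leaf 223) (.leaf 1736))) (.node (.node (.leaf 685) (.leaf 172)) (.node (.leaf 1328) (.leaf 1487)))))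

def certSNext83 : Janko.Tree (ℕ) :=
  (.node (.node (.node (.node (.node (.leaf 71) (.leaf 2156)) (.leaf 253)) (.node (.leaf 861) (.leaf 1906))) (.node (.node (.leaf 498) (.leaf 928)) (.node (.leaf 1189) (.leaf 801)))) (.node (.node (.node (.node (.leaf 297) (.leaf 1801)) (.leaf 1599)) (.node (.leaf 513) (.leaf 1653))) (.node (.node (.leaf 447) (.leaf 1837)) (.node (.leaf 454) (.leaf 1206)))))

def certSNext84 : Janko.Tree (ℕ) :=
  (.node (.node (.node (.node (.node (.leaf 80) (.leaf 732)) (.leaf 1305)) (.node (.leaf 811) (.leaf 1449))) (.node (.node (.leaf 499) (.leaf 1018)) (.node (.leaf 1190) (.leaf 2099)))) (.node (.node (.node (.node (.leaf 122) (.leaf 1989)) (.leaf 759)) (.node (.leaf 1025) (.leaf 2022))) (.node (.node (.leaf 303) (.leaf 816)) (.node (.leaf 1329) (.leaf 1632)))))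

def certSNext85 : Janko.Tree (ℕ) :=
  (.node (.node (.node (.node (.node (.leaf 81) (.leaf 2106)) (.leaf 778)) (.node (.leaf 862) (.leaf 1946))) (.node (.node (.leaf 500) (.leaf 978)) (.node (.leaf 205) (.leaf 1893)))) (.node (.node (.node (.node (.leaf 298) (.leaf 704)) (.leaf 1600)) (.node (.leaf 1026) (.leaf 2023))) (.node (.node (.leaf 425) (.leaf 1838)) (.node (.leaf 437) (.leaf 1700)))))

def certSNext86 : Janko.Tree (ℕ) :=
  (.node (.node (.node (.node (.node (.leaf 82) (.leaf 932)) (.leaf 734)) (.node (.leaf 707) (.leaf 895))) (.node (.node (.leaf 501) (.leaf 1721)) (.node (.leaf 1191) (.leaf 2100)))) (.node (.node (.node (.node (.leaf 97) (.leaf 2222)) (.leaf 1601)) (.node (.leaf 698) (.leaf 1417))) (.node (.node (.leaf 439) (.leaf 1839)) (.node (.leaf 1139) (.leaf 2133)))))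

def certSNext87 : Janko.Tree (ℕ) :=
  (.node (.node (.node (.node (.node (.leaf 83) (.leaf 2089)) (.leaf 55)) (.node (.leaf 863) (.leaf 1035))) (.node (.node (.leaf 502) (.leaf 1722)) (.node (.leaf 646) (.leaf 488)))) (.node (.node (.node (.node (.leaf 299) (.leaf 1865)) (.leaf 1602)) (.node (.leaf 1027) (.leaf 2024))) (.node (.node (.leaf 686) (.leaf 1497)) (.node (.leaf 1330) (.leaf 2121)))))

def certSNext88 : Janko.Tree (ℕ) :=
  (.node (.node (.node (.node (.node (.leaf 84) (.leaf 2169)) (.leaf 880)) (.node (.leaf 566) (.leaf 1424))) (.node (.node (.leaf 503) (.leaf 1723)) (.node (.leaf 277) (.leaf 815)))) (.node (.node (.node (.node (.leaf 300) (.leaf 2110)) (.leaf 1603)) (.node (.leaf 1028) (.leaf 1311))) (.node (.node (.leaf 687) (.leaf 1840)) (.node (.leaf 662) (.leaf 2055)))))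

def certSNext89 : Janko.Tree (ℕ) :=
  (.node (.node (.node (.node (.node (.leaf 85) (.leaf 1835)) (.leaf 922)) (.node (.leaf 864) (.leaf 1588))) (.node (.node (.leaf 168) (.leaf 1724)) (.node (.leaf 166) (.leaf 630)))) (.node (.node (.node (.node (.leaf 301) (.leaf 1647)) (.leaf 1604)) (.node (.leaf 1029) (.leaf 2025))) (.node (.node (.leaf 688) (.leaf 1841)) (.node (.leaf 1199) (.leaf 1997)))))

def certSNext90 : Janko.Tree (ℕ) :=
  (.node (.node (.node (.node (.node (.leaf 86) (.leaf 2212)) (.leaf 1464)) (.node (.leaf 865) (.leaf 432))) (.node (.node (.leaf 504) (.leaf 1725)) (.node (.leaf 957) (.leaf 1032)))) (.node (.node (.node (.node (.leaf 302) (.leaf 2128)) (.leaf 52)) (.node (.leaf 1030) (.leaf 1333))) (.node (.node (.leaf 689) (.leaf 933)) (.node (.leaf 1080) (.leaf 686)))))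

def certSNext91 : Janko.Tree (ℕ) :=
  (.node (.node (.node (.node (.node (.leaf 87) (.leaf 780)) (.leaf 460)) (.node (.leaf 541) (.leaf 1947))) (.node (.node (.leaf 505) (.leaf 1726)) (.node (.leaf 1192) (.leaf 1091)))) (.node (.node (.node (.node (.leaf 303) (.leaf 1279)) (.leaf 1605)) (.node (.leaf 683) (.leaf 2004))) (.node (.node (.leaf 690) (.leaf 1842)) (.node (.leaf 1331) (.leaf 2006)))))

def certSNext92 : Janko.Tree (ℕ) :=
  (.node (.node (.node (.node (.node (.leaf 88) (.leaf 2213)) (.leaf 1306)) (.node (.leaf 203) (.leaf 1903))) (.node (.node (.leaf 506) (.leaf 1727)) (.node (.leaf 521) (.leaf 1408)))) (.node (.node (.node (.node (.leaf 304) (.leaf 1316)) (.leaf 1005)) (.node (.leaf 1031) (.leaf 341))) (.node (.node (.leaf 93) (.leaf 1841)) (.node (.leaf 1332) (.leaf 2053)))))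

def certSNext93 : Janko.Tree (ℕ) :=
  (.node (.node (.node (.node (.node (.leaf 89) (.leaf 2172)) (.leaf 1465)) (.node (.leaf 866) (.leaf 1811))) (.node (.node (.leaf 442) (.leaf 1484)) (.node (.leaf 1193) (.leaf 2047)))) (.node (.node (.node (.node (.leaf 255) (.leaf 2040)) (.leaf 160)) (.node (.leaf 1032) (.leaf 1648))) (.node (.node (.leaf 525) (.leaf 1843)) (.node (.leaf 1333) (.leaf 1559)))))

def certSNext94 : Janko.Tree (ℕ) :=
  (.node (.node (.node (.node (.node (.leaf 90) (.leaf 428)) (.leaf 822)) (.node (.leaf 339) (.leaf 1948))) (.node (.node (.leaf 507) (.leaf 981)) (.node (.leaf 1194) (.leaf 145)))) (.node (.node (.node (.node (.leaf 118) (.leaf 1788)) (.leaf 323)) (.node (.leaf 1033) (.leaf 1918))) (.node (.node (.leaf 691) (.leaf 1844)) (.node (.leaf 1334) (.leaf 1766)))))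

def certSNext95 : Janko.Tree (ℕ) :=
  (.node (.node (.node (.node (.node (.leaf 91) (.leaf 2124)) (.leaf 549)) (.node (.leaf 398) (.leaf 493))) (.node (.node (.leaf 508) (.leaf 1728)) (.node (.leaf 1195) (.leaf 1415)))) (.node (.node (.node (.node (.leaf 305) (.leaf 2210)) (.leaf 1606)) (.node (.leaf 1034) (.leaf 2026))) (.node (.node (.leaf 692) (.leaf 1720)) (.node (.leaf 768) (.leaf 1670)))))

def certSNext96 : Janko.Tree (ℕ) :=
  (.node (.node (.node (.node (.node (.leaf 92) (.leaf 2214)) (.leaf 717)) (.node (.leaf 867) (.leaf 1949))) (.node (.node (.leaf 509) (.leaf 1729)) (.node (.leaf 394) (.leaf 2101)))) (.node (.node (.node (.node (.leaf 306) (.leaf 2181)) (.leaf 1201)) (.node (.leaf 1035) (.leaf 1238))) (.node (.node (.leaf 693) (.leaf 1845)) (.node (.leaf 1335) (.leaf 1863)))))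

def certSNext97 : Janko.Tree (ℕ) :=
  (.node (.node (.node (.node (.node (.leaf 93) (.leaf 1174)) (.leaf 1466)) (.node (.leaf 868) (.leaf 1806))) (.node (.node (.leaf 35) (.leaf 1690)) (.node (.leaf 1196) (.leaf 2102)))) (.node (.node (.node (.node (.leaf 307) (.leaf 1488)) (.leaf 1607)) (.node (.leaf 1036) (.leaf 2027))) (.node (.node (.leaf 694) (.leaf 1846)) (.node (.leaf 1336) (.leaf 2002)))))

def certSNext98 : Janko.Tree (ℕ) :=
  (.node (.node (.node (.node (.node (.leaf 94) (.leaf 1015)) (.leaf 1433)) (.node (.leaf 590) (.leaf 1119))) (.node (.node (.leaf 510) (.leaf 863)) (.node (.leaf 58) (.leaf 612)))) (.node (.node (.node (.node (.leaf 308) (.leaf 2125)) (.leaf 853)) (.node (.leaf 1037) (.leaf 1434))) (.node (.node (.leaf 695) (.leaf 1847)) (.node (.leaf 1337) (.leaf 616)))))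

def certSNext99 : Janko.Tree (ℕ) :=
  (.node (.node (.node (.node (.node (.leaf 95) (.leaf 2184)) (.leaf 1197)) (.node (.leaf 869) (.leaf 1611))) (.node (.node (.leaf 511) (.leaf 702)) (.node (.leaf 970) (.leaf 1384)))) (.node (.node (.node (.node (.leaf 309) (.leaf 1825)) (.leaf 1392)) (.node (.leaf 1038) (.leaf 2028))) (.node (.node (.leaf 696) (.leaf 1451)) (.node (.leaf 858) (.leaf 1954)))))

def certSNext100 : Janko.Tree (ℕ) :=
  (.node (.node (.node (.node (.node (.leaf 96) (.leaf 2161)) (.leaf 1467)) (.node (.leaf 870) (.leaf 1950))) (.node (.node (.leaf 317) (.leaf 502)) (.node (.leaf 1197) (.leaf 1331)))) (.node (.node (.node (.node (.leaf 310) (.leaf 1572)) (.leaf 1608)) (.node (.leaf 47) (.leaf 2029))) (.node (.node (.leaf 697) (.leaf 1848)) (.node (.leaf 1338) (.leaf 1358)))))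

def certSNext101 : Janko.Tree (ℕ) :=
  (.node (.node (.node (.node (.node (.leaf 97) (.leaf 2215)) (.leaf 316)) (.node (.leaf 450) (.leaf 1578))) (.node (.node (.leaf 512) (.leaf 934)) (.node (.leaf 1198) (.leaf 2103)))) (.node (.node (.node (.node (.leaf 162) (.leaf 1887)) (.leaf 1609)) (.node (.leaf 1039) (.leaf 1370))) (.node (.node (.leaf 698) (.leaf 1181)) (.node (.leaf 1111) (.leaf 1105)))))

def certSNext102 : Janko.Tree (ℕ) :=
  (.node (.node (.node (.node (.node (.leaf 98) (.leaf 2003)) (.leaf 1468)) (.node (.leaf 871) (.leaf 1576))) (.node (.node (.leaf 513) (.leaf 1730)) (.node (.leaf 1199) (.leaf 866)))) (.node (.node (.node (.node (.leaf 311) (.leaf 2239)) (.leaf 1610)) (.node (.leaf 1040) (.leaf 2030))) (.node (.node (.leaf 699) (.leaf 694)) (.node (.leaf 72) (.leaf 2170)))))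

def certSNext103 : Janko.Tree (ℕ) :=
  (.node (.node (.node (.node (.node (.leaf 21) (.leaf 292)) (.leaf 1469)) (.node (.leaf 872) (.leaf 1951))) (.node (.node (.leaf 514) (.leaf 1058)) (.node (.leaf 1200) (.leaf 2104)))) (.node (.node (.node (.node (.leaf 264) (.leaf 1948)) (.leaf 1068)) (.node (.leaf 427) (.leaf 2031))) (.node (.node (.leaf 302) (.leaf 1849)) (.node (.leaf 270) (.leaf 1935)))))

def certSNext104 : Janko.Tree (ℕ) :=
  (.node (.node (.node (.node (.node (.leaf 99) (.leaf 2117)) (.leaf 1204)) (.node (.leaf 873) (.leaf 254))) (.node (.node (.leaf 515) (.leaf 1731)) (.node (.leaf 1012) (.leaf 1774)))) (.node (.node (.node (.node (.leaf 312) (.leaf 2139)) (.leaf 1611)) (.node (.leaf 1041) (.leaf 1271))) (.node (.node (.leaf 700) (.leaf 1635)) (.node (.leaf 1339) (.leaf 2174)))))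

def certSNext105 : Janko.Tree (ℕ) :=
  (.node (.node (.node (.node (.node (.leaf 100) (.leaf 2140)) (.leaf 1470)) (.node (.leaf 550) (.leaf 1952))) (.node (.node (.leaf 516) (.leaf 363)) (.node (.leaf 713) (.leaf 1536)))) (.node (.node (.node (.node (.leaf 313) (.leaf 2197)) (.leaf 1234)) (.node (.leaf 1042) (.leaf 2032))) (.node (.node (.leaf 353) (.leaf 1721)) (.node (.leaf 1340) (.leaf 1845)))))

def certSNext106 : Janko.Tree (ℕ) :=
  (.node (.node (.node (.node (.node (.leaf 101) (.leaf 2216)) (.leaf 1107)) (.node (.leaf 874) (.leaf 1777))) (.node (.node (.leaf 517) (.leaf 1591)) (.node (.leaf 1076) (.leaf 252)))) (.node (.node (.node (.node (.leaf 314) (.leaf 790)) (.leaf 100)) (.node (.leaf 1043) (.leaf 1862))) (.node (.node (.leaf 701) (.leaf 1850)) (.node (.leaf 1341) (.leaf 551)))))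

def certSNext107 : Janko.Tree (ℕ) :=
  (.node (.node (.node (.node (.node (.leaf 37) (.leaf 2217)) (.leaf 1471)) (.node (.leaf 875) (.leaf 1953))) (.node (.node (.leaf 518) (.leaf 1732)) (.node (.leaf 386) (.leaf 2012)))) (.node (.node (.node (.node (.leaf 315) (.leaf 1507)) (.leaf 1612)) (.node (.leaf 507) (.leaf 2033))) (.node (.node (.leaf 65) (.leaf 479)) (.node (.leaf 750) (.leaf 2052)))))

def certSNext108 : Janko.Tree (ℕ) :=
  (.node (.node (.node (.node (.node (.leaf 102) (.leaf 370)) (.leaf 1472)) (.node (.leaf 876) (.leaf 1954))) (.node (.node (.leaf 354) (.leaf 1733)) (.node (.leaf 526) (.leaf 1715)))) (.node (.node (.node (.node (.leaf 316) (.leaf 1639)) (.leaf 1613)) (.node (.leaf 1044) (.leaf 1695))) (.node (.node (.leaf 702) (.leaf 1851)) (.node (.leaf 1342) (.leaf 333)))))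

def certSNext109 : Janko.Tree (ℕ) :=
  (.node (.node (.node (.node (.node (.leaf 31) (.leaf 1905)) (.leaf 1473)) (.node (.leaf 877) (.leaf 1627))) (.node (.node (.leaf 519) (.leaf 671)) (.node (.leaf 1201) (.leaf 2105)))) (.node (.node (.node (.node (.leaf 317) (.leaf 2176)) (.leaf 1419)) (.node (.leaf 1045) (.leaf 751))) (.node (.node (.leaf 703) (.leaf 1852)) (.node (.leaf 1126) (.leaf 658)))))

def certSNext110 : Janko.Tree (ℕ) :=
  (.node (.node (.node (.node (.node (.leaf 103) (.leaf 2218)) (.leaf 1474)) (.node (.leaf 725) (.leaf 366))) (.node (.node (.leaf 520) (.leaf 1420)) (.node (.leaf 1202) (.leaf 2106)))) (.node (.node (.node (.node (.leaf 318) (.leaf 1556)) (.leaf 1103)) (.node (.leaf 1046) (.leaf 703))) (.node (.node (.leaf 704) (.leaf 1853)) (.node (.leaf 489) (.leaf 1650)))))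

def certSNext111 : Janko.Tree (ℕ) :=
  (.node (.node (.node (.node (.node (.leaf 79) (.leaf 2219)) (.leaf 1475)) (.node (.leaf 878) (.leaf 214))) (.node (.node (.leaf 521) (.leaf 486)) (.node (.leaf 1073) (.leaf 2107)))) (.node (.node (.node (.node (.leaf 319) (.leaf 2132)) (.leaf 787)) (.node (.leaf 968) (.leaf 1561))) (.node (.node (.leaf 503) (.leaf 1854)) (.node (.leaf 1343) (.leaf 789)))))

def certSNext112 : Janko.Tree (ℕ) :=
  (.node (.node (.node (.node (.node (.leaf 104) (.leaf 1993)) (.leaf 1476)) (.node (.leaf 879) (.leaf 1955))) (.node (.node (.leaf 522) (.leaf 1248)) (.node (.leaf 163) (.leaf 2108)))) (.node (.node (.node (.node (.leaf 320) (.leaf 1540)) (.leaf 715)) (.node (.leaf 1047) (.leaf 1457))) (.node (.node (.leaf 705) (.leaf 1855)) (.node (.leaf 1232) (.leaf 2175)))))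

def certSNext113 : Janko.Tree (ℕ) :=
  (.node (.node (.node (.node (.node (.leaf 105) (.leaf 1337)) (.leaf 1477)) (.node (.leaf 880) (.leaf 1930))) (.node (.node (.leaf 150) (.leaf 958)) (.node (.leaf 44) (.leaf 2109)))) (.node (.node (.node (.node (.leaf 249) (.leaf 1442)) (.leaf 464)) (.node (.leaf 1048) (.leaf 1297))) (.node (.node (.leaf 706) (.leaf 1833)) (.node (.leaf 1159) (.leaf 2098)))))

def certSNext114 : Janko.Tree (ℕ) :=
  (.node (.node (.node (.node (.node (.leaf 106) (.leaf 2084)) (.leaf 1478)) (.node (.leaf 881) (.leaf 1745))) (.node (.node (.leaf 523) (.leaf 1734)) (.node (.leaf 1203) (.leaf 927)))) (.node (.node (.node (.node (.leaf 321) (.leaf 2201)) (.leaf 832)) (.node (.leaf 1049) (.leaf 2034))) (.node (.node (.leaf 328) (.leaf 942)) (.node (.leaf 307) (.leaf 2176)))))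

def certSNext115 : Janko.Tree (ℕ) :=
  (.node (.node (.node (.node (.node (.leaf 107) (.leaf 1441)) (.leaf 1467)) (.node (.leaf 882) (.leaf 1668))) (.node (.node (.leaf 524) (.leaf 1735)) (.node (.leaf 1204) (.leaf 2110)))) (.node (.node (.node (.node (.leaf 322) (.leaf 2237)) (.leaf 748)) (.node (.leaf 1050) (.leaf 243))) (.node (.node (.leaf 707) (.leaf 158)) (.node (.leaf 1344) (.leaf 2171)))))

def certSNext116 : Janko.Tree (ℕ) :=
  (.node (.node (.node (.node (.node (.leaf 108) (.leaf 2091)) (.leaf 962)) (.node (.leaf 883) (.leaf 1739))) (.node (.node (.leaf 525) (.leaf 1376)) (.node (.leaf 1052) (.leaf 2111)))) (.node (.node (.node (.node (.leaf 261) (.leaf 1958)) (.leaf 1193)) (.node (.leaf 1051) (.leaf 1798))) (.node (.node (.leaf 116) (.leaf 1856)) (.node (.leaf 1345) (.leaf 2153)))))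

def certSNext117 : Janko.Tree (ℕ) :=
  (.node (.node (.node (.node (.node (.leaf 109) (.leaf 2014)) (.leaf 1479)) (.node (.leaf 884) (.leaf 1956))) (.node (.node (.leaf 526) (.leaf 275)) (.node (.leaf 1205) (.leaf 1673)))) (.node (.node (.node (.node (.leaf 323) (.leaf 915)) (.leaf 1025)) (.node (.leaf 1052) (.leaf 1718))) (.node (.node (.leaf 306) (.leaf 1857)) (.node (.leaf 813) (.leaf 1885)))))

def certSNext118 : Janko.Tree (ℕ) :=
  (.node (.node (.node (.node (.node (.leaf 110) (.leaf 1952)) (.leaf 1480)) (.node (.leaf 885) (.leaf 1533))) (.node (.node (.leaf 527) (.leaf 1172)) (.node (.leaf 1206) (.leaf 1082)))) (.node (.node (.node (.node (.leaf 324) (.leaf 1886)) (.leaf 91)) (.node (.leaf 1053) (.leaf 2035))) (.node (.node (.leaf 708) (.leaf 1470)) (.node (.leaf 1299) (.leaf 908)))))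

def certSNext119 : Janko.Tree (ℕ) :=
  (.node (.node (.node (.node (.node (.leaf 111) (.leaf 1510)) (.leaf 1481)) (.node (.leaf 886) (.leaf 388))) (.node (.node (.leaf 528) (.leaf 1736)) (.node (.leaf 1207) (.leaf 1646)))) (.node (.node (.node (.node (.leaf 325) (.leaf 1994)) (.leaf 1378)) (.node (.leaf 33) (.leaf 1369))) (.node (.node (.leaf 709) (.leaf 1116)) (.node (.leaf 1217) (.leaf 1164)))))

def certSNext120 : Janko.Tree (ℕ) :=
  (.node (.node (.node (.node (.node (.leaf 112) (.leaf 2191)) (.leaf 535)) (.node (.leaf 706) (.leaf 295))) (.node (.node (.leaf 529) (.leaf 1737)) (.node (.leaf 1009) (.leaf 2112)))) (.node (.node (.node (.node (.leaf 107) (.leaf 692)) (.leaf 1614)) (.node (.leaf 1054) (.leaf 2036))) (.node (.node (.leaf 10) (.leaf 1749)) (.node (.leaf 1346) (.leaf 2064)))))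

def certSNext121 : Janko.Tree (ℕ) :=
  (.node (.node (.node (.node (.node (.leaf 113) (.leaf 1428)) (.leaf 1482)) (.node (.leaf 887) (.leaf 1957))) (.node (.node (.leaf 251) (.leaf 1738)) (.node (.leaf 1208) (.leaf 200)))) (.node (.node (.node (.node (.leaf 326) (.leaf 2088)) (.leaf 1615)) (.node (.leaf 174) (.leaf 619))) (.node (.node (.leaf 710) (.leaf 854)) (.node (.leaf 1347) (.leaf 1636)))))

def certSNext122 : Janko.Tree (ℕ) :=
  (.node (.node (.node (.node (.node (.leaf 0) (.leaf 1579)) (.leaf 852)) (.node (.leaf 609) (.leaf 906))) (.node (.node (.leaf 530) (.leaf 1244)) (.node (.leaf 1209) (.leaf 1096)))) (.node (.node (.node (.node (.leaf 327) (.leaf 1932)) (.leaf 250)) (.node (.leaf 1055) (.leaf 2037))) (.node (.node (.leaf 711) (.leaf 1364)) (.node (.leaf 634) (.leaf 1157)))))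

def certSNext123 : Janko.Tree (ℕ) :=
  (.node (.node (.node (.node (.node (.leaf 114) (.leaf 2160)) (.leaf 1483)) (.node (.leaf 888) (.leaf 421))) (.node (.node (.leaf 5) (.leaf 1739)) (.node (.leaf 1209) (.leaf 2070)))) (.node (.node (.node (.node (.leaf 328) (.leaf 2167)) (.leaf 314)) (.node (.leaf 1056) (.leaf 2038))) (.node (.node (.leaf 712) (.leaf 1613)) (.node (.leaf 1348) (.leaf 2112)))))

def certSNext124 : Janko.Tree (ℕ) :=
  (.node (.node (.node (.node (.node (.leaf 115) (.leaf 1568)) (.leaf 1454)) (.node (.leaf 348) (.leaf 1604))) (.node (.node (.leaf 6) (.leaf 1740)) (.node (.leaf 1210) (.leaf 1554)))) (.node (.node (.node (.node (.leaf 329) (.leaf 2087)) (.leaf 1026)) (.node (.leaf 1057) (.leaf 1288))) (.node (.node (.leaf 713) (.leaf 1858)) (.node (.leaf 1349) (.leaf 1511)))))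

def certSNext125 : Janko.Tree (ℕ) :=
  (.node (.node (.node (.node (.node (.leaf 116) (.leaf 2209)) (.leaf 903)) (.node (.leaf 889) (.leaf 1958))) (.node (.node (.leaf 531) (.leaf 268)) (.node (.leaf 994) (.leaf 2113)))) (.node (.node (.node (.node (.leaf 330) (.leaf 1134)) (.leaf 1274)) (.node (.leaf 898) (.leaf 2039))) (.node (.node (.leaf 714) (.leaf 312)) (.node (.leaf 1350) (.leaf 1933)))))

def certSNext126 : Janko.Tree (ℕ) :=
  (.node (.node (.node (.node (.node (.leaf 117) (.leaf 1658)) (.leaf 1484)) (.node (.leaf 281) (.leaf 1959))) (.node (.node (.leaf 532) (.leaf 75)) (.node (.leaf 1211) (.leaf 1185)))) (.node (.node (.node (.node (.leaf 331) (.leaf 2154)) (.leaf 1616)) (.node (.leaf 1058) (.leaf 2040))) (.node (.node (.leaf 430) (.leaf 1859)) (.node (.leaf 1351) (.leaf 543)))))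

def certSNext127 : Janko.Tree (ℕ) :=
  (.node (.node (.node (.node (.node (.leaf 118) (.leaf 1259)) (.leaf 1485)) (.node (.leaf 890) (.leaf 1213))) (.node (.node (.leaf 533) (.leaf 1135)) (.node (.leaf 1212) (.leaf 1908)))) (.node (.node (.node (.node (.leaf 238) (.leaf 2183)) (.leaf 1313)) (.node (.leaf 1059) (.leaf 1456))) (.node (.node (.leaf 715) (.leaf 1860)) (.node (.leaf 1352) (.leaf 2177)))))

def certSNext128 : Janko.Tree (ℕ) :=
  (.node (.node (.node (.node (.node (.leaf 119) (.leaf 849)) (.leaf 1486)) (.node (.leaf 891) (.leaf 825))) (.node (.node (.leaf 534) (.leaf 1697)) (.node (.leaf 1213) (.leaf 1876)))) (.node (.node (.node (.leaf 332) (.leaf 1617)) (.node (.leaf 1060) (.leaf 2041))) (.node (.node (.leaf 269) (.leaf 325)) (.node (.leaf 1230) (.leaf 842)))))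

def certSNext129 : Janko.Tree (ℕ) :=
  (.node (.node (.node (.node (.node (.leaf 120) (.leaf 1672)) (.leaf 1487)) (.node (.leaf 892) (.leaf 1960))) (.node (.node (.leaf 535) (.leaf 1741)) (.node (.leaf 818) (.leaf 1598)))) (.node (.node (.node (.leaf 333) (.leaf 1618)) (.node (.leaf 1061) (.leaf 2042))) (.node (.node (.leaf 716) (.leaf 1480)) (.node (.leaf 1353) (.leaf 2178)))))

def certSNext130 : Janko.Tree (ℕ) :=
  (.node (.node (.node (.node (.node (.leaf 121) (.leaf 1177)) (.leaf 1488)) (.node (.leaf 18) (.leaf 568))) (.node (.node (.leaf 293) (.leaf 975)) (.node (.leaf 1214) (.leaf 2104)))) (.node (.node (.node (.leaf 334) (.leaf 1501)) (.node (.leaf 20) (.leaf 2043))) (.node (.node (.leaf 28) (.leaf 682)) (.node (.leaf 1354) (.leaf 2059)))))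

def certSNext131 : Janko.Tree (ℕ) :=
  (.node (.node (.node (.node (.node (.leaf 122) (.leaf 1744)) (.leaf 669)) (.node (.leaf 893) (.leaf 1178))) (.node (.node (.leaf 536) (.leaf 1444)) (.node (.leaf 1215) (.leaf 1755)))) (.node (.node (.node (.leaf 335) (.leaf 1619)) (.node (.leaf 1062) (.leaf 2044))) (.node (.node (.leaf 717) (.leaf 1861)) (.node (.leaf 1355) (.leaf 1912)))))

def certSNext132 : Janko.Tree (ℕ) :=
  (.node (.node (.node (.node (.node (.leaf 123) (.leaf 2220)) (.leaf 1020)) (.node (.leaf 894) (.leaf 1003))) (.node (.node (.leaf 188) (.leaf 1742)) (.node (.leaf 1216) (.leaf 1943)))) (.node (.node (.node (.leaf 336) (.leaf 1518)) (.node (.leaf 564) (.leaf 2045))) (.node (.node (.leaf 718) (.leaf 1479)) (.node (.leaf 1356) (.leaf 1823)))))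

def certSNext133 : Janko.Tree (ℕ) :=
  (.node (.node (.node (.node (.node (.leaf 124) (.leaf 1859)) (.leaf 1489)) (.node (.leaf 895) (.leaf 1356))) (.node (.node (.leaf 440) (.leaf 1267)) (.node (.leaf 336) (.leaf 1468)))) (.node (.node (.node (.leaf 337) (.leaf 110)) (.node (.leaf 1063) (.leaf 673))) (.node (.node (.leaf 719) (.leaf 1862)) (.node (.leaf 737) (.leaf 1399)))))

def certSNext134 : Janko.Tree (ℕ) :=
  (.node (.node (.node (.node (.node (.leaf 87) (.leaf 1165)) (.leaf 1490)) (.node (.leaf 896) (.leaf 1770))) (.node (.node (.leaf 537) (.leaf 1225)) (.node (.leaf 1217) (.leaf 1866)))) (.node (.node (.node (.leaf 338) (.leaf 1223)) (.node (.leaf 757) (.leaf 2046))) (.node (.node (.leaf 287) (.leaf 1252)) (.node (.leaf 1357) (.leaf 2179)))))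

def certSNext135 : Janko.Tree (ℕ) :=
  (.node (.node (.node (.node (.node (.leaf 125) (.leaf 1816)) (.leaf 1113)) (.node (.leaf 897) (.leaf 1955))) (.node (.node (.leaf 538) (.leaf 1743)) (.node (.leaf 1218) (.leaf 1992)))) (.node (.node (.node (.leaf 339) (.leaf 1620)) (.node (.leaf 1064) (.leaf 1538))) (.node (.node (.leaf 720) (.leaf 1863)) (.node (.leaf 1358) (.leaf 192)))))

def certSNext136 : Janko.Tree (ℕ) :=
  (.node (.node (.node (.node (.node (.leaf 126) (.leaf 1860)) (.leaf 1375)) (.node (.leaf 898) (.leaf 1483))) (.node (.node (.leaf 539) (.leaf 993)) (.node (.leaf 519) (.leaf 1998)))) (.node (.node (.node (.leaf 340) (.leaf 1435)) (.node (.leaf 1065) (.leaf 1509))) (.node (.node (.leaf 26) (.leaf 1864)) (.node (.leaf 1138) (.leaf 1654)))))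

def certSNext137 : Janko.Tree (ℕ) :=
  (.node (.node (.node (.node (.node (.leaf 127) (.leaf 982)) (.leaf 1491)) (.node (.leaf 899) (.leaf 1633))) (.node (.node (.leaf 540) (.leaf 697)) (.node (.leaf 996) (.leaf 937)))) (.node (.node (.node (.leaf 104) (.leaf 1621)) (.node (.leaf 501) (.leaf 1844))) (.node (.node (.leaf 721) (.leaf 1057)) (.node (.leaf 1359) (.leaf 1255)))))

def certSNext138 : Janko.Tree (ℕ) :=
  (.node (.node (.node (.node (.node (.leaf 128) (.leaf 1960)) (.leaf 490)) (.node (.leaf 643) (.leaf 1961))) (.node (.node (.leaf 541) (.leaf 1744)) (.node (.leaf 85) (.leaf 2114)))) (.node (.node (.node (.leaf 229) (.leaf 1622)) (.node (.leaf 1066) (.leaf 2047))) (.node (.node (.leaf 722) (.leaf 1865)) (.node (.leaf 1360) (.leaf 2180)))))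

def certSNext139 : Janko.Tree (ℕ) :=
  (.node (.node (.node (.node (.node (.leaf 129) (.leaf 2221)) (.leaf 1492)) (.node (.leaf 25) (.leaf 1961))) (.node (.node (.leaf 376) (.leaf 1745)) (.node (.leaf 1054) (.leaf 1793)))) (.node (.node (.node (.leaf 341) (.leaf 327)) (.node (.leaf 1067) (.leaf 1422))) (.node (.node (.leaf 444) (.leaf 1866)) (.node (.leaf 1361) (.leaf 1910)))))

def certSNext140 : Janko.Tree (ℕ) :=
  (.node (.node (.node (.node (.node (.leaf 40) (.leaf 2068)) (.leaf 733)) (.node (.leaf 403) (.leaf 1075))) (.node (.node (.leaf 542) (.leaf 1746)) (.node (.leaf 1140) (.leaf 864)))) (.node (.node (.node (.leaf 342) (.leaf 1623)) (.node (.leaf 1068) (.leaf 674))) (.node (.node (.leaf 723) (.leaf 1867)) (.node (.leaf 889) (.leaf 1991)))))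

def certSNext141 : Janko.Tree (ℕ) :=
  (.node (.node (.node (.node (.node (.leaf 130) (.leaf 2222)) (.leaf 1493)) (.node (.leaf 705) (.leaf 1832))) (.node (.node (.leaf 543) (.leaf 781)) (.node (.leaf 342) (.leaf 1759)))) (.node (.node (.node (.leaf 343) (.leaf 1283)) (.node (.leaf 379) (.leaf 1976))) (.node (.node (.leaf 532) (.leaf 446)) (.node (.leaf 1298) (.leaf 2180)))))

def certSNext142 : Janko.Tree (ℕ) :=
  (.node (.node (.node (.node (.node (.leaf 131) (.leaf 2005)) (.leaf 1494)) (.node (.leaf 43) (.leaf 1962))) (.node (.node (.leaf 544) (.leaf 1336)) (.node (.leaf 1219) (.leaf 1412)))) (.node (.node (.node (.leaf 344) (.leaf 1624)) (.node (.leaf 1069) (.leaf 1977))) (.node (.node (.leaf 724) (.leaf 1868)) (.node (.leaf 364) (.leaf 1968)))))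

def certSNext143 : Janko.Tree (ℕ) :=
  (.node (.node (.node (.node (.node (.leaf 123) (.leaf 1760)) (.leaf 1495)) (.node (.leaf 900) (.leaf 1397))) (.node (.node (.leaf 545) (.leaf 1737)) (.node (.leaf 1220) (.leaf 338)))) (.node (.node (.node (.leaf 183) (.leaf 756)) (.node (.leaf 324) (.leaf 1476))) (.node (.node (.leaf 725) (.leaf 1499)) (.node (.leaf 598) (.leaf 1616)))))

def certSNext144 : Janko.Tree (ℕ) :=
  (.node (.node (.node (.node (.node (.leaf 132) (.leaf 1757)) (.leaf 289)) (.node (.leaf 901) (.leaf 730))) (.node (.node (.leaf 546) (.leaf 1558)) (.node (.leaf 1221) (.leaf 221)))) (.node (.node (.node (.leaf 345) (.leaf 1079)) (.node (.leaf 197) (.leaf 1738))) (.node (.node (.leaf 726) (.leaf 762)) (.node (.leaf 1362) (.leaf 779)))))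

def certSNext145 : Janko.Tree (ℕ) :=
  (.node (.node (.node (.node (.node (.leaf 133) (.leaf 1867)) (.leaf 1496)) (.node (.leaf 776) (.leaf 1614))) (.node (.node (.leaf 318) (.leaf 1472)) (.node (.leaf 50) (.leaf 1959)))) (.node (.node (.node (.leaf 260) (.leaf 367)) (.node (.leaf 1070) (.leaf 2048))) (.node (.node (.leaf 727) (.leaf 1541)) (.node (.leaf 1037) (.leaf 1655)))))

def certSNext146 : Janko.Tree (ℕ) :=
  (.node (.node (.node (.node (.node (.leaf 134) (.leaf 2223)) (.leaf 1497)) (.node (.leaf 639) (.leaf 1599))) (.node (.node (.leaf 12) (.leaf 1245)) (.node (.leaf 1071) (.leaf 2115)))) (.node (.node (.node (.leaf 153) (.leaf 1625)) (.node (.leaf 716) (.leaf 2049))) (.node (.node (.leaf 728) (.leaf 319)) (.node (.leaf 95) (.leaf 597)))))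

def certSNext147 : Janko.Tree (ℕ) :=
  (.node (.node (.node (.node (.node (.leaf 135) (.leaf 1582)) (.leaf 1410)) (.node (.leaf 850) (.leaf 504))) (.node (.node (.leaf 517) (.leaf 1382)) (.node (.leaf 74) (.leaf 701)))) (.node (.node (.node (.leaf 346) (.leaf 1585)) (.node (.leaf 1071) (.leaf 1742))) (.node (.node (.leaf 410) (.leaf 653)) (.node (.leaf 1363) (.leaf 2116)))))

def certSNext148 : Janko.Tree (ℕ) :=
  (.node (.node (.node (.node (.node (.leaf 136) (.leaf 2224)) (.leaf 767)) (.node (.leaf 149) (.leaf 1963))) (.node (.node (.leaf 547) (.leaf 808)) (.node (.leaf 1222) (.leaf 1786)))) (.node (.node (.node (.leaf 347) (.leaf 719)) (.node (.leaf 448) (.leaf 636))) (.node (.node (.leaf 729) (.leaf 159)) (.node (.leaf 890) (.leaf 2159)))))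

def certSNext149 : Janko.Tree (ℕ) :=
  (.node (.node (.node (.node (.node (.leaf 137) (.leaf 1464)) (.leaf 1498)) (.node (.leaf 42) (.leaf 458))) (.node (.node (.leaf 548) (.leaf 1567)) (.node (.leaf 1223) (.leaf 1342)))) (.node (.node (.node (.leaf 348) (.leaf 1626)) (.node (.leaf 1072) (.leaf 1914))) (.node (.node (.leaf 730) (.leaf 1246)) (.node (.leaf 408) (.leaf 2126)))))

def certSNext150 : Janko.Tree (ℕ) :=
  (.node (.node (.node (.node (.node (.leaf 138) (.leaf 1947)) (.leaf 1499)) (.node (.leaf 143) (.leaf 1964))) (.node (.node (.leaf 549) (.leaf 1747)) (.node (.leaf 875) (.leaf 1347)))) (.node (.node (.node (.leaf 322) (.leaf 632)) (.node (.leaf 1073) (.leaf 1147))) (.node (.node (.leaf 731) (.leaf 1250)) (.node (.leaf 672) (.leaf 2026)))))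

def certSNext151 : Janko.Tree (ℕ) :=
  (.node (.node (.node (.node (.node (.leaf 139) (.leaf 1907)) (.leaf 731)) (.node (.leaf 902) (.leaf 711))) (.node (.node (.leaf 547) (.leaf 1748)) (.node (.leaf 156) (.leaf 1622)))) (.node (.node (.node (.leaf 349) (.leaf 106)) (.node (.leaf 1074) (.leaf 2050))) (.node (.node (.leaf 732) (.leaf 1869)) (.node (.leaf 1364) (.leaf 2181)))))

def certSNext152 : Janko.Tree (ℕ) :=
  (.node (.node (.node (.node (.node (.leaf 140) (.leaf 2219)) (.leaf 1500)) (.node (.leaf 903) (.leaf 1609))) (.node (.node (.leaf 550) (.leaf 1276)) (.node (.leaf 1224) (.leaf 540)))) (.node (.node (.node (.leaf 350) (.leaf 1627)) (.node (.leaf 548) (.leaf 765))) (.node (.node (.leaf 516) (.leaf 1870)) (.node (.leaf 1365) (.leaf 1597)))))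

def certSNext153 : Janko.Tree (ℕ) :=
  (.node (.node (.node (.node (.node (.leaf 141) (.leaf 1132)) (.leaf 1501)) (.node (.leaf 904) (.leaf 1965))) (.node (.node (.leaf 551) (.leaf 1749)) (.node (.leaf 623) (.leaf 1974)))) (.node (.node (.node (.leaf 351) (.leaf 112)) (.node (.leaf 1075) (.leaf 1317))) (.node (.node (.leaf 733) (.leaf 121)) (.node (.leaf 1366) (.leaf 2182)))))

def certSNext154 : Janko.Tree (ℕ) :=
  (.node (.node (.node (.node (.node (.leaf 142) (.leaf 1131)) (.leaf 1502)) (.node (.leaf 905) (.leaf 1121))) (.node (.node (.leaf 552) (.leaf 1750)) (.node (.leaf 960) (.leaf 2116)))) (.node (.node (.node (.leaf 352) (.leaf 1286)) (.node (.leaf 392) (.leaf 1719))) (.node (.node (.leaf 652) (.leaf 237)) (.node (.leaf 77) (.leaf 1448)))))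

def certSNext155 : Janko.Tree (ℕ) :=
  (.node (.node (.node (.node (.node (.leaf 143) (.leaf 2216)) (.leaf 1503)) (.node (.leaf 373) (.leaf 527))) (.node (.node (.leaf 553) (.leaf 1751)) (.node (.leaf 1225) (.leaf 2117)))) (.node (.node (.node (.leaf 350) (.leaf 1628)) (.node (.leaf 1076) (.leaf 2051))) (.node (.node (.leaf 734) (.leaf 1694)) (.node (.leaf 881) (.leaf 760)))))

def certSNext156 : Janko.Tree (ℕ) :=
  (.node (.node (.node (.node (.node (.leaf 144) (.leaf 2048)) (.leaf 1504)) (.node (.leaf 817) (.leaf 1966))) (.node (.node (.leaf 554) (.leaf 1696)) (.node (.leaf 1226) (.leaf 897)))) (.node (.node (.node (.leaf 353) (.leaf 1629)) (.node (.leaf 583) (.leaf 1544))) (.node (.node (.leaf 405) (.leaf 1871)) (.node (.leaf 1367) (.leaf 1133)))))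

def certSNext157 : Janko.Tree (ℕ) :=
  (.node (.node (.node (.node (.node (.leaf 145) (.leaf 2035)) (.leaf 522)) (.node (.leaf 906) (.leaf 1000))) (.node (.node (.leaf 555) (.leaf 1522)) (.node (.leaf 605) (.leaf 2118)))) (.node (.node (.node (.leaf 354) (.leaf 1254)) (.node (.leaf 1077) (.leaf 1656))) (.node (.node (.leaf 735) (.leaf 1390)) (.node (.leaf 700) (.leaf 2097)))))

def certSNext158 : Janko.Tree (ℕ) :=
  (.node (.node (.node (.node (.node (.leaf 146) (.leaf 1304)) (.leaf 1385)) (.node (.leaf 907) (.leaf 1208))) (.node (.node (.leaf 556) (.leaf 294)) (.node (.leaf 285) (.leaf 839)))) (.node (.node (.node (.leaf 355) (.leaf 191)) (.node (.leaf 1078) (.leaf 666))) (.node (.node (.leaf 279) (.leaf 1781)) (.node (.leaf 753) (.leaf 1822)))))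

def certSNext159 : Janko.Tree (ℕ) :=
  (.node (.node (.node (.node (.node (.leaf 147) (.leaf 785)) (.leaf 1028)) (.node (.leaf 908) (.leaf 1631))) (.node (.node (.leaf 557) (.leaf 1752)) (.node (.leaf 1227) (.leaf 469)))) (.node (.node (.node (.leaf 92) (.leaf 820)) (.node (.leaf 1079) (.leaf 1301))) (.node (.node (.leaf 736) (.leaf 828)) (.node (.leaf 1016) (.leaf 1040)))))

def certSNext160 : Janko.Tree (ℕ) :=
  (.node (.node (.node (.node (.node (.leaf 148) (.leaf 1706)) (.leaf 1122)) (.node (.leaf 909) (.leaf 1967))) (.node (.node (.leaf 558) (.leaf 1643)) (.node (.leaf 1228) (.leaf 2119)))) (.node (.node (.node (.leaf 356) (.leaf 1630)) (.node (.leaf 528) (.leaf 2052))) (.node (.node (.leaf 737) (.leaf 1872)) (.node (.leaf 1353) (.leaf 2183)))))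

def certSNext161 : Janko.Tree (ℕ) :=
  (.node (.node (.node (.node (.node (.leaf 149) (.leaf 2149)) (.leaf 990)) (.node (.leaf 334) (.leaf 1968))) (.node (.node (.leaf 559) (.leaf 1753)) (.node (.leaf 1219) (.leaf 2100)))) (.node (.node (.node (.leaf 357) (.leaf 235)) (.node (.leaf 1080) (.leaf 1637))) (.node (.node (.leaf 738) (.leaf 746)) (.node (.leaf 1368) (.leaf 1346)))))

def certSNext162 : Janko.Tree (ℕ) :=
  (.node (.node (.node (.node (.node (.leaf 150) (.leaf 2151)) (.leaf 1503)) (.node (.leaf 910) (.leaf 1368))) (.node (.node (.leaf 441) (.leaf 775)) (.node (.leaf 1229) (.leaf 1273)))) (.node (.node (.node (.leaf 227) (.leaf 1631)) (.node (.leaf 1081) (.leaf 1985))) (.node (.node (.leaf 628) (.leaf 1873)) (.node (.leaf 1086) (.leaf 887)))))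

def certSNext163 : Janko.Tree (ℕ) :=
  (.node (.node (.node (.node (.node (.leaf 61) (.leaf 2190)) (.leaf 722)) (.node (.leaf 911) (.leaf 1839))) (.node (.node (.leaf 560) (.leaf 1504)) (.node (.leaf 1230) (.leaf 2079)))) (.node (.node (.node (.leaf 230) (.leaf 1632)) (.node (.leaf 1082) (.leaf 1704))) (.node (.node (.leaf 739) (.leaf 1874)) (.node (.leaf 63) (.leaf 595)))))

def certSNext164 : Janko.Tree (ℕ) :=
  (.node (.node (.node (.node (.node (.leaf 151) (.leaf 1940)) (.leaf 1418)) (.node (.leaf 912) (.leaf 1485))) (.node (.node (.leaf 561) (.leaf 872)) (.node (.leaf 265) (.leaf 2120)))) (.node (.node (.node (.leaf 358) (.leaf 1633)) (.node (.leaf 1083) (.leaf 1916))) (.node (.node (.leaf 740) (.leaf 1875)) (.node (.leaf 1369) (.leaf 576)))))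

def certSNext165 : Janko.Tree (ℕ) :=
  (.node (.node (.node (.node (.node (.leaf 131) (.leaf 2224)) (.leaf 1505)) (.node (.leaf 754) (.leaf 1969))) (.node (.node (.leaf 562) (.leaf 1754)) (.node (.leaf 1231) (.leaf 282)))) (.node (.node (.node (.leaf 359) (.leaf 99)) (.node (.leaf 1084) (.leaf 1594))) (.node (.node (.leaf 741) (.leaf 1876)) (.node (.leaf 258) (.leaf 2111)))))

def certSNext166 : Janko.Tree (ℕ) :=
  (.node (.node (.node (.node (.node (.leaf 152) (.leaf 1269)) (.leaf 1145)) (.node (.leaf 913) (.leaf 1970))) (.node (.node (.leaf 199) (.leaf 213)) (.node (.leaf 391) (.leaf 1923)))) (.node (.node (.node (.leaf 360) (.leaf 1006)) (.node (.leaf 1085) (.leaf 1048))) (.node (.node (.leaf 742) (.leaf 677)) (.node (.leaf 1370) (.leaf 2184)))))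

def certSNext167 : Janko.Tree (ℕ) :=
  (.node (.node (.node (.node (.node (.leaf 153) (.leaf 625)) (.leaf 1214)) (.node (.leaf 914) (.leaf 1944))) (.node (.node (.leaf 563) (.leaf 1666)) (.node (.leaf 1232) (.leaf 2096)))) (.node (.node (.node (.leaf 356) (.leaf 179)) (.node (.leaf 1086) (.leaf 2053))) (.node (.node (.leaf 743) (.leaf 1110)) (.node (.leaf 992) (.leaf 2058)))))

def certSNext168 : Janko.Tree (ℕ) :=
  (.node (.node (.node (.node (.node (.leaf 154) (.leaf 1915)) (.leaf 422)) (.node (.leaf 915) (.leaf 1901))) (.node (.node (.leaf 133) (.leaf 1755)) (.node (.leaf 201) (.leaf 2121)))) (.node (.node (.node (.leaf 361) (.leaf 668)) (.node (.leaf 1087) (.leaf 814))) (.node (.node (.leaf 744) (.leaf 1664)) (.node (.leaf 1371) (.leaf 1888)))))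

def certSNext169 : Janko.Tree (ℕ) :=
  (.node (.node (.node (.node (.node (.leaf 155) (.leaf 2049)) (.leaf 1078)) (.node (.leaf 693) (.leaf 1440))) (.node (.node (.leaf 564) (.leaf 136)) (.node (.leaf 1233) (.leaf 1069)))) (.node (.node (.node (.leaf 362) (.leaf 1634)) (.node (.leaf 320) (.leaf 945))) (.node (.node (.leaf 745) (.leaf 1325)) (.node (.leaf 1243) (.leaf 1281)))))

def certSNext170 : Janko.Tree (ℕ) :=
  (.node (.node (.node (.node (.node (.leaf 156) (.leaf 2215)) (.leaf 1506)) (.node (.leaf 916) (.leaf 1971))) (.node (.node (.leaf 565) (.leaf 1320)) (.node (.leaf 1234) (.leaf 2122)))) (.node (.node (.node (.leaf 363) (.leaf 1188)) (.node (.leaf 30) (.leaf 2017))) (.node (.node (.leaf 746) (.leaf 1529)) (.node (.leaf 1372) (.leaf 2162)))))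

def certSNext171 : Janko.Tree (ℕ) :=
  (.node (.node (.node (.node (.node (.leaf 157) (.leaf 2213)) (.leaf 565)) (.node (.leaf 917) (.leaf 1173))) (.node (.node (.leaf 566) (.leaf 1756)) (.node (.leaf 1235) (.leaf 2015)))) (.node (.node (.node (.leaf 364) (.leaf 1635)) (.node (.leaf 477) (.leaf 308))) (.node (.node (.leaf 747) (.leaf 1877)) (.node (.leaf 675) (.leaf 2046)))))

def certSNext172 : Janko.Tree (ℕ) :=
  (.node (.node (.node (.node (.node (.leaf 158) (.leaf 1097)) (.leaf 1507)) (.node (.leaf 918) (.leaf 819))) (.node (.node (.leaf 567) (.leaf 1175)) (.node (.leaf 1235) (.leaf 1584)))) (.node (.node (.node (.leaf 365) (.leaf 1636)) (.node (.leaf 22) (.leaf 514))) (.node (.node (.leaf 748) (.leaf 297)) (.node (.leaf 1373) (.leaf 2185)))))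

def certSNext173 : Janko.Tree (ℕ) :=
  (.node (.node (.node (.node (.node (.leaf 159) (.leaf 2212)) (.leaf 1508)) (.node (.leaf 919) (.leaf 1549))) (.node (.node (.leaf 568) (.leaf 1757)) (.node (.leaf 1236) (.leaf 1334)))) (.node (.node (.node (.leaf 366) (.leaf 1381)) (.node (.leaf 1088) (.leaf 2054))) (.node (.node (.leaf 749) (.leaf 661)) (.node (.leaf 1120) (.leaf 1031)))))

def certSNext174 : Janko.Tree (ℕ) :=
  (.node (.node (.node (.node (.node (.leaf 160) (.leaf 2148)) (.leaf 997)) (.node (.leaf 920) (.leaf 1394))) (.node (.node (.leaf 569) (.leaf 1758)) (.node (.leaf 1237) (.leaf 2123)))) (.node (.node (.node (.leaf 367) (.leaf 1637)) (.node (.leaf 1089) (.leaf 1359))) (.node (.node (.leaf 750) (.leaf 1878)) (.node (.leaf 36) (.leaf 2158)))))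

def certSNext175 : Janko.Tree (ℕ) :=
  (.node (.node (.node (.node (.node (.leaf 161) (.leaf 2208)) (.leaf 1509)) (.node (.leaf 361) (.leaf 520))) (.node (.node (.leaf 570) (.leaf 1617)) (.node (.leaf 1238) (.leaf 1494)))) (.node (.node (.node (.leaf 368) (.leaf 571)) (.node (.leaf 1090) (.leaf 2055))) (.node (.node (.leaf 241) (.leaf 1782)) (.node (.leaf 1374) (.leaf 210)))))

def certSNext176 : Janko.Tree (ℕ) :=
  (.node (.node (.node (.node (.node (.leaf 162) (.leaf 2225)) (.leaf 1510)) (.node (.leaf 921) (.leaf 1088))) (.node (.node (.leaf 571) (.leaf 1481)) (.node (.leaf 1239) (.leaf 2124)))) (.node (.node (.node (.leaf 369) (.leaf 1462)) (.node (.leaf 1091) (.leaf 2056))) (.node (.node (.leaf 751) (.leaf 1879)) (.node (.leaf 738) (.leaf 1634)))))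

def certSNext177 : Janko.Tree (ℕ) :=
  (.node (.node (.node (.node (.node (.leaf 163) (.leaf 2223)) (.leaf 1224)) (.node (.leaf 631) (.leaf 894))) (.node (.node (.leaf 572) (.leaf 1365)) (.node (.leaf 1240) (.leaf 2125)))) (.node (.node (.node (.leaf 370) (.leaf 1638)) (.node (.leaf 1092) (.leaf 2057))) (.node (.node (.leaf 456) (.leaf 1804)) (.node (.leaf 601) (.leaf 649)))))

def certSNext178 : Janko.Tree (ℕ) :=
  (.node (.node (.node (.node (.node (.leaf 164) (.leaf 2226)) (.leaf 1094)) (.node (.leaf 922) (.leaf 721))) (.node (.node (.leaf 573) (.leaf 1685)) (.node (.leaf 1241) (.leaf 1837)))) (.node (.node (.node (.leaf 371) (.leaf 847)) (.node (.leaf 1093) (.leaf 2058))) (.node (.node (.leaf 644) (.leaf 1724)) (.node (.leaf 313) (.leaf 2130)))))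

def certSNext179 : Janko.Tree (ℕ) :=
  (.node (.node (.node (.node (.node (.leaf 165) (.leaf 2193)) (.leaf 1511)) (.node (.leaf 874) (.leaf 1970))) (.node (.node (.leaf 574) (.leaf 909)) (.node (.leaf 1242) (.leaf 1725)))) (.node (.node (.node (.leaf 372) (.leaf 1639)) (.node (.leaf 1094) (.leaf 2059))) (.node (.node (.leaf 651) (.leaf 1880)) (.node (.leaf 1375) (.leaf 1557)))))

def certSNext180 : Janko.Tree (ℕ) :=
  (.node (.node (.node (.node (.node (.leaf 166) (.leaf 378)) (.leaf 749)) (.node (.leaf 923) (.leaf 193))) (.node (.node (.leaf 575) (.leaf 1759)) (.node (.leaf 1243) (.leaf 747)))) (.node (.node (.node (.leaf 373) (.leaf 1640)) (.node (.leaf 985) (.leaf 1589))) (.node (.node (.leaf 135) (.leaf 1881)) (.node (.leaf 947) (.leaf 2067)))))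

def certSNext181 : Janko.Tree (ℕ) :=
  (.node (.node (.node (.node (.node (.leaf 167) (.leaf 1678)) (.leaf 1512)) (.node (.leaf 591) (.leaf 1663))) (.node (.node (.leaf 576) (.leaf 1087)) (.node (.leaf 885) (.leaf 216)))) (.node (.node (.node (.leaf 374) (.leaf 1641)) (.node (.leaf 1095) (.leaf 1873))) (.node (.node (.leaf 529) (.leaf 1490)) (.node (.leaf 1376) (.leaf 2063)))))

def certSNext182 : Janko.Tree (ℕ) :=
  (.node (.node (.node (.node (.node (.leaf 168) (.leaf 2227)) (.leaf 946)) (.node (.leaf 924) (.leaf 1972))) (.node (.node (.leaf 577) (.leaf 1760)) (.node (.leaf 1064) (.leaf 2126)))) (.node (.node (.node (.leaf 375) (.leaf 1233)) (.node (.leaf 741) (.leaf 1407))) (.node (.node (.leaf 752) (.leaf 555)) (.node (.leaf 1377) (.leaf 2024)))))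

def certSNext183 : Janko.Tree (ℕ) :=
  (.node (.node (.node (.node (.node (.leaf 169) (.leaf 2165)) (.leaf 1513)) (.node (.leaf 905) (.leaf 1275))) (.node (.node (.leaf 578) (.leaf 1761)) (.node (.leaf 1244) (.leaf 729)))) (.node (.node (.node (.leaf 144) (.leaf 770)) (.node (.leaf 1096) (.leaf 1478))) (.node (.node (.leaf 753) (.leaf 151)) (.node (.leaf 584) (.leaf 2186)))))

def certSNext184 : Janko.Tree (ℕ) :=
  (.node (.node (.node (.node (.node (.leaf 170) (.leaf 1552)) (.leaf 1514)) (.node (.leaf 743) (.leaf 1815))) (.node (.node (.leaf 579) (.leaf 1253)) (.node (.leaf 482) (.leaf 845)))) (.node (.node (.node (.leaf 376) (.leaf 1642)) (.node (.leaf 485) (.leaf 1061))) (.node (.node (.leaf 754) (.leaf 1708)) (.node (.leaf 1378) (.leaf 2187)))))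

def certSNext185 : Janko.Tree (ℕ) :=
  (.node (.node (.node (.node (.node (.leaf 171) (.leaf 2228)) (.leaf 1515)) (.node (.leaf 807) (.leaf 1925))) (.node (.node (.leaf 332) (.leaf 1053)) (.node (.leaf 1245) (.leaf 226)))) (.node (.node (.node (.leaf 119) (.leaf 1643)) (.node (.leaf 1097) (.leaf 1772))) (.node (.node (.leaf 755) (.leaf 1882)) (.node (.leaf 998) (.leaf 2136)))))

def certSNext186 : Janko.Tree (ℕ) :=
  (.node (.node (.node (.node (.node (.leaf 147) (.leaf 2228)) (.leaf 1395)) (.node (.leaf 337) (.leaf 1752))) (.node (.node (.leaf 83) (.leaf 1072)) (.node (.leaf 1246) (.leaf 2127)))) (.node (.node (.node (.leaf 377) (.leaf 1644)) (.node (.leaf 463) (.leaf 696))) (.node (.node (.leaf 756) (.leaf 710)) (.node (.leaf 244) (.leaf 2102)))))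

def certSNext187 : Janko.Tree (ℕ) :=
  (.node (.node (.node (.node (.node (.leaf 172) (.leaf 495)) (.leaf 414)) (.node (.leaf 925) (.leaf 1973))) (.node (.node (.leaf 580) (.leaf 1762)) (.node (.leaf 1247) (.leaf 1872)))) (.node (.node (.node (.leaf 378) (.leaf 1124)) (.node (.leaf 1098) (.leaf 1937))) (.node (.node (.leaf 757) (.leaf 976)) (.node (.leaf 635) (.leaf 417)))))

def certSNext188 : Janko.Tree (ℕ) :=
  (.node (.node (.node (.node (.node (.leaf 113) (.leaf 1340)) (.leaf 1308)) (.node (.leaf 445) (.leaf 1215))) (.node (.node (.leaf 581) (.leaf 664)) (.node (.leaf 559) (.leaf 1220)))) (.node (.node (.node (.leaf 379) (.leaf 1212)) (.node (.leaf 1099) (.leaf 1379))) (.node (.node (.leaf 758) (.leaf 1883)) (.node (.leaf 1084) (.leaf 2109)))))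

def certSNext189 : Janko.Tree (ℕ) :=
  (.node (.node (.node (.node (.node (.leaf 173) (.leaf 959)) (.leaf 1516)) (.node (.leaf 278) (.leaf 1750))) (.node (.node (.leaf 542) (.leaf 1002)) (.node (.leaf 1248) (.leaf 2021)))) (.node (.node (.node (.leaf 360) (.leaf 1625)) (.node (.leaf 838) (.leaf 2060))) (.node (.node (.leaf 759) (.leaf 1601)) (.node (.leaf 1379) (.leaf 1840)))))

def certSNext190 : Janko.Tree (ℕ) :=
  (.node (.node (.node (.node (.node (.leaf 174) (.leaf 1807)) (.leaf 1517)) (.node (.leaf 926) (.leaf 1974))) (.node (.node (.leaf 582) (.leaf 484)) (.node (.leaf 1249) (.leaf 1846)))) (.node (.node (.node (.leaf 380) (.leaf 821)) (.node (.leaf 1100) (.leaf 2061))) (.node (.node (.leaf 760) (.leaf 882)) (.node (.leaf 476) (.leaf 1196)))))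

def certSNext191 : Janko.Tree (ℕ) :=
  (.node (.node (.node (.node (.node (.leaf 175) (.leaf 2072)) (.leaf 1518)) (.node (.leaf 15) (.leaf 1975))) (.node (.node (.leaf 583) (.leaf 1007)) (.node (.leaf 1250) (.leaf 1264)))) (.node (.node (.node (.leaf 381) (.leaf 1645)) (.node (.leaf 187) (.leaf 1452))) (.node (.node (.leaf 185) (.leaf 1769)) (.node (.leaf 1380) (.leaf 1789)))))

def certSNext192 : Janko.Tree (ℕ) :=
  (.node (.node (.node (.node (.node (.leaf 105) (.leaf 2207)) (.leaf 1519)) (.node (.leaf 16) (.leaf 1838))) (.node (.node (.leaf 584) (.leaf 1059)) (.node (.leaf 795) (.leaf 929)))) (.node (.node (.node (.leaf 382) (.leaf 1646)) (.node (.leaf 524) (.leaf 1592))) (.node (.node (.leaf 709) (.leaf 533)) (.node (.leaf 1381) (.leaf 2188)))))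

def certSNext193 : Janko.Tree (ℕ) :=
  (.node (.node (.node (.node (.node (.leaf 128) (.leaf 2085)) (.leaf 1345)) (.node (.leaf 462) (.leaf 1401))) (.node (.node (.leaf 48) (.leaf 1763)) (.node (.leaf 1251) (.leaf 2065)))) (.node (.node (.node (.leaf 383) (.leaf 1332)) (.node (.leaf 1101) (.leaf 2062))) (.node (.node (.leaf 761) (.leaf 1884)) (.node (.leaf 222) (.leaf 2119)))))

def certSNext194 : Janko.Tree (ℕ) :=
  (.node (.node (.node (.node (.node (.leaf 54) (.leaf 1665)) (.leaf 1374)) (.node (.leaf 659) (.leaf 1976))) (.node (.node (.leaf 368) (.leaf 1764)) (.node (.leaf 588) (.leaf 1284)))) (.node (.node (.node (.leaf 384) (.leaf 1647)) (.node (.leaf 1102) (.leaf 2063))) (.node (.node (.leaf 498) (.leaf 1261)) (.node (.leaf 1382) (.leaf 1894)))))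

def certSNext195 : Janko.Tree (ℕ) :=
  (.node (.node (.node (.node (.node (.leaf 176) (.leaf 1563)) (.leaf 1222)) (.node (.leaf 927) (.leaf 177))) (.node (.node (.leaf 537) (.leaf 224)) (.node (.leaf 1252) (.leaf 2128)))) (.node (.node (.node (.leaf 385) (.leaf 860)) (.node (.leaf 1103) (.leaf 2064))) (.node (.node (.leaf 762) (.leaf 438)) (.node (.leaf 1383) (.leaf 2189)))))

def certSNext196 : Janko.Tree (ℕ) :=
  (.node (.node (.node (.node (.node (.leaf 177) (.leaf 1039)) (.leaf 1520)) (.node (.leaf 928) (.leaf 640))) (.node (.node (.leaf 585) (.leaf 1765)) (.node (.leaf 1106) (.leaf 2129)))) (.node (.node (.node (.leaf 386) (.leaf 830)) (.node (.leaf 1104) (.leaf 1877))) (.node (.node (.leaf 423) (.leaf 1885)) (.node (.leaf 1384) (.leaf 1953)))))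

def certSNext197 : Janko.Tree (ℕ) :=
  (.node (.node (.node (.node (.node (.leaf 178) (.leaf 1089)) (.leaf 1521)) (.node (.leaf 929) (.leaf 1977))) (.node (.node (.leaf 586) (.leaf 1758)) (.node (.leaf 1253) (.leaf 2130)))) (.node (.node (.node (.leaf 387) (.leaf 1372)) (.node (.leaf 726) (.leaf 1526))) (.node (.node (.leaf 763) (.leaf 1519)) (.node (.leaf 1385) (.leaf 1566)))))

def certSNext198 : Janko.Tree (ℕ) :=
  (.node (.node (.node (.node (.node (.leaf 179) (.leaf 2020)) (.leaf 857)) (.node (.leaf 930) (.leaf 1852))) (.node (.node (.leaf 587) (.leaf 283)) (.node (.leaf 1254) (.leaf 1581)))) (.node (.node (.node (.leaf 388) (.leaf 1648)) (.node (.leaf 1105) (.leaf 955))) (.node (.node (.leaf 764) (.leaf 1787)) (.node (.leaf 1386) (.leaf 1979)))))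

def certSNext199 : Janko.Tree (ℕ) :=
  (.node (.node (.node (.node (.node (.leaf 180) (.leaf 1713)) (.leaf 579)) (.node (.leaf 931) (.leaf 848))) (.node (.node (.leaf 588) (.leaf 1766)) (.node (.leaf 556) (.leaf 1551)))) (.node (.node (.node (.leaf 389) (.leaf 950)) (.node (.leaf 1106) (.leaf 1868))) (.node (.node (.leaf 765) (.leaf 1886)) (.node (.leaf 986) (.leaf 1966)))))

def certSNext200 : Janko.Tree (ℕ) :=
  (.node (.node (.node (.node (.node (.leaf 181) (.leaf 1038)) (.leaf 1522)) (.node (.leaf 397) (.leaf 1645))) (.node (.node (.leaf 589) (.leaf 137)) (.node (.leaf 1255) (.leaf 1491)))) (.node (.node (.node (.leaf 390) (.leaf 1414)) (.node (.leaf 965) (.leaf 2065))) (.node (.node (.leaf 766) (.leaf 1114)) (.node (.leaf 111) (.leaf 1090)))))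

def certSNext201 : Janko.Tree (ℕ) :=
  (.node (.node (.node (.node (.node (.leaf 182) (.leaf 2229)) (.leaf 1312)) (.node (.leaf 932) (.leaf 1033))) (.node (.node (.leaf 581) (.leaf 1767)) (.node (.leaf 1256) (.leaf 1154)))) (.node (.node (.node (.leaf 391) (.leaf 1649)) (.node (.leaf 1107) (.leaf 1367))) (.node (.node (.leaf 767) (.leaf 1855)) (.node (.leaf 475) (.leaf 2179)))))

def certSNext202 : Janko.Tree (ℕ) :=
  (.node (.node (.node (.node (.node (.leaf 183) (.leaf 1951)) (.leaf 1523)) (.node (.leaf 622) (.leaf 1978))) (.node (.node (.leaf 436) (.leaf 1768)) (.node (.leaf 1257) (.leaf 505)))) (.node (.node (.node (.leaf 208) (.leaf 374)) (.node (.leaf 1108) (.leaf 2066))) (.node (.node (.leaf 768) (.leaf 1887)) (.node (.leaf 979) (.leaf 2190)))))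

def certSNext203 : Janko.Tree (ℕ) :=
  (.node (.node (.node (.node (.node (.leaf 184) (.leaf 2129)) (.leaf 1524)) (.node (.leaf 933) (.leaf 1979))) (.node (.node (.leaf 590) (.leaf 1520)) (.node (.leaf 1258) (.leaf 629)))) (.node (.node (.node (.leaf 392) (.leaf 1650)) (.node (.leaf 824) (.leaf 2067))) (.node (.node (.leaf 769) (.leaf 1799)) (.node (.leaf 1387) (.leaf 2157)))))

def certSNext204 : Janko.Tree (ℕ) :=
  (.node (.node (.node (.node (.node (.leaf 185) (.leaf 2230)) (.leaf 466)) (.node (.leaf 934) (.leaf 1980))) (.node (.node (.leaf 591) (.leaf 1769)) (.node (.leaf 1259) (.leaf 1391)))) (.node (.node (.node (.leaf 393) (.leaf 859)) (.node (.leaf 1001) (.leaf 952))) (.node (.node (.leaf 770) (.leaf 1803)) (.node (.leaf 755) (.leaf 1693)))))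

def certSNext205 : Janko.Tree (ℕ) :=
  (.node (.node (.node (.node (.node (.leaf 186) (.leaf 1162)) (.leaf 758)) (.node (.leaf 935) (.leaf 1564))) (.node (.node (.leaf 552) (.leaf 126)) (.node (.leaf 1260) (.leaf 2056)))) (.node (.node (.node (.leaf 394) (.leaf 103)) (.node (.leaf 641) (.leaf 1681))) (.node (.node (.leaf 771) (.leaf 1888)) (.node (.leaf 1388) (.leaf 1486)))))

def certSNext206 : Janko.Tree (ℕ) :=
  (.node (.node (.node (.node (.node (.leaf 187) (.leaf 1934)) (.leaf 385)) (.node (.leaf 936) (.leaf 1981))) (.node (.node (.leaf 592) (.leaf 1292)) (.node (.leaf 877) (.leaf 1101)))) (.node (.node (.node (.leaf 395) (.leaf 1112)) (.node (.leaf 1109) (.leaf 1409))) (.node (.node (.leaf 772) (.leaf 1889)) (.node (.leaf 346) (.leaf 2146)))))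

def certSNext207 : Janko.Tree (ℕ) :=
  (.node (.node (.node (.node (.node (.leaf 188) (.leaf 1506)) (.leaf 1525)) (.node (.leaf 910) (.leaf 1922))) (.node (.node (.leaf 593) (.leaf 1770)) (.node (.leaf 1261) (.leaf 2131)))) (.node (.node (.node (.leaf 396) (.leaf 1651)) (.node (.leaf 599) (.leaf 1608))) (.node (.node (.leaf 773) (.leaf 783)) (.node (.leaf 1389) (.leaf 1534)))))

def certSNext208 : Janko.Tree (ℕ) :=
  (.node (.node (.node (.node (.node (.leaf 189) (.leaf 2231)) (.leaf 1526)) (.node (.leaf 937) (.leaf 1982))) (.node (.node (.leaf 594) (.leaf 1618)) (.node (.leaf 218) (.leaf 1615)))) (.node (.node (.node (.leaf 248) (.leaf 1652)) (.node (.leaf 1110) (.leaf 2060))) (.node (.node (.leaf 774) (.leaf 1662)) (.node (.leaf 827) (.leaf 1996)))))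

def certSNext209 : Janko.Tree (ℕ) :=
  (.node (.node (.node (.node (.node (.leaf 51) (.leaf 2232)) (.leaf 1474)) (.node (.leaf 938) (.leaf 1983))) (.node (.node (.leaf 232) (.leaf 1128)) (.node (.leaf 1262) (.leaf 1329)))) (.node (.node (.node (.leaf 397) (.leaf 615)) (.node (.leaf 365) (.leaf 2068))) (.node (.node (.leaf 775) (.leaf 1890)) (.node (.leaf 655) (.leaf 1764)))))

def certSNext210 : Janko.Tree (ℕ) :=
  (.node (.node (.node (.node (.node (.leaf 190) (.leaf 1973)) (.leaf 1527)) (.node (.leaf 939) (.leaf 1984))) (.node (.node (.leaf 595) (.leaf 1771)) (.node (.leaf 1263) (.leaf 1836)))) (.node (.node (.node (.leaf 398) (.leaf 1653)) (.node (.leaf 1111) (.leaf 1361))) (.node (.node (.leaf 776) (.leaf 1712)) (.node (.leaf 45) (.leaf 468)))))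

def certSNext211 : Janko.Tree (ℕ) :=
  (.node (.node (.node (.node (.node (.leaf 191) (.leaf 2233)) (.leaf 1528)) (.node (.leaf 940) (.leaf 202))) (.node (.node (.leaf 209) (.leaf 1514)) (.node (.leaf 534) (.leaf 1102)))) (.node (.node (.node (.leaf 399) (.leaf 1654)) (.node (.leaf 1112) (.leaf 1338))) (.node (.node (.leaf 777) (.leaf 1891)) (.node (.leaf 930) (.leaf 2191)))))

def certSNext212 : Janko.Tree (ℕ) :=
  (.node (.node (.node (.node (.node (.leaf 192) (.leaf 2198)) (.leaf 1380)) (.node (.leaf 777) (.leaf 1763))) (.node (.node (.leaf 596) (.leaf 545)) (.node (.leaf 1264) (.leaf 2081)))) (.node (.node (.node (.leaf 400) (.leaf 1655)) (.node (.leaf 1113) (.leaf 902))) (.node (.node (.leaf 778) (.leaf 1482)) (.node (.leaf 1390) (.leaf 1388)))))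

def certSNext213 : Janko.Tree (ℕ) :=
  (.node (.node (.node (.node (.node (.leaf 193) (.leaf 2188)) (.leaf 1529)) (.node (.leaf 608) (.leaf 1241))) (.node (.node (.leaf 597) (.leaf 1104)) (.node (.leaf 509) (.leaf 1093)))) (.node (.node (.node (.leaf 401) (.leaf 663)) (.node (.leaf 1114) (.leaf 1319))) (.node (.node (.leaf 779) (.leaf 181)) (.node (.leaf 1391) (.leaf 999)))))

def certSNext214 : Janko.Tree (ℕ) :=
  (.node (.node (.node (.node (.node (.leaf 194) (.leaf 2134)) (.leaf 1530)) (.node (.leaf 941) (.leaf 761))) (.node (.node (.leaf 598) (.leaf 1772)) (.node (.leaf 120) (.leaf 1547)))) (.node (.node (.node (.leaf 402) (.leaf 1656)) (.node (.leaf 984) (.leaf 1680))) (.node (.node (.leaf 780) (.leaf 1605)) (.node (.leaf 1392) (.leaf 1756)))))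

def certSNext215 : Janko.Tree (ℕ) :=
  (.node (.node (.node (.node (.node (.leaf 88) (.leaf 2226)) (.leaf 1531)) (.node (.leaf 680) (.leaf 1985))) (.node (.node (.leaf 589) (.leaf 86)) (.node (.leaf 1194) (.leaf 1776)))) (.node (.node (.node (.leaf 403) (.leaf 1657)) (.node (.leaf 1115) (.leaf 1644))) (.node (.node (.leaf 290) (.leaf 413)) (.node (.leaf 1393) (.leaf 2137)))))

def certSNext216 : Janko.Tree (ℕ) :=
  (.node (.node (.node (.node (.node (.leaf 195) (.leaf 2194)) (.leaf 1532)) (.node (.leaf 165) (.leaf 1521))) (.node (.node (.leaf 599) (.leaf 1400)) (.node (.leaf 1265) (.leaf 2132)))) (.node (.node (.node (.leaf 404) (.leaf 531)) (.node (.leaf 1116) (.leaf 2069))) (.node (.node (.leaf 781) (.leaf 1892)) (.node (.leaf 326) (.leaf 2192)))))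

def certSNext217 : Janko.Tree (ℕ) :=
  (.node (.node (.node (.node (.node (.leaf 146) (.leaf 2135)) (.leaf 1533)) (.node (.leaf 942) (.leaf 1851))) (.node (.node (.leaf 600) (.leaf 561)) (.node (.leaf 844) (.leaf 1981)))) (.node (.node (.node (.leaf 405) (.leaf 1658)) (.node (.leaf 1117) (.leaf 1100))) (.node (.node (.leaf 782) (.leaf 896)) (.node (.leaf 1394) (.leaf 972)))))

def certSNext218 : Janko.Tree (ℕ) :=
  (.node (.node (.node (.node (.node (.leaf 196) (.leaf 1754)) (.leaf 1534)) (.node (.leaf 943) (.leaf 1986))) (.node (.node (.leaf 601) (.leaf 1773)) (.node (.leaf 557) (.leaf 1560)))) (.node (.node (.node (.leaf 406) (.leaf 359)) (.node (.leaf 472) (.leaf 2070))) (.node (.node (.leaf 783) (.leaf 1893)) (.node (.leaf 670) (.leaf 1880)))))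

def certSNext219 : Janko.Tree (ℕ) :=
  (.node (.node (.node (.node (.node (.leaf 197) (.leaf 1928)) (.leaf 1535)) (.node (.leaf 944) (.leaf 1987))) (.node (.node (.leaf 602) (.leaf 1774)) (.node (.leaf 29) (.leaf 1266)))) (.node (.node (.node (.leaf 407) (.leaf 271)) (.node (.leaf 1118) (.leaf 1967))) (.node (.node (.leaf 708) (.leaf 1894)) (.node (.leaf 1395) (.leaf 1818)))))

def certSNext220 : Janko.Tree (ℕ) :=
  (.node (.node (.node (.node (.node (.leaf 198) (.leaf 2234)) (.leaf 1431)) (.node (.leaf 945) (.leaf 1227))) (.node (.node (.leaf 603) (.leaf 1396)) (.node (.leaf 1266) (.leaf 1151)))) (.node (.node (.node (.leaf 408) (.leaf 1659)) (.node (.leaf 34) (.leaf 1741))) (.node (.node (.leaf 784) (.leaf 1775)) (.node (.leaf 1231) (.leaf 2182)))))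

def certSNext221 : Janko.Tree (ℕ) :=
  (.node (.node (.node (.node (.node (.leaf 199) (.leaf 856)) (.leaf 964)) (.node (.leaf 699) (.leaf 1911))) (.node (.node (.leaf 604) (.leaf 1406)) (.node (.leaf 1171) (.leaf 1824)))) (.node (.node (.node (.leaf 409) (.leaf 1660)) (.node (.leaf 1119) (.leaf 1413))) (.node (.node (.leaf 596) (.leaf 1895)) (.node (.leaf 1081) (.leaf 1688)))))

def certSNext222 : Janko.Tree (ℕ) :=
  (.node (.node (.node (.node (.node (.leaf 200) (.leaf 2204)) (.leaf 1536)) (.node (.leaf 478) (.leaf 610))) (.node (.node (.leaf 605) (.leaf 1606)) (.node (.leaf 1161) (.leaf 2023)))) (.node (.node (.node (.leaf 410) (.leaf 1661)) (.node (.leaf 1120) (.leaf 1489))) (.node (.node (.leaf 785) (.leaf 1508)) (.node (.leaf 1130) (.leaf 2168)))))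

def certSNext223 : Janko.Tree (ℕ) :=
  (.node (.node (.node (.node (.node (.leaf 201) (.leaf 695)) (.leaf 766)) (.node (.leaf 946) (.leaf 1226))) (.node (.node (.leaf 606) (.leaf 384)) (.node (.leaf 1148) (.leaf 2133)))) (.node (.node (.node (.leaf 132) (.leaf 1386)) (.node (.leaf 1121) (.leaf 1897))) (.node (.node (.leaf 786) (.leaf 1450)) (.node (.leaf 1396) (.leaf 2036)))))

def certSNext224 : Janko.Tree (ℕ) :=
  (.node (.node (.node (.node (.node (.leaf 202) (.leaf 2103)) (.leaf 1531)) (.node (.leaf 383) (.leaf 1988))) (.node (.node (.leaf 309) (.leaf 971)) (.node (.leaf 1267) (.leaf 1861)))) (.node (.node (.node (.leaf 411) (.leaf 1318)) (.node (.leaf 931) (.leaf 2071))) (.node (.node (.leaf 787) (.leaf 1882)) (.node (.leaf 1397) (.leaf 1473)))))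

def certSNext225 : Janko.Tree (ℕ) :=
  (.node (.node (.node (.node (.node (.leaf 203) (.leaf 2192)) (.leaf 1160)) (.node (.leaf 947) (.leaf 1249))) (.node (.node (.leaf 607) (.leaf 1775)) (.node (.leaf 274) (.leaf 2134)))) (.node (.node (.node (.leaf 276) (.leaf 1662)) (.node (.leaf 1122) (.leaf 1964))) (.node (.node (.leaf 788) (.leaf 340)) (.node (.leaf 1229) (.leaf 2013)))))

def certSNext226 : Janko.Tree (ℕ) :=
  (.node (.node (.node (.node (.node (.leaf 204) (.leaf 1355)) (.leaf 130)) (.node (.leaf 948) (.leaf 1710))) (.node (.node (.leaf 608) (.leaf 1776)) (.node (.leaf 212) (.leaf 1477)))) (.node (.node (.node (.leaf 412) (.leaf 1663)) (.node (.leaf 624) (.leaf 2072))) (.node (.node (.leaf 789) (.leaf 396)) (.node (.leaf 538) (.leaf 2193)))))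

def certSNext227 : Janko.Tree (ℕ) :=
  (.node (.node (.node (.node (.node (.leaf 0) (.leaf 1373)) (.leaf 1537)) (.node (.leaf 949) (.leaf 1989))) (.node (.node (.leaf 609) (.leaf 1777)) (.node (.leaf 1268) (.leaf 2045)))) (.node (.node (.node (.leaf 311) (.leaf 603)) (.node (.leaf 742) (.leaf 587))) (.node (.node (.leaf 790) (.leaf 1896)) (.node (.leaf 829) (.leaf 2194)))))

def certSNext228 : Janko.Tree (ℕ) :=
  (.node (.node (.node (.node (.node (.leaf 205) (.leaf 727)) (.leaf 1538)) (.node (.leaf 950) (.leaf 1762))) (.node (.node (.leaf 580) (.leaf 1778)) (.node (.leaf 1063) (.leaf 1092)))) (.node (.node (.node (.leaf 413) (.leaf 1516)) (.node (.leaf 618) (.leaf 1641))) (.node (.node (.leaf 791) (.leaf 1897)) (.node (.leaf 1398) (.leaf 1438)))))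

def certSNext229 : Janko.Tree (ℕ) :=
  (.node (.node (.node (.node (.node (.leaf 206) (.leaf 2235)) (.leaf 1129)) (.node (.leaf 951) (.leaf 1278))) (.node (.node (.leaf 610) (.leaf 470)) (.node (.leaf 956) (.leaf 1941)))) (.node (.node (.node (.leaf 228) (.leaf 286)) (.node (.leaf 983) (.leaf 1984))) (.node (.node (.leaf 792) (.leaf 1642)) (.node (.leaf 764) (.leaf 1778)))))

def certSNext230 : Janko.Tree (ℕ) :=
  (.node (.node (.node (.node (.node (.leaf 207) (.leaf 2178)) (.leaf 66)) (.node (.leaf 492) (.leaf 335))) (.node (.node (.leaf 611) (.leaf 1469)) (.node (.leaf 892) (.leaf 2135)))) (.node (.node (.node (.leaf 414) (.leaf 835)) (.node (.leaf 73) (.leaf 2073))) (.node (.node (.leaf 607) (.leaf 1898)) (.node (.leaf 1399) (.leaf 1471)))))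

def certSNext231 : Janko.Tree (ℕ) :=
  (.node (.node (.node (.node (.node (.leaf 208) (.leaf 2236)) (.leaf 1539)) (.node (.leaf 952) (.leaf 1652))) (.node (.node (.leaf 612) (.leaf 1624)) (.node (.leaf 1269) (.leaf 1024)))) (.node (.node (.node (.leaf 375) (.leaf 1664)) (.node (.leaf 382) (.leaf 1889))) (.node (.node (.leaf 793) (.leaf 198)) (.node (.leaf 1400) (.leaf 1780)))))

def certSNext232 : Janko.Tree (ℕ) :=
  (.node (.node (.node (.node (.node (.leaf 209) (.leaf 2155)) (.leaf 1352)) (.node (.leaf 953) (.leaf 500))) (.node (.node (.leaf 613) (.leaf 1779)) (.node (.leaf 1270) (.leaf 1869)))) (.node (.node (.node (.leaf 415) (.leaf 886)) (.node (.leaf 1123) (.leaf 2038))) (.node (.node (.leaf 794) (.leaf 1620)) (.node (.leaf 1401) (.leaf 2164)))))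

def certSNext233 : Janko.Tree (ℕ) :=
  (.node (.node (.node (.node (.node (.leaf 9) (.leaf 2225)) (.leaf 46)) (.node (.leaf 645) (.leaf 1543))) (.node (.node (.leaf 614) (.leaf 280)) (.node (.leaf 1271) (.leaf 728)))) (.node (.node (.node (.leaf 416) (.leaf 1665)) (.node (.leaf 102) (.leaf 1945))) (.node (.node (.leaf 795) (.leaf 1899)) (.node (.leaf 841) (.leaf 1687)))))

def certSNext234 : Janko.Tree (ℕ) :=
  (.node (.node (.node (.node (.node (.leaf 210) (.leaf 2237)) (.leaf 1179)) (.node (.leaf 954) (.leaf 570))) (.node (.node (.leaf 389) (.leaf 1780)) (.node (.leaf 862) (.leaf 2136)))) (.node (.node (.node (.leaf 417) (.leaf 1666)) (.node (.leaf 1067) (.leaf 893))) (.node (.node (.leaf 511) (.leaf 1900)) (.node (.leaf 1343) (.leaf 2195)))))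

def certSNext235 : Janko.Tree (ℕ) :=
  (.node (.node (.node (.node (.node (.leaf 170) (.leaf 2200)) (.leaf 1540)) (.node (.leaf 955) (.leaf 1661))) (.node (.node (.leaf 554) (.leaf 1781)) (.node (.leaf 1272) (.leaf 1502)))) (.node (.node (.node (.leaf 418) (.leaf 1667)) (.node (.leaf 871) (.leaf 1623))) (.node (.node (.leaf 796) (.leaf 1901)) (.node (.leaf 1055) (.leaf 1610)))))

def certSNext236 : Janko.Tree (ℕ) :=
  (.node (.node (.node (.node (.node (.leaf 211) (.leaf 1050)) (.leaf 1348)) (.node (.leaf 956) (.leaf 833))) (.node (.node (.leaf 615) (.leaf 1782)) (.node (.leaf 574) (.leaf 2137)))) (.node (.node (.node (.leaf 419) (.leaf 1668)) (.node (.leaf 773) (.leaf 2074))) (.node (.node (.leaf 797) (.leaf 1792)) (.node (.leaf 1402) (.leaf 1946)))))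

def certSNext237 : Janko.Tree (ℕ) :=
  (.node (.node (.node (.node (.node (.leaf 212) (.leaf 1856)) (.leaf 1339)) (.node (.leaf 957) (.leaf 924))) (.node (.node (.leaf 616) (.leaf 1783)) (.node (.leaf 1273) (.leaf 1023)))) (.node (.node (.node (.leaf 420) (.leaf 1669)) (.node (.leaf 867) (.leaf 2037))) (.node (.node (.leaf 798) (.leaf 1820)) (.node (.leaf 1403) (.leaf 1734)))))

def certSNext238 : Janko.Tree (ℕ) :=
  (.node (.node (.node (.node (.node (.leaf 139) (.leaf 2152)) (.leaf 1541)) (.node (.leaf 958) (.leaf 1660))) (.node (.node (.leaf 617) (.leaf 1602)) (.node (.leaf 1274) (.leaf 2007)))) (.node (.node (.node (.leaf 421) (.leaf 1670)) (.node (.leaf 1124) (.leaf 1817))) (.node (.node (.leaf 799) (.leaf 89)) (.node (.leaf 1404) (.leaf 2031)))))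

def certSNext239 : Janko.Tree (ℕ) :=
  (.node (.node (.node (.node (.node (.leaf 213) (.leaf 1821)) (.leaf 1542)) (.node (.leaf 380) (.leaf 1990))) (.node (.node (.leaf 582) (.leaf 1548)) (.node (.leaf 921) (.leaf 2138)))) (.node (.node (.node (.leaf 422) (.leaf 1671)) (.node (.leaf 148) (.leaf 2075))) (.node (.node (.leaf 19) (.leaf 1902)) (.node (.leaf 1405) (.leaf 2080)))))

def certSNext240 : Janko.Tree (ℕ) :=
  (.node (.node (.node (.node (.node (.leaf 214) (.leaf 1842)) (.leaf 1543)) (.node (.leaf 959) (.leaf 1143))) (.node (.node (.leaf 480) (.leaf 1784)) (.node (.leaf 1275) (.leaf 2050)))) (.node (.node (.node (.leaf 291) (.leaf 1672)) (.node (.leaf 736) (.leaf 1761))) (.node (.node (.leaf 426) (.leaf 1550)) (.node (.leaf 1406) (.leaf 2196)))))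

def certSNext241 : Janko.Tree (ℕ) :=
  (.node (.node (.node (.node (.node (.leaf 215) (.leaf 2108)) (.leaf 1049)) (.node (.leaf 960) (.leaf 913))) (.node (.node (.leaf 618) (.leaf 901)) (.node (.leaf 1276) (.leaf 358)))) (.node (.node (.node (.leaf 3) (.leaf 961)) (.node (.leaf 1125) (.leaf 1152))) (.node (.node (.leaf 800) (.leaf 1565)) (.node (.leaf 1322) (.leaf 1041)))))

def certSNext242 : Janko.Tree (ℕ) :=
  (.node (.node (.node (.node (.node (.leaf 216) (.leaf 2235)) (.leaf 796)) (.node (.leaf 961) (.leaf 572))) (.node (.node (.leaf 619) (.leaf 1785)) (.node (.leaf 1277) (.leaf 1728)))) (.node (.node (.node (.leaf 4) (.leaf 1673)) (.node (.leaf 1126) (.leaf 1748))) (.node (.node (.leaf 801) (.leaf 1796)) (.node (.leaf 1330) (.leaf 1383)))))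

def certSNext243 : Janko.Tree (ℕ) :=
  (.node (.node (.node (.node (.node (.leaf 217) (.leaf 2227)) (.leaf 1083)) (.node (.leaf 962) (.leaf 1991))) (.node (.node (.leaf 620) (.leaf 1221)) (.node (.leaf 689) (.leaf 1265)))) (.node (.node (.node (.leaf 423) (.leaf 1674)) (.node (.leaf 1127) (.leaf 2076))) (.node (.node (.leaf 802) (.leaf 1903)) (.node (.leaf 1407) (.leaf 419)))))

def certSNext244 : Janko.Tree (ℕ) :=
  (.node (.node (.node (.node (.node (.leaf 70) (.leaf 2173)) (.leaf 1153)) (.node (.leaf 963) (.leaf 1992))) (.node (.node (.leaf 621) (.leaf 1056)) (.node (.leaf 1278) (.leaf 1919)))) (.node (.node (.node (.leaf 315) (.leaf 1675)) (.node (.leaf 461) (.leaf 1324))) (.node (.node (.leaf 803) (.leaf 1535)) (.node (.leaf 679) (.leaf 1573)))))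

def certSNext245 : Janko.Tree (ℕ) :=
  (.node (.node (.node (.node (.node (.leaf 218) (.leaf 2022)) (.leaf 1108)) (.node (.leaf 471) (.leaf 1307))) (.node (.node (.leaf 622) (.leaf 1786)) (.node (.leaf 926) (.leaf 2139)))) (.node (.node (.node (.leaf 424) (.leaf 883)) (.node (.leaf 626) (.leaf 1714))) (.node (.node (.leaf 17) (.leaf 1904)) (.node (.leaf 1408) (.leaf 1455)))))

def certSNext246 : Janko.Tree (ℕ) :=
  (.node (.node (.node (.node (.node (.leaf 219) (.leaf 1537)) (.leaf 487)) (.node (.leaf 964) (.leaf 1446))) (.node (.node (.leaf 623) (.leaf 1726)) (.node (.leaf 1279) (.leaf 2140)))) (.node (.node (.node (.leaf 425) (.leaf 1676)) (.node (.leaf 1128) (.leaf 2077))) (.node (.node (.leaf 804) (.leaf 1905)) (.node (.leaf 878) (.leaf 1819)))))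

def certSNext247 : Janko.Tree (ℕ) :=
  (.node (.node (.node (.node (.node (.leaf 211) (.leaf 1858)) (.leaf 1544)) (.node (.leaf 912) (.leaf 1993))) (.node (.node (.leaf 624) (.leaf 1787)) (.node (.leaf 1280) (.leaf 2141)))) (.node (.node (.node (.leaf 426) (.leaf 1553)) (.node (.leaf 57) (.leaf 2078))) (.node (.node (.leaf 300) (.leaf 1879)) (.node (.leaf 1409) (.leaf 1785)))))

def certSNext248 : Janko.Tree (ℕ) :=
  (.node (.node (.node (.node (.node (.leaf 220) (.leaf 2238)) (.leaf 1461)) (.node (.leaf 600) (.leaf 1994))) (.node (.node (.leaf 625) (.leaf 1411)) (.node (.leaf 1281) (.leaf 1619)))) (.node (.node (.node (.leaf 427) (.leaf 1240)) (.node (.leaf 1129) (.leaf 2044))) (.node (.node (.leaf 805) (.leaf 1906)) (.node (.leaf 1410) (.leaf 1466)))))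

def certSNext249 : Janko.Tree (ℕ) :=
  (.node (.node (.node (.node (.node (.leaf 221) (.leaf 2043)) (.leaf 1530)) (.node (.leaf 965) (.leaf 1675))) (.node (.node (.leaf 220) (.leaf 1788)) (.node (.leaf 1282) (.leaf 2142)))) (.node (.node (.node (.leaf 428) (.leaf 1546)) (.node (.leaf 1130) (.leaf 1439))) (.node (.node (.leaf 523) (.leaf 1730)) (.node (.leaf 1411) (.leaf 1723)))))

def certSNext250 : Janko.Tree (ℕ) :=
  (.node (.node (.node (.node (.node (.leaf 222) (.leaf 1493)) (.leaf 1405)) (.node (.leaf 966) (.leaf 1657))) (.node (.node (.leaf 626) (.leaf 1789)) (.node (.leaf 1283) (.leaf 1669)))) (.node (.node (.node (.leaf 429) (.leaf 1282)) (.node (.leaf 420) (.leaf 1843))) (.node (.node (.leaf 806) (.leaf 1907)) (.node (.leaf 64) (.leaf 2039)))))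

def certSNext251 : Janko.Tree (ℕ) :=
  (.node (.node (.node (.node (.node (.leaf 223) (.leaf 1109)) (.leaf 1545)) (.node (.leaf 967) (.leaf 1995))) (.node (.node (.leaf 415) (.leaf 1716)) (.node (.leaf 1284) (.leaf 2092)))) (.node (.node (.node (.leaf 430) (.leaf 1677)) (.node (.leaf 1131) (.leaf 1883))) (.node (.node (.leaf 404) (.leaf 1527)) (.node (.leaf 1412) (.leaf 2090)))))

def certSNext252 : Janko.Tree (ℕ) :=
  (.node (.node (.node (.node (.node (.leaf 224) (.leaf 1983)) (.leaf 1546)) (.node (.leaf 968) (.leaf 1465))) (.node (.node (.leaf 627) (.leaf 1198)) (.node (.leaf 1285) (.leaf 298)))) (.node (.node (.node (.leaf 173) (.leaf 1678)) (.node (.leaf 1132) (.leaf 1117))) (.node (.node (.leaf 807) (.leaf 1908)) (.node (.leaf 1413) (.leaf 1512)))))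

def certSNext253 : Janko.Tree (ℕ) :=
  (.node (.node (.node (.node (.node (.leaf 225) (.leaf 2238)) (.leaf 1547)) (.node (.leaf 969) (.leaf 1971))) (.node (.node (.leaf 628) (.leaf 1603)) (.node (.leaf 1286) (.leaf 2083)))) (.node (.node (.node (.leaf 431) (.leaf 873)) (.node (.leaf 481) (.leaf 1404))) (.node (.node (.leaf 808) (.leaf 1203)) (.node (.leaf 1414) (.leaf 1239)))))

def certSNext254 : Janko.Tree (ℕ) :=
  (.node (.node (.node (.node (.node (.leaf 226) (.leaf 1200)) (.leaf 1548)) (.node (.leaf 186) (.leaf 1651))) (.node (.node (.leaf 629) (.leaf 1790)) (.node (.leaf 1287) (.leaf 1753)))) (.node (.node (.node (.leaf 62) (.leaf 1679)) (.node (.leaf 1029) (.leaf 2079))) (.node (.node (.leaf 809) (.leaf 1909)) (.node (.leaf 1415) (.leaf 2138)))))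

def certSNext255 : Janko.Tree (ℕ) :=
  (.node (.node (.node (.node (.node (.leaf 227) (.leaf 1328)) (.leaf 621)) (.node (.leaf 544) (.leaf 1996))) (.node (.node (.leaf 369) (.leaf 1791)) (.node (.leaf 1288) (.leaf 2099)))) (.node (.node (.node (.leaf 432) (.leaf 1680)) (.node (.leaf 1133) (.leaf 2008))) (.node (.node (.leaf 11) (.leaf 1575)) (.node (.leaf 1416) (.leaf 1931)))))

def certSNext : Janko.Tree (ℕ) :=
  (.node (.node (.node (.node (.node (.node (.node (.node certSNext0 certSNext128) (.node certSNext64 certSNext192)) (.node (.node certSNext32 certSNext160) (.node certSNext96 certSNext224))) (.node (.node (.node certSNext16 certSNext144) (.node certSNext80 certSNext208)) (.node (.node certSNext48 certSNext176) (.node certSNext112 certSNext240)))) (.node (.node (.node (.node certSNext8 certSNext136) (.node certSNext72 certSNext200)) (.node (.node certSNext40 certSNext168) (.node certSNext104 certSNext232))) (.node (.node (.node certSNext24 certSNext152) (.node certSNext88 certSNext216)) (.node (.node certSNext56 certSNext184) (.node certSNext120 certSNext248))))) (.node (.node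 (.node (.node (.node certSNext4 certSNext132) (.node certSNext68 certSNext196)) (.node (.node certSNext36 certSNext164) (.node certSNext100 certSNext228))) (.node (.node (.node certSNext20 certSNext148) (.node certSNext84 certSNext212)) (.node (.node certSNext52 certSNext180) (.node certSNext116 certSNext244)))) (.node (.node (.node (.node certSNext12 certSNext140) (.node certSNext76 certSNext204)) (.node (.node certSNext44 certSNext172) (.node certSNext108 certSNext236))) (.node (.node (.node certSNext28 certSNext156) (.node certSNext92 certSNext220)) (.node (.node certSNext60 certSNext188) (.node certSNext124 certSNext252)))))) (.node (.node (.node (.node (.node (.node certSNext2 certSNext130) (.node certSNext66 certSNext194)) (.node (.node certSNext34 certSNext162) (.node certSNext98 certSNext226))) (.node (.node (.node certSNext18 certSNext146) (.node certSNext82 certSNext210)) (.node (.node certSNext50 certSNext178) (.node certSNext114 certSNext242)))) (.node (.node (.node (.node certSNext10 certSNext138) (.node certSNext74 certSNext202)) (.node (.node certSNext42 certSNext170)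 (.node certSNext106 certSNext234))) (.node (.node (.node certSNext26 certSNext154) (.node certSNext90 certSNext218)) (.node (.node certSNext58 certSNext186) (.node certSNext122 certSNext250))))) (.node (.node (.node (.node (.node certSNext6 certSNext134) (.node certSNext70 certSNext198)) (.node (.node certSNext38 certSNext166) (.node certSNext102 certSNext230))) (.node (.node (.node certSNext22 certSNext150) (.node certSNext86 certSNext214)) (.node (.node certSNext54 certSNext182) (.node certSNext118 certSNext246)))) (.node (.node (.node (.node certSNext14 certSNext142) (.node certSNext78 certSNext206)) (.node (.node certSNext46 certSNext174) (.node certSNext110 certSNext238))) (.node (.node (.node certSNext30 certSNext158) (.node certSNext94 certSNext222)) (.node (.node certSNext62 certSNext190) (.node certSNext126 certSNext254))))))) (.node (.node (.node (.node (.node (.node (.node certSNext1 certSNext129) (.node certSNext65 certSNext193)) (.node (.node certSNext33 certSNext161) (.node certSNext97 certSNext225))) (.node (.node (.node certSNext17 certSNext145) (.node certSNext81 certSNext209))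 (.node (.node certSNext49 certSNext177) (.node certSNext113 certSNext241)))) (.node (.node (.node (.node certSNext9 certSNext137) (.node certSNext73 certSNext201)) (.node (.node certSNext41 certSNext169) (.node certSNext105 certSNext233))) (.node (.node (.node certSNext25 certSNext153) (.node certSNext89 certSNext217)) (.node (.node certSNext57 certSNext185) (.node certSNext121 certSNext249))))) (.node (.node (.node (.node (.node certSNext5 certSNext133) (.node certSNext69 certSNext197)) (.node (.node certSNext37 certSNext165) (.node certSNext101 certSNext229))) (.node (.node (.node certSNext21 certSNext149) (.node certSNext85 certSNext213)) (.node (.node certSNext53 certSNext181) (.node certSNext117 certSNext245)))) (.node (.node (.node (.node certSNext13 certSNext141) (.node certSNext77 certSNext205)) (.node (.node certSNext45 certSNext173) (.node certSNext109 certSNext237))) (.node (.node (.node certSNext29 certSNext157) (.node certSNext93 certSNext221)) (.node (.node certSNext61 certSNext189) (.node certSNext125 certSNext253)))))) (.node (.node (.node (.node (.node (.node certSNext3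 certSNext131) (.node certSNext67 certSNext195)) (.node (.node certSNext35 certSNext163) (.node certSNext99 certSNext227))) (.node (.node (.node certSNext19 certSNext147) (.node certSNext83 certSNext211)) (.node (.node certSNext51 certSNext179) (.node certSNext115 certSNext243)))) (.node (.node (.node (.node certSNext11 certSNext139) (.node certSNext75 certSNext203)) (.node (.node certSNext43 certSNext171) (.node certSNext107 certSNext235))) (.node (.node (.node certSNext27 certSNext155) (.node certSNext91 certSNext219)) (.node (.node certSNext59 certSNext187) (.node certSNext123 certSNext251))))) (.node (.node (.node (.node (.node certSNext7 certSNext135) (.node certSNext71 certSNext199)) (.node (.node certSNext39 certSNext167) (.node certSNext103 certSNext231))) (.node (.node (.node certSNext23 certSNext151) (.node certSNext87 certSNext215)) (.node (.node certSNext55 certSNext183) (.node certSNext119 certSNext247)))) (.node (.node (.node (.node certSNext15 certSNext143) (.node certSNext79 certSNext207)) (.node (.node certSNext47 certSNext175) (.node certSNext111 certSNext239))) (.node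 (.node (.node certSNext31 certSNext159) (.node certSNext95 certSNext223)) (.node (.node certSNext63 certSNext191) (.node certSNext127 certSNext255))))))))

def certSLab0 : Janko.Tree (List Bool) :=
  (.node (.node (.node (.node (.node (.leaf []) (.leaf [false, false, false, false, false, false, false, false, false])) (.leaf [false, false, false, false, false, false, false, false, false])) (.node (.leaf []) (.leaf []))) (.node (.node (.leaf []) (.leaf [])) (.node (.leaf []) (.leaf [false, false, false, false, false, false, false, false])))) (.node (.node (.node (.node (.leaf []) (.leaf [false, false, false, false, false, false])) (.leaf [])) (.node (.leaf []) (.leaf []))) (.node (.node (.leaf []) (.leaf [false, false, false, false, false, false, false, false])) (.node (.leaf []) (.leaf [])))))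

def certSLab1 : Janko.Tree (List Bool) :=
  (.node (.node (.node (.node (.node (.leaf []) (.leaf [false, false, false, false, false, false, false, false, false, false, false])) (.leaf [])) (.node (.leaf []) (.leaf [false, false, false, false, false, false, false, false, false, false, false]))) (.node (.node (.leaf []) (.leaf [])) (.node (.leaf []) (.leaf [false, false, false])))) (.node (.node (.node (.node (.leaf []) (.leaf [false, false, false, false, false, false])) (.leaf [])) (.node (.leaf []) (.leaf []))) (.node (.node (.leaf []) (.leaf [])) (.node (.leaf []) (.leaf [false, false, false, false, false, false, false, false, false, false, false])))))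

def certSLab2 : Janko.Tree (List Bool) :=
  (.node (.node (.node (.node (.node (.leaf []) (.leaf [])) (.leaf [])) (.node (.leaf []) (.leaf []))) (.node (.node (.leaf []) (.leaf [false, false, false, false, false, false, false, false, false, false, false])) (.node (.leaf []) (.leaf [])))) (.node (.node (.node (.node (.leaf []) (.leaf [false, false, false, false, false, false])) (.leaf [false, false, false, false, false, false, false, false, false, false, false, false])) (.node (.leaf []) (.leaf [false, false, false, false, false, false, false]))) (.node (.node (.leaf []) (.leaf [])) (.node (.leaf []) (.leaf [])))))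

def certSLab3 : Janko.Tree (List Bool) :=
  (.node (.node (.node (.node (.node (.leaf []) (.leaf [false, false, false, false, false])) (.leaf [])) (.node (.leaf []) (.leaf [false, false, false, false, false, false, false, false, false]))) (.node (.node (.leaf []) (.leaf [])) (.node (.leaf []) (.leaf [false])))) (.node (.node (.node (.node (.leaf []) (.leaf [false, false, false])) (.leaf [])) (.node (.leaf [false, false, false, false, false, false, false, false, false, false]) (.leaf []))) (.node (.node (.leaf []) (.leaf [])) (.node (.leaf [false, false, false, false, false, false]) (.leaf [false, false, false, false, false, false, false, false, false, false, false, false])))))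

def certSLab4 : Janko.Tree (List Bool) :=
  (.node (.node (.node (.node (.node (.leaf []) (.leaf [])) (.leaf [false, false, false, false, false, false])) (.node (.leaf []) (.leaf []))) (.node (.node (.leaf []) (.leaf [])) (.node (.leaf []) (.leaf [false, false, false, false, false, false, false, false, false, false, false, false])))) (.node (.node (.node (.node (.leaf []) (.leaf [])) (.leaf [])) (.node (.leaf []) (.leaf []))) (.node (.node (.leaf []) (.leaf [])) (.node (.leaf []) (.leaf [false, false, false])))))

def certSLab5 : Janko.Tree (List Bool) :=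
  (.node (.node (.node (.node (.node (.leaf []) (.leaf [false, false, false, false, false, false])) (.leaf [])) (.node (.leaf [false, false, false, false, false, false, false]) (.leaf [false, false, false, false, false, false]))) (.node (.node (.leaf []) (.leaf [])) (.node (.leaf []) (.leaf [false, false, false, false, false, false, false, false, false, false, false, false])))) (.node (.node (.node (.node (.leaf []) (.leaf [false, false, false, false, false, false])) (.leaf [])) (.node (.leaf []) (.leaf []))) (.node (.node (.leaf []) (.leaf [])) (.node (.leaf [false]) (.leaf [false, false, false, false, false, false, false])))))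

def certSLab6 : Janko.Tree (List Bool) :=
  (.node (.node (.node (.node (.node (.leaf []) (.leaf [false])) (.leaf [])) (.node (.leaf []) (.leaf [false, false, false, false, false, false, false, false, false, false, false]))) (.node (.node (.leaf []) (.leaf [false, false, false, false, false, false, false, false, false])) (.node (.leaf [false, false, false, false, false, false, false, false, false, false, false]) (.leaf [false, false, false, false, false, false, false])))) (.node (.node (.node (.node (.leaf []) (.leaf [false, false, false, false, false, false, false, false, false, false, false, false])) (.leaf [])) (.node (.leaf []) (.leaf []))) (.node (.node (.leaf []) (.leaf [])) (.node (.leaf [false]) (.leaf [false, false, false, false, false, false, false, false, false, false, false, false])))))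

def certSLab7 : Janko.Tree (List Bool) :=
  (.node (.node (.node (.node (.node (.leaf []) (.leaf [false, false, false, false, false, false, false])) (.leaf [])) (.node (.leaf []) (.leaf []))) (.node (.node (.leaf []) (.leaf [false, false, false, false, false, false, false, false])) (.node (.leaf [false, false, false, false, false, false, false, false, false, false, false]) (.leaf [])))) (.node (.node (.node (.node (.leaf []) (.leaf [false, false, false, false, false, false, false, false, false, false])) (.leaf [])) (.node (.leaf [false, false, false, false, false, false, false]) (.leaf [false, false, false, false, false, false]))) (.node (.node (.leaf []) (.leaf [])) (.node (.leaf []) (.leaf [])))))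

def certSLab8 : Janko.Tree (List Bool) :=
  (.node (.node (.node (.node (.node (.leaf []) (.leaf [false, false])) (.leaf [false])) (.node (.leaf [false, false, false, false, false, false, false, false, false, false, false, false]) (.leaf []))) (.node (.node (.leaf []) (.leaf [])) (.node (.leaf [false, false, false, false, false, false, false, false, false, false, false]) (.leaf [false])))) (.node (.node (.node (.node (.leaf []) (.leaf [])) (.leaf [])) (.node (.leaf []) (.leaf []))) (.node (.node (.leaf [false, false, false, false, false, false]) (.leaf [])) (.node (.leaf []) (.leaf [])))))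

def certSLab9 : Janko.Tree (List Bool) :=
  (.node (.node (.node (.node (.node (.leaf []) (.leaf [])) (.leaf [])) (.node (.leaf []) (.leaf []))) (.node (.node (.leaf []) (.leaf [false, false, false, false, false, false, false, false, false, false, false, false])) (.node (.leaf []) (.leaf [false, false, false, false, false, false, false, false, false, false, false, false])))) (.node (.node (.node (.node (.leaf []) (.leaf [false, false, false, false, false, false, false, false, false, false])) (.leaf [])) (.node (.leaf []) (.leaf [false, false]))) (.node (.node (.leaf []) (.leaf [])) (.node (.leaf [false, false, false, false, false, false, false]) (.leaf [])))))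

def certSLab10 : Janko.Tree (List Bool) :=
  (.node (.node (.node (.node (.node (.leaf []) (.leaf [])) (.leaf [])) (.node (.leaf [false, false, false, false, false, false, false, false, false, false, false, false]) (.leaf []))) (.node (.node (.leaf []) (.leaf [])) (.node (.leaf [false, false, false, false, false, false, false, false, false, false, false]) (.leaf [false, false, false, false, false, false, false, false, false, false, false, false])))) (.node (.node (.node (.node (.leaf []) (.leaf [])) (.leaf [])) (.node (.leaf []) (.leaf []))) (.node (.node (.leaf []) (.leaf [])) (.node (.leaf [false, false, false]) (.leaf [false, false, false, false, false, false, false, false, false, false])))))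

def certSLab11 : Janko.Tree (List Bool) :=
  (.node (.node (.node (.node (.node (.leaf []) (.leaf [false, false, false, false, false, false, false, false, false])) (.leaf [])) (.node (.leaf []) (.leaf []))) (.node (.node (.leaf [false, false, false, false, false, false]) (.leaf [])) (.node (.leaf []) (.leaf [])))) (.node (.node (.node (.node (.leaf []) (.leaf [])) (.leaf [])) (.node (.leaf [false, false, false, false, false, false, false, false, false, false, false]) (.leaf []))) (.node (.node (.leaf []) (.leaf [])) (.node (.leaf []) (.leaf [])))))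

def certSLab12 : Janko.Tree (List Bool) :=
  (.node (.node (.node (.node (.node (.leaf []) (.leaf [false, false, false, false, false])) (.leaf [])) (.node (.leaf []) (.leaf [false, false, false, false]))) (.node (.node (.leaf []) (.leaf [])) (.node (.leaf []) (.leaf [false, false, false, false, false, false, false, false])))) (.node (.node (.node (.node (.leaf []) (.leaf [false, false, false, false, false, false, false, false, false, false])) (.leaf [])) (.node (.leaf []) (.leaf []))) (.node (.node (.leaf []) (.leaf [false])) (.node (.leaf []) (.leaf [])))))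

def certSLab13 : Janko.Tree (List Bool) :=
  (.node (.node (.node (.node (.node (.leaf []) (.leaf [false, false, false])) (.leaf [])) (.node (.leaf []) (.leaf []))) (.node (.node (.leaf []) (.leaf [false, false, false])) (.node (.leaf []) (.leaf [])))) (.node (.node (.node (.node (.leaf []) (.leaf [false, false, false, false])) (.leaf [])) (.node (.leaf []) (.leaf []))) (.node (.node (.leaf []) (.leaf [false, false, false, false, false, false, false])) (.node (.leaf [false, false, false, false, false, false, false, false, false, false, false, false]) (.leaf [false, false, false, false, false, false, false, false])))))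

def certSLab14 : Janko.Tree (List Bool) :=
  (.node (.node (.node (.node (.node (.leaf []) (.leaf [false, false, false])) (.leaf [false, false, false, false, false, false, false])) (.node (.leaf []) (.leaf [false, false, false, false, false, false, false, false, false, false, false, false]))) (.node (.node (.leaf []) (.leaf [])) (.node (.leaf []) (.leaf [])))) (.node (.node (.node (.node (.leaf []) (.leaf [false, false, false, false, false, false, false, false, false, false, false])) (.leaf [])) (.node (.leaf []) (.leaf [false, false]))) (.node (.node (.leaf [false, false, false, false, false, false, false]) (.leaf [false, false, false, false, false, false, false, false])) (.node (.leaf [false, false, false, false, false, false, false, false, false]) (.leaf [])))))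

def certSLab15 : Janko.Tree (List Bool) :=
  (.node (.node (.node (.node (.node (.leaf []) (.leaf [false, false, false, false, false, false, false, false, false, false])) (.leaf [])) (.node (.leaf []) (.leaf []))) (.node (.node (.leaf []) (.leaf [false, false, false, false, false, false])) (.node (.leaf []) (.leaf [false, false, false])))) (.node (.node (.node (.node (.leaf []) (.leaf [false, false, false, false, false, false, false])) (.leaf [])) (.node (.leaf []) (.leaf [false, false, false, false, false, false, false]))) (.node (.node (.leaf []) (.leaf [])) (.node (.leaf [false, false, false, false, false, false, false, false, false, false, false, false]) (.leaf [false, false, false, false])))))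

def certSLab16 : Janko.Tree (List Bool) :=
  (.node (.node (.node (.node (.node (.leaf []) (.leaf [false, false, false, false])) (.leaf [])) (.node (.leaf []) (.leaf [false, false, false, false, false, false, false, false, false, false, false, false]))) (.node (.node (.leaf []) (.leaf [false, false, false, false, false, false])) (.node (.leaf []) (.leaf [])))) (.node (.node (.node (.node (.leaf []) (.leaf [false, false, false, false, false, false, false, false, false])) (.leaf [])) (.node (.leaf [false, false, false, false, false, false, false, false, false]) (.leaf []))) (.node (.node (.leaf []) (.leaf [false, false])) (.node (.leaf []) (.leaf [false, false, false, false, false, false, false, false, false, false])))))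

def certSLab17 : Janko.Tree (List Bool) :=
  (.node (.node (.node (.node (.node (.leaf []) (.leaf [false, false, false, false, false])) (.leaf [])) (.node (.leaf []) (.leaf []))) (.node (.node (.leaf [false]) (.leaf [])) (.node (.leaf []) (.leaf [false, false])))) (.node (.node (.node (.node (.leaf []) (.leaf [])) (.leaf [])) (.node (.leaf []) (.leaf [false, false, false, false]))) (.node (.node (.leaf [false, false, false, false, false, false, false, false, false]) (.leaf [])) (.node (.leaf []) (.leaf [])))))

def certSLab18 : Janko.Tree (List Bool) :=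
  (.node (.node (.node (.node (.node (.leaf []) (.leaf [])) (.leaf [])) (.node (.leaf []) (.leaf [false, false]))) (.node (.node (.leaf []) (.leaf [])) (.node (.leaf []) (.leaf [false, false, false, false, false, false, false, false, false, false])))) (.node (.node (.node (.node (.leaf []) (.leaf [false, false, false, false, false, false, false, false, false, false])) (.leaf [])) (.node (.leaf []) (.leaf []))) (.node (.node (.leaf []) (.leaf [false, false])) (.node (.leaf [false, false]) (.leaf [])))))

def certSLab19 : Janko.Tree (List Bool) :=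
  (.node (.node (.node (.node (.node (.leaf []) (.leaf [])) (.leaf [false, false, false, false, false, false, false])) (.node (.leaf []) (.leaf []))) (.node (.node (.leaf [false, false, false, false, false, false, false, false, false, false, false]) (.leaf [])) (.node (.leaf []) (.leaf [])))) (.node (.node (.node (.node (.leaf []) (.leaf [false, false, false, false, false, false])) (.leaf [false, false, false])) (.node (.leaf []) (.leaf [false, false]))) (.node (.node (.leaf []) (.leaf [])) (.node (.leaf [false, false]) (.leaf [false, false, false, false])))))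

def certSLab20 : Janko.Tree (List Bool) :=
  (.node (.node (.node (.node (.node (.leaf []) (.leaf [])) (.leaf [])) (.node (.leaf [false, false, false, false, false, false]) (.leaf [false, false, false, false, false, false, false]))) (.node (.node (.leaf []) (.leaf [])) (.node (.leaf []) (.leaf [false, false])))) (.node (.node (.node (.node (.leaf []) (.leaf [false, false, false, false, false, false, false, false, false, false, false])) (.leaf [])) (.node (.leaf []) (.leaf [false, false, false, false, false, false, false, false, false, false]))) (.node (.node (.leaf []) (.leaf [false, false, false, false, false])) (.node (.leaf [false, false, false]) (.leaf [])))))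

def certSLab21 : Janko.Tree (List Bool) :=
  (.node (.node (.node (.node (.node (.leaf []) (.leaf [])) (.leaf [])) (.node (.leaf []) (.leaf []))) (.node (.node (.leaf []) (.leaf [false, false, false, false, false, false, false])) (.node (.leaf [false, false, false, false, false, false, false, false, false, false, false, false]) (.leaf [false, false, false, false])))) (.node (.node (.node (.node (.leaf []) (.leaf [false, false, false, false, false, false, false, false, false, false, false])) (.leaf [false, false])) (.node (.leaf []) (.leaf []))) (.node (.node (.leaf [false, false, false, false, false, false, false, false, false, false, false]) (.leaf [false, false, false, false, false, false, false])) (.node (.leaf []) (.leaf [false, false, false, false, false, false, false, false])))))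

def certSLab22 : Janko.Tree (List Bool) :=
  (.node (.node (.node (.node (.node (.leaf []) (.leaf [])) (.leaf [])) (.node (.leaf []) (.leaf [false, false, false, false, false, false, false]))) (.node (.node (.leaf []) (.leaf [])) (.node (.leaf []) (.leaf [false])))) (.node (.node (.node (.node (.leaf []) (.leaf [false, false, false, false, false, false, false])) (.leaf [])) (.node (.leaf []) (.leaf [false, false, false, false]))) (.node (.node (.leaf []) (.leaf [false, false, false, false, false, false, false])) (.node (.leaf []) (.leaf [])))))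

def certSLab23 : Janko.Tree (List Bool) :=
  (.node (.node (.node (.node (.node (.leaf []) (.leaf [])) (.leaf [])) (.node (.leaf []) (.leaf []))) (.node (.node (.leaf []) (.leaf [false, false, false, false, false, false, false])) (.node (.leaf []) (.leaf [])))) (.node (.node (.node (.node (.leaf []) (.leaf [false, false, false, false, false, false])) (.leaf [])) (.node (.leaf []) (.leaf []))) (.node (.node (.leaf []) (.leaf [])) (.node (.leaf [false, false]) (.leaf [])))))

def certSLab24 : Janko.Tree (List Bool) :=
  (.node (.node (.node (.node (.node (.leaf []) (.leaf [false, false, false, false, false, false])) (.leaf [])) (.node (.leaf []) (.leaf []))) (.node (.node (.leaf []) (.leaf [])) (.node (.leaf []) (.leaf [false, false, false, false, false, false, false, false, false, false])))) (.node (.node (.node (.node (.leaf []) (.leaf [false, false, false])) (.leaf [])) (.node (.leaf []) (.leaf []))) (.node (.node (.leaf []) (.leaf [])) (.node (.leaf []) (.leaf [])))))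

def certSLab25 : Janko.Tree (List Bool) :=
  (.node (.node (.node (.node (.node (.leaf []) (.leaf [])) (.leaf [])) (.node (.leaf []) (.leaf []))) (.node (.node (.leaf []) (.leaf [false, false])) (.node (.leaf []) (.leaf [])))) (.node (.node (.node (.node (.leaf []) (.leaf [false, false, false, false, false])) (.leaf [])) (.node (.leaf []) (.leaf []))) (.node (.node (.leaf [false, false, false, false, false, false, false, false, false, false]) (.leaf [])) (.node (.leaf []) (.leaf [])))))

def certSLab26 : Janko.Tree (List Bool) :=
  (.node (.node (.node (.node (.node (.leaf []) (.leaf [false])) (.leaf [])) (.node (.leaf []) (.leaf [false, false, false, false, false, false, false]))) (.node (.node (.leaf []) (.leaf [])) (.node (.leaf [false, false, false, false, false, false, false]) (.leaf [false, false, false, false, false])))) (.node (.node (.node (.node (.leaf []) (.leaf [false, false, false])) (.leaf [])) (.node (.leaf []) (.leaf [false, false]))) (.node (.node (.leaf []) (.leaf [])) (.node (.leaf []) (.leaf [false, false, false])))))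

def certSLab27 : Janko.Tree (List Bool) :=
  (.node (.node (.node (.node (.node (.leaf []) (.leaf [false, false, false, false, false, false, false, false, false, false])) (.leaf [false, false, false, false, false, false, false])) (.node (.leaf []) (.leaf [false, false, false, false, false, false, false]))) (.node (.node (.leaf []) (.leaf [false, false, false])) (.node (.leaf []) (.leaf [])))) (.node (.node (.node (.node (.leaf []) (.leaf [false, false, false, false, false, false, false, false, false])) (.leaf [])) (.node (.leaf []) (.leaf []))) (.node (.node (.leaf []) (.leaf [])) (.node (.leaf [false, false]) (.leaf [])))))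

def certSLab28 : Janko.Tree (List Bool) :=
  (.node (.node (.node (.node (.node (.leaf []) (.leaf [false, false, false, false, false, false, false, false])) (.leaf [])) (.node (.leaf []) (.leaf [false, false, false, false, false, false, false, false, false, false, false, false]))) (.node (.node (.leaf [false]) (.leaf [false, false, false, false, false, false, false, false, false, false, false, false])) (.node (.leaf []) (.leaf [])))) (.node (.node (.node (.node (.leaf []) (.leaf [false, false, false, false, false, false, false, false])) (.leaf [])) (.node (.leaf []) (.leaf []))) (.node (.node (.leaf []) (.leaf [])) (.node (.leaf []) (.leaf [])))))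

def certSLab29 : Janko.Tree (List Bool) :=
  (.node (.node (.node (.node (.node (.leaf []) (.leaf [false])) (.leaf [])) (.node (.leaf []) (.leaf []))) (.node (.node (.leaf []) (.leaf [false, false, false])) (.node (.leaf []) (.leaf [])))) (.node (.node (.node (.node (.leaf []) (.leaf [false, false, false, false, false, false, false])) (.leaf [])) (.node (.leaf []) (.leaf [false]))) (.node (.node (.leaf []) (.leaf [false, false, false, false, false, false])) (.node (.leaf [false, false, false, false, false, false, false, false, false]) (.leaf [])))))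

def certSLab30 : Janko.Tree (List Bool) :=
  (.node (.node (.node (.node (.node (.leaf []) (.leaf [false, false, false, false, false, false, false, false])) (.leaf [])) (.node (.leaf []) (.leaf []))) (.node (.node (.leaf []) (.leaf [])) (.node (.leaf []) (.leaf [])))) (.node (.node (.node (.node (.leaf []) (.leaf [false])) (.leaf [])) (.node (.leaf []) (.leaf []))) (.node (.node (.leaf []) (.leaf [])) (.node (.leaf [false, false]) (.leaf [false, false, false, false, false])))))

def certSLab31 : Janko.Tree (List Bool) :=
  (.node (.node (.node (.node (.node (.leaf []) (.leaf [])) (.leaf [])) (.node (.leaf []) (.leaf [false, false, false, false, false, false, false, false, false, false, false, false]))) (.node (.node (.leaf []) (.leaf [])) (.node (.leaf [false, false, false]) (.leaf [false, false, false, false, false, false, false, false, false, false])))) (.node (.node (.node (.node (.leaf []) (.leaf [false, false, false, false, false, false, false, false, false, false])) (.leaf [])) (.node (.leaf []) (.leaf []))) (.node (.node (.leaf []) (.leaf [])) (.node (.leaf [false, false, false,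 false, false, false, false, false, false]) (.leaf [])))))

def certSLab32 : Janko.Tree (List Bool) :=
  (.node (.node (.node (.node (.node (.leaf []) (.leaf [false, false, false, false, false, false, false, false, false, false, false, false])) (.leaf [])) (.node (.leaf []) (.leaf []))) (.node (.node (.leaf []) (.leaf [])) (.node (.leaf []) (.leaf [])))) (.node (.node (.node (.node (.leaf []) (.leaf [false, false, false, false, false, false])) (.leaf [false, false, false, false, false, false, false, false, false])) (.node (.leaf [false, false, false, false, false, false, false, false]) (.leaf []))) (.node (.node (.leaf []) (.leaf [])) (.node (.leaf []) (.leaf [])))))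

def certSLab33 : Janko.Tree (List Bool) :=
  (.node (.node (.node (.node (.node (.leaf []) (.leaf [false, false, false, false, false, false, false])) (.leaf [])) (.node (.leaf []) (.leaf []))) (.node (.node (.leaf []) (.leaf [])) (.node (.leaf []) (.leaf [false])))) (.node (.node (.node (.node (.leaf []) (.leaf [])) (.leaf [false, false, false, false, false, false])) (.node (.leaf []) (.leaf []))) (.node (.node (.leaf []) (.leaf [false, false, false])) (.node (.leaf []) (.leaf [])))))

def certSLab34 : Janko.Tree (List Bool) :=
  (.node (.node (.node (.node (.node (.leaf []) (.leaf [false, false])) (.leaf [])) (.node (.leaf []) (.leaf [false, false, false, false, false, false, false, false, false, false, false]))) (.node (.node (.leaf []) (.leaf [])) (.node (.leaf []) (.leaf [])))) (.node (.node (.node (.node (.leaf []) (.leaf [false])) (.leaf [])) (.node (.leaf []) (.leaf []))) (.node (.node (.leaf [false, false, false, false, false, false, false]) (.leaf [])) (.node (.leaf [false, false, false, false]) (.leaf [false, false, false, false, false])))))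

def certSLab35 : Janko.Tree (List Bool) :=
  (.node (.node (.node (.node (.node (.leaf []) (.leaf [])) (.leaf [])) (.node (.leaf []) (.leaf []))) (.node (.node (.leaf []) (.leaf [])) (.node (.leaf []) (.leaf [false, false])))) (.node (.node (.node (.node (.leaf []) (.leaf [])) (.leaf [])) (.node (.leaf []) (.leaf []))) (.node (.node (.leaf [false]) (.leaf [false, false, false, false, false, false, false, false, false, false])) (.node (.leaf [false, false]) (.leaf [])))))

def certSLab36 : Janko.Tree (List Bool) :=
  (.node (.node (.node (.node (.node (.leaf []) (.leaf [false])) (.leaf [])) (.node (.leaf [false, false, false]) (.leaf []))) (.node (.node (.leaf []) (.leaf [false, false, false, false, false, false])) (.node (.leaf []) (.leaf [])))) (.node (.node (.node (.node (.leaf []) (.leaf [false, false, false, false, false, false, false, false, false, false, false, false])) (.leaf [])) (.node (.leaf []) (.leaf [false, false]))) (.node (.node (.leaf []) (.leaf [false, false, false, false, false, false, false, false, false, false])) (.node (.leaf [false, false, false, false, false,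 false]) (.leaf [])))))

def certSLab37 : Janko.Tree (List Bool) :=
  (.node (.node (.node (.node (.node (.leaf []) (.leaf [false, false, false, false, false, false, false, false, false])) (.leaf [])) (.node (.leaf []) (.leaf []))) (.node (.node (.leaf []) (.leaf [])) (.node (.leaf []) (.leaf [])))) (.node (.node (.node (.node (.leaf []) (.leaf [false])) (.leaf [])) (.node (.leaf []) (.leaf []))) (.node (.node (.leaf []) (.leaf [])) (.node (.leaf []) (.leaf [false, false, false])))))

def certSLab38 : Janko.Tree (List Bool) :=
  (.node (.node (.node (.node (.node (.leaf []) (.leaf [false, false, false, false, false, false])) (.leaf [])) (.node (.leaf [false, false, false, false]) (.leaf []))) (.node (.node (.leaf []) (.leaf [])) (.node (.leaf []) (.leaf [])))) (.node (.node (.node (.node (.leaf []) (.leaf [false, false, false, false, false])) (.leaf [])) (.node (.leaf []) (.leaf []))) (.node (.node (.leaf []) (.leaf [])) (.node (.leaf []) (.leaf [false, false, false, false, false, false, false, false, false, false])))))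

def certSLab39 : Janko.Tree (List Bool) :=
  (.node (.node (.node (.node (.node (.leaf []) (.leaf [])) (.leaf [false, false, false, false, false, false, false])) (.node (.leaf []) (.leaf [false, false, false, false, false, false, false, false, false, false, false, false]))) (.node (.node (.leaf []) (.leaf [])) (.node (.leaf []) (.leaf [])))) (.node (.node (.node (.node (.leaf []) (.leaf [])) (.leaf [])) (.node (.leaf []) (.leaf []))) (.node (.node (.leaf []) (.leaf [false, false, false, false, false, false, false])) (.node (.leaf []) (.leaf [])))))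

def certSLab40 : Janko.Tree (List Bool) :=
  (.node (.node (.node (.node (.node (.leaf []) (.leaf [])) (.leaf [false, false, false, false, false, false])) (.node (.leaf []) (.leaf []))) (.node (.node (.leaf []) (.leaf [])) (.node (.leaf []) (.leaf [])))) (.node (.node (.node (.node (.leaf []) (.leaf [false, false, false, false, false, false, false])) (.leaf [false, false, false, false, false, false, false, false, false, false, false, false])) (.node (.leaf []) (.leaf []))) (.node (.node (.leaf [false, false, false, false, false, false, false, false, false, false, false, false]) (.leaf [false, false, false, false, false, false, false, false])) (.node (.leaf []) (.leaf [])))))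

def certSLab41 : Janko.Tree (List Bool) :=
  (.node (.node (.node (.node (.node (.leaf [false, false, false, false, false, false, false]) (.leaf [false, false, false, false, false])) (.leaf [])) (.node (.leaf [false, false, false, false, false, false]) (.leaf [false, false, false, false, false]))) (.node (.node (.leaf []) (.leaf [])) (.node (.leaf []) (.leaf [false])))) (.node (.node (.node (.node (.leaf [false]) (.leaf [false, false, false, false, false, false, false, false, false, false, false])) (.leaf [])) (.node (.leaf [false, false, false, false, false, false]) (.leaf [false, false, false, false, false, false, false, false, false, false]))) (.node (.node (.leaf []) (.leaf [])) (.node (.leaf [false, false, false, false, false, false]) (.leaf [])))))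

def certSLab42 : Janko.Tree (List Bool) :=
  (.node (.node (.node (.node (.node (.leaf []) (.leaf [false, false, false, false, false])) (.leaf [])) (.node (.leaf [false, false, false, false, false, false]) (.leaf []))) (.node (.node (.leaf []) (.leaf [])) (.node (.leaf []) (.leaf [])))) (.node (.node (.node (.node (.leaf []) (.leaf [])) (.leaf [])) (.node (.leaf [false, false, false, false, false, false, false, false, false, false, false, false]) (.leaf []))) (.node (.node (.leaf []) (.leaf [])) (.node (.leaf []) (.leaf [false, false, false, false, false, false, false])))))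

def certSLab43 : Janko.Tree (List Bool) :=
  (.node (.node (.node (.node (.node (.leaf []) (.leaf [])) (.leaf [])) (.node (.leaf []) (.leaf []))) (.node (.node (.leaf []) (.leaf [])) (.node (.leaf []) (.leaf [false, false, false, false, false, false, false, false])))) (.node (.node (.node (.node (.leaf []) (.leaf [false, false, false, false, false])) (.leaf [])) (.node (.leaf [false]) (.leaf []))) (.node (.node (.leaf []) (.leaf [])) (.node (.leaf []) (.leaf [false, false, false, false])))))

def certSLab44 : Janko.Tree (List Bool) :=
  (.node (.node (.node (.node (.node (.leaf []) (.leaf [false, false, false, false, false, false, false, false, false])) (.leaf [])) (.node (.leaf []) (.leaf []))) (.node (.node (.leaf []) (.leaf [])) (.node (.leaf []) (.leaf [false, false, false, false, false, false, false])))) (.node (.node (.node (.node (.leaf []) (.leaf [false, false, false, false, false])) (.leaf [])) (.node (.leaf [false]) (.leaf [false, false, false, false, false, false, false]))) (.node (.node (.leaf []) (.leaf [false, false, false, false, false, false])) (.node (.leaf []) (.leaf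 [])))))

def certSLab45 : Janko.Tree (List Bool) :=
  (.node (.node (.node (.node (.node (.leaf []) (.leaf [false, false, false, false, false, false, false, false, false, false, false])) (.leaf [])) (.node (.leaf []) (.leaf [false, false, false, false, false, false, false, false]))) (.node (.node (.leaf []) (.leaf [])) (.node (.leaf []) (.leaf [])))) (.node (.node (.node (.node (.leaf []) (.leaf [false, false, false, false, false, false, false, false])) (.leaf [])) (.node (.leaf []) (.leaf [false, false, false, false, false, false, false, false, false, false]))) (.node (.node (.leaf []) (.leaf [false, false, false, false, false, false, false, false])) (.node (.leaf []) (.leaf [false, false])))))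

def certSLab46 : Janko.Tree (List Bool) :=
  (.node (.node (.node (.node (.node (.leaf []) (.leaf [false, false, false, false, false, false, false])) (.leaf [])) (.node (.leaf [false, false, false, false, false, false]) (.leaf [false, false, false]))) (.node (.node (.leaf []) (.leaf [])) (.node (.leaf []) (.leaf [false, false, false, false, false, false, false, false])))) (.node (.node (.node (.node (.leaf []) (.leaf [false, false, false])) (.leaf [])) (.node (.leaf []) (.leaf []))) (.node (.node (.leaf [false, false, false, false, false, false, false, false, false, false, false, false]) (.leaf [])) (.node (.leaf []) (.leaf [false, false, false, false, false, false, false])))))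

def certSLab47 : Janko.Tree (List Bool) :=
  (.node (.node (.node (.node (.node (.leaf []) (.leaf [])) (.leaf [])) (.node (.leaf []) (.leaf []))) (.node (.node (.leaf []) (.leaf [false, false, false, false, false, false, false, false, false, false, false])) (.node (.leaf []) (.leaf [false])))) (.node (.node (.node (.node (.leaf []) (.leaf [false, false, false])) (.leaf [])) (.node (.leaf []) (.leaf [false, false, false, false, false, false, false, false, false, false, false]))) (.node (.node (.leaf []) (.leaf [])) (.node (.leaf []) (.leaf [])))))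

def certSLab48 : Janko.Tree (List Bool) :=
  (.node (.node (.node (.node (.node (.leaf []) (.leaf [false, false])) (.leaf [])) (.node (.leaf []) (.leaf []))) (.node (.node (.leaf []) (.leaf [false, false, false, false, false, false, false, false, false, false, false])) (.node (.leaf [false, false, false, false, false, false, false]) (.leaf [])))) (.node (.node (.node (.node (.leaf []) (.leaf [false, false, false, false, false, false])) (.leaf [])) (.node (.leaf []) (.leaf []))) (.node (.node (.leaf []) (.leaf [])) (.node (.leaf [false, false, false, false]) (.leaf [false, false])))))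

def certSLab49 : Janko.Tree (List Bool) :=
  (.node (.node (.node (.node (.node (.leaf []) (.leaf [false, false, false, false])) (.leaf [false, false, false, false, false, false, false, false])) (.node (.leaf []) (.leaf []))) (.node (.node (.leaf []) (.leaf [false, false, false, false])) (.node (.leaf []) (.leaf [])))) (.node (.node (.node (.node (.leaf [false, false, false, false, false, false, false]) (.leaf [false, false, false, false, false, false, false, false])) (.leaf [])) (.node (.leaf []) (.leaf [false]))) (.node (.node (.leaf [false, false, false, false, false, false, false, false]) (.leaf [])) (.node (.leaf []) (.leaf [false, false, false])))))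

def certSLab50 : Janko.Tree (List Bool) :=
  (.node (.node (.node (.node (.node (.leaf []) (.leaf [false, false, false, false, false, false, false, false, false, false, false, false])) (.leaf [false, false, false, false, false, false, false, false, false, false])) (.node (.leaf []) (.leaf [false, false, false, false, false, false, false, false, false, false, false, false]))) (.node (.node (.leaf []) (.leaf [])) (.node (.leaf []) (.leaf [])))) (.node (.node (.node (.node (.leaf []) (.leaf [false])) (.leaf [])) (.node (.leaf [false]) (.leaf [false, false, false, false, false, false, false, false, false]))) (.node (.node (.leaf []) (.leaf [])) (.node (.leaf []) (.leaf [false, false, false, false, false, false, false, false, false, false, false, false])))))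

def certSLab51 : Janko.Tree (List Bool) :=
  (.node (.node (.node (.node (.node (.leaf []) (.leaf [false])) (.leaf [])) (.node (.leaf [false, false, false, false, false, false]) (.leaf [false, false, false, false]))) (.node (.node (.leaf [false, false, false, false, false, false, false, false, false, false, false, false]) (.leaf [false, false])) (.node (.leaf []) (.leaf [false, false, false, false, false])))) (.node (.node (.node (.node (.leaf []) (.leaf [false, false, false, false, false])) (.leaf [])) (.node (.leaf [false, false, false, false, false, false]) (.leaf [false, false]))) (.node (.node (.leaf [false, false, false, false, false, false, false]) (.leaf [])) (.node (.leaf [false, false, false, false, false, false]) (.leaf [])))))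

def certSLab52 : Janko.Tree (List Bool) :=
  (.node (.node (.node (.node (.node (.leaf []) (.leaf [false, false, false, false, false, false, false, false])) (.leaf [])) (.node (.leaf []) (.leaf []))) (.node (.node (.leaf []) (.leaf [])) (.node (.leaf []) (.leaf [false, false, false])))) (.node (.node (.node (.node (.leaf []) (.leaf [])) (.leaf [])) (.node (.leaf []) (.leaf []))) (.node (.node (.leaf []) (.leaf [])) (.node (.leaf [false, false, false]) (.leaf [])))))

def certSLab53 : Janko.Tree (List Bool) :=
  (.node (.node (.node (.node (.node (.leaf []) (.leaf [])) (.leaf [])) (.node (.leaf []) (.leaf [false, false, false]))) (.node (.node (.leaf []) (.leaf [])) (.node (.leaf []) (.leaf [])))) (.node (.node (.node (.node (.leaf []) (.leaf [false, false, false, false, false, false, false])) (.leaf [])) (.node (.leaf []) (.leaf []))) (.node (.node (.leaf []) (.leaf [false, false, false, false])) (.node (.leaf []) (.leaf [false, false, false, false, false, false, false])))))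

def certSLab54 : Janko.Tree (List Bool) :=
  (.node (.node (.node (.node (.node (.leaf []) (.leaf [false, false, false, false, false, false, false, false, false, false, false, false])) (.leaf [false, false, false, false, false, false, false, false, false, false])) (.node (.leaf []) (.leaf []))) (.node (.node (.leaf []) (.leaf [])) (.node (.leaf [false, false, false, false, false, false, false, false, false]) (.leaf [false, false, false, false, false, false, false, false, false, false, false, false])))) (.node (.node (.node (.node (.leaf []) (.leaf [])) (.leaf [false, false, false])) (.node (.leaf []) (.leaf [false, false, false, false, false, false, false, false, false]))) (.node (.node (.leaf []) (.leaf [])) (.node (.leaf []) (.leaf [false, false, false, false, false, false, false, false])))))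

def certSLab55 : Janko.Tree (List Bool) :=
  (.node (.node (.node (.node (.node (.leaf []) (.leaf [false, false, false, false, false, false, false, false, false])) (.leaf [])) (.node (.leaf []) (.leaf []))) (.node (.node (.leaf []) (.leaf [false, false])) (.node (.leaf []) (.leaf [false, false, false, false, false])))) (.node (.node (.node (.node (.leaf []) (.leaf [false, false, false, false, false, false, false, false])) (.leaf [])) (.node (.leaf []) (.leaf []))) (.node (.node (.leaf []) (.leaf [])) (.node (.leaf [false, false, false, false, false, false, false, false, false, false, false]) (.leaf [])))))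

def certSLab56 : Janko.Tree (List Bool) :=
  (.node (.node (.node (.node (.node (.leaf []) (.leaf [false, false, false, false, false, false])) (.leaf [false, false, false, false, false, false, false])) (.node (.leaf []) (.leaf []))) (.node (.node (.leaf []) (.leaf [false])) (.node (.leaf []) (.leaf [false, false, false, false, false, false])))) (.node (.node (.node (.node (.leaf []) (.leaf [false, false, false, false, false, false, false, false, false, false, false])) (.leaf [false, false, false, false, false, false, false, false, false, false])) (.node (.leaf []) (.leaf [false, false, false, false, false, false, false, false, false]))) (.node (.node (.leaf []) (.leaf [false, false, false, false, false, false, false])) (.node (.leaf []) (.leaf [])))))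

def certSLab57 : Janko.Tree (List Bool) :=
  (.node (.node (.node (.node (.node (.leaf []) (.leaf [])) (.leaf [])) (.node (.leaf []) (.leaf []))) (.node (.node (.leaf []) (.leaf [])) (.node (.leaf []) (.leaf [false, false, false, false, false, false])))) (.node (.node (.node (.node (.leaf []) (.leaf [false, false, false, false, false, false, false, false])) (.leaf [])) (.node (.leaf []) (.leaf [false]))) (.node (.node (.leaf []) (.leaf [])) (.node (.leaf []) (.leaf [false, false, false])))))

def certSLab58 : Janko.Tree (List Bool) :=
  (.node (.node (.node (.node (.node (.leaf []) (.leaf [false, false, false, false, false, false, false, false, false, false, false])) (.leaf [])) (.node (.leaf []) (.leaf [false, false, false, false, false, false, false]))) (.node (.node (.leaf []) (.leaf [])) (.node (.leaf []) (.leaf [])))) (.node (.node (.node (.node (.leaf []) (.leaf [false])) (.leaf [])) (.node (.leaf []) (.leaf []))) (.node (.node (.leaf []) (.leaf [])) (.node (.leaf []) (.leaf [false, false, false, false, false, false, false, false, false, false])))))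

def certSLab59 : Janko.Tree (List Bool) :=
  (.node (.node (.node (.node (.node (.leaf []) (.leaf [false, false, false, false, false, false, false, false, false, false, false])) (.leaf [])) (.node (.leaf []) (.leaf [false, false, false, false, false, false, false]))) (.node (.node (.leaf []) (.leaf [])) (.node (.leaf []) (.leaf [])))) (.node (.node (.node (.node (.leaf []) (.leaf [false, false, false, false, false, false, false, false, false, false, false, false])) (.leaf [false, false, false, false, false, false])) (.node (.leaf []) (.leaf [false, false]))) (.node (.node (.leaf []) (.leaf [])) (.node (.leaf []) (.leaf [])))))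

def certSLab60 : Janko.Tree (List Bool) :=
  (.node (.node (.node (.node (.node (.leaf []) (.leaf [false])) (.leaf [false, false, false, false, false, false, false, false, false, false, false])) (.node (.leaf [false, false, false, false, false, false]) (.leaf [false]))) (.node (.node (.leaf []) (.leaf [])) (.node (.leaf [false, false, false, false, false, false, false, false, false, false, false, false]) (.leaf [false, false, false, false, false, false, false, false, false, false, false, false])))) (.node (.node (.node (.node (.leaf []) (.leaf [false, false, false, false, false, false, false, false, false, false, false, false])) (.leaf [false, false, false, false, false, false, false, false, false, false])) (.node (.leaf []) (.leaf [false, false]))) (.node (.node (.leaf []) (.leaf [])) (.node (.leaf []) (.leaf [false, false, false])))))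

def certSLab61 : Janko.Tree (List Bool) :=
  (.node (.node (.node (.node (.node (.leaf []) (.leaf [false, false])) (.leaf [])) (.node (.leaf [false, false, false, false, false, false]) (.leaf [false, false, false, false]))) (.node (.node (.leaf []) (.leaf [false, false, false, false])) (.node (.leaf []) (.leaf [])))) (.node (.node (.node (.node (.leaf []) (.leaf [false, false, false, false, false, false, false])) (.leaf [])) (.node (.leaf []) (.leaf [false, false, false, false, false]))) (.node (.node (.leaf []) (.leaf [false, false, false, false, false, false, false])) (.node (.leaf [false, false, false, false, false, false]) (.leaf [])))))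

def certSLab62 : Janko.Tree (List Bool) :=
  (.node (.node (.node (.node (.node (.leaf []) (.leaf [false, false, false, false, false, false])) (.leaf [])) (.node (.leaf []) (.leaf []))) (.node (.node (.leaf []) (.leaf [])) (.node (.leaf []) (.leaf [false, false, false, false, false, false, false])))) (.node (.node (.node (.node (.leaf []) (.leaf [false, false, false, false, false, false, false, false, false, false, false])) (.leaf [])) (.node (.leaf []) (.leaf []))) (.node (.node (.leaf [false]) (.leaf [false])) (.node (.leaf []) (.leaf [])))))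

def certSLab63 : Janko.Tree (List Bool) :=
  (.node (.node (.node (.node (.node (.leaf []) (.leaf [false, false, false, false, false, false, false, false, false])) (.leaf [false, false, false, false, false, false, false, false, false, false])) (.node (.leaf []) (.leaf []))) (.node (.node (.leaf []) (.leaf [false, false, false, false, false, false, false, false, false, false, false])) (.node (.leaf []) (.leaf [false, false])))) (.node (.node (.node (.node (.leaf []) (.leaf [false, false])) (.leaf [])) (.node (.leaf [false, false, false, false, false, false, false, false]) (.leaf [false, false, false, false, false, false]))) (.node (.node (.leaf []) (.leaf [])) (.node (.leaf []) (.leaf [false, false, false, false, false, false, false, false, false, false, false, false])))))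

def certSLab64 : Janko.Tree (List Bool) :=
  (.node (.node (.node (.node (.node (.leaf []) (.leaf [])) (.leaf [])) (.node (.leaf []) (.leaf []))) (.node (.node (.leaf []) (.leaf [false, false])) (.node (.leaf []) (.leaf [])))) (.node (.node (.node (.node (.leaf []) (.leaf [false, false, false, false, false])) (.leaf [false, false, false, false, false, false, false])) (.node (.leaf []) (.leaf []))) (.node (.node (.leaf []) (.leaf [])) (.node (.leaf []) (.leaf [])))))

def certSLab65 : Janko.Tree (List Bool) :=
  (.node (.node (.node (.node (.node (.leaf []) (.leaf [false])) (.leaf [])) (.node (.leaf []) (.leaf []))) (.node (.node (.leaf []) (.leaf [])) (.node (.leaf []) (.leaf [])))) (.node (.node (.node (.node (.leaf []) (.leaf [false, false, false, false, false, false, false, false, false, false, false, false])) (.leaf [])) (.node (.leaf []) (.leaf []))) (.node (.node (.leaf []) (.leaf [])) (.node (.leaf []) (.leaf [])))))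

def certSLab66 : Janko.Tree (List Bool) :=
  (.node (.node (.node (.node (.node (.leaf []) (.leaf [false, false, false])) (.leaf [false, false, false, false, false, false, false])) (.node (.leaf [false, false, false, false, false, false, false, false, false, false]) (.leaf [false, false, false, false, false, false, false]))) (.node (.node (.leaf []) (.leaf [])) (.node (.leaf []) (.leaf [false, false])))) (.node (.node (.node (.node (.leaf []) (.leaf [false, false, false, false, false, false, false, false, false, false])) (.leaf [false, false, false, false, false, false, false])) (.node (.leaf []) (.leaf []))) (.node (.node (.leaf []) (.leaf [false, false, false, false, false, false, false])) (.node (.leaf []) (.leaf [false, false, false, false, false, false, false])))))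

def certSLab67 : Janko.Tree (List Bool) :=
  (.node (.node (.node (.node (.node (.leaf []) (.leaf [])) (.leaf [])) (.node (.leaf []) (.leaf []))) (.node (.node (.leaf []) (.leaf [false, false, false])) (.node (.leaf []) (.leaf [])))) (.node (.node (.node (.node (.leaf []) (.leaf [false, false, false, false, false, false, false, false])) (.leaf [])) (.node (.leaf []) (.leaf [false, false, false, false, false]))) (.node (.node (.leaf []) (.leaf [])) (.node (.leaf []) (.leaf [])))))

def certSLab68 : Janko.Tree (List Bool) :=
  (.node (.node (.node (.node (.node (.leaf []) (.leaf [false, false, false, false, false])) (.leaf [])) (.node (.leaf [false, false, false, false, false, false, false, false, false, false]) (.leaf [false, false, false, false, false, false, false]))) (.node (.node (.leaf []) (.leaf [])) (.node (.leaf []) (.leaf [])))) (.node (.node (.node (.node (.leaf []) (.leaf [])) (.leaf [false, false, false, false, false, false, false, false, false, false, false])) (.node (.leaf [false, false, false, false, false, false, false, false]) (.leaf []))) (.node (.node (.leaf [])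 (.leaf [false, false, false, false, false, false, false, false, false, false])) (.node (.leaf []) (.leaf [])))))

def certSLab69 : Janko.Tree (List Bool) :=
  (.node (.node (.node (.node (.node (.leaf []) (.leaf [])) (.leaf [])) (.node (.leaf [false, false, false, false, false, false, false]) (.leaf []))) (.node (.node (.leaf []) (.leaf [])) (.node (.leaf []) (.leaf [false, false, false, false, false, false, false, false, false, false])))) (.node (.node (.node (.node (.leaf []) (.leaf [false, false, false, false, false, false])) (.leaf [])) (.node (.leaf []) (.leaf []))) (.node (.node (.leaf []) (.leaf [false, false, false, false, false])) (.node (.leaf []) (.leaf [false, false, false, false, false, false])))))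

def certSLab70 : Janko.Tree (List Bool) :=
  (.node (.node (.node (.node (.node (.leaf []) (.leaf [false, false, false, false])) (.leaf [])) (.node (.leaf [false, false, false, false, false, false, false, false, false, false, false]) (.leaf [false, false, false, false, false, false, false, false]))) (.node (.node (.leaf []) (.leaf [])) (.node (.leaf []) (.leaf [false, false, false, false, false, false, false])))) (.node (.node (.node (.node (.leaf []) (.leaf [false])) (.leaf [])) (.node (.leaf []) (.leaf [false, false, false, false]))) (.node (.node (.leaf []) (.leaf [])) (.node (.leaf []) (.leaf [])))))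

def certSLab71 : Janko.Tree (List Bool) :=
  (.node (.node (.node (.node (.node (.leaf []) (.leaf [false, false, false, false, false, false])) (.leaf [false, false, false, false, false, false, false, false, false, false, false, false])) (.node (.leaf []) (.leaf []))) (.node (.node (.leaf []) (.leaf [false, false, false, false, false])) (.node (.leaf []) (.leaf [false, false, false, false, false, false, false, false, false, false, false])))) (.node (.node (.node (.node (.leaf []) (.leaf [false, false, false, false, false, false, false, false, false, false, false, false])) (.leaf [])) (.node (.leaf []) (.leaf [false, false, false, false, false, false]))) (.node (.node (.leaf []) (.leaf [])) (.node (.leaf [false, false, false, false, false, false, false, false, false, false, false, false]) (.leaf [])))))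

def certSLab72 : Janko.Tree (List Bool) :=
  (.node (.node (.node (.node (.node (.leaf []) (.leaf [])) (.leaf [])) (.node (.leaf []) (.leaf []))) (.node (.node (.leaf []) (.leaf [])) (.node (.leaf []) (.leaf [false, false, false, false, false, false, false])))) (.node (.node (.node (.node (.leaf []) (.leaf [false, false, false])) (.leaf [])) (.node (.leaf [false]) (.leaf [false, false, false]))) (.node (.node (.leaf []) (.leaf [])) (.node (.leaf []) (.leaf [false, false, false, false, false, false, false])))))

def certSLab73 : Janko.Tree (List Bool) :=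
  (.node (.node (.node (.node (.node (.leaf []) (.leaf [false, false, false, false, false, false, false, false, false, false, false])) (.leaf [])) (.node (.leaf []) (.leaf [false, false]))) (.node (.node (.leaf []) (.leaf [])) (.node (.leaf []) (.leaf [false, false, false, false, false, false, false, false, false, false, false])))) (.node (.node (.node (.node (.leaf []) (.leaf [false, false, false, false, false])) (.leaf [false, false, false, false, false, false, false, false, false, false, false])) (.node (.leaf []) (.leaf []))) (.node (.node (.leaf []) (.leaf [false, false, false])) (.node (.leaf [false, false]) (.leaf [])))))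

def certSLab74 : Janko.Tree (List Bool) :=
  (.node (.node (.node (.node (.node (.leaf []) (.leaf [])) (.leaf [])) (.node (.leaf []) (.leaf [false, false, false, false, false, false, false, false, false]))) (.node (.node (.leaf []) (.leaf [])) (.node (.leaf []) (.leaf [false, false, false, false, false, false])))) (.node (.node (.node (.node (.leaf []) (.leaf [])) (.leaf [])) (.node (.leaf []) (.leaf []))) (.node (.node (.leaf []) (.leaf [])) (.node (.leaf []) (.leaf [])))))

def certSLab75 : Janko.Tree (List Bool) :=
  (.node (.node (.node (.node (.node (.leaf []) (.leaf [])) (.leaf [])) (.node (.leaf [false, false, false, false, false, false, false, false, false, false, false]) (.leaf [false, false, false, false, false, false, false, false, false, false, false, false]))) (.node (.node (.leaf []) (.leaf [])) (.node (.leaf [false, false, false, false, false, false, false, false, false, false]) (.leaf [false, false, false, false, false, false, false])))) (.node (.node (.node (.node (.leaf []) (.leaf [])) (.leaf [])) (.node (.leaf []) (.leaf [false, false, false, false]))) (.node (.node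 (.leaf []) (.leaf [])) (.node (.leaf [false, false]) (.leaf [false, false, false, false, false, false, false, false, false, false])))))

def certSLab76 : Janko.Tree (List Bool) :=
  (.node (.node (.node (.node (.node (.leaf []) (.leaf [false, false, false])) (.leaf [])) (.node (.leaf []) (.leaf [false, false, false, false, false, false]))) (.node (.node (.leaf []) (.leaf [false, false, false])) (.node (.leaf []) (.leaf [])))) (.node (.node (.node (.node (.leaf []) (.leaf [false, false, false, false, false, false, false, false, false, false, false, false])) (.leaf [false, false, false, false, false, false, false, false, false, false, false, false])) (.node (.leaf []) (.leaf [false, false, false, false, false, false, false, false, false]))) (.node (.node (.leaf []) (.leaf [])) (.node (.leaf []) (.leaf [])))))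

def certSLab77 : Janko.Tree (List Bool) :=
  (.node (.node (.node (.node (.node (.leaf []) (.leaf [false, false, false, false, false, false, false])) (.leaf [])) (.node (.leaf []) (.leaf [false, false, false, false, false, false, false, false, false]))) (.node (.node (.leaf []) (.leaf [false])) (.node (.leaf []) (.leaf [false, false, false, false, false, false, false])))) (.node (.node (.node (.node (.leaf []) (.leaf [false])) (.leaf [])) (.node (.leaf []) (.leaf [false, false, false, false, false, false]))) (.node (.node (.leaf []) (.leaf [false, false, false, false, false, false, false])) (.node (.leaf []) (.leaf [false, false, false, false, false, false, false, false, false])))))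

def certSLab78 : Janko.Tree (List Bool) :=
  (.node (.node (.node (.node (.node (.leaf []) (.leaf [false, false, false, false, false, false, false, false, false, false])) (.leaf [false, false, false, false])) (.node (.leaf []) (.leaf [false, false, false, false, false, false]))) (.node (.node (.leaf []) (.leaf [])) (.node (.leaf []) (.leaf [false, false, false, false, false, false, false, false, false, false, false])))) (.node (.node (.node (.node (.leaf []) (.leaf [false, false, false, false, false, false, false, false, false, false, false, false])) (.leaf [false, false, false, false, false, false, false, false, false, false])) (.node (.leaf []) (.leaf []))) (.node (.node (.leaf []) (.leaf [])) (.node (.leaf []) (.leaf [])))))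

def certSLab79 : Janko.Tree (List Bool) :=
  (.node (.node (.node (.node (.node (.leaf []) (.leaf [false, false, false, false, false, false, false, false, false, false, false])) (.leaf [])) (.node (.leaf []) (.leaf []))) (.node (.node (.leaf []) (.leaf [false, false, false, false, false, false, false, false, false, false, false])) (.node (.leaf []) (.leaf [false, false, false, false])))) (.node (.node (.node (.node (.leaf []) (.leaf [false, false, false, false, false, false, false, false, false])) (.leaf [])) (.node (.leaf []) (.leaf [false, false]))) (.node (.node (.leaf []) (.leaf [])) (.node (.leaf []) (.leaf [false, false, false, false, false, false, false, false, false, false, false, false])))))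

def certSLab80 : Janko.Tree (List Bool) :=
  (.node (.node (.node (.node (.node (.leaf []) (.leaf [false, false, false, false, false, false, false, false, false])) (.leaf [false, false, false, false])) (.node (.leaf []) (.leaf []))) (.node (.node (.leaf []) (.leaf [])) (.node (.leaf [false, false, false, false, false, false, false]) (.leaf [false, false, false, false, false, false, false, false, false, false, false, false])))) (.node (.node (.node (.node (.leaf []) (.leaf [false, false, false, false, false])) (.leaf [false, false, false, false, false, false, false])) (.node (.leaf []) (.leaf [false, false, false, false, false, false, false, false, false, false, false]))) (.node (.node (.leaf []) (.leaf [])) (.node (.leaf []) (.leaf [false, false, false, false, false, false, false, false, false, false, false])))))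

def certSLab81 : Janko.Tree (List Bool) :=
  (.node (.node (.node (.node (.node (.leaf []) (.leaf [false, false, false, false, false, false])) (.leaf [])) (.node (.leaf []) (.leaf []))) (.node (.node (.leaf []) (.leaf [])) (.node (.leaf []) (.leaf [false, false, false, false, false, false, false])))) (.node (.node (.node (.node (.leaf []) (.leaf [false, false, false, false, false])) (.leaf [])) (.node (.leaf []) (.leaf [false, false, false, false, false, false]))) (.node (.node (.leaf []) (.leaf [])) (.node (.leaf []) (.leaf [])))))

def certSLab82 : Janko.Tree (List Bool) :=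
  (.node (.node (.node (.node (.node (.leaf []) (.leaf [false, false, false, false, false, false])) (.leaf [])) (.node (.leaf []) (.leaf []))) (.node (.node (.leaf []) (.leaf [])) (.node (.leaf [false, false, false, false, false, false, false, false, false, false, false, false]) (.leaf [])))) (.node (.node (.node (.node (.leaf []) (.leaf [false, false, false, false, false, false, false, false, false, false, false, false])) (.leaf [])) (.node (.leaf []) (.leaf [false, false, false, false, false, false, false, false]))) (.node (.node (.leaf []) (.leaf [false, false, false, false, false, false, false, false, false, false])) (.node (.leaf []) (.leaf [false, false, false, false, false, false, false])))))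

def certSLab83 : Janko.Tree (List Bool) :=
  (.node (.node (.node (.node (.node (.leaf []) (.leaf [false, false, false, false, false, false, false, false, false])) (.leaf [])) (.node (.leaf []) (.leaf [false, false, false, false]))) (.node (.node (.leaf []) (.leaf [])) (.node (.leaf []) (.leaf [false, false, false, false, false, false, false, false, false, false])))) (.node (.node (.node (.node (.leaf []) (.leaf [false, false, false])) (.leaf [])) (.node (.leaf [false]) (.leaf [false, false, false, false]))) (.node (.node (.leaf []) (.leaf [])) (.node (.leaf [false, false]) (.leaf [false, false, false, false, false, false, false, false, false, false])))))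

def certSLab84 : Janko.Tree (List Bool) :=
  (.node (.node (.node (.node (.node (.leaf []) (.leaf [false])) (.leaf [false, false, false, false, false, false, false, false, false, false, false])) (.node (.leaf [false, false, false, false]) (.leaf [false, false, false]))) (.node (.node (.leaf []) (.leaf [false, false, false, false, false])) (.node (.leaf []) (.leaf [])))) (.node (.node (.node (.node (.leaf []) (.leaf [false, false, false, false, false])) (.leaf [])) (.node (.leaf []) (.leaf []))) (.node (.node (.leaf []) (.leaf [false, false, false, false, false, false, false, false, false, false])) (.node (.leaf []) (.leaf [false, false, false, false, false, false, false, false])))))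

def certSLab85 : Janko.Tree (List Bool) :=
  (.node (.node (.node (.node (.node (.leaf []) (.leaf [false, false, false, false, false, false])) (.leaf [])) (.node (.leaf []) (.leaf []))) (.node (.node (.leaf []) (.leaf [])) (.node (.leaf []) (.leaf [false, false, false, false, false, false, false, false, false, false, false, false])))) (.node (.node (.node (.node (.leaf []) (.leaf [false, false, false])) (.leaf [])) (.node (.leaf []) (.leaf []))) (.node (.node (.leaf [false, false, false, false, false, false, false, false, false, false]) (.leaf [])) (.node (.leaf []) (.leaf [false, false, false, false, false, false, false, false, false, false, false])))))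

def certSLab86 : Janko.Tree (List Bool) :=
  (.node (.node (.node (.node (.node (.leaf []) (.leaf [false, false, false])) (.leaf [false, false, false, false, false, false, false])) (.node (.leaf []) (.leaf [false, false, false, false, false, false, false]))) (.node (.node (.leaf []) (.leaf [])) (.node (.leaf []) (.leaf [])))) (.node (.node (.node (.node (.leaf []) (.leaf [false, false, false, false, false, false, false, false, false, false])) (.leaf [])) (.node (.leaf []) (.leaf []))) (.node (.node (.leaf []) (.leaf [])) (.node (.leaf [false, false]) (.leaf [])))))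

def certSLab87 : Janko.Tree (List Bool) :=
  (.node (.node (.node (.node (.node (.leaf []) (.leaf [])) (.leaf [])) (.node (.leaf []) (.leaf [false, false, false, false, false, false, false]))) (.node (.node (.leaf []) (.leaf [])) (.node (.leaf []) (.leaf [false, false, false, false, false, false, false, false, false, false])))) (.node (.node (.node (.node (.leaf []) (.leaf [false, false, false, false, false, false, false, false, false, false])) (.leaf [])) (.node (.leaf []) (.leaf []))) (.node (.node (.leaf []) (.leaf [false, false, false, false, false, false, false, false, false, false, false])) (.node (.leaf []) (.leaf [])))))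

def certSLab88 : Janko.Tree (List Bool) :=
  (.node (.node (.node (.node (.node (.leaf []) (.leaf [false, false, false, false, false, false, false, false])) (.leaf [false, false, false, false, false, false, false, false, false, false, false, false])) (.node (.leaf []) (.leaf [false, false, false, false, false, false, false, false, false, false]))) (.node (.node (.leaf []) (.leaf [])) (.node (.leaf [false, false, false, false, false, false, false, false]) (.leaf [false, false, false, false, false, false, false, false, false, false, false, false])))) (.node (.node (.node (.node (.leaf []) (.leaf [false, false, false, false])) (.leaf [])) (.node (.leaf []) (.leaf []))) (.node (.node (.leaf []) (.leaf [])) (.node (.leaf []) (.leaf [false, false, false, false])))))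

def certSLab89 : Janko.Tree (List Bool) :=
  (.node (.node (.node (.node (.node (.leaf []) (.leaf [false, false, false])) (.leaf [false, false, false, false, false, false, false, false, false, false, false])) (.node (.leaf []) (.leaf []))) (.node (.node (.leaf []) (.leaf [])) (.node (.leaf []) (.leaf [false, false, false, false, false, false, false, false, false, false, false, false])))) (.node (.node (.node (.node (.leaf []) (.leaf [false, false, false, false, false, false])) (.leaf [])) (.node (.leaf []) (.leaf []))) (.node (.node (.leaf []) (.leaf [])) (.node (.leaf [false, false]) (.leaf [false, false, false, false, false, false, false, false, false, false, false, false])))))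

def certSLab90 : Janko.Tree (List Bool) :=
  (.node (.node (.node (.node (.node (.leaf []) (.leaf [])) (.leaf [])) (.node (.leaf []) (.leaf []))) (.node (.node (.leaf []) (.leaf [])) (.node (.leaf [false, false]) (.leaf [])))) (.node (.node (.node (.node (.leaf []) (.leaf [false, false, false, false, false, false, false, false, false, false, false, false])) (.leaf [])) (.node (.leaf []) (.leaf [false, false]))) (.node (.node (.leaf []) (.leaf [])) (.node (.leaf [false, false, false, false, false, false, false, false]) (.leaf [false, false, false, false, false, false])))))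

def certSLab91 : Janko.Tree (List Bool) :=
  (.node (.node (.node (.node (.node (.leaf []) (.leaf [])) (.leaf [])) (.node (.leaf [false, false, false, false, false, false, false, false, false, false]) (.leaf []))) (.node (.node (.leaf []) (.leaf [])) (.node (.leaf []) (.leaf [false, false, false, false, false, false, false, false, false])))) (.node (.node (.node (.node (.leaf []) (.leaf [])) (.leaf [])) (.node (.leaf [false, false, false]) (.leaf [false, false, false, false, false, false, false, false, false, false, false]))) (.node (.node (.leaf []) (.leaf [])) (.node (.leaf []) (.leaf [false, false, false, false, false, false, false, false, false, false])))))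

def certSLab92 : Janko.Tree (List Bool) :=
  (.node (.node (.node (.node (.node (.leaf []) (.leaf [])) (.leaf [false, false, false, false, false, false, false, false, false, false, false])) (.node (.leaf [false, false, false, false, false, false]) (.leaf [false]))) (.node (.node (.leaf []) (.leaf [])) (.node (.leaf [false, false, false, false, false, false, false, false, false, false, false, false]) (.leaf [false, false, false, false, false])))) (.node (.node (.node (.node (.leaf []) (.leaf [false])) (.leaf [false, false, false, false, false, false, false, false, false, false, false])) (.node (.leaf []) (.leaf [false, false, false]))) (.node (.node (.leaf []) (.leaf [false, false, false, false, false, false, false, false, false, false])) (.node (.leaf []) (.leaf [])))))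

def certSLab93 : Janko.Tree (List Bool) :=
  (.node (.node (.node (.node (.node (.leaf []) (.leaf [false])) (.leaf [])) (.node (.leaf []) (.leaf []))) (.node (.node (.leaf []) (.leaf [false, false, false, false, false, false, false, false, false, false, false, false])) (.node (.leaf []) (.leaf [])))) (.node (.node (.node (.node (.leaf []) (.leaf [false, false, false, false, false, false, false, false])) (.leaf [false, false, false, false])) (.node (.leaf []) (.leaf [false, false, false, false, false, false]))) (.node (.node (.leaf [false, false, false, false, false, false, false, false, false, false]) (.leaf [])) (.node (.leaf []) (.leaf [])))))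

def certSLab94 : Janko.Tree (List Bool) :=
  (.node (.node (.node (.node (.node (.leaf []) (.leaf [false, false, false, false, false, false, false])) (.leaf [])) (.node (.leaf []) (.leaf []))) (.node (.node (.leaf []) (.leaf [false, false, false, false, false, false, false])) (.node (.leaf []) (.leaf [])))) (.node (.node (.node (.node (.leaf [false, false, false, false, false, false, false]) (.leaf [false, false, false, false, false, false])) (.leaf [false, false, false, false, false])) (.node (.leaf []) (.leaf []))) (.node (.node (.leaf []) (.leaf [])) (.node (.leaf []) (.leaf [false, false, false, false])))))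

def certSLab95 : Janko.Tree (List Bool) :=
  (.node (.node (.node (.node (.node (.leaf []) (.leaf [false, false, false, false, false, false, false, false])) (.leaf [false, false, false, false, false, false])) (.node (.leaf [false, false, false, false]) (.leaf []))) (.node (.node (.leaf []) (.leaf [])) (.node (.leaf []) (.leaf [false, false])))) (.node (.node (.node (.node (.leaf []) (.leaf [])) (.leaf [])) (.node (.leaf []) (.leaf []))) (.node (.node (.leaf []) (.leaf [false, false, false, false, false, false, false, false, false, false])) (.node (.leaf [false, false]) (.leaf [false, false, false, false])))))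

def certSLab96 : Janko.Tree (List Bool) :=
  (.node (.node (.node (.node (.node (.leaf []) (.leaf [])) (.leaf [false])) (.node (.leaf []) (.leaf []))) (.node (.node (.leaf []) (.leaf [])) (.node (.leaf [false, false, false]) (.leaf [])))) (.node (.node (.node (.node (.leaf []) (.leaf [false])) (.leaf [false])) (.node (.leaf []) (.leaf [false, false, false, false, false, false, false, false, false, false, false, false]))) (.node (.node (.leaf []) (.leaf [])) (.node (.leaf []) (.leaf [false, false, false, false, false, false])))))

def certSLab97 : Janko.Tree (List Bool) :=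
  (.node (.node (.node (.node (.node (.leaf []) (.leaf [])) (.leaf [])) (.node (.leaf []) (.leaf [false, false, false]))) (.node (.node (.leaf []) (.leaf [])) (.node (.leaf []) (.leaf [])))) (.node (.node (.node (.node (.leaf []) (.leaf [])) (.leaf [])) (.node (.leaf []) (.leaf []))) (.node (.node (.leaf []) (.leaf [])) (.node (.leaf []) (.leaf [false, false])))))

def certSLab98 : Janko.Tree (List Bool) :=
  (.node (.node (.node (.node (.node (.leaf []) (.leaf [false])) (.leaf [])) (.node (.leaf [false, false, false, false, false, false, false, false, false, false]) (.leaf [false, false]))) (.node (.node (.leaf []) (.leaf [false, false, false])) (.node (.leaf []) (.leaf [])))) (.node (.node (.node (.node (.leaf []) (.leaf [false, false, false, false, false, false, false, false, false, false, false])) (.leaf [])) (.node (.leaf []) (.leaf [false]))) (.node (.node (.leaf []) (.leaf [])) (.node (.leaf []) (.leaf [false, false, false, false])))))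

def certSLab99 : Janko.Tree (List Bool) :=
  (.node (.node (.node (.node (.node (.leaf []) (.leaf [false, false, false, false, false, false, false])) (.leaf [])) (.node (.leaf []) (.leaf [false]))) (.node (.node (.leaf []) (.leaf [false, false, false])) (.node (.leaf [false, false, false]) (.leaf [false, false, false])))) (.node (.node (.node (.node (.leaf []) (.leaf [false, false, false, false, false, false])) (.leaf [false, false, false, false, false, false, false, false, false, false])) (.node (.leaf []) (.leaf []))) (.node (.node (.leaf []) (.leaf [])) (.node (.leaf [false, false, false, false, false, false, false, false, false]) (.leaf [false])))))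

def certSLab100 : Janko.Tree (List Bool) :=
  (.node (.node (.node (.node (.node (.leaf []) (.leaf [false, false, false, false, false, false, false, false, false, false, false])) (.leaf [])) (.node (.leaf []) (.leaf []))) (.node (.node (.leaf []) (.leaf [false])) (.node (.leaf []) (.leaf [false, false, false, false, false])))) (.node (.node (.node (.node (.leaf []) (.leaf [])) (.leaf [])) (.node (.leaf []) (.leaf []))) (.node (.node (.leaf []) (.leaf [])) (.node (.leaf []) (.leaf [false, false])))))

def certSLab101 : Janko.Tree (List Bool) :=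
  (.node (.node (.node (.node (.node (.leaf []) (.leaf [])) (.leaf [false, false, false])) (.node (.leaf [false, false, false, false, false, false]) (.leaf []))) (.node (.node (.leaf []) (.leaf [false, false, false, false, false, false, false, false])) (.node (.leaf []) (.leaf [])))) (.node (.node (.node (.node (.leaf []) (.leaf [false, false, false, false, false, false, false, false, false])) (.leaf [])) (.node (.leaf []) (.leaf []))) (.node (.node (.leaf []) (.leaf [])) (.node (.leaf [false]) (.leaf [false, false, false, false, false, false])))))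

def certSLab102 : Janko.Tree (List Bool) :=
  (.node (.node (.node (.node (.node (.leaf []) (.leaf [false, false, false, false, false, false, false])) (.leaf [])) (.node (.leaf []) (.leaf []))) (.node (.node (.leaf []) (.leaf [])) (.node (.leaf []) (.leaf [false, false, false, false, false, false])))) (.node (.node (.node (.node (.leaf []) (.leaf [false, false, false, false, false, false, false, false])) (.leaf [])) (.node (.leaf []) (.leaf []))) (.node (.node (.leaf []) (.leaf [])) (.node (.leaf []) (.leaf [false, false, false, false])))))

def certSLab103 : Janko.Tree (List Bool) :=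
  (.node (.node (.node (.node (.node (.leaf []) (.leaf [false, false, false, false, false, false, false, false, false, false])) (.leaf [])) (.node (.leaf []) (.leaf []))) (.node (.node (.leaf []) (.leaf [false, false, false, false, false, false, false, false, false, false, false])) (.node (.leaf []) (.leaf [])))) (.node (.node (.node (.node (.leaf []) (.leaf [])) (.leaf [])) (.node (.leaf []) (.leaf []))) (.node (.node (.leaf []) (.leaf [])) (.node (.leaf [false]) (.leaf [false, false, false, false, false, false])))))

def certSLab104 : Janko.Tree (List Bool) :=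
  (.node (.node (.node (.node (.node (.leaf []) (.leaf [false, false, false, false, false, false, false, false, false, false])) (.leaf [false, false, false, false, false, false, false, false, false, false, false, false])) (.node (.leaf []) (.leaf []))) (.node (.node (.leaf []) (.leaf [])) (.node (.leaf [false, false, false, false, false, false, false, false, false, false, false]) (.leaf [false, false, false, false, false, false, false, false, false, false, false])))) (.node (.node (.node (.node (.leaf []) (.leaf [false, false, false, false, false, false, false, false])) (.leaf [])) (.node (.leaf []) (.leaf [false, false, false, false, false, false, false, false]))) (.node (.node (.leaf []) (.leaf [])) (.node (.leaf []) (.leaf [])))))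

def certSLab105 : Janko.Tree (List Bool) :=
  (.node (.node (.node (.node (.node (.leaf []) (.leaf [false, false])) (.leaf [])) (.node (.leaf []) (.leaf []))) (.node (.node (.leaf []) (.leaf [])) (.node (.leaf [false]) (.leaf [false, false, false, false])))) (.node (.node (.node (.node (.leaf []) (.leaf [])) (.leaf [])) (.node (.leaf []) (.leaf []))) (.node (.node (.leaf [false, false, false, false, false, false, false]) (.leaf [false, false, false, false, false, false, false, false])) (.node (.leaf []) (.leaf [false, false, false, false, false, false, false, false, false, false, false, false])))))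

def certSLab106 : Janko.Tree (List Bool) :=
  (.node (.node (.node (.node (.node (.leaf []) (.leaf [])) (.leaf [])) (.node (.leaf []) (.leaf [false, false, false, false, false, false]))) (.node (.node (.leaf []) (.leaf [false, false, false, false])) (.node (.leaf [false]) (.leaf [])))) (.node (.node (.node (.node (.leaf []) (.leaf [])) (.leaf [false, false, false])) (.node (.leaf []) (.leaf [false, false, false, false, false, false, false, false, false, false]))) (.node (.node (.leaf []) (.leaf [])) (.node (.leaf []) (.leaf [false, false, false])))))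

def certSLab107 : Janko.Tree (List Bool) :=
  (.node (.node (.node (.node (.node (.leaf [false, false, false, false, false, false]) (.leaf [])) (.leaf [])) (.node (.leaf []) (.leaf []))) (.node (.node (.leaf []) (.leaf [])) (.node (.leaf [false, false, false, false]) (.leaf [])))) (.node (.node (.node (.node (.leaf []) (.leaf [false, false, false, false, false, false, false, false, false])) (.leaf [])) (.node (.leaf []) (.leaf []))) (.node (.node (.leaf []) (.leaf [false, false, false, false, false, false, false])) (.node (.leaf []) (.leaf [false, false, false, false, false, false, false, false, false, false, false])))))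

def certSLab108 : Janko.Tree (List Bool) :=
  (.node (.node (.node (.node (.node (.leaf []) (.leaf [])) (.leaf [])) (.node (.leaf []) (.leaf []))) (.node (.node (.leaf [false, false, false, false, false, false, false, false, false, false, false, false]) (.leaf [])) (.node (.leaf []) (.leaf [false, false, false, false, false, false, false, false])))) (.node (.node (.node (.node (.leaf []) (.leaf [])) (.leaf [])) (.node (.leaf []) (.leaf []))) (.node (.node (.leaf []) (.leaf [])) (.node (.leaf []) (.leaf [false])))))

def certSLab109 : Janko.Tree (List Bool) :=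
  (.node (.node (.node (.node (.node (.leaf []) (.leaf [false, false])) (.leaf [])) (.node (.leaf []) (.leaf [false]))) (.node (.node (.leaf []) (.leaf [false])) (.node (.leaf []) (.leaf [])))) (.node (.node (.node (.node (.leaf []) (.leaf [false, false, false, false, false, false, false, false, false, false])) (.leaf [false, false, false, false, false, false])) (.node (.leaf []) (.leaf [false, false, false, false, false, false, false, false, false, false, false]))) (.node (.node (.leaf []) (.leaf [])) (.node (.leaf [false, false]) (.leaf [false])))))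

def certSLab110 : Janko.Tree (List Bool) :=
  (.node (.node (.node (.node (.node (.leaf []) (.leaf [])) (.leaf [])) (.node (.leaf []) (.leaf [false, false, false, false, false, false, false]))) (.node (.node (.leaf []) (.leaf [false, false, false, false, false, false, false, false])) (.node (.leaf []) (.leaf [])))) (.node (.node (.node (.node (.leaf []) (.leaf [false, false, false, false, false])) (.leaf [false, false, false, false, false, false, false])) (.node (.leaf []) (.leaf []))) (.node (.node (.leaf []) (.leaf [])) (.node (.leaf [false]) (.leaf [false, false, false, false, false, false, false])))))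

def certSLab111 : Janko.Tree (List Bool) :=
  (.node (.node (.node (.node (.node (.leaf []) (.leaf [])) (.leaf [])) (.node (.leaf []) (.leaf [false, false, false, false, false, false, false, false, false]))) (.node (.node (.leaf []) (.leaf [false, false])) (.node (.leaf []) (.leaf [])))) (.node (.node (.node (.node (.leaf []) (.leaf [false, false, false, false, false])) (.leaf [false, false, false])) (.node (.leaf [false, false, false, false, false, false, false]) (.leaf [false, false, false, false, false, false, false]))) (.node (.node (.leaf []) (.leaf [])) (.node (.leaf []) (.leaf [false, false, false, false, false, false, false, false, false, false, false])))))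

def certSLab112 : Janko.Tree (List Bool) :=
  (.node (.node (.node (.node (.node (.leaf []) (.leaf [false, false, false, false, false, false])) (.leaf [])) (.node (.leaf []) (.leaf []))) (.node (.node (.leaf []) (.leaf [false, false, false, false, false, false, false, false, false])) (.node (.leaf [false, false, false, false, false, false]) (.leaf [])))) (.node (.node (.node (.node (.leaf []) (.leaf [false, false, false, false, false, false, false, false])) (.leaf [])) (.node (.leaf []) (.leaf [false, false, false]))) (.node (.node (.leaf []) (.leaf [])) (.node (.leaf [false]) (.leaf [])))))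

def certSLab113 : Janko.Tree (List Bool) :=
  (.node (.node (.node (.node (.node (.leaf []) (.leaf [false, false, false, false, false, false, false, false, false, false, false, false])) (.leaf [])) (.node (.leaf []) (.leaf [false, false, false, false, false, false, false, false, false, false]))) (.node (.node (.leaf []) (.leaf [false, false, false, false, false, false, false, false, false])) (.node (.leaf []) (.leaf [])))) (.node (.node (.node (.node (.leaf [false, false, false, false, false, false]) (.leaf [false, false, false, false, false, false])) (.leaf [false, false, false, false, false, false, false])) (.node (.leaf []) (.leaf []))) (.node (.node (.leaf []) (.leaf [false, false])) (.node (.leaf [false]) (.leaf [false, false])))))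

def certSLab114 : Janko.Tree (List Bool) :=
  (.node (.node (.node (.node (.node (.leaf []) (.leaf [false, false])) (.leaf [])) (.node (.leaf []) (.leaf [false, false, false, false, false, false, false]))) (.node (.node (.leaf []) (.leaf [])) (.node (.leaf []) (.leaf [false, false, false, false, false, false])))) (.node (.node (.node (.node (.leaf []) (.leaf [false, false, false, false, false, false, false, false])) (.leaf [false, false, false, false, false, false, false, false, false, false])) (.node (.leaf []) (.leaf []))) (.node (.node (.leaf []) (.leaf [false, false, false, false, false, false, false, false, false, false, false])) (.node (.leaf [false, false, false, false, false, false, false, false, false, false, false]) (.leaf [])))))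

def certSLab115 : Janko.Tree (List Bool) :=
  (.node (.node (.node (.node (.node (.leaf []) (.leaf [false, false, false, false, false, false])) (.leaf [])) (.node (.leaf []) (.leaf [false, false]))) (.node (.node (.leaf []) (.leaf [])) (.node (.leaf []) (.leaf [])))) (.node (.node (.node (.node (.leaf []) (.leaf [false, false, false, false, false])) (.leaf [false, false, false, false])) (.node (.leaf []) (.leaf [false, false, false, false, false]))) (.node (.node (.leaf []) (.leaf [])) (.node (.leaf []) (.leaf [false, false, false, false, false, false, false, false])))))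

def certSLab116 : Janko.Tree (List Bool) :=
  (.node (.node (.node (.node (.node (.leaf []) (.leaf [false, false, false, false, false, false, false])) (.leaf [false, false, false])) (.node (.leaf []) (.leaf [false, false, false, false, false, false, false]))) (.node (.node (.leaf []) (.leaf [false, false, false, false, false])) (.node (.leaf [false, false, false]) (.leaf [])))) (.node (.node (.node (.node (.leaf []) (.leaf [false])) (.leaf [false, false, false, false, false, false, false])) (.node (.leaf []) (.leaf [false, false, false, false, false]))) (.node (.node (.leaf [false, false, false, false, false, false, false]) (.leaf [])) (.node (.leaf []) (.leaf [])))))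

def certSLab117 : Janko.Tree (List Bool) :=
  (.node (.node (.node (.node (.node (.leaf []) (.leaf [false, false, false, false, false, false, false])) (.leaf [])) (.node (.leaf []) (.leaf []))) (.node (.node (.leaf []) (.leaf [false])) (.node (.leaf []) (.leaf [])))) (.node (.node (.node (.node (.leaf []) (.leaf [false, false, false, false])) (.leaf [])) (.node (.leaf []) (.leaf []))) (.node (.node (.leaf []) (.leaf [])) (.node (.leaf [false, false, false, false, false, false, false, false, false, false, false]) (.leaf [false, false, false, false, false, false])))))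

def certSLab118 : Janko.Tree (List Bool) :=
  (.node (.node (.node (.node (.node (.leaf []) (.leaf [])) (.leaf [])) (.node (.leaf []) (.leaf []))) (.node (.node (.leaf []) (.leaf [false])) (.node (.leaf []) (.leaf [false, false, false, false, false, false, false])))) (.node (.node (.node (.node (.leaf []) (.leaf [false, false])) (.leaf [])) (.node (.leaf []) (.leaf []))) (.node (.node (.leaf []) (.leaf [])) (.node (.leaf []) (.leaf [false, false, false, false])))))

def certSLab119 : Janko.Tree (List Bool) :=
  (.node (.node (.node (.node (.node (.leaf []) (.leaf [])) (.leaf [])) (.node (.leaf []) (.leaf [false, false, false, false, false, false, false]))) (.node (.node (.leaf []) (.leaf [])) (.node (.leaf []) (.leaf [])))) (.node (.node (.node (.node (.leaf []) (.leaf [false])) (.leaf [false, false, false, false])) (.node (.leaf []) (.leaf []))) (.node (.node (.leaf []) (.leaf [false, false, false, false, false, false, false])) (.node (.leaf []) (.leaf [false, false, false, false, false])))))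

def certSLab120 : Janko.Tree (List Bool) :=
  (.node (.node (.node (.node (.node (.leaf []) (.leaf [false, false, false, false, false])) (.leaf [false, false, false, false, false, false, false])) (.node (.leaf []) (.leaf []))) (.node (.node (.leaf []) (.leaf [])) (.node (.leaf [false, false, false, false, false, false, false, false, false, false, false]) (.leaf [])))) (.node (.node (.node (.node (.leaf []) (.leaf [])) (.leaf [])) (.node (.leaf []) (.leaf []))) (.node (.node (.leaf []) (.leaf [false, false, false, false])) (.node (.leaf []) (.leaf [false, false, false])))))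

def certSLab121 : Janko.Tree (List Bool) :=
  (.node (.node (.node (.node (.node (.leaf []) (.leaf [false, false, false, false, false, false, false])) (.leaf [])) (.node (.leaf []) (.leaf []))) (.node (.node (.leaf []) (.leaf [])) (.node (.leaf []) (.leaf [])))) (.node (.node (.node (.node (.leaf []) (.leaf [false, false, false, false, false])) (.leaf [])) (.node (.leaf []) (.leaf [false, false, false, false, false]))) (.node (.node (.leaf []) (.leaf [false, false, false, false, false, false])) (.node (.leaf []) (.leaf [])))))

def certSLab122 : Janko.Tree (List Bool) :=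
  (.node (.node (.node (.node (.node (.leaf []) (.leaf [])) (.leaf [])) (.node (.leaf [false]) (.leaf []))) (.node (.node (.leaf []) (.leaf [false, false, false, false, false])) (.node (.leaf []) (.leaf [false, false, false, false, false, false, false])))) (.node (.node (.node (.node (.leaf []) (.leaf [])) (.leaf [false, false, false])) (.node (.leaf []) (.leaf []))) (.node (.node (.leaf []) (.leaf [false, false, false, false, false, false, false, false, false, false, false])) (.node (.leaf []) (.leaf [])))))

def certSLab123 : Janko.Tree (List Bool) :=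
  (.node (.node (.node (.node (.node (.leaf []) (.leaf [false, false, false])) (.leaf [])) (.node (.leaf []) (.leaf [false, false, false, false, false, false, false, false, false]))) (.node (.node (.leaf []) (.leaf [])) (.node (.leaf [false, false, false]) (.leaf [false, false, false, false])))) (.node (.node (.node (.node (.leaf []) (.leaf [false, false, false, false, false, false, false, false])) (.leaf [false, false, false, false, false, false, false, false, false, false])) (.node (.leaf []) (.leaf []))) (.node (.node (.leaf []) (.leaf [false, false, false, false, false, false, false, false, false, false])) (.node (.leaf []) (.leaf [])))))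

def certSLab124 : Janko.Tree (List Bool) :=
  (.node (.node (.node (.node (.node (.leaf []) (.leaf [false, false, false, false, false, false, false])) (.leaf [false])) (.node (.leaf []) (.leaf []))) (.node (.node (.leaf []) (.leaf [])) (.node (.leaf []) (.leaf [])))) (.node (.node (.node (.node (.leaf []) (.leaf [false, false, false])) (.leaf [false, false, false, false, false, false])) (.node (.leaf []) (.leaf [false, false, false, false, false]))) (.node (.node (.leaf []) (.leaf [])) (.node (.leaf []) (.leaf [false, false, false, false, false, false, false, false, false, false, false, false])))))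

def certSLab125 : Janko.Tree (List Bool) :=
  (.node (.node (.node (.node (.node (.leaf []) (.leaf [false, false])) (.leaf [false, false, false, false, false, false, false, false, false, false, false])) (.node (.leaf []) (.leaf []))) (.node (.node (.leaf []) (.leaf [false, false, false, false, false, false, false, false, false])) (.node (.leaf [false, false, false, false, false, false]) (.leaf [])))) (.node (.node (.node (.node (.leaf []) (.leaf [])) (.leaf [])) (.node (.leaf [false, false, false, false, false, false, false, false, false, false, false, false]) (.leaf []))) (.node (.node (.leaf []) (.leaf [])) (.node (.leaf []) (.leaf [])))))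

def certSLab126 : Janko.Tree (List Bool) :=
  (.node (.node (.node (.node (.node (.leaf []) (.leaf [false, false, false, false, false, false, false, false, false])) (.leaf [])) (.node (.leaf [false, false]) (.leaf []))) (.node (.node (.leaf []) (.leaf [])) (.node (.leaf []) (.leaf [false, false, false, false])))) (.node (.node (.node (.node (.leaf []) (.leaf [false, false])) (.leaf [])) (.node (.leaf []) (.leaf []))) (.node (.node (.leaf []) (.leaf [])) (.node (.leaf []) (.leaf [false, false, false, false, false, false, false, false, false, false])))))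

def certSLab127 : Janko.Tree (List Bool) :=
  (.node (.node (.node (.node (.node (.leaf []) (.leaf [])) (.leaf [])) (.node (.leaf []) (.leaf [false, false, false]))) (.node (.node (.leaf []) (.leaf [false, false])) (.node (.leaf []) (.leaf [false, false, false, false])))) (.node (.node (.node (.node (.leaf [false, false, false, false, false, false]) (.leaf [false, false])) (.leaf [false, false, false, false, false, false, false, false, false, false])) (.node (.leaf []) (.leaf [false, false, false, false, false]))) (.node (.node (.leaf []) (.leaf [])) (.node (.leaf []) (.leaf [])))))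

def certSLab128 : Janko.Tree (List Bool) :=
  (.node (.node (.node (.node (.node (.leaf []) (.leaf [false, false, false, false, false, false, false, false, false, false])) (.leaf [])) (.node (.leaf []) (.leaf [false, false, false, false, false, false, false, false, false, false, false, false]))) (.node (.node (.leaf []) (.leaf [])) (.node (.leaf []) (.leaf [false, false, false, false, false, false, false, false, false, false, false])))) (.node (.node (.node (.leaf []) (.leaf [])) (.node (.leaf []) (.leaf []))) (.node (.node (.leaf []) (.leaf [false, false, false, false, false, false])) (.node (.leaf [false, false]) (.leaf [false, false, false, false, false, false, false, false, false, false])))))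

def certSLab129 : Janko.Tree (List Bool) :=
  (.node (.node (.node (.node (.node (.leaf []) (.leaf [])) (.leaf [])) (.node (.leaf []) (.leaf []))) (.node (.node (.leaf []) (.leaf [])) (.node (.leaf []) (.leaf [false])))) (.node (.node (.node (.leaf []) (.leaf [])) (.node (.leaf []) (.leaf []))) (.node (.node (.leaf []) (.leaf [])) (.node (.leaf []) (.leaf [])))))

def certSLab130 : Janko.Tree (List Bool) :=
  (.node (.node (.node (.node (.node (.leaf []) (.leaf [])) (.leaf [])) (.node (.leaf []) (.leaf [false, false, false, false, false, false, false, false, false, false, false]))) (.node (.node (.leaf []) (.leaf [false, false])) (.node (.leaf []) (.leaf [])))) (.node (.node (.node (.leaf []) (.leaf [false])) (.node (.leaf []) (.leaf []))) (.node (.node (.leaf []) (.leaf [])) (.node (.leaf []) (.leaf [false, false, false, false, false, false, false, false])))))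

def certSLab131 : Janko.Tree (List Bool) :=
  (.node (.node (.node (.node (.node (.leaf []) (.leaf [false, false, false, false, false, false, false, false])) (.leaf [false])) (.node (.leaf []) (.leaf [false, false, false, false, false, false, false, false, false, false, false]))) (.node (.node (.leaf []) (.leaf [false])) (.node (.leaf []) (.leaf [false, false, false, false, false, false, false, false, false, false])))) (.node (.node (.node (.leaf []) (.leaf [])) (.node (.leaf []) (.leaf []))) (.node (.node (.leaf []) (.leaf [])) (.node (.leaf []) (.leaf [false, false, false, false, false, false])))))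

def certSLab132 : Janko.Tree (List Bool) :=
  (.node (.node (.node (.node (.node (.leaf []) (.leaf [])) (.leaf [false])) (.node (.leaf []) (.leaf [false, false, false, false, false, false, false]))) (.node (.node (.leaf []) (.leaf [])) (.node (.leaf []) (.leaf [false, false, false, false, false, false, false, false, false, false, false, false])))) (.node (.node (.node (.leaf []) (.leaf [false, false])) (.node (.leaf []) (.leaf []))) (.node (.node (.leaf []) (.leaf [])) (.node (.leaf []) (.leaf [false, false, false, false, false, false, false, false])))))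

def certSLab133 : Janko.Tree (List Bool) :=
  (.node (.node (.node (.node (.node (.leaf []) (.leaf [])) (.leaf [])) (.node (.leaf []) (.leaf [false, false, false]))) (.node (.node (.leaf [false, false, false, false, false, false]) (.leaf [false, false, false, false, false, false, false, false, false, false, false])) (.node (.leaf []) (.leaf [false, false, false, false, false, false, false, false, false, false, false, false])))) (.node (.node (.node (.leaf []) (.leaf [])) (.node (.leaf []) (.leaf []))) (.node (.node (.leaf []) (.leaf [])) (.node (.leaf [false, false, false, false]) (.leaf [false, false])))))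

def certSLab134 : Janko.Tree (List Bool) :=
  (.node (.node (.node (.node (.node (.leaf []) (.leaf [false, false, false, false, false, false, false, false, false])) (.leaf [])) (.node (.leaf []) (.leaf [false]))) (.node (.node (.leaf []) (.leaf [])) (.node (.leaf []) (.leaf [])))) (.node (.node (.node (.leaf []) (.leaf [])) (.node (.leaf []) (.leaf []))) (.node (.node (.leaf [false, false, false, false, false, false]) (.leaf [false, false, false, false, false, false])) (.node (.leaf []) (.leaf [])))))

def certSLab135 : Janko.Tree (List Bool) :=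
  (.node (.node (.node (.node (.node (.leaf []) (.leaf [])) (.leaf [])) (.node (.leaf []) (.leaf [false, false, false]))) (.node (.node (.leaf []) (.leaf [])) (.node (.leaf []) (.leaf [false, false, false, false, false, false, false])))) (.node (.node (.node (.leaf []) (.leaf [])) (.node (.leaf []) (.leaf [false, false]))) (.node (.node (.leaf []) (.leaf [])) (.node (.leaf []) (.leaf [])))))

def certSLab136 : Janko.Tree (List Bool) :=
  (.node (.node (.node (.node (.node (.leaf []) (.leaf [])) (.leaf [])) (.node (.leaf []) (.leaf [false, false, false, false, false, false, false, false, false, false, false]))) (.node (.node (.leaf []) (.leaf [])) (.node (.leaf [false, false, false, false, false, false]) (.leaf [false, false, false, false, false, false, false, false, false, false, false])))) (.node (.node (.node (.leaf []) (.leaf [false, false, false])) (.node (.leaf []) (.leaf [false, false]))) (.node (.node (.leaf []) (.leaf [])) (.node (.leaf [false, false, false, false, false, false]) (.leaf [false])))))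

def certSLab137 : Janko.Tree (List Bool) :=
  (.node (.node (.node (.node (.node (.leaf []) (.leaf [false, false, false, false, false])) (.leaf [])) (.node (.leaf []) (.leaf [false, false, false, false, false, false, false, false, false, false, false, false]))) (.node (.node (.leaf []) (.leaf [false])) (.node (.leaf [false, false, false, false, false, false, false]) (.leaf [false, false, false, false, false, false, false, false, false, false, false])))) (.node (.node (.node (.leaf []) (.leaf [])) (.node (.leaf []) (.leaf [false, false, false, false, false, false, false, false, false, false, false]))) (.node (.node (.leaf []) (.leaf [false, false, false, false, false, false])) (.node (.leaf []) (.leaf [false, false, false, false, false, false, false, false, false, false])))))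

def certSLab138 : Janko.Tree (List Bool) :=
  (.node (.node (.node (.node (.node (.leaf []) (.leaf [false, false])) (.leaf [false, false, false, false, false, false])) (.node (.leaf []) (.leaf []))) (.node (.node (.leaf []) (.leaf [])) (.node (.leaf [false, false, false, false, false, false]) (.leaf [])))) (.node (.node (.node (.leaf [false, false, false]) (.leaf [])) (.node (.leaf []) (.leaf []))) (.node (.node (.leaf []) (.leaf [])) (.node (.leaf []) (.leaf [])))))

def certSLab139 : Janko.Tree (List Bool) :=
  (.node (.node (.node (.node (.node (.leaf []) (.leaf [])) (.leaf [])) (.node (.leaf [false, false, false, false, false, false, false]) (.leaf [false, false, false, false, false, false, false, false, false, false]))) (.node (.node (.leaf [false, false, false, false, false, false, false, false, false, false, false]) (.leaf [])) (.node (.leaf [false, false, false, false, false, false, false]) (.leaf [false, false, false, false])))) (.node (.node (.node (.leaf []) (.leaf [false, false, false])) (.node (.leaf []) (.leaf []))) (.node (.node (.leaf []) (.leaf [])) (.node (.leaf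 []) (.leaf [false, false])))))

def certSLab140 : Janko.Tree (List Bool) :=
  (.node (.node (.node (.node (.node (.leaf []) (.leaf [false])) (.leaf [])) (.node (.leaf []) (.leaf []))) (.node (.node (.leaf []) (.leaf [])) (.node (.leaf []) (.leaf [false, false, false, false, false, false])))) (.node (.node (.node (.leaf []) (.leaf [])) (.node (.leaf []) (.leaf [false, false, false, false, false]))) (.node (.node (.leaf []) (.leaf [])) (.node (.leaf [false, false, false, false]) (.leaf [false, false])))))

def certSLab141 : Janko.Tree (List Bool) :=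
  (.node (.node (.node (.node (.node (.leaf []) (.leaf [])) (.leaf [])) (.node (.leaf []) (.leaf [false, false, false, false, false]))) (.node (.node (.leaf []) (.leaf [false, false, false, false, false, false])) (.node (.leaf [false, false, false, false, false, false]) (.leaf [false, false, false])))) (.node (.node (.node (.leaf []) (.leaf [false, false, false, false, false, false])) (.node (.leaf [false, false, false, false, false, false, false, false, false, false, false, false]) (.leaf [false]))) (.node (.node (.leaf [false, false, false, false, false, false, false]) (.leaf [])) (.node (.leaf []) (.leaf [false, false, false, false, false, false, false, false, false, false, false, false])))))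

def certSLab142 : Janko.Tree (List Bool) :=
  (.node (.node (.node (.node (.node (.leaf []) (.leaf [false, false, false, false, false, false, false, false, false, false, false])) (.leaf [])) (.node (.leaf []) (.leaf []))) (.node (.node (.leaf []) (.leaf [false, false, false, false, false, false, false, false, false])) (.node (.leaf []) (.leaf [])))) (.node (.node (.node (.leaf []) (.leaf [])) (.node (.leaf []) (.leaf [false, false, false, false, false, false, false]))) (.node (.node (.leaf []) (.leaf [])) (.node (.leaf []) (.leaf [])))))

def certSLab143 : Janko.Tree (List Bool) :=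
  (.node (.node (.node (.node (.node (.leaf []) (.leaf [false, false, false, false, false, false])) (.leaf [])) (.node (.leaf []) (.leaf [false, false, false, false, false]))) (.node (.node (.leaf []) (.leaf [])) (.node (.leaf []) (.leaf [false, false, false, false, false, false, false])))) (.node (.node (.node (.leaf []) (.leaf [])) (.node (.leaf [false]) (.leaf [false, false, false, false, false, false, false, false]))) (.node (.node (.leaf []) (.leaf [])) (.node (.leaf [false, false, false, false]) (.leaf [false, false, false, false, false, false, false, false, false, false, false])))))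

def certSLab144 : Janko.Tree (List Bool) :=
  (.node (.node (.node (.node (.node (.leaf []) (.leaf [false])) (.leaf [false, false, false, false, false, false])) (.node (.leaf []) (.leaf []))) (.node (.node (.leaf []) (.leaf [false, false, false, false, false])) (.node (.leaf []) (.leaf [false, false, false, false, false])))) (.node (.node (.node (.leaf []) (.leaf [false, false, false, false, false, false, false, false, false, false])) (.node (.leaf [false]) (.leaf [false, false, false, false, false]))) (.node (.node (.leaf []) (.leaf [false, false, false, false, false, false])) (.node (.leaf []) (.leaf [false, false, false, false, false, false, false, false, false, false, false])))))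

def certSLab145 : Janko.Tree (List Bool) :=
  (.node (.node (.node (.node (.node (.leaf []) (.leaf [false, false, false, false, false, false, false, false, false, false])) (.leaf [])) (.node (.leaf []) (.leaf [false, false, false, false, false, false, false, false, false, false]))) (.node (.node (.leaf []) (.leaf [false, false, false, false, false, false, false, false, false])) (.node (.leaf []) (.leaf [false, false, false, false, false, false, false])))) (.node (.node (.node (.leaf []) (.leaf [false, false, false, false, false, false, false, false, false, false])) (.node (.leaf []) (.leaf []))) (.node (.node (.leaf []) (.leaf [false, false, false, false, false])) (.node (.leaf [false, false, false, false, false, false]) (.leaf [])))))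

def certSLab146 : Janko.Tree (List Bool) :=
  (.node (.node (.node (.node (.node (.leaf []) (.leaf [])) (.leaf [])) (.node (.leaf [false, false, false, false, false, false, false]) (.leaf [false, false, false, false, false, false, false]))) (.node (.node (.leaf [false, false, false, false, false, false, false, false, false, false, false, false]) (.leaf [false, false, false, false, false])) (.node (.leaf [false, false, false, false, false, false, false, false]) (.leaf [])))) (.node (.node (.node (.leaf []) (.leaf [])) (.node (.leaf [false, false, false, false, false, false, false, false, false, false, false, false]) (.leaf []))) (.node (.node (.leaf []) (.leaf [false, false, false, false, false, false, false])) (.node (.leaf [false, false, false, false, false, false]) (.leaf [false, false, false, false])))))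

def certSLab147 : Janko.Tree (List Bool) :=
  (.node (.node (.node (.node (.node (.leaf []) (.leaf [false])) (.leaf [false])) (.node (.leaf [false, false]) (.leaf [false, false, false, false, false, false, false, false, false, false]))) (.node (.node (.leaf []) (.leaf [])) (.node (.leaf [false, false, false, false, false, false]) (.leaf [false, false, false])))) (.node (.node (.node (.leaf []) (.leaf [false, false, false, false, false, false, false, false, false, false, false])) (.node (.leaf []) (.leaf []))) (.node (.node (.leaf [false]) (.leaf [false, false, false, false, false, false, false, false, false, false, false, false])) (.node (.leaf []) (.leaf [false, false, false, false, false, false])))))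

def certSLab148 : Janko.Tree (List Bool) :=
  (.node (.node (.node (.node (.node (.leaf []) (.leaf [])) (.leaf [false, false, false, false, false, false])) (.node (.leaf [false]) (.leaf []))) (.node (.node (.leaf []) (.leaf [false, false, false, false, false, false])) (.node (.leaf []) (.leaf [false, false, false, false, false])))) (.node (.node (.node (.leaf []) (.leaf [false, false, false, false, false, false, false])) (.node (.leaf []) (.leaf []))) (.node (.node (.leaf []) (.leaf [])) (.node (.leaf [false, false, false, false, false, false, false, false, false, false]) (.leaf [])))))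

def certSLab149 : Janko.Tree (List Bool) :=
  (.node (.node (.node (.node (.node (.leaf []) (.leaf [false, false])) (.leaf [])) (.node (.leaf []) (.leaf []))) (.node (.node (.leaf []) (.leaf [false, false, false, false, false, false, false, false, false])) (.node (.leaf []) (.leaf [false, false, false, false])))) (.node (.node (.node (.leaf []) (.leaf [])) (.node (.leaf []) (.leaf [false, false, false, false, false, false, false, false, false]))) (.node (.node (.leaf []) (.leaf [false, false, false, false, false, false, false, false, false, false, false, false])) (.node (.leaf [false]) (.leaf [false, false, false, false, false])))))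

def certSLab150 : Janko.Tree (List Bool) :=
  (.node (.node (.node (.node (.node (.leaf []) (.leaf [false, false, false, false, false, false, false, false])) (.leaf [])) (.node (.leaf [false, false, false, false, false, false]) (.leaf []))) (.node (.node (.leaf []) (.leaf [])) (.node (.leaf []) (.leaf [false, false, false])))) (.node (.node (.node (.leaf [false, false, false, false, false, false, false]) (.leaf [false, false, false, false, false, false, false, false, false, false, false])) (.node (.leaf []) (.leaf [false]))) (.node (.node (.leaf []) (.leaf [false])) (.node (.leaf [false]) (.leaf [false, false, false, false, false, false, false, false, false, false])))))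

def certSLab151 : Janko.Tree (List Bool) :=
  (.node (.node (.node (.node (.node (.leaf []) (.leaf [false, false, false, false, false, false])) (.leaf [])) (.node (.leaf []) (.leaf []))) (.node (.node (.leaf [false]) (.leaf [])) (.node (.leaf [false, false, false, false, false, false, false, false, false, false, false, false]) (.leaf [false, false, false, false])))) (.node (.node (.node (.leaf []) (.leaf [false, false, false])) (.node (.leaf []) (.leaf []))) (.node (.node (.leaf []) (.leaf [])) (.node (.leaf []) (.leaf [])))))

def certSLab152 : Janko.Tree (List Bool) :=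
  (.node (.node (.node (.node (.node (.leaf []) (.leaf [false, false])) (.leaf [])) (.node (.leaf []) (.leaf [false, false, false, false, false, false]))) (.node (.node (.leaf []) (.leaf [false, false, false])) (.node (.leaf []) (.leaf [false, false, false])))) (.node (.node (.node (.leaf []) (.leaf [])) (.node (.leaf []) (.leaf [false]))) (.node (.node (.leaf [false]) (.leaf [])) (.node (.leaf []) (.leaf [false])))))

def certSLab153 : Janko.Tree (List Bool) :=
  (.node (.node (.node (.node (.node (.leaf []) (.leaf [false, false, false, false, false, false])) (.leaf [])) (.node (.leaf []) (.leaf []))) (.node (.node (.leaf []) (.leaf [])) (.node (.leaf [false, false, false, false, false, false, false, false, false, false, false]) (.leaf [false, false, false, false, false])))) (.node (.node (.node (.leaf []) (.leaf [false, false, false, false, false, false])) (.node (.leaf []) (.leaf [false, false, false, false, false, false, false, false, false, false, false, false]))) (.node (.node (.leaf []) (.leaf [false])) (.node (.leaf []) (.leaf [])))))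

def certSLab154 : Janko.Tree (List Bool) :=
  (.node (.node (.node (.node (.node (.leaf []) (.leaf [false, false])) (.leaf [])) (.node (.leaf []) (.leaf [false, false, false, false, false, false, false]))) (.node (.node (.leaf []) (.leaf [])) (.node (.leaf [false, false, false, false, false, false, false, false, false, false, false]) (.leaf [])))) (.node (.node (.node (.leaf []) (.leaf [false, false, false])) (.node (.leaf [false, false, false]) (.leaf [false, false, false, false, false, false, false]))) (.node (.node (.leaf []) (.leaf [false])) (.node (.leaf []) (.leaf [false, false, false])))))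

def certSLab155 : Janko.Tree (List Bool) :=
  (.node (.node (.node (.node (.node (.leaf []) (.leaf [false, false, false, false, false, false, false, false, false, false])) (.leaf [])) (.node (.leaf []) (.leaf [false, false, false]))) (.node (.node (.leaf []) (.leaf [])) (.node (.leaf []) (.leaf [])))) (.node (.node (.node (.leaf [false, false, false, false, false, false]) (.leaf [])) (.node (.leaf []) (.leaf []))) (.node (.node (.leaf []) (.leaf [false, false, false, false, false, false, false, false, false, false, false])) (.node (.leaf [false, false, false, false, false, false, false, false, false, false, false]) (.leaf [false, false, false, false, false, false, false])))))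

def certSLab156 : Janko.Tree (List Bool) :=
  (.node (.node (.node (.node (.node (.leaf []) (.leaf [false])) (.leaf [])) (.node (.leaf [false, false, false]) (.leaf []))) (.node (.node (.leaf []) (.leaf [])) (.node (.leaf []) (.leaf [])))) (.node (.node (.node (.leaf []) (.leaf [])) (.node (.leaf []) (.leaf [false]))) (.node (.node (.leaf [false, false, false, false, false, false, false, false, false, false, false, false]) (.leaf [])) (.node (.leaf []) (.leaf [false, false, false, false, false, false, false])))))

def certSLab157 : Janko.Tree (List Bool) :=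
  (.node (.node (.node (.node (.node (.leaf []) (.leaf [false])) (.leaf [false, false, false, false, false, false])) (.node (.leaf []) (.leaf [false, false, false, false]))) (.node (.node (.leaf []) (.leaf [])) (.node (.leaf [false, false, false, false, false, false, false, false, false, false]) (.leaf [])))) (.node (.node (.node (.leaf []) (.leaf [])) (.node (.leaf []) (.leaf [false, false, false, false, false, false, false, false, false, false, false]))) (.node (.node (.leaf []) (.leaf [false, false, false, false, false, false, false])) (.node (.leaf []) (.leaf [false, false, false, false, false, false])))))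

def certSLab158 : Janko.Tree (List Bool) :=
  (.node (.node (.node (.node (.node (.leaf []) (.leaf [false, false, false, false, false, false, false, false, false, false, false])) (.leaf [false, false, false, false, false, false, false, false, false, false, false, false])) (.node (.leaf []) (.leaf [false, false, false, false, false, false, false, false, false, false]))) (.node (.node (.leaf []) (.leaf [false, false, false, false, false, false])) (.node (.leaf []) (.leaf [false, false, false, false, false, false, false, false, false, false, false])))) (.node (.node (.node (.leaf []) (.leaf [false, false, false, false, false, false, false, false, false, false, false])) (.node (.leaf []) (.leaf [false, false, false, false, false, false, false]))) (.node (.node (.leaf []) (.leaf [false])) (.node (.leaf [false, false, false, false, false, false, false, false, false, false, false]) (.leaf [false, false, false, false, false, false, false, false, false, false])))))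

def certSLab159 : Janko.Tree (List Bool) :=
  (.node (.node (.node (.node (.node (.leaf []) (.leaf [false, false, false, false, false, false, false, false, false, false, false, false])) (.leaf [false, false, false, false, false, false, false, false, false, false, false, false])) (.node (.leaf []) (.leaf [false, false]))) (.node (.node (.leaf []) (.leaf [])) (.node (.leaf []) (.leaf [])))) (.node (.node (.node (.leaf []) (.leaf [false, false, false, false, false, false])) (.node (.leaf []) (.leaf [false, false, false, false, false, false, false]))) (.node (.node (.leaf []) (.leaf [false, false, false, false, false, false])) (.node (.leaf [false, false, false, false, false]) (.leaf [false, false])))))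

def certSLab160 : Janko.Tree (List Bool) :=
  (.node (.node (.node (.node (.node (.leaf []) (.leaf [false, false, false, false, false, false, false, false, false, false, false])) (.leaf [false, false, false, false, false, false, false, false, false, false, false, false])) (.node (.leaf []) (.leaf []))) (.node (.node (.leaf []) (.leaf [])) (.node (.leaf []) (.leaf [])))) (.node (.node (.node (.leaf []) (.leaf [])) (.node (.leaf []) (.leaf []))) (.node (.node (.leaf []) (.leaf [])) (.node (.leaf [false, false, false, false, false, false]) (.leaf [])))))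

def certSLab161 : Janko.Tree (List Bool) :=
  (.node (.node (.node (.node (.node (.leaf []) (.leaf [false, false, false])) (.leaf [])) (.node (.leaf [false, false, false, false, false, false, false, false, false]) (.leaf []))) (.node (.node (.leaf []) (.leaf [])) (.node (.leaf []) (.leaf [false, false, false, false])))) (.node (.node (.node (.leaf []) (.leaf [false, false, false, false])) (.node (.leaf []) (.leaf []))) (.node (.node (.leaf []) (.leaf [])) (.node (.leaf []) (.leaf [false, false])))))

def certSLab162 : Janko.Tree (List Bool) :=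
  (.node (.node (.node (.node (.node (.leaf []) (.leaf [false, false, false, false, false, false, false, false, false, false, false, false])) (.leaf [false, false, false, false, false, false, false, false])) (.node (.leaf []) (.leaf [false, false, false, false, false, false, false]))) (.node (.node (.leaf []) (.leaf [false, false, false, false, false, false, false, false, false])) (.node (.leaf []) (.leaf [false, false, false, false, false, false, false, false, false, false, false])))) (.node (.node (.node (.leaf []) (.leaf [])) (.node (.leaf []) (.leaf []))) (.node (.node (.leaf [false, false, false, false, false, false, false]) (.leaf [])) (.node (.leaf [false, false]) (.leaf [false, false, false, false, false, false, false, false, false])))))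

def certSLab163 : Janko.Tree (List Bool) :=
  (.node (.node (.node (.node (.node (.leaf []) (.leaf [false, false, false])) (.leaf [])) (.node (.leaf []) (.leaf [false, false, false, false, false, false, false]))) (.node (.node (.leaf []) (.leaf [false, false, false, false])) (.node (.leaf []) (.leaf [false])))) (.node (.node (.node (.leaf [false, false, false, false, false, false]) (.leaf [])) (.node (.leaf []) (.leaf [false, false]))) (.node (.node (.leaf []) (.leaf [])) (.node (.leaf []) (.leaf [false, false, false, false, false, false, false])))))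

def certSLab164 : Janko.Tree (List Bool) :=
  (.node (.node (.node (.node (.node (.leaf []) (.leaf [false, false, false, false, false, false, false, false, false, false, false, false])) (.leaf [])) (.node (.leaf []) (.leaf [false, false, false, false, false, false]))) (.node (.node (.leaf []) (.leaf [false, false, false, false, false, false, false, false, false])) (.node (.leaf []) (.leaf [])))) (.node (.node (.node (.leaf []) (.leaf [])) (.node (.leaf []) (.leaf [false, false, false, false, false, false, false, false, false]))) (.node (.node (.leaf []) (.leaf [])) (.node (.leaf []) (.leaf [false, false, false, false, false, false, false, false, false, false, false])))))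

def certSLab165 : Janko.Tree (List Bool) :=
  (.node (.node (.node (.node (.node (.leaf []) (.leaf [])) (.leaf [])) (.node (.leaf []) (.leaf []))) (.node (.node (.leaf []) (.leaf [])) (.node (.leaf []) (.leaf [])))) (.node (.node (.node (.leaf []) (.leaf [])) (.node (.leaf []) (.leaf [false, false, false, false, false, false]))) (.node (.node (.leaf []) (.leaf [])) (.node (.leaf []) (.leaf [])))))

def certSLab166 : Janko.Tree (List Bool) :=
  (.node (.node (.node (.node (.node (.leaf []) (.leaf [false, false, false, false, false, false, false, false, false, false, false])) (.leaf [false, false, false, false, false])) (.node (.leaf []) (.leaf []))) (.node (.node (.leaf []) (.leaf [])) (.node (.leaf [false, false, false]) (.leaf [false, false])))) (.node (.node (.node (.leaf []) (.leaf [false, false, false, false, false, false, false, false, false, false, false])) (.node (.leaf []) (.leaf [false, false, false, false, false, false, false, false, false, false, false]))) (.node (.node (.leaf []) (.leaf [false])) (.node (.leaf []) (.leaf [])))))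

def certSLab167 : Janko.Tree (List Bool) :=
  (.node (.node (.node (.node (.node (.leaf []) (.leaf [])) (.leaf [false, false, false, false, false, false, false])) (.node (.leaf []) (.leaf [false, false, false, false, false, false, false, false, false, false, false]))) (.node (.node (.leaf []) (.leaf [false, false, false, false])) (.node (.leaf []) (.leaf [false])))) (.node (.node (.node (.leaf []) (.leaf [false, false, false, false, false, false, false, false, false, false, false, false])) (.node (.leaf []) (.leaf []))) (.node (.node (.leaf []) (.leaf [false, false, false, false])) (.node (.leaf []) (.leaf [false, false, false, false, false, false, false])))))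

def certSLab168 : Janko.Tree (List Bool) :=
  (.node (.node (.node (.node (.node (.leaf []) (.leaf [false, false, false, false, false, false, false, false])) (.leaf [false, false, false, false])) (.node (.leaf []) (.leaf []))) (.node (.node (.leaf [false]) (.leaf [])) (.node (.leaf []) (.leaf [])))) (.node (.node (.node (.leaf []) (.leaf [false, false, false, false, false])) (.node (.leaf []) (.leaf [false, false, false, false, false, false, false, false, false, false]))) (.node (.node (.leaf []) (.leaf [false, false, false, false, false, false, false, false, false, false, false, false])) (.node (.leaf []) (.leaf [false, false, false, false, false, false])))))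

def certSLab169 : Janko.Tree (List Bool) :=
  (.node (.node (.node (.node (.node (.leaf []) (.leaf [false, false, false, false, false, false, false, false, false, false, false])) (.leaf [])) (.node (.leaf [false, false, false, false, false, false]) (.leaf [false, false, false, false, false, false, false, false]))) (.node (.node (.leaf []) (.leaf [])) (.node (.leaf []) (.leaf [false, false])))) (.node (.node (.node (.leaf []) (.leaf [])) (.node (.leaf [false, false, false, false, false, false, false]) (.leaf [false, false, false, false, false, false, false, false]))) (.node (.node (.leaf []) (.leaf [false])) (.node (.leaf [false, false, false, false, false, false, false, false, false]) (.leaf [false, false, false, false, false, false, false, false, false, false, false])))))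

def certSLab170 : Janko.Tree (List Bool) :=
  (.node (.node (.node (.node (.node (.leaf []) (.leaf [false, false])) (.leaf [])) (.node (.leaf []) (.leaf []))) (.node (.node (.leaf []) (.leaf [])) (.node (.leaf []) (.leaf [])))) (.node (.node (.node (.leaf []) (.leaf [false, false])) (.node (.leaf []) (.leaf []))) (.node (.node (.leaf []) (.leaf [false, false])) (.node (.leaf []) (.leaf [false, false, false, false])))))

def certSLab171 : Janko.Tree (List Bool) :=
  (.node (.node (.node (.node (.node (.leaf []) (.leaf [false, false, false, false, false, false, false, false, false, false, false, false])) (.leaf [false, false, false, false, false, false, false, false, false, false, false, false])) (.node (.leaf []) (.leaf []))) (.node (.node (.leaf []) (.leaf [])) (.node (.leaf []) (.leaf [false, false, false, false, false, false, false, false, false, false, false, false])))) (.node (.node (.node (.leaf []) (.leaf [])) (.node (.leaf [false, false, false, false, false, false, false]) (.leaf [false, false, false, false, false, false, false, false, false, false]))) (.node (.node (.leaf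 []) (.leaf [])) (.node (.leaf [false, false, false, false, false]) (.leaf [false, false, false, false])))))

def certSLab172 : Janko.Tree (List Bool) :=
  (.node (.node (.node (.node (.node (.leaf []) (.leaf [false, false, false, false, false, false, false, false, false, false, false])) (.leaf [])) (.node (.leaf []) (.leaf [false, false, false, false, false, false, false, false]))) (.node (.node (.leaf []) (.leaf [])) (.node (.leaf [false, false, false, false, false, false, false, false]) (.leaf [false, false, false, false, false, false, false, false, false, false])))) (.node (.node (.node (.leaf []) (.leaf [])) (.node (.leaf []) (.leaf [false, false, false, false, false, false, false, false, false, false, false]))) (.node (.node (.leaf []) (.leaf [false, false, false, false, false, false])) (.node (.leaf []) (.leaf [])))))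

def certSLab173 : Janko.Tree (List Bool) :=
  (.node (.node (.node (.node (.node (.leaf []) (.leaf [false, false, false])) (.leaf [])) (.node (.leaf []) (.leaf [false, false, false, false, false, false, false, false]))) (.node (.node (.leaf []) (.leaf [])) (.node (.leaf []) (.leaf [])))) (.node (.node (.node (.leaf []) (.leaf [false])) (.node (.leaf []) (.leaf []))) (.node (.node (.leaf []) (.leaf [false])) (.node (.leaf [false, false, false, false, false, false, false, false, false, false, false]) (.leaf [false, false, false, false, false, false])))))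

def certSLab174 : Janko.Tree (List Bool) :=
  (.node (.node (.node (.node (.node (.leaf []) (.leaf [])) (.leaf [false, false, false, false, false, false, false, false, false, false, false, false])) (.node (.leaf []) (.leaf [false, false, false]))) (.node (.node (.leaf []) (.leaf [])) (.node (.leaf []) (.leaf [])))) (.node (.node (.node (.leaf []) (.leaf [])) (.node (.leaf []) (.leaf []))) (.node (.node (.leaf []) (.leaf [])) (.node (.leaf []) (.leaf [false, false, false, false, false])))))

def certSLab175 : Janko.Tree (List Bool) :=
  (.node (.node (.node (.node (.node (.leaf []) (.leaf [false, false, false, false, false, false, false, false])) (.leaf [])) (.node (.leaf []) (.leaf [false, false, false, false, false, false, false, false]))) (.node (.node (.leaf []) (.leaf [false, false, false, false, false, false])) (.node (.leaf []) (.leaf [])))) (.node (.node (.node (.leaf []) (.leaf [])) (.node (.leaf []) (.leaf []))) (.node (.node (.leaf [false, false, false, false, false, false, false]) (.leaf [false, false, false, false, false, false, false, false, false, false, false, false]))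 (.node (.leaf []) (.leaf [false, false, false, false])))))

def certSLab176 : Janko.Tree (List Bool) :=
  (.node (.node (.node (.node (.node (.leaf []) (.leaf [])) (.leaf [])) (.node (.leaf []) (.leaf [false, false]))) (.node (.node (.leaf []) (.leaf [false, false, false, false, false, false, false, false, false, false, false, false])) (.node (.leaf []) (.leaf [])))) (.node (.node (.node (.leaf []) (.leaf [])) (.node (.leaf []) (.leaf []))) (.node (.node (.leaf []) (.leaf [])) (.node (.leaf []) (.leaf [false, false, false, false, false, false, false, false, false, false, false, false])))))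

def certSLab177 : Janko.Tree (List Bool) :=
  (.node (.node (.node (.node (.node (.leaf []) (.leaf [false, false, false, false, false, false, false])) (.leaf [false, false, false, false, false, false, false, false, false, false, false, false])) (.node (.leaf []) (.leaf [false, false, false, false, false, false]))) (.node (.node (.leaf []) (.leaf [])) (.node (.leaf []) (.leaf [])))) (.node (.node (.node (.leaf []) (.leaf [])) (.node (.leaf []) (.leaf []))) (.node (.node (.leaf []) (.leaf [])) (.node (.leaf [false, false, false, false, false, false, false, false, false, false, false]) (.leaf [false, false, false, false, false])))))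

def certSLab178 : Janko.Tree (List Bool) :=
  (.node (.node (.node (.node (.node (.leaf []) (.leaf [])) (.leaf [])) (.node (.leaf []) (.leaf [false, false, false, false, false, false, false, false, false, false]))) (.node (.node (.leaf []) (.leaf [false, false, false, false, false])) (.node (.leaf []) (.leaf [false, false, false, false])))) (.node (.node (.node (.leaf []) (.leaf [false, false, false, false, false, false, false, false, false, false])) (.node (.leaf []) (.leaf []))) (.node (.node (.leaf [false, false]) (.leaf [false, false, false, false, false, false, false, false, false, false, false, false])) (.node (.leaf []) (.leaf [false, false, false, false, false, false, false, false, false, false, false, false])))))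

def certSLab179 : Janko.Tree (List Bool) :=
  (.node (.node (.node (.node (.node (.leaf []) (.leaf [false, false, false, false, false, false, false, false])) (.leaf [])) (.node (.leaf [false]) (.leaf [false, false, false, false, false, false, false, false, false, false, false]))) (.node (.node (.leaf []) (.leaf [])) (.node (.leaf []) (.leaf [false])))) (.node (.node (.node (.leaf []) (.leaf [])) (.node (.leaf []) (.leaf []))) (.node (.node (.leaf []) (.leaf [])) (.node (.leaf []) (.leaf [false, false])))))

def certSLab180 : Janko.Tree (List Bool) :=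
  (.node (.node (.node (.node (.node (.leaf []) (.leaf [false, false, false, false, false, false, false, false, false, false, false])) (.leaf [])) (.node (.leaf []) (.leaf []))) (.node (.node (.leaf []) (.leaf [])) (.node (.leaf []) (.leaf [])))) (.node (.node (.node (.leaf []) (.leaf [])) (.node (.leaf []) (.leaf [false, false, false, false, false, false]))) (.node (.node (.leaf []) (.leaf [])) (.node (.leaf []) (.leaf [false, false])))))

def certSLab181 : Janko.Tree (List Bool) :=
  (.node (.node (.node (.node (.node (.leaf []) (.leaf [false, false, false, false, false, false])) (.leaf [])) (.node (.leaf []) (.leaf [false, false, false]))) (.node (.node (.leaf []) (.leaf [false, false, false, false, false, false, false, false, false, false, false, false])) (.node (.leaf []) (.leaf [false, false, false, false, false, false, false, false, false, false, false, false])))) (.node (.node (.node (.leaf []) (.leaf [])) (.node (.leaf []) (.leaf [false, false, false, false, false, false]))) (.node (.node (.leaf [false, false, false, false, false, false, false, false, false]) (.leaf [false,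 false, false, false, false, false, false, false, false, false, false])) (.node (.leaf []) (.leaf [false, false, false, false, false])))))

def certSLab182 : Janko.Tree (List Bool) :=
  (.node (.node (.node (.node (.node (.leaf []) (.leaf [])) (.leaf [false, false, false, false, false, false, false, false, false, false, false, false])) (.node (.leaf []) (.leaf []))) (.node (.node (.leaf []) (.leaf [])) (.node (.leaf []) (.leaf [])))) (.node (.node (.node (.leaf []) (.leaf [false, false, false, false, false, false, false, false, false, false, false, false])) (.node (.leaf []) (.leaf [false, false, false, false, false, false, false]))) (.node (.node (.leaf []) (.leaf [false, false, false, false, false, false])) (.node (.leaf []) (.leaf [false, false, false, false, false, false])))))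

def certSLab183 : Janko.Tree (List Bool) :=
  (.node (.node (.node (.node (.node (.leaf []) (.leaf [false, false, false, false, false])) (.leaf [])) (.node (.leaf []) (.leaf [false, false, false, false, false, false]))) (.node (.node (.leaf []) (.leaf [])) (.node (.leaf []) (.leaf [])))) (.node (.node (.node (.leaf []) (.leaf [false, false, false, false, false, false])) (.node (.leaf []) (.leaf [false, false, false]))) (.node (.node (.leaf []) (.leaf [])) (.node (.leaf [false, false, false, false, false, false]) (.leaf [])))))

def certSLab184 : Janko.Tree (List Bool) :=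
  (.node (.node (.node (.node (.node (.leaf []) (.leaf [false, false, false, false, false, false, false, false])) (.leaf [])) (.node (.leaf [false, false, false, false]) (.leaf [false, false, false, false, false, false, false, false, false, false, false, false]))) (.node (.node (.leaf []) (.leaf [false, false])) (.node (.leaf []) (.leaf [false, false, false, false, false, false, false, false, false])))) (.node (.node (.node (.leaf []) (.leaf [])) (.node (.leaf [false, false, false, false, false, false]) (.leaf []))) (.node (.node (.leaf []) (.leaf [false, false, false, false, false, false, false, false, false, false, false])) (.node (.leaf []) (.leaf [])))))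

def certSLab185 : Janko.Tree (List Bool) :=
  (.node (.node (.node (.node (.node (.leaf []) (.leaf [])) (.leaf [])) (.node (.leaf [false, false, false, false]) (.leaf [false, false, false]))) (.node (.node (.leaf []) (.leaf [])) (.node (.leaf []) (.leaf [false, false, false, false, false, false, false, false, false])))) (.node (.node (.node (.leaf []) (.leaf [])) (.node (.leaf []) (.leaf [false, false, false, false, false, false]))) (.node (.node (.leaf []) (.leaf [])) (.node (.leaf []) (.leaf [])))))

def certSLab186 : Janko.Tree (List Bool) :=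
  (.node (.node (.node (.node (.node (.leaf []) (.leaf [false, false, false, false, false, false, false, false])) (.leaf [false, false, false, false, false, false, false])) (.node (.leaf [false, false, false]) (.leaf []))) (.node (.node (.leaf []) (.leaf [false, false, false, false, false, false, false, false, false])) (.node (.leaf []) (.leaf [])))) (.node (.node (.node (.leaf []) (.leaf [])) (.node (.leaf []) (.leaf []))) (.node (.node (.leaf []) (.leaf [])) (.node (.leaf []) (.leaf [false])))))

def certSLab187 : Janko.Tree (List Bool) :=
  (.node (.node (.node (.node (.node (.leaf []) (.leaf [])) (.leaf [false])) (.node (.leaf []) (.leaf []))) (.node (.node (.leaf []) (.leaf [])) (.node (.leaf []) (.leaf [false, false, false, false, false, false, false, false, false])))) (.node (.node (.node (.leaf []) (.leaf [false, false, false, false, false, false, false, false, false, false])) (.node (.leaf []) (.leaf [false, false, false, false, false, false, false]))) (.node (.node (.leaf []) (.leaf [false, false, false, false, false, false])) (.node (.leaf [false, false, false, false, false,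 false, false, false]) (.leaf [false, false, false])))))

def certSLab188 : Janko.Tree (List Bool) :=
  (.node (.node (.node (.node (.node (.leaf []) (.leaf [false, false, false, false])) (.leaf [false, false, false, false, false, false, false, false, false, false, false])) (.node (.leaf [false, false]) (.leaf []))) (.node (.node (.leaf []) (.leaf [])) (.node (.leaf []) (.leaf [false, false, false, false, false, false, false, false, false, false, false])))) (.node (.node (.node (.leaf []) (.leaf [false, false, false, false, false, false, false, false, false, false])) (.node (.leaf []) (.leaf [false, false, false, false, false, false, false, false, false, false, false]))) (.node (.node (.leaf []) (.leaf [])) (.node (.leaf []) (.leaf [false, false, false, false, false, false])))))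

def certSLab189 : Janko.Tree (List Bool) :=
  (.node (.node (.node (.node (.node (.leaf []) (.leaf [false, false, false, false, false, false, false, false, false, false, false, false])) (.leaf [])) (.node (.leaf [false, false, false, false]) (.leaf [false, false, false, false, false, false, false, false, false, false, false, false]))) (.node (.node (.leaf [false, false, false, false, false, false, false]) (.leaf [false, false, false, false, false, false, false])) (.node (.leaf []) (.leaf [false, false, false])))) (.node (.node (.node (.leaf []) (.leaf [false, false, false, false, false, false, false, false, false, false])) (.node (.leaf [false, false, false, false, false, false]) (.leaf []))) (.node (.node (.leaf []) (.leaf [false])) (.node (.leaf []) (.leaf [false])))))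

def certSLab190 : Janko.Tree (List Bool) :=
  (.node (.node (.node (.node (.node (.leaf []) (.leaf [false, false, false, false, false, false, false, false, false, false])) (.leaf [])) (.node (.leaf []) (.leaf []))) (.node (.node (.leaf []) (.leaf [false, false, false, false, false, false])) (.node (.leaf []) (.leaf [])))) (.node (.node (.node (.leaf []) (.leaf [false, false, false, false, false, false])) (.node (.leaf []) (.leaf []))) (.node (.node (.leaf []) (.leaf [false, false, false, false, false, false, false, false, false, false, false, false])) (.node (.leaf []) (.leaf [false, false, false, false])))))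

def certSLab191 : Janko.Tree (List Bool) :=
  (.node (.node (.node (.node (.node (.leaf []) (.leaf [false, false, false, false, false, false, false, false, false, false, false])) (.leaf [])) (.node (.leaf []) (.leaf []))) (.node (.node (.leaf []) (.leaf [false])) (.node (.leaf []) (.leaf [false, false, false, false, false, false, false, false, false, false, false, false])))) (.node (.node (.node (.leaf []) (.leaf [])) (.node (.leaf [false]) (.leaf []))) (.node (.node (.leaf []) (.leaf [false, false, false, false, false, false, false, false, false, false, false, false])) (.node (.leaf []) (.leaf [false, false, false, false, false, false, false])))))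

def certSLab192 : Janko.Tree (List Bool) :=
  (.node (.node (.node (.node (.node (.leaf [false]) (.leaf [false, false, false, false, false, false, false, false, false, false])) (.leaf [])) (.node (.leaf []) (.leaf [false, false, false, false, false]))) (.node (.node (.leaf []) (.leaf [false, false])) (.node (.leaf [false, false, false, false]) (.leaf [false, false, false, false, false, false, false, false, false, false, false, false])))) (.node (.node (.node (.leaf []) (.leaf [])) (.node (.leaf []) (.leaf []))) (.node (.node (.leaf []) (.leaf [false, false, false, false, false, false, false])) (.node (.leaf []) (.leaf [])))))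

def certSLab193 : Janko.Tree (List Bool) :=
  (.node (.node (.node (.node (.node (.leaf [false, false, false, false, false, false]) (.leaf [])) (.leaf [])) (.node (.leaf [false]) (.leaf [false, false, false, false]))) (.node (.node (.leaf []) (.leaf [])) (.node (.leaf []) (.leaf [false, false, false, false, false, false, false])))) (.node (.node (.node (.leaf []) (.leaf [false, false, false, false])) (.node (.leaf []) (.leaf []))) (.node (.node (.leaf []) (.leaf [])) (.node (.leaf []) (.leaf [false, false, false, false, false, false, false, false, false, false, false])))))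

def certSLab194 : Janko.Tree (List Bool) :=
  (.node (.node (.node (.node (.node (.leaf []) (.leaf [false, false, false])) (.leaf [])) (.node (.leaf []) (.leaf []))) (.node (.node (.leaf []) (.leaf [])) (.node (.leaf [false]) (.leaf [false])))) (.node (.node (.node (.leaf []) (.leaf [])) (.node (.leaf []) (.leaf []))) (.node (.node (.leaf []) (.leaf [false, false, false, false, false, false, false])) (.node (.leaf []) (.leaf [])))))

def certSLab195 : Janko.Tree (List Bool) :=
  (.node (.node (.node (.node (.node (.leaf []) (.leaf [false, false, false])) (.leaf [false])) (.node (.leaf []) (.leaf [false]))) (.node (.node (.leaf []) (.leaf [false, false, false, false, false, false, false, false])) (.node (.leaf []) (.leaf [])))) (.node (.node (.node (.leaf []) (.leaf [])) (.node (.leaf []) (.leaf []))) (.node (.node (.leaf []) (.leaf [false])) (.node (.leaf []) (.leaf [])))))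

def certSLab196 : Janko.Tree (List Bool) :=
  (.node (.node (.node (.node (.node (.leaf []) (.leaf [])) (.leaf [])) (.node (.leaf []) (.leaf [false, false, false, false]))) (.node (.node (.leaf []) (.leaf [])) (.node (.leaf [false, false, false, false, false, false]) (.leaf [])))) (.node (.node (.node (.leaf []) (.leaf [false, false, false, false, false, false, false])) (.node (.leaf []) (.leaf [false, false, false, false, false, false, false]))) (.node (.node (.leaf [false, false, false, false, false, false, false]) (.leaf [])) (.node (.leaf []) (.leaf [false, false, false, false, false, false])))))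

def certSLab197 : Janko.Tree (List Bool) :=
  (.node (.node (.node (.node (.node (.leaf []) (.leaf [false, false, false, false, false, false, false, false, false, false, false, false])) (.leaf [])) (.node (.leaf []) (.leaf []))) (.node (.node (.leaf []) (.leaf [false, false])) (.node (.leaf []) (.leaf [])))) (.node (.node (.node (.leaf []) (.leaf [false, false, false, false])) (.node (.leaf []) (.leaf [false, false, false, false, false, false, false, false, false]))) (.node (.node (.leaf []) (.leaf [])) (.node (.leaf []) (.leaf [false, false, false, false, false, false, false, false, false])))))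

def certSLab198 : Janko.Tree (List Bool) :=
  (.node (.node (.node (.node (.node (.leaf []) (.leaf [false, false, false, false, false, false, false, false, false, false, false, false])) (.leaf [false, false, false])) (.node (.leaf []) (.leaf []))) (.node (.node (.leaf []) (.leaf [])) (.node (.leaf []) (.leaf [false, false, false, false, false, false])))) (.node (.node (.node (.leaf []) (.leaf [])) (.node (.leaf []) (.leaf [false, false, false, false, false, false, false, false]))) (.node (.node (.leaf []) (.leaf [])) (.node (.leaf []) (.leaf [false, false, false, false])))))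

def certSLab199 : Janko.Tree (List Bool) :=
  (.node (.node (.node (.node (.node (.leaf []) (.leaf [false, false, false, false, false, false, false, false, false, false, false, false])) (.leaf [false, false, false, false, false, false])) (.node (.leaf []) (.leaf [false, false, false, false, false, false, false]))) (.node (.node (.leaf []) (.leaf [])) (.node (.leaf []) (.leaf [false])))) (.node (.node (.node (.leaf []) (.leaf [false, false, false, false, false, false, false, false, false, false, false])) (.node (.leaf []) (.leaf [false, false, false, false, false, false, false]))) (.node (.node (.leaf []) (.leaf [])) (.node (.leaf []) (.leaf [])))))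

def certSLab200 : Janko.Tree (List Bool) :=
  (.node (.node (.node (.node (.node (.leaf []) (.leaf [])) (.leaf [])) (.node (.leaf []) (.leaf []))) (.node (.node (.leaf []) (.leaf [])) (.node (.leaf []) (.leaf [false, false, false, false, false, false, false, false, false])))) (.node (.node (.node (.leaf []) (.leaf [false, false, false, false, false, false, false, false, false, false])) (.node (.leaf [false, false, false, false, false, false, false, false, false]) (.leaf []))) (.node (.node (.leaf []) (.leaf [])) (.node (.leaf [false, false, false, false, false, false, false, false, false, false, false, false]) (.leaf [false, false, false, false, false, false])))))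

def certSLab201 : Janko.Tree (List Bool) :=
  (.node (.node (.node (.node (.node (.leaf []) (.leaf [])) (.leaf [false, false, false, false, false, false, false, false, false, false])) (.node (.leaf []) (.leaf [false, false, false, false, false, false]))) (.node (.node (.leaf [false, false, false, false, false, false]) (.leaf [])) (.node (.leaf []) (.leaf [false])))) (.node (.node (.node (.leaf []) (.leaf [])) (.node (.leaf []) (.leaf [false, false]))) (.node (.node (.leaf []) (.leaf [false, false, false, false, false, false, false, false, false, false, false])) (.node (.leaf []) (.leaf [false, false, false, false, false, false, false, false, false, false, false, false])))))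

def certSLab202 : Janko.Tree (List Bool) :=
  (.node (.node (.node (.node (.node (.leaf []) (.leaf [false, false, false, false, false, false, false, false, false, false, false])) (.leaf [])) (.node (.leaf []) (.leaf []))) (.node (.node (.leaf [false, false, false, false, false, false]) (.leaf [])) (.node (.leaf []) (.leaf [false, false, false, false, false, false, false, false, false, false, false])))) (.node (.node (.node (.leaf [false, false, false, false, false, false, false]) (.leaf [false, false, false, false])) (.node (.leaf []) (.leaf []))) (.node (.node (.leaf []) (.leaf [])) (.node (.leaf []) (.leaf [])))))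

def certSLab203 : Janko.Tree (List Bool) :=
  (.node (.node (.node (.node (.node (.leaf []) (.leaf [false])) (.leaf [])) (.node (.leaf []) (.leaf []))) (.node (.node (.leaf []) (.leaf [])) (.node (.leaf []) (.leaf [])))) (.node (.node (.node (.leaf []) (.leaf [])) (.node (.leaf []) (.leaf []))) (.node (.node (.leaf []) (.leaf [false, false, false, false, false, false, false, false, false, false, false])) (.node (.leaf []) (.leaf [false])))))

def certSLab204 : Janko.Tree (List Bool) :=
  (.node (.node (.node (.node (.node (.leaf []) (.leaf [])) (.leaf [false, false, false, false, false, false, false])) (.node (.leaf []) (.leaf []))) (.node (.node (.leaf []) (.leaf [])) (.node (.leaf []) (.leaf [false, false, false, false, false, false, false])))) (.node (.node (.node (.leaf []) (.leaf [false, false, false])) (.node (.leaf []) (.leaf [false, false, false, false, false, false, false, false]))) (.node (.node (.leaf []) (.leaf [false, false])) (.node (.leaf []) (.leaf [])))))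

def certSLab205 : Janko.Tree (List Bool) :=
  (.node (.node (.node (.node (.node (.leaf []) (.leaf [false, false, false, false, false, false, false, false, false])) (.leaf [])) (.node (.leaf []) (.leaf [false, false]))) (.node (.node (.leaf [false, false, false, false, false, false, false, false, false]) (.leaf [])) (.node (.leaf []) (.leaf [])))) (.node (.node (.node (.leaf []) (.leaf [])) (.node (.leaf [false, false]) (.leaf [false, false, false, false, false, false, false, false, false, false, false]))) (.node (.node (.leaf []) (.leaf [])) (.node (.leaf []) (.leaf [false, false])))))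

def certSLab206 : Janko.Tree (List Bool) :=
  (.node (.node (.node (.node (.node (.leaf []) (.leaf [])) (.leaf [false, false, false, false, false, false, false, false, false, false, false])) (.node (.leaf []) (.leaf []))) (.node (.node (.leaf []) (.leaf [false, false, false, false, false, false, false, false, false, false, false])) (.node (.leaf []) (.leaf [false, false, false, false, false, false, false, false, false, false, false, false])))) (.node (.node (.node (.leaf []) (.leaf [false])) (.node (.leaf []) (.leaf []))) (.node (.node (.leaf []) (.leaf [])) (.node (.leaf [false, false, false, false, false, false, false, false, false, false, false]) (.leaf [false, false, false])))))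

def certSLab207 : Janko.Tree (List Bool) :=
  (.node (.node (.node (.node (.node (.leaf []) (.leaf [false])) (.leaf [])) (.node (.leaf []) (.leaf [false, false, false]))) (.node (.node (.leaf []) (.leaf [])) (.node (.leaf []) (.leaf [])))) (.node (.node (.node (.leaf []) (.leaf [])) (.node (.leaf [false, false, false, false, false, false, false, false, false]) (.leaf [false, false, false, false, false, false, false, false, false, false, false, false]))) (.node (.node (.leaf []) (.leaf [false])) (.node (.leaf []) (.leaf [false, false, false, false, false, false, false, false])))))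

def certSLab208 : Janko.Tree (List Bool) :=
  (.node (.node (.node (.node (.node (.leaf []) (.leaf [])) (.leaf [])) (.node (.leaf []) (.leaf []))) (.node (.node (.leaf []) (.leaf [false, false, false, false, false, false])) (.node (.leaf [false, false, false, false]) (.leaf [false, false, false, false, false, false, false, false, false, false])))) (.node (.node (.node (.leaf []) (.leaf [])) (.node (.leaf []) (.leaf [false, false, false, false, false, false, false]))) (.node (.node (.leaf []) (.leaf [false, false, false, false, false, false, false, false, false, false, false, false])) (.node (.leaf [false, false, false, false, false, false]) (.leaf [false, false, false])))))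

def certSLab209 : Janko.Tree (List Bool) :=
  (.node (.node (.node (.node (.node (.leaf []) (.leaf [])) (.leaf [false, false, false, false, false, false, false])) (.node (.leaf []) (.leaf []))) (.node (.node (.leaf []) (.leaf [])) (.node (.leaf []) (.leaf [false, false, false, false, false, false, false, false, false, false])))) (.node (.node (.node (.leaf []) (.leaf [false, false, false, false])) (.node (.leaf [false, false, false, false, false, false, false, false, false, false, false]) (.leaf []))) (.node (.node (.leaf []) (.leaf [])) (.node (.leaf []) (.leaf [false, false, false, false, false, false, false, false, false])))))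

def certSLab210 : Janko.Tree (List Bool) :=
  (.node (.node (.node (.node (.node (.leaf []) (.leaf [false, false, false, false, false, false, false, false, false, false])) (.leaf [])) (.node (.leaf []) (.leaf []))) (.node (.node (.leaf []) (.leaf [])) (.node (.leaf []) (.leaf [false])))) (.node (.node (.node (.leaf []) (.leaf [])) (.node (.leaf []) (.leaf [false, false]))) (.node (.node (.leaf []) (.leaf [false, false, false, false, false, false, false, false, false, false, false, false])) (.node (.leaf []) (.leaf [false, false])))))

def certSLab211 : Janko.Tree (List Bool) :=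
  (.node (.node (.node (.node (.node (.leaf []) (.leaf [])) (.leaf [])) (.node (.leaf []) (.leaf []))) (.node (.node (.leaf []) (.leaf [false])) (.node (.leaf [false, false, false, false, false, false, false]) (.leaf [false, false, false, false])))) (.node (.node (.node (.leaf []) (.leaf [])) (.node (.leaf []) (.leaf []))) (.node (.node (.leaf []) (.leaf [])) (.node (.leaf [false, false]) (.leaf [])))))

def certSLab212 : Janko.Tree (List Bool) :=
  (.node (.node (.node (.node (.node (.leaf []) (.leaf [false, false, false, false, false, false, false, false])) (.leaf [false, false, false, false, false, false, false, false, false, false, false, false])) (.node (.leaf [false]) (.leaf []))) (.node (.node (.leaf []) (.leaf [false, false, false, false, false, false, false, false, false, false, false, false])) (.node (.leaf []) (.leaf [false, false, false, false, false, false, false, false, false, false, false, false])))) (.node (.node (.node (.leaf []) (.leaf [])) (.node (.leaf []) (.leaf [false, false, false, false, false, false, false, false]))) (.node (.node (.leaf []) (.leaf [])) (.node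 (.leaf []) (.leaf [false, false, false, false, false, false, false])))))

def certSLab213 : Janko.Tree (List Bool) :=
  (.node (.node (.node (.node (.node (.leaf []) (.leaf [false, false, false, false, false, false, false, false])) (.leaf [])) (.node (.leaf []) (.leaf []))) (.node (.node (.leaf []) (.leaf [false])) (.node (.leaf [false, false, false]) (.leaf [false, false, false, false, false, false, false])))) (.node (.node (.node (.leaf []) (.leaf [false, false, false, false])) (.node (.leaf []) (.leaf [false, false]))) (.node (.node (.leaf []) (.leaf [false, false, false, false, false, false])) (.node (.leaf []) (.leaf [false, false, false, false, false])))))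

def certSLab214 : Janko.Tree (List Bool) :=
  (.node (.node (.node (.node (.node (.leaf []) (.leaf [false, false, false, false, false, false, false])) (.leaf [])) (.node (.leaf []) (.leaf [false, false, false, false, false, false, false, false, false, false]))) (.node (.node (.leaf []) (.leaf [])) (.node (.leaf [false, false, false, false, false, false, false, false, false, false]) (.leaf [false, false, false])))) (.node (.node (.node (.leaf []) (.leaf [])) (.node (.leaf []) (.leaf [false, false, false, false, false, false, false, false, false, false, false, false]))) (.node (.node (.leaf []) (.leaf [false, false, false, false, false, false, false, false, false])) (.node (.leaf []) (.leaf [false, false, false, false, false, false, false])))))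

def certSLab215 : Janko.Tree (List Bool) :=
  (.node (.node (.node (.node (.node (.leaf []) (.leaf [])) (.leaf [])) (.node (.leaf []) (.leaf []))) (.node (.node (.leaf []) (.leaf [false])) (.node (.leaf []) (.leaf [false, false])))) (.node (.node (.node (.leaf []) (.leaf [])) (.node (.leaf []) (.leaf []))) (.node (.node (.leaf []) (.leaf [false, false, false, false])) (.node (.leaf []) (.leaf [false, false, false, false, false])))))

def certSLab216 : Janko.Tree (List Bool) :=
  (.node (.node (.node (.node (.node (.leaf []) (.leaf [false, false, false, false, false])) (.leaf [])) (.node (.leaf [false, false]) (.leaf []))) (.node (.node (.leaf []) (.leaf [])) (.node (.leaf []) (.leaf [])))) (.node (.node (.node (.leaf []) (.leaf [])) (.node (.leaf []) (.leaf []))) (.node (.node (.leaf []) (.leaf [])) (.node (.leaf [false, false, false, false, false, false, false]) (.leaf [])))))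

def certSLab217 : Janko.Tree (List Bool) :=
  (.node (.node (.node (.node (.node (.leaf []) (.leaf [])) (.leaf [])) (.node (.leaf []) (.leaf []))) (.node (.node (.leaf []) (.leaf [false, false, false, false, false, false, false, false, false])) (.node (.leaf []) (.leaf [false, false, false])))) (.node (.node (.node (.leaf []) (.leaf [])) (.node (.leaf []) (.leaf [false]))) (.node (.node (.leaf []) (.leaf [false, false, false, false])) (.node (.leaf []) (.leaf [false, false, false, false, false, false, false])))))

def certSLab218 : Janko.Tree (List Bool) :=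
  (.node (.node (.node (.node (.node (.leaf []) (.leaf [false, false, false, false, false, false, false, false, false, false, false, false])) (.leaf [])) (.node (.leaf []) (.leaf []))) (.node (.node (.leaf []) (.leaf [])) (.node (.leaf [false, false, false]) (.leaf [false, false, false])))) (.node (.node (.node (.leaf []) (.leaf [false, false, false, false])) (.node (.leaf []) (.leaf []))) (.node (.node (.leaf []) (.leaf [])) (.node (.leaf []) (.leaf [])))))

def certSLab219 : Janko.Tree (List Bool) :=
  (.node (.node (.node (.node (.node (.leaf []) (.leaf [])) (.leaf [])) (.node (.leaf []) (.leaf []))) (.node (.node (.leaf []) (.leaf [])) (.node (.leaf []) (.leaf [false, false, false, false, false, false])))) (.node (.node (.node (.leaf []) (.leaf [false, false, false, false, false, false])) (.node (.leaf []) (.leaf [false, false, false, false, false, false, false, false, false]))) (.node (.node (.leaf []) (.leaf [])) (.node (.leaf []) (.leaf [false, false, false, false, false, false, false, false, false, false])))))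

def certSLab220 : Janko.Tree (List Bool) :=
  (.node (.node (.node (.node (.node (.leaf []) (.leaf [])) (.leaf [false, false, false, false, false, false])) (.node (.leaf []) (.leaf [false, false, false, false, false, false, false, false, false, false]))) (.node (.node (.leaf []) (.leaf [false, false, false, false, false, false, false])) (.node (.leaf []) (.leaf [])))) (.node (.node (.node (.leaf []) (.leaf [])) (.node (.leaf []) (.leaf [false, false, false, false, false, false, false, false]))) (.node (.node (.leaf []) (.leaf [false, false, false, false, false, false, false])) (.node (.leaf [false, false, false, false, false, false, false, false, false]) (.leaf [false, false, false, false, false, false])))))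

def certSLab221 : Janko.Tree (List Bool) :=
  (.node (.node (.node (.node (.node (.leaf []) (.leaf [false, false, false, false, false, false, false, false])) (.leaf [false, false, false, false, false, false, false])) (.node (.leaf []) (.leaf [false, false, false, false, false, false]))) (.node (.node (.leaf []) (.leaf [])) (.node (.leaf [false, false, false, false, false, false, false]) (.leaf [false, false, false, false, false, false, false, false, false, false, false, false])))) (.node (.node (.node (.leaf []) (.leaf [])) (.node (.leaf []) (.leaf [false, false, false, false]))) (.node (.node (.leaf [false, false, false, false, false, false, false]) (.leaf [])) (.node (.leaf [false, false]) (.leaf [false, false, false, false, false, false, false, false, false, false, false, false])))))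

def certSLab222 : Janko.Tree (List Bool) :=
  (.node (.node (.node (.node (.node (.leaf []) (.leaf [false, false, false, false])) (.leaf [])) (.node (.leaf [false, false]) (.leaf [false, false, false, false, false, false, false, false, false, false]))) (.node (.node (.leaf []) (.leaf [false, false])) (.node (.leaf [false, false, false, false, false, false, false, false, false, false]) (.leaf [false, false, false, false, false, false, false, false, false])))) (.node (.node (.node (.leaf []) (.leaf [])) (.node (.leaf []) (.leaf [false, false, false, false, false, false]))) (.node (.node (.leaf []) (.leaf [])) (.node (.leaf [false]) (.leaf [false, false, false, false, false])))))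

def certSLab223 : Janko.Tree (List Bool) :=
  (.node (.node (.node (.node (.node (.leaf []) (.leaf [false, false, false, false, false, false, false, false, false, false])) (.leaf [])) (.node (.leaf []) (.leaf []))) (.node (.node (.leaf []) (.leaf [false, false, false, false, false, false])) (.node (.leaf [false, false, false, false, false, false, false]) (.leaf [])))) (.node (.node (.node (.leaf []) (.leaf [false])) (.node (.leaf []) (.leaf [false, false, false, false, false, false]))) (.node (.node (.leaf []) (.leaf [false, false])) (.node (.leaf []) (.leaf [])))))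

def certSLab224 : Janko.Tree (List Bool) :=
  (.node (.node (.node (.node (.node (.leaf []) (.leaf [false, false, false, false, false, false, false])) (.leaf [false, false, false, false, false, false, false, false, false])) (.node (.leaf []) (.leaf []))) (.node (.node (.leaf [false, false, false]) (.leaf [])) (.node (.leaf []) (.leaf [false, false, false, false, false, false, false, false])))) (.node (.node (.node (.leaf []) (.leaf [])) (.node (.leaf []) (.leaf []))) (.node (.node (.leaf []) (.leaf [false])) (.node (.leaf []) (.leaf [false, false, false, false, false, false, false, false, false, false])))))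

def certSLab225 : Janko.Tree (List Bool) :=
  (.node (.node (.node (.node (.node (.leaf []) (.leaf [false, false, false, false, false, false, false, false, false, false, false, false])) (.leaf [])) (.node (.leaf []) (.leaf []))) (.node (.node (.leaf []) (.leaf [])) (.node (.leaf [false]) (.leaf [])))) (.node (.node (.node (.leaf []) (.leaf [])) (.node (.leaf []) (.leaf [false, false, false, false, false]))) (.node (.node (.leaf []) (.leaf [false, false, false, false, false, false, false, false, false, false, false, false])) (.node (.leaf [false, false, false, false, false, false, false, false, false, false]) (.leaf [false, false, false, false, false, false, false, false, false, false, false, false])))))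

def certSLab226 : Janko.Tree (List Bool) :=
  (.node (.node (.node (.node (.node (.leaf []) (.leaf [false, false, false, false])) (.leaf [false, false, false, false, false, false, false, false, false, false, false])) (.node (.leaf []) (.leaf [false, false, false, false, false, false, false]))) (.node (.node (.leaf []) (.leaf [])) (.node (.leaf [false, false, false, false, false, false, false, false, false]) (.leaf [false, false, false, false, false, false, false, false])))) (.node (.node (.node (.leaf []) (.leaf [])) (.node (.leaf []) (.leaf []))) (.node (.node (.leaf []) (.leaf [false, false])) (.node (.leaf [false, false, false, false, false, false, false]) (.leaf [])))))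

def certSLab227 : Janko.Tree (List Bool) :=
  (.node (.node (.node (.node (.node (.leaf []) (.leaf [false, false, false, false])) (.leaf [])) (.node (.leaf []) (.leaf []))) (.node (.node (.leaf []) (.leaf [])) (.node (.leaf []) (.leaf [false, false])))) (.node (.node (.node (.leaf [false, false]) (.leaf [false, false, false, false, false, false, false, false, false, false])) (.node (.leaf []) (.leaf [false]))) (.node (.node (.leaf []) (.leaf [])) (.node (.leaf [false, false, false, false, false]) (.leaf [])))))

def certSLab228 : Janko.Tree (List Bool) :=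
  (.node (.node (.node (.node (.node (.leaf []) (.leaf [false, false, false, false, false, false, false, false, false, false, false])) (.leaf [])) (.node (.leaf []) (.leaf [false, false, false, false, false, false, false, false, false, false, false]))) (.node (.node (.leaf [false, false, false, false, false, false, false, false, false, false, false, false]) (.leaf [])) (.node (.leaf []) (.leaf [false, false, false, false, false, false, false])))) (.node (.node (.node (.leaf []) (.leaf [false, false, false, false, false, false, false, false, false])) (.node (.leaf []) (.leaf []))) (.node (.node (.leaf []) (.leaf [])) (.node (.leaf []) (.leaf [false, false, false, false, false, false, false, false, false, false, false])))))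

def certSLab229 : Janko.Tree (List Bool) :=
  (.node (.node (.node (.node (.node (.leaf []) (.leaf [])) (.leaf [])) (.node (.leaf []) (.leaf [false, false, false, false, false, false]))) (.node (.node (.leaf []) (.leaf [false, false, false, false, false, false, false, false, false])) (.node (.leaf [false, false]) (.leaf [false, false])))) (.node (.node (.node (.leaf []) (.leaf [false, false, false, false, false, false, false])) (.node (.leaf []) (.leaf [false, false, false, false, false, false, false, false, false, false]))) (.node (.node (.leaf []) (.leaf [false, false, false])) (.node (.leaf [false]) (.leaf [false, false, false, false, false])))))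

def certSLab230 : Janko.Tree (List Bool) :=
  (.node (.node (.node (.node (.node (.leaf []) (.leaf [false, false, false, false, false, false, false])) (.leaf [false, false, false, false, false, false, false, false, false, false, false])) (.node (.leaf [false, false, false, false, false, false]) (.leaf [false, false, false]))) (.node (.node (.leaf []) (.leaf [false, false])) (.node (.leaf []) (.leaf [])))) (.node (.node (.node (.leaf []) (.leaf [])) (.node (.leaf []) (.leaf []))) (.node (.node (.leaf []) (.leaf [])) (.node (.leaf []) (.leaf [])))))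

def certSLab231 : Janko.Tree (List Bool) :=
  (.node (.node (.node (.node (.node (.leaf []) (.leaf [])) (.leaf [])) (.node (.leaf []) (.leaf [false, false, false, false, false, false, false, false, false, false]))) (.node (.node (.leaf []) (.leaf [false, false, false, false])) (.node (.leaf []) (.leaf [false, false, false, false, false, false, false, false, false, false, false])))) (.node (.node (.node (.leaf []) (.leaf [])) (.node (.leaf [false, false, false, false, false, false, false, false]) (.leaf [false, false, false, false, false, false, false, false, false, false, false, false]))) (.node (.node (.leaf []) (.leaf [false, false, false, false, false, false])) (.node (.leaf []) (.leaf [false, false, false, false, false])))))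

def certSLab232 : Janko.Tree (List Bool) :=
  (.node (.node (.node (.node (.node (.leaf []) (.leaf [false, false, false, false, false, false, false, false, false, false, false])) (.leaf [false, false, false, false, false, false, false, false, false, false, false])) (.node (.leaf []) (.leaf [false, false, false, false, false, false, false]))) (.node (.node (.leaf []) (.leaf [])) (.node (.leaf []) (.leaf [false, false, false, false, false, false, false, false])))) (.node (.node (.node (.leaf []) (.leaf [])) (.node (.leaf []) (.leaf [false, false, false, false, false, false, false, false]))) (.node (.node (.leaf []) (.leaf [])) (.node (.leaf []) (.leaf [false, false, false, false, false, false, false, false, false, false, false])))))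

def certSLab233 : Janko.Tree (List Bool) :=
  (.node (.node (.node (.node (.node (.leaf [false, false, false, false, false, false]) (.leaf [false, false, false, false, false, false, false])) (.leaf [])) (.node (.leaf [false, false, false, false, false, false, false]) (.leaf [false, false, false, false]))) (.node (.node (.leaf []) (.leaf [false, false, false, false, false, false, false, false, false, false, false, false])) (.node (.leaf []) (.leaf [false, false, false, false, false, false, false])))) (.node (.node (.node (.leaf []) (.leaf [])) (.node (.leaf []) (.leaf [false]))) (.node (.node (.leaf []) (.leaf [])) (.node (.leaf [false, false, false, false, false, false, false]) (.leaf [false, false])))))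

def certSLab234 : Janko.Tree (List Bool) :=
  (.node (.node (.node (.node (.node (.leaf []) (.leaf [])) (.leaf [])) (.node (.leaf []) (.leaf [false, false]))) (.node (.node (.leaf []) (.leaf [])) (.node (.leaf []) (.leaf [])))) (.node (.node (.node (.leaf []) (.leaf [])) (.node (.leaf []) (.leaf []))) (.node (.node (.leaf []) (.leaf [])) (.node (.leaf []) (.leaf [])))))

def certSLab235 : Janko.Tree (List Bool) :=
  (.node (.node (.node (.node (.node (.leaf []) (.leaf [false, false, false, false])) (.leaf [])) (.node (.leaf []) (.leaf []))) (.node (.node (.leaf [false, false, false, false, false, false, false, false, false]) (.leaf [])) (.node (.leaf []) (.leaf [false, false, false, false, false, false, false])))) (.node (.node (.node (.leaf []) (.leaf [])) (.node (.leaf []) (.leaf []))) (.node (.node (.leaf []) (.leaf [])) (.node (.leaf [false, false, false, false, false, false, false, false, false, false, false]) (.leaf [false, false, false, false, false, false, false, false, false, false, false, false])))))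

def certSLab236 : Janko.Tree (List Bool) :=
  (.node (.node (.node (.node (.node (.leaf []) (.leaf [false, false, false])) (.leaf [false, false])) (.node (.leaf []) (.leaf []))) (.node (.node (.leaf []) (.leaf [])) (.node (.leaf []) (.leaf [])))) (.node (.node (.node (.leaf []) (.leaf [])) (.node (.leaf []) (.leaf []))) (.node (.node (.leaf []) (.leaf [false, false, false, false, false, false, false, false, false])) (.node (.leaf []) (.leaf [false, false, false, false, false, false, false, false, false, false, false])))))

def certSLab237 : Janko.Tree (List Bool) :=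
  (.node (.node (.node (.node (.node (.leaf []) (.leaf [false])) (.leaf [false, false, false, false, false, false, false, false, false, false, false, false])) (.node (.leaf []) (.leaf [false, false, false, false, false, false]))) (.node (.node (.leaf []) (.leaf [])) (.node (.leaf []) (.leaf [false, false, false, false, false, false, false, false, false, false, false])))) (.node (.node (.node (.leaf []) (.leaf [])) (.node (.leaf []) (.leaf [false, false]))) (.node (.node (.leaf []) (.leaf [false, false, false, false, false, false, false])) (.node (.leaf []) (.leaf [])))))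

def certSLab238 : Janko.Tree (List Bool) :=
  (.node (.node (.node (.node (.node (.leaf []) (.leaf [false, false, false, false, false, false, false, false, false, false])) (.leaf [])) (.node (.leaf []) (.leaf []))) (.node (.node (.leaf []) (.leaf [false, false, false, false, false])) (.node (.leaf []) (.leaf [false, false, false, false, false, false, false])))) (.node (.node (.node (.leaf []) (.leaf [])) (.node (.leaf []) (.leaf [false, false, false, false, false, false, false]))) (.node (.node (.leaf []) (.leaf [])) (.node (.leaf []) (.leaf [])))))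

def certSLab239 : Janko.Tree (List Bool) :=
  (.node (.node (.node (.node (.node (.leaf []) (.leaf [])) (.leaf [])) (.node (.leaf []) (.leaf []))) (.node (.node (.leaf []) (.leaf [false])) (.node (.leaf [false, false, false, false, false, false, false, false, false]) (.leaf [])))) (.node (.node (.node (.leaf []) (.leaf [])) (.node (.leaf [false, false, false, false, false, false, false, false, false, false, false, false]) (.leaf []))) (.node (.node (.leaf []) (.leaf [])) (.node (.leaf []) (.leaf [false, false, false, false])))))

def certSLab240 : Janko.Tree (List Bool) :=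
  (.node (.node (.node (.node (.node (.leaf []) (.leaf [false, false, false, false, false, false, false, false, false, false])) (.leaf [])) (.node (.leaf []) (.leaf [false, false, false, false, false, false, false, false, false, false, false]))) (.node (.node (.leaf [false, false]) (.leaf [])) (.node (.leaf []) (.leaf [false, false, false, false, false, false, false])))) (.node (.node (.node (.leaf [false, false]) (.leaf [])) (.node (.leaf [false, false, false, false, false, false, false]) (.leaf [false]))) (.node (.node (.leaf [false, false, false]) (.leaf [])) (.node (.leaf []) (.leaf [])))))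

def certSLab241 : Janko.Tree (List Bool) :=
  (.node (.node (.node (.node (.node (.leaf []) (.leaf [false, false, false, false, false, false])) (.leaf [false, false, false])) (.node (.leaf []) (.leaf [false, false, false, false, false, false, false, false, false]))) (.node (.node (.leaf []) (.leaf [false, false, false, false, false, false])) (.node (.leaf []) (.leaf [false, false, false, false, false, false, false, false, false, false, false])))) (.node (.node (.node (.leaf []) (.leaf [false, false, false, false, false, false, false, false, false])) (.node (.leaf []) (.leaf [false]))) (.node (.node (.leaf []) (.leaf [false, false, false, false])) (.node (.leaf [false, false, false, false, false, false, false, false]) (.leaf [false, false, false, false, false, false, false, false, false, false, false])))))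

def certSLab242 : Janko.Tree (List Bool) :=
  (.node (.node (.node (.node (.node (.leaf []) (.leaf [false, false])) (.leaf [])) (.node (.leaf []) (.leaf []))) (.node (.node (.leaf []) (.leaf [])) (.node (.leaf []) (.leaf [false, false, false, false, false, false, false, false, false, false, false, false])))) (.node (.node (.node (.leaf []) (.leaf [])) (.node (.leaf []) (.leaf [false, false, false, false, false, false]))) (.node (.node (.leaf []) (.leaf [false, false, false, false, false, false, false, false, false, false, false, false])) (.node (.leaf []) (.leaf [false, false, false, false, false])))))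

def certSLab243 : Janko.Tree (List Bool) :=
  (.node (.node (.node (.node (.node (.leaf []) (.leaf [false, false, false, false, false, false, false, false, false, false])) (.leaf [false, false, false, false, false, false, false, false])) (.node (.leaf []) (.leaf []))) (.node (.node (.leaf []) (.leaf [false, false, false, false, false, false])) (.node (.leaf [false, false]) (.leaf [false])))) (.node (.node (.node (.leaf []) (.leaf [])) (.node (.leaf []) (.leaf []))) (.node (.node (.leaf []) (.leaf [])) (.node (.leaf []) (.leaf [false, false, false, false, false, false, false, false, false, false, false, false])))))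

def certSLab244 : Janko.Tree (List Bool) :=
  (.node (.node (.node (.node (.node (.leaf []) (.leaf [false, false, false, false, false, false, false, false, false, false])) (.leaf [])) (.node (.leaf []) (.leaf []))) (.node (.node (.leaf []) (.leaf [false, false, false, false, false, false, false, false])) (.node (.leaf []) (.leaf [])))) (.node (.node (.node (.leaf []) (.leaf [])) (.node (.leaf [false, false, false, false, false, false, false]) (.leaf [false, false, false, false, false, false, false, false]))) (.node (.node (.leaf []) (.leaf [])) (.node (.leaf []) (.leaf [])))))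

def certSLab245 : Janko.Tree (List Bool) :=
  (.node (.node (.node (.node (.node (.leaf []) (.leaf [false, false, false, false, false, false, false, false, false])) (.leaf [false, false, false, false, false, false, false, false])) (.node (.leaf []) (.leaf [false, false, false, false, false, false, false, false, false, false, false]))) (.node (.node (.leaf []) (.leaf [])) (.node (.leaf [false, false, false, false, false, false, false, false, false, false]) (.leaf [])))) (.node (.node (.node (.leaf []) (.leaf [])) (.node (.leaf [false, false, false, false, false, false, false, false, false, false, false]) (.leaf [false, false, false, false, false, false, false, false, false, false, false]))) (.node (.node (.leaf []) (.leaf [])) (.node (.leaf []) (.leaf [false, false, false, false, false, false, false, false, false, false])))))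

def certSLab246 : Janko.Tree (List Bool) :=
  (.node (.node (.node (.node (.node (.leaf []) (.leaf [])) (.leaf [false])) (.node (.leaf []) (.leaf [false, false, false, false, false, false, false, false, false, false]))) (.node (.node (.leaf []) (.leaf [false, false, false, false, false, false, false, false])) (.node (.leaf []) (.leaf [])))) (.node (.node (.node (.leaf []) (.leaf [])) (.node (.leaf []) (.leaf []))) (.node (.node (.leaf []) (.leaf [])) (.node (.leaf [false, false, false, false, false, false, false]) (.leaf [false, false, false, false, false, false, false, false, false, false])))))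

def certSLab247 : Janko.Tree (List Bool) :=
  (.node (.node (.node (.node (.node (.leaf []) (.leaf [])) (.leaf [])) (.node (.leaf []) (.leaf []))) (.node (.node (.leaf []) (.leaf [])) (.node (.leaf []) (.leaf [])))) (.node (.node (.node (.leaf []) (.leaf [false, false])) (.node (.leaf []) (.leaf []))) (.node (.node (.leaf []) (.leaf [false, false, false, false, false, false, false, false, false, false, false])) (.node (.leaf []) (.leaf [false])))))

def certSLab248 : Janko.Tree (List Bool) :=
  (.node (.node (.node (.node (.node (.leaf []) (.leaf [])) (.leaf [false, false, false, false, false, false])) (.node (.leaf []) (.leaf []))) (.node (.node (.leaf []) (.leaf [])) (.node (.leaf []) (.leaf [false, false])))) (.node (.node (.node (.leaf []) (.leaf [])) (.node (.leaf []) (.leaf [false, false, false, false, false, false]))) (.node (.node (.leaf []) (.leaf [])) (.node (.leaf []) (.leaf [false, false, false])))))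

def certSLab249 : Janko.Tree (List Bool) :=
  (.node (.node (.node (.node (.node (.leaf []) (.leaf [false, false, false, false, false, false, false, false, false])) (.leaf [])) (.node (.leaf []) (.leaf []))) (.node (.node (.leaf []) (.leaf [])) (.node (.leaf []) (.leaf [])))) (.node (.node (.node (.leaf []) (.leaf [false, false, false])) (.node (.leaf []) (.leaf [false, false, false, false, false, false]))) (.node (.node (.leaf []) (.leaf [false, false, false, false, false, false, false, false, false, false, false])) (.node (.leaf []) (.leaf [false, false])))))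

def certSLab250 : Janko.Tree (List Bool) :=
  (.node (.node (.node (.node (.node (.leaf []) (.leaf [false, false, false, false, false, false, false, false, false, false])) (.leaf [])) (.node (.leaf []) (.leaf []))) (.node (.node (.leaf []) (.leaf [])) (.node (.leaf []) (.leaf [false, false])))) (.node (.node (.node (.leaf []) (.leaf [])) (.node (.leaf [false, false, false, false, false, false, false, false, false, false, false, false]) (.leaf [false, false, false, false, false, false, false, false, false]))) (.node (.node (.leaf []) (.leaf [])) (.node (.leaf []) (.leaf [false, false, false, false, false, false])))))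

def certSLab251 : Janko.Tree (List Bool) :=
  (.node (.node (.node (.node (.node (.leaf []) (.leaf [false])) (.leaf [])) (.node (.leaf []) (.leaf []))) (.node (.node (.leaf []) (.leaf [false, false, false, false, false, false, false, false, false, false, false])) (.node (.leaf []) (.leaf [])))) (.node (.node (.node (.leaf []) (.leaf [])) (.node (.leaf []) (.leaf [false, false, false, false, false, false, false]))) (.node (.node (.leaf [false, false, false, false, false, false, false, false, false, false, false]) (.leaf [])) (.node (.leaf []) (.leaf [false, false, false, false, false, false, false, false])))))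

def certSLab252 : Janko.Tree (List Bool) :=
  (.node (.node (.node (.node (.node (.leaf []) (.leaf [false, false, false])) (.leaf [])) (.node (.leaf []) (.leaf [false]))) (.node (.node (.leaf []) (.leaf [false, false])) (.node (.leaf []) (.leaf [])))) (.node (.node (.node (.leaf []) (.leaf [])) (.node (.leaf []) (.leaf [false, false, false, false, false, false, false, false, false, false, false, false]))) (.node (.node (.leaf []) (.leaf [])) (.node (.leaf []) (.leaf [false, false])))))

def certSLab253 : Janko.Tree (List Bool) :=
  (.node (.node (.node (.node (.node (.leaf []) (.leaf [false, false, false, false, false, false])) (.leaf [])) (.node (.leaf []) (.leaf [false, false, false, false, false, false, false, false, false, false, false, false]))) (.node (.node (.leaf []) (.leaf [false, false, false, false, false])) (.node (.leaf []) (.leaf [false, false, false, false, false, false, false, false, false])))) (.node (.node (.node (.leaf []) (.leaf [])) (.node (.leaf []) (.leaf []))) (.node (.node (.leaf []) (.leaf [false, false, false, false, false, false, false])) (.node (.leaf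 []) (.leaf [false, false, false, false, false, false, false, false, false])))))

def certSLab254 : Janko.Tree (List Bool) :=
  (.node (.node (.node (.node (.node (.leaf []) (.leaf [false, false, false, false, false, false, false, false, false, false, false, false])) (.leaf [])) (.node (.leaf [false, false, false, false, false, false, false]) (.leaf [false, false, false, false, false, false, false, false, false, false]))) (.node (.node (.leaf []) (.leaf [])) (.node (.leaf []) (.leaf [false, false, false, false, false, false, false, false, false, false, false, false])))) (.node (.node (.node (.leaf [false, false, false, false, false, false, false]) (.leaf [])) (.node (.leaf [false, false, false, false, false, false, false]) (.leaf []))) (.node (.node (.leaf []) (.leaf [])) (.node (.leaf []) (.leaf [false, false])))))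

def certSLab255 : Janko.Tree (List Bool) :=
  (.node (.node (.node (.node (.node (.leaf []) (.leaf [false, false, false, false, false, false, false, false, false, false])) (.leaf [false, false, false, false, false, false, false, false, false, false, false])) (.node (.leaf [false, false, false, false, false, false, false, false, false]) (.leaf []))) (.node (.node (.leaf []) (.leaf [])) (.node (.leaf []) (.leaf [false, false, false])))) (.node (.node (.node (.leaf []) (.leaf [])) (.node (.leaf []) (.leaf [false, false, false]))) (.node (.node (.leaf []) (.leaf [])) (.node (.leaf []) (.leaf [false, false, false, false, false, false, false, false, false, false])))))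

def certSLab : Janko.Tree (List Bool) :=
  (.node (.node (.node (.node (.node (.node (.node (.node certSLab0 certSLab128) (.node certSLab64 certSLab192)) (.node (.node certSLab32 certSLab160) (.node certSLab96 certSLab224))) (.node (.node (.node certSLab16 certSLab144) (.node certSLab80 certSLab208)) (.node (.node certSLab48 certSLab176) (.node certSLab112 certSLab240)))) (.node (.node (.node (.node certSLab8 certSLab136) (.node certSLab72 certSLab200)) (.node (.node certSLab40 certSLab168) (.node certSLab104 certSLab232))) (.node (.node (.node certSLab24 certSLab152) (.node certSLab88 certSLab216)) (.node (.node certSLab56 certSLab184) (.node certSLab120 certSLab248))))) (.node (.node (.node (.node (.node certSLab4 certSLab132) (.node certSLab68 certSLab196)) (.node (.node certSLab36 certSLab164) (.node certSLab100 certSLab228))) (.node (.node (.node certSLab20 certSLab148) (.node certSLab84 certSLab212)) (.node (.node certSLab52 certSLab180) (.node certSLab116 certSLab244)))) (.node (.node (.node (.node certSLab12 certSLab140) (.node certSLab76 certSLab204)) (.node (.node certSLab44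 certSLab172) (.node certSLab108 certSLab236))) (.node (.node (.node certSLab28 certSLab156) (.node certSLab92 certSLab220)) (.node (.node certSLab60 certSLab188) (.node certSLab124 certSLab252)))))) (.node (.node (.node (.node (.node (.node certSLab2 certSLab130) (.node certSLab66 certSLab194)) (.node (.node certSLab34 certSLab162) (.node certSLab98 certSLab226))) (.node (.node (.node certSLab18 certSLab146) (.node certSLab82 certSLab210)) (.node (.node certSLab50 certSLab178) (.node certSLab114 certSLab242)))) (.node (.node (.node (.node certSLab10 certSLab138) (.node certSLab74 certSLab202)) (.node (.node certSLab42 certSLab170) (.node certSLab106 certSLab234))) (.node (.node (.node certSLab26 certSLab154) (.node certSLab90 certSLab218)) (.node (.node certSLab58 certSLab186) (.node certSLab122 certSLab250))))) (.node (.node (.node (.node (.node certSLab6 certSLab134) (.node certSLab70 certSLab198)) (.node (.node certSLab38 certSLab166) (.node certSLab102 certSLab230))) (.node (.node (.node certSLab22 certSLab150) (.node certSLab86 certSLab214)) (.node (.node certSLab54 certSLab182)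 (.node certSLab118 certSLab246)))) (.node (.node (.node (.node certSLab14 certSLab142) (.node certSLab78 certSLab206)) (.node (.node certSLab46 certSLab174) (.node certSLab110 certSLab238))) (.node (.node (.node certSLab30 certSLab158) (.node certSLab94 certSLab222)) (.node (.node certSLab62 certSLab190) (.node certSLab126 certSLab254))))))) (.node (.node (.node (.node (.node (.node (.node certSLab1 certSLab129) (.node certSLab65 certSLab193)) (.node (.node certSLab33 certSLab161) (.node certSLab97 certSLab225))) (.node (.node (.node certSLab17 certSLab145) (.node certSLab81 certSLab209)) (.node (.node certSLab49 certSLab177) (.node certSLab113 certSLab241)))) (.node (.node (.node (.node certSLab9 certSLab137) (.node certSLab73 certSLab201)) (.node (.node certSLab41 certSLab169) (.node certSLab105 certSLab233))) (.node (.node (.node certSLab25 certSLab153) (.node certSLab89 certSLab217)) (.node (.node certSLab57 certSLab185) (.node certSLab121 certSLab249))))) (.node (.node (.node (.node (.node certSLab5 certSLab133) (.node certSLab69 certSLab197)) (.node (.node certSLab37 certSLab165)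 (.node certSLab101 certSLab229))) (.node (.node (.node certSLab21 certSLab149) (.node certSLab85 certSLab213)) (.node (.node certSLab53 certSLab181) (.node certSLab117 certSLab245)))) (.node (.node (.node (.node certSLab13 certSLab141) (.node certSLab77 certSLab205)) (.node (.node certSLab45 certSLab173) (.node certSLab109 certSLab237))) (.node (.node (.node certSLab29 certSLab157) (.node certSLab93 certSLab221)) (.node (.node certSLab61 certSLab189) (.node certSLab125 certSLab253)))))) (.node (.node (.node (.node (.node (.node certSLab3 certSLab131) (.node certSLab67 certSLab195)) (.node (.node certSLab35 certSLab163) (.node certSLab99 certSLab227))) (.node (.node (.node certSLab19 certSLab147) (.node certSLab83 certSLab211)) (.node (.node certSLab51 certSLab179) (.node certSLab115 certSLab243)))) (.node (.node (.node (.node certSLab11 certSLab139) (.node certSLab75 certSLab203)) (.node (.node certSLab43 certSLab171) (.node certSLab107 certSLab235))) (.node (.node (.node certSLab27 certSLab155) (.node certSLab91 certSLab219)) (.node (.node certSLab59 certSLab187) (.node certSLab123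 certSLab251))))) (.node (.node (.node (.node (.node certSLab7 certSLab135) (.node certSLab71 certSLab199)) (.node (.node certSLab39 certSLab167) (.node certSLab103 certSLab231))) (.node (.node (.node certSLab23 certSLab151) (.node certSLab87 certSLab215)) (.node (.node certSLab55 certSLab183) (.node certSLab119 certSLab247)))) (.node (.node (.node (.node certSLab15 certSLab143) (.node certSLab79 certSLab207)) (.node (.node certSLab47 certSLab175) (.node certSLab111 certSLab239))) (.node (.node (.node certSLab31 certSLab159) (.node certSLab95 certSLab223)) (.node (.node certSLab63 certSLab191) (.node certSLab127 certSLab255))))))))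

def certSWord0 : Janko.Tree (List Bool) :=
  (.node (.node (.node (.node (.node (.leaf []) (.leaf [false, false, false, true, true, false, true, true, false, false, false, false, true, true])) (.leaf [false, false, true, true, true, true, true, false, true, false, false])) (.node (.leaf [true, false, true, false, false, true, true, false, true]) (.leaf [true, false, false, false, false, true, true, false, true, true, false, false]))) (.node (.node (.leaf [false, true, false, false, false, true, true, true]) (.leaf [true, true, true, true, false, true, true, true, true, false, true])) (.node (.leaf [true, false, false, false, false, true, true, false, true, false]) (.leaf [false, false, true, true, true, true, false, true, false, false, true, true, true])))) (.node (.node (.node (.node (.leaf [false, false, true, false, false, false, false]) (.leaf [true, true, false, true, true, true, true, false, false, false, true, true, true, false])) (.leaf [true, false, false, false, true, false, true, true, true, true, false])) (.node (.leaf [false, false, true, false, false, false, false, false,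 true, true]) (.leaf [true, true, true, true, false, false, false, false, true, true, false, true]))) (.node (.node (.leaf [false, false, false, true, true, true, false, true, false]) (.leaf [false, false, true, true, true, true, false, true, false, false, true, true])) (.node (.leaf [true, true, true, true, true, false, false, true, false, false]) (.leaf [true, false, false, false, true, false, true, true, false, false, false, false, true])))))

def certSWord1 : Janko.Tree (List Bool) :=
  (.node (.node (.node (.node (.node (.leaf [false]) (.leaf [false, false, false, true, true, false, true, true, false, false, false, true, false, false])) (.leaf [false, true, false, false, false, false, false, false, true, true, false])) (.node (.leaf [true, false, true, false, false, true, true, true, false]) (.leaf [true, false, false, false, false, true, true, true, false, false, false, true]))) (.node (.node (.leaf [false, true, false, false, true, true, false, true]) (.leaf [true, true, true, true, false, true, true, true, true, true, false])) (.node (.leaf [true, false, false, false, false,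 true, true, false, true, true]) (.leaf [false, false, true, true, true, true, false, true, true, true, false, true, false])))) (.node (.node (.node (.node (.leaf [false, false, true, false, false, false, true]) (.leaf [true, true, true, false, false, false, false, false, true, true, true, false, true, true])) (.leaf [true, false, false, false, true, false, true, true, true, true, true])) (.node (.leaf [false, false, true, false, false, false, false, true, true, false]) (.leaf [true, true, true, true, false, false, false, true, false, false, true, true]))) (.node (.node (.leaf [false, false, false, true, true, true, false, true, true]) (.leaf [false, false, true, true, true, true, false, true, true, true, false, true])) (.node (.leaf [true, true, true, true, true, false, false, true, false, true]) (.leaf [true, false, false, false, true, false, true, true, false, false, false, true, true])))))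

def certSWord2 : Janko.Tree (List Bool) :=
  (.node (.node (.node (.node (.node (.leaf [true]) (.leaf [false, false, false, true, true, false, true, true, false, false, true, false, true, true])) (.leaf [false, true, false, false, false, false, false, false, true, true, true])) (.node (.leaf [true, false, true, false, false, true, true, true, true]) (.leaf [true, false, false, false, false, true, true, true, false, false, true, false]))) (.node (.node (.leaf [false, true, false, false, true, true, true, false]) (.leaf [true, true, true, true, false, true, true, true, true, true, true])) (.node (.leaf [true, false, false, false, false, true, true, true, false, false]) (.leaf [false, false, true, true, true, true, false, true, true, true, false, true, true])))) (.node (.node (.node (.node (.leaf [false, false, true, false, false, true, true]) (.leaf [true, true, true, false, false, false, false, false, true, true, true, true, false, true])) (.leaf [true, false, false, false, true, true, false, true, false, false, false])) (.node (.leaf [false, false, true, false, false, false, true,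 false, false, false]) (.leaf [true, true, true, true, false, false, false, true, true, false, true, false]))) (.node (.node (.leaf [false, false, false, true, true, true, true, false, false]) (.leaf [false, false, true, true, true, true, false, true, true, true, true, false])) (.node (.leaf [true, true, true, true, true, false, true, true, true, false]) (.leaf [true, false, false, false, true, false, true, true, true, false, true, false, false])))))

def certSWord3 : Janko.Tree (List Bool) :=
  (.node (.node (.node (.node (.node (.leaf [false, false]) (.leaf [false, false, false, true, true, true, false, false, false, true, false, true, true, true])) (.leaf [false, true, false, false, false, false, false, true, true, false, true])) (.node (.leaf [true, false, true, true, false, false, false, false, false]) (.leaf [true, false, false, false, false, true, true, true, true, false, true, true]))) (.node (.node (.leaf [false, true, false, false, true, true, true, true]) (.leaf [true, true, true, true, true, false, false, false, false, true, false])) (.node (.leaf [true, false, false, false,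 false, true, true, true, false, true]) (.leaf [false, false, true, true, true, true, false, true, true, true, true, false, false])))) (.node (.node (.node (.node (.leaf [false, false, true, false, true, false, false]) (.leaf [true, true, true, false, false, false, false, true, true, true, true, true, true, false])) (.leaf [true, false, false, false, true, true, false, true, true, false, false])) (.node (.leaf [false, false, true, false, false, false, true, false, false, true]) (.leaf [true, true, true, true, false, false, false, true, true, false, true, true]))) (.node (.node (.leaf [false, false, false, true, true, true, true, false, true]) (.leaf [false, false, true, true, true, true, false, true, true, true, true, true])) (.node (.leaf [true, true, true, true, true, false, true, true, true, true]) (.leaf [true, false, false, false, true, false, true, true, true, true, false, true, true])))))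

def certSWord4 : Janko.Tree (List Bool) :=
  (.node (.node (.node (.node (.node (.leaf [false, true]) (.leaf [false, false, false, true, true, true, false, true, true, false, false, false, false, false])) (.leaf [false, true, false, false, false, false, false, true, true, true, false])) (.node (.leaf [true, false, true, true, false, false, false, false, true]) (.leaf [true, false, false, false, true, false, false, false, false, false, true, true]))) (.node (.node (.leaf [false, true, false, true, false, false, false, false]) (.leaf [true, true, true, true, true, false, false, false, false, true, true])) (.node (.leaf [true, false, false, false, false, true, true, true, true, false]) (.leaf [false, false, true, true, true, true, false, true, true, true, true, false, true])))) (.node (.node (.node (.node (.leaf [false, false, true, false, true, true, false]) (.leaf [true, true, true, false, false, false, true, true, true, false, true, true, true, false])) (.leaf [true, false, false, false, true, true, true, false, false, false, false])) (.node (.leaf [false, false, true, false, false,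 false, true, true, false, true]) (.leaf [true, true, true, true, false, false, false, true, true, true, false, false]))) (.node (.node (.leaf [false, false, false, true, true, true, true, true, false]) (.leaf [false, false, true, true, true, true, true, false, false, false, false, true])) (.node (.leaf [true, true, true, true, true, true, false, true, true, true]) (.leaf [true, false, false, false, true, true, false, true, false, false, false, false, false])))))

def certSWord5 : Janko.Tree (List Bool) :=
  (.node (.node (.node (.node (.node (.leaf [true, false]) (.leaf [false, false, false, true, true, true, true, false, false, false, false, true, false, true])) (.leaf [false, true, false, false, false, false, false, true, true, true, true])) (.node (.leaf [true, false, true, true, false, false, false, true, false]) (.leaf [true, false, false, false, true, false, false, false, false, true, true, false]))) (.node (.node (.leaf [false, true, false, true, false, false, false, true]) (.leaf [true, true, true, true, true, false, false, false, true, false, false])) (.node (.leaf [true,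 false, false, false, false, true, true, true, true, true]) (.leaf [false, false, true, true, true, true, false, true, true, true, true, true, false])))) (.node (.node (.node (.node (.leaf [false, false, true, false, true, true, true]) (.leaf [true, true, true, false, true, true, false, false, true, false, false, false, true, true])) (.leaf [true, false, false, false, true, true, true, false, false, false, true])) (.node (.leaf [false, false, true, false, false, false, true, true, true, false]) (.leaf [true, true, true, true, false, false, false, true, true, true, false, true]))) (.node (.node (.leaf [false, false, false, true, true, true, true, true, true]) (.leaf [false, false, true, true, true, true, true, false, false, false, true, false])) (.node (.leaf [false, false, false, false, false, false, true, false, false, false, false]) (.leaf [true, false, false, false, true, true, false, true, false, false, false, true, false])))))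

def certSWord6 : Janko.Tree (List Bool) :=
  (.node (.node (.node (.node (.node (.leaf [true, true]) (.leaf [false, false, false, true, true, true, true, false, false, true, false, false, false, true])) (.leaf [false, true, false, false, false, false, true, false, false, false, false])) (.node (.leaf [true, false, true, true, false, false, false, true, true]) (.leaf [true, false, false, false, true, false, false, false, false, true, true, true]))) (.node (.node (.leaf [false, true, false, true, false, false, true, true]) (.leaf [true, true, true, true, true, false, false, false, true, false, true])) (.node (.leaf [true, false, false, false, true, false, false, false, false, false]) (.leaf [false, false, true, true, true, true, false, true, true, true, true, true, true])))) (.node (.node (.node (.node (.leaf [false, false, true, true, false, true, false]) (.leaf [true, true, true, false, true, true, true, true, true, false, false, false, true, true])) (.leaf [true, false, false, false, true, true, true, false, false, true, false])) (.node (.leaf [false, false, true, false, false, true,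 true, false, true, false]) (.leaf [true, true, true, true, false, false, false, true, true, true, true, false]))) (.node (.node (.leaf [false, false, true, false, false, false, false, false, false]) (.leaf [false, false, true, true, true, true, true, false, false, false, true, true])) (.node (.leaf [false, false, false, false, false, true, false, false, false, false, true]) (.leaf [true, false, false, false, true, true, false, true, false, false, false, true, true])))))

def certSWord7 : Janko.Tree (List Bool) :=
  (.node (.node (.node (.node (.node (.leaf [false, false, false]) (.leaf [false, false, false, true, true, true, true, false, false, true, false, false, true, true])) (.leaf [false, true, false, false, false, false, true, true, false, true, false])) (.node (.leaf [true, false, true, true, false, false, true, false, true]) (.leaf [true, false, false, false, true, false, false, false, true, false, false, false]))) (.node (.node (.leaf [false, true, true, false, false, false, false, false]) (.leaf [true, true, true, true, true, false, false, false, true, true, false])) (.node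 (.leaf [true, false, false, false, true, false, false, false, false, true]) (.leaf [false, false, true, true, true, true, true, false, false, false, false, true, false])))) (.node (.node (.node (.node (.leaf [false, false, true, true, false, true, true]) (.leaf [true, true, true, true, false, false, false, true, true, false, true, true, false, false])) (.leaf [true, false, false, false, true, true, true, false, true, false, false])) (.node (.leaf [false, false, true, false, false, true, true, false, true, true]) (.leaf [true, true, true, true, false, false, false, true, true, true, true, true]))) (.node (.node (.leaf [false, false, true, false, false, false, false, false, true]) (.leaf [false, false, true, true, true, true, true, false, false, true, false, false])) (.node (.leaf [false, false, false, false, false, true, false, false, false, true, false]) (.leaf [true, false, false, false, true, true, false, true, true, false, false, false, true])))))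

def certSWord8 : Janko.Tree (List Bool) :=
  (.node (.node (.node (.node (.node (.leaf [false, false, true]) (.leaf [false, false, false, true, true, true, true, false, true, false, false, true, true, false])) (.leaf [false, true, false, false, false, false, true, true, false, true, true])) (.node (.leaf [true, false, true, true, true, false, false, false, false]) (.leaf [true, false, false, false, true, false, false, false, true, true, true, true]))) (.node (.node (.leaf [false, true, true, false, false, false, true, false]) (.leaf [true, true, true, true, true, false, false, false, true, true, true])) (.node (.leaf [true, false, false, false, true, false, false, false, true, false]) (.leaf [false, false, true, true, true, true, true, false, false, false, false, true, true])))) (.node (.node (.node (.node (.leaf [false, false, true, true, true, false, false]) (.leaf [true, true, true, true, false, false, false, true, true, true, false, true, true, false])) (.leaf [true, false, false, false, true, true, true, false, true, true, false])) (.node (.leaf [false, false, true, false, false,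 true, true, true, false, false]) (.leaf [true, true, true, true, false, false, true, false, false, false, true, false]))) (.node (.node (.leaf [false, false, true, false, false, false, false, true, true]) (.leaf [false, false, true, true, true, true, true, false, false, true, false, true])) (.node (.leaf [false, false, false, false, false, true, false, false, false, true, true]) (.leaf [true, false, false, false, true, true, false, true, true, false, false, true, false])))))

def certSWord9 : Janko.Tree (List Bool) :=
  (.node (.node (.node (.node (.node (.leaf [false, true, false]) (.leaf [false, false, false, true, true, true, true, false, true, false, false, true, true, true])) (.leaf [false, true, false, false, false, false, true, true, true, false, false])) (.node (.leaf [true, false, true, true, true, false, false, false, true]) (.leaf [true, false, false, false, true, false, false, true, true, true, true, true]))) (.node (.node (.leaf [false, true, true, false, false, false, true, true]) (.leaf [true, true, true, true, true, false, false, true, false, false, false])) (.node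 (.leaf [true, false, false, false, true, false, false, false, true, true]) (.leaf [false, false, true, true, true, true, true, false, false, false, true, false, false])))) (.node (.node (.node (.node (.leaf [false, false, true, true, true, false, true]) (.leaf [true, true, true, true, false, true, false, false, false, true, false, false, false, false])) (.leaf [true, false, false, false, true, true, true, false, true, true, true])) (.node (.leaf [false, false, true, false, false, true, true, true, true, false]) (.leaf [true, true, true, true, false, false, true, false, false, true, true, false]))) (.node (.node (.leaf [false, false, true, false, false, false, true, false, false]) (.leaf [false, false, true, true, true, true, true, false, true, false, false, true])) (.node (.leaf [false, false, false, false, false, true, false, true, false, false, false]) (.leaf [true, false, false, false, true, true, true, false, false, false, false, false, false])))))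

def certSWord10 : Janko.Tree (List Bool) :=
  (.node (.node (.node (.node (.node (.leaf [false, true, true]) (.leaf [false, false, false, true, true, true, true, false, true, true, true, false, true, false])) (.leaf [false, true, false, false, false, false, true, true, true, false, true])) (.node (.leaf [true, false, true, true, true, false, true, false, false]) (.leaf [true, false, false, false, true, false, true, true, false, false, false, false]))) (.node (.node (.leaf [false, true, true, false, false, true, false, false]) (.leaf [true, true, true, true, true, false, true, true, true, false, false])) (.node (.leaf [true, false, false, false, true, false, false, true, true, false]) (.leaf [false, false, true, true, true, true, true, false, false, false, true, false, true])))) (.node (.node (.node (.node (.leaf [false, false, true, true, true, true, false]) (.leaf [true, true, true, true, false, true, true, true, true, false, true, false, false, true])) (.leaf [true, false, false, false, true, true, true, true, false, false, false])) (.node (.leaf [false, false, true, false, false,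 true, true, true, true, true]) (.leaf [true, true, true, true, false, false, true, false, false, true, true, true]))) (.node (.node (.leaf [false, false, true, false, false, false, true, false, true]) (.leaf [false, true, false, false, false, false, false, false, true, true, true, true])) (.node (.leaf [false, false, false, false, false, true, false, true, true, true, true]) (.leaf [true, false, false, false, true, true, true, false, false, false, false, true, false])))))

def certSWord11 : Janko.Tree (List Bool) :=
  (.node (.node (.node (.node (.node (.leaf [true, false, false]) (.leaf [false, false, false, true, true, true, true, false, true, true, true, false, true, true])) (.leaf [false, true, false, false, false, false, true, true, true, true, false])) (.node (.leaf [true, false, true, true, true, false, true, true, false]) (.leaf [true, false, false, false, true, false, true, true, false, false, false, true]))) (.node (.node (.leaf [false, true, true, false, false, true, false, true]) (.leaf [true, true, true, true, true, false, true, true, true, true, true])) (.node (.leaf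 [true, false, false, false, true, false, false, true, true, true]) (.leaf [false, false, true, true, true, true, true, false, true, false, false, true, true])))) (.node (.node (.node (.node (.leaf [false, false, true, true, true, true, true]) (.leaf [true, true, true, true, true, false, false, false, true, true, true, true, false, false])) (.leaf [true, false, false, false, true, true, true, true, false, false, true])) (.node (.leaf [false, false, true, false, true, false, false, false, false, false]) (.leaf [true, true, true, true, false, false, true, false, true, true, false, false]))) (.node (.node (.leaf [false, false, true, false, false, false, true, true, false]) (.leaf [false, true, false, false, false, false, false, true, true, false, true, false])) (.node (.leaf [false, false, false, false, true, false, false, false, false, false, false]) (.leaf [true, false, false, false, true, true, true, false, false, false, true, false, false])))))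

def certSWord12 : Janko.Tree (List Bool) :=
  (.node (.node (.node (.node (.node (.leaf [true, false, true]) (.leaf [false, false, true, false, false, false, true, true, false, true, false, false, false, true])) (.leaf [false, true, false, false, false, false, true, true, true, true, true])) (.node (.leaf [true, false, true, true, true, false, true, true, true]) (.leaf [true, false, false, false, true, false, true, true, true, false, true, false]))) (.node (.node (.leaf [false, true, true, false, true, false, false, false]) (.leaf [false, false, false, false, false, false, true, false, false, false, false, true])) (.node (.leaf [true, false, false, false, true, false, true, true, false, false]) (.leaf [false, true, false, false, false, false, false, true, true, false, true, true, false])))) (.node (.node (.node (.node (.leaf [false, true, false, false, false, false, false]) (.leaf [false, false, false, false, true, false, false, false, false, false, true, true, true, false, false])) (.leaf [true, false, false, false, true, true, true, true, false, true, false])) (.node (.leaf [false,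 false, true, false, true, false, false, false, false, true]) (.leaf [true, true, true, true, false, true, false, false, false, true, false, false]))) (.node (.node (.leaf [false, false, true, false, false, false, true, true, true]) (.leaf [false, true, false, false, false, false, false, true, true, false, true, true])) (.node (.leaf [false, false, false, false, true, false, false, false, false, false, true]) (.leaf [true, false, false, false, true, true, true, false, false, false, true, false, true])))))

def certSWord13 : Janko.Tree (List Bool) :=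
  (.node (.node (.node (.node (.node (.leaf [true, true, false]) (.leaf [false, false, true, false, false, true, true, false, true, true, true, false, false, false])) (.leaf [false, true, false, false, false, true, false, false, false, false, false])) (.node (.leaf [true, false, true, true, true, true, false, false, false]) (.leaf [true, false, false, false, true, false, true, true, true, true, false, false]))) (.node (.node (.leaf [false, true, true, false, true, false, false, true]) (.leaf [false, false, false, false, false, true, false, false, false, false, true, false])) (.node (.leaf [true, false, false, false, true, false, true, true, true, false]) (.leaf [false, true, false, false, false, false, false, true, true, false, true, true, true])))) (.node (.node (.node (.node (.leaf [false, true, false, false, false, false, true]) (.leaf [false, false, false, false, true, false, true, false, false, false, false, false, true, true, true])) (.leaf [true, false, false, false, true, true, true, true, false, true, true])) (.node (.leaf [false, false, true, false, true, true, false, false,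 false, false]) (.leaf [true, true, true, true, false, true, false, false, true, true, false, true]))) (.node (.node (.leaf [false, false, true, false, false, true, true, false, true]) (.leaf [false, true, false, false, false, false, false, true, true, true, false, true])) (.node (.leaf [false, false, false, false, true, false, false, false, true, false, false]) (.leaf [true, false, false, false, true, true, true, false, false, false, true, true, false])))))

def certSWord14 : Janko.Tree (List Bool) :=
  (.node (.node (.node (.node (.node (.leaf [true, true, true]) (.leaf [false, false, true, false, false, true, true, true, true, false, false, false, false, true])) (.leaf [false, true, false, false, false, true, false, false, false, false, true])) (.node (.leaf [true, false, true, true, true, true, false, false, true]) (.leaf [true, false, false, false, true, false, true, true, true, true, false, true]))) (.node (.node (.leaf [false, true, true, false, true, true, false, false]) (.leaf [false, false, false, false, false, true, false, false, false, true, true, true])) (.node (.leaf [true,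 false, false, false, true, false, true, true, true, true]) (.leaf [false, true, false, false, false, false, false, true, true, true, false, true, false])))) (.node (.node (.node (.node (.leaf [false, true, false, false, false, true, false]) (.leaf [false, false, false, false, true, false, true, true, true, true, false, false, true, false, false])) (.leaf [true, false, false, false, true, true, true, true, true, false, false])) (.node (.leaf [false, false, true, false, true, true, false, false, false, true]) (.leaf [true, true, true, true, false, true, true, true, false, true, false, false]))) (.node (.node (.leaf [false, false, true, false, false, true, true, true, false]) (.leaf [false, true, false, false, false, false, false, true, true, true, true, false])) (.node (.leaf [false, false, false, false, true, false, false, false, true, true, false]) (.leaf [true, false, false, false, true, true, true, false, false, true, false, false, true])))))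

def certSWord15 : Janko.Tree (List Bool) :=
  (.node (.node (.node (.node (.node (.leaf [false, false, false, false]) (.leaf [false, false, true, false, false, true, true, true, true, false, false, false, true, false])) (.leaf [false, true, false, false, false, true, false, false, false, true, true])) (.node (.leaf [true, false, true, true, true, true, false, true, false]) (.leaf [true, false, false, false, true, true, false, true, false, false, false, false]))) (.node (.node (.leaf [false, true, true, false, true, true, true, false]) (.leaf [false, false, false, false, false, true, false, true, true, true, true, true])) (.node (.leaf [true, false, false, false, true, true, false, true, false, false]) (.leaf [false, true, false, false, false, false, false, true, true, true, false, true, true])))) (.node (.node (.node (.node (.leaf [false, true, false, false, false, true, true]) (.leaf [false, false, false, false, true, true, true, false, false, true, false, false, true, true, true])) (.leaf [true, false, false, false, true, true, true, true, true, false, true])) (.node (.leaf [false,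 false, true, false, true, true, false, false, true, false]) (.leaf [true, true, true, true, false, true, true, true, true, false, false, false]))) (.node (.node (.leaf [false, false, true, false, false, true, true, true, true]) (.leaf [false, true, false, false, false, false, true, false, false, false, false, false])) (.node (.leaf [false, false, false, false, true, false, false, false, true, true, true]) (.leaf [true, false, false, false, true, true, true, false, true, true, false, false, false])))))

def certSWord16 : Janko.Tree (List Bool) :=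
  (.node (.node (.node (.node (.node (.leaf [false, false, false, true]) (.leaf [false, false, true, false, false, true, true, true, true, false, false, false, true, true])) (.leaf [false, true, false, false, false, true, false, true, true, false, false])) (.node (.leaf [true, false, true, true, true, true, false, true, true]) (.leaf [true, false, false, false, true, true, false, true, false, false, false, true]))) (.node (.node (.leaf [false, true, true, true, false, false, false, false]) (.leaf [false, false, false, false, true, false, false, false, false, false, true, true])) (.node (.leaf [true, false, false, false, true, true, false, true, true, false]) (.leaf [false, true, false, false, false, false, false, true, true, true, true, false, false])))) (.node (.node (.node (.node (.leaf [false, true, false, false, true, true, false]) (.leaf [false, false, false, true, false, false, false, false, false, true, true, true, false, true, false])) (.leaf [true, false, false, true, false, false, false, true, false, true, true])) (.node (.leaf [false, false, true, false, true, true, true,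 false, true, false]) (.leaf [true, true, true, true, false, true, true, true, true, false, false, true]))) (.node (.node (.leaf [false, false, true, false, true, false, false, false, false]) (.leaf [false, true, false, false, false, false, true, false, false, false, false, true])) (.node (.leaf [false, false, false, false, true, false, true, false, false, false, false]) (.leaf [true, false, false, false, true, true, true, false, true, true, false, false, true])))))

def certSWord17 : Janko.Tree (List Bool) :=
  (.node (.node (.node (.node (.node (.leaf [false, false, true, false]) (.leaf [false, false, true, false, true, true, false, false, false, false, true, false, false, false])) (.leaf [false, true, false, false, false, true, false, true, true, true, false])) (.node (.leaf [true, false, true, true, true, true, true, false, false]) (.leaf [true, false, false, false, true, true, false, true, true, false, false, false]))) (.node (.node (.leaf [false, true, true, true, false, false, false, true]) (.leaf [false, false, false, false, true, false, false, false, true, false, false, false]))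 (.node (.leaf [true, false, false, false, true, true, true, false, false, false]) (.leaf [false, true, false, false, false, false, true, false, false, false, false, false, false])))) (.node (.node (.node (.node (.leaf [false, true, false, false, true, true, true]) (.leaf [false, false, false, true, false, false, false, false, true, true, true, false, true, true, false])) (.leaf [true, false, false, true, false, false, false, true, true, false, true])) (.node (.leaf [false, false, true, false, true, true, true, false, true, true]) (.leaf [true, true, true, true, false, true, true, true, true, false, true, false]))) (.node (.node (.leaf [false, false, true, false, true, false, false, false, true]) (.leaf [false, true, false, false, false, false, true, true, false, true, true, false])) (.node (.leaf [false, false, false, false, true, false, true, true, false, false, false]) (.leaf [true, false, false, false, true, true, true, false, true, true, true, false, false])))))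

def certSWord18 : Janko.Tree (List Bool) :=
  (.node (.node (.node (.node (.node (.leaf [false, false, true, true]) (.leaf [false, false, true, false, true, true, false, false, false, true, false, false, false, false])) (.leaf [false, true, false, false, false, true, false, true, true, true, true])) (.node (.leaf [true, false, true, true, true, true, true, true, false]) (.leaf [true, false, false, false, true, true, false, true, true, false, false, true]))) (.node (.node (.leaf [false, true, true, true, false, false, true, false]) (.leaf [false, false, false, false, true, false, true, false, false, false, false, false])) (.node (.leaf [true, false, false, false, true, true, true, false, false, true]) (.leaf [false, true, false, false, false, false, true, false, false, false, false, false, true])))) (.node (.node (.node (.node (.leaf [false, true, false, true, false, false, false]) (.leaf [false, false, false, true, false, false, false, false, true, true, true, false, true, true, true])) (.leaf [true, false, false, true, false, false, false, true, true, true, true])) (.node (.leaf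 [false, false, true, false, true, true, true, true, false, false]) (.leaf [true, true, true, true, false, true, true, true, true, true, true, false]))) (.node (.node (.leaf [false, false, true, false, true, true, false, false, false]) (.leaf [false, true, false, false, false, false, true, true, false, true, true, true])) (.node (.leaf [false, false, false, false, true, false, true, true, false, false, true]) (.leaf [true, false, false, false, true, true, true, false, true, true, true, false, true])))))

def certSWord19 : Janko.Tree (List Bool) :=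
  (.node (.node (.node (.node (.node (.leaf [false, true, false, false]) (.leaf [false, false, true, false, true, true, false, false, false, true, false, false, false, true])) (.leaf [false, true, false, false, false, true, true, false, true, false, false])) (.node (.leaf [true, true, false, false, false, false, false, false, true]) (.leaf [true, false, false, false, true, true, true, false, false, false, false, false]))) (.node (.node (.leaf [false, true, true, true, false, true, false, false]) (.leaf [false, false, false, false, true, false, true, false, false, false, false, true])) (.node (.leaf [true, false, false, false, true, true, true, false, true, false]) (.leaf [false, true, false, false, false, false, true, false, false, false, false, true, false])))) (.node (.node (.node (.node (.leaf [false, true, false, true, false, false, true]) (.leaf [false, false, false, true, false, false, false, true, true, true, true, false, false, false, false])) (.leaf [true, false, false, true, false, false, true, true, false, true, false])) (.node (.leaf [false, false, true, false, true, true,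 true, true, false, true]) (.leaf [true, true, true, true, true, false, false, false, false, true, true, false]))) (.node (.node (.leaf [false, false, true, false, true, true, false, false, true]) (.leaf [false, true, false, false, false, false, true, true, true, false, false, false])) (.node (.leaf [false, false, false, false, true, false, true, true, true, false, false]) (.leaf [true, false, false, false, true, true, true, true, false, true, false, false, false])))))

def certSWord20 : Janko.Tree (List Bool) :=
  (.node (.node (.node (.node (.node (.leaf [false, true, false, true]) (.leaf [false, false, true, false, true, true, true, false, true, true, false, false, false, true])) (.leaf [false, true, false, false, false, true, true, false, true, true, false])) (.node (.leaf [true, true, false, false, false, false, false, true, false]) (.leaf [true, false, false, false, true, true, true, false, false, false, false, true]))) (.node (.node (.leaf [false, true, true, true, false, true, true, false]) (.leaf [false, false, false, false, true, false, true, true, true, false, false, false]))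 (.node (.leaf [true, false, false, false, true, true, true, false, true, true]) (.leaf [false, true, false, false, false, false, true, true, false, true, true, false, false])))) (.node (.node (.node (.node (.leaf [false, true, true, false, false, false, false]) (.leaf [false, false, false, true, false, false, false, true, true, true, true, true, false, false, false])) (.leaf [true, false, false, true, false, false, true, true, false, true, true])) (.node (.leaf [false, false, true, true, false, true, false, false, false, false]) (.leaf [true, true, true, true, true, false, false, false, true, false, false, false]))) (.node (.node (.leaf [false, false, true, false, true, true, true, false, false]) (.leaf [false, true, false, false, false, false, true, true, true, false, true, false])) (.node (.leaf [false, false, false, false, true, false, true, true, true, true, false]) (.leaf [true, false, false, false, true, true, true, true, false, true, false, false, true])))))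

def certSWord21 : Janko.Tree (List Bool) :=
  (.node (.node (.node (.node (.node (.leaf [false, true, true, false]) (.leaf [false, false, true, false, true, true, true, true, false, true, true, true, false, false])) (.leaf [false, true, false, false, false, true, true, false, true, true, true])) (.node (.leaf [true, true, false, false, false, false, false, true, true]) (.leaf [true, false, false, false, true, true, true, false, false, false, true, false]))) (.node (.node (.leaf [false, true, true, true, false, true, true, true]) (.leaf [false, false, false, false, true, false, true, true, true, true, false, false])) (.node (.leaf [true, false, false, false, true, true, true, true, false, false]) (.leaf [false, true, false, false, false, false, true, true, true, false, false, false, false])))) (.node (.node (.node (.node (.leaf [false, true, true, false, false, false, true]) (.leaf [false, false, false, true, true, false, true, true, false, false, false, true, false, false, false])) (.leaf [true, false, false, true, false, false, true, true, true, false, false])) (.node (.leaf [false,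 false, true, true, false, true, true, false, false, false]) (.leaf [true, true, true, true, true, false, false, false, true, true, true, true]))) (.node (.node (.leaf [false, false, true, false, true, true, true, false, true]) (.leaf [false, true, false, false, false, false, true, true, true, false, true, true])) (.node (.leaf [false, false, false, false, true, false, true, true, true, true, true]) (.leaf [true, false, false, false, true, true, true, true, false, true, true, true, false])))))

def certSWord22 : Janko.Tree (List Bool) :=
  (.node (.node (.node (.node (.node (.leaf [false, true, true, true]) (.leaf [false, false, true, true, false, true, true, true, false, false, false, true, false, false])) (.leaf [false, true, false, false, false, true, true, true, false, false, false])) (.node (.leaf [true, true, false, false, false, false, true, false, false]) (.leaf [true, false, false, false, true, true, true, false, false, false, true, true]))) (.node (.node (.leaf [false, true, true, true, true, false, false, false]) (.leaf [false, false, false, false, true, false, true, true,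 true, true, true, false])) (.node (.leaf [true, false, false, false, true, true, true, true, false, true]) (.leaf [false, true, false, false, false, false, true, true, true, false, true, true, false])))) (.node (.node (.node (.node (.leaf [false, true, true, false, false, true, false]) (.leaf [false, false, false, true, true, true, false, true, true, false, false, false, false, false, true])) (.leaf [true, false, false, true, false, true, true, false, false, false, false])) (.node (.leaf [false, false, true, true, false, true, true, false, false, true]) (.leaf [true, true, true, true, true, false, false, true, false, false, false, true]))) (.node (.node (.leaf [false, false, true, false, true, true, true, true, false]) (.leaf [false, true, false, false, false, false, true, true, true, true, false, false])) (.node (.leaf [false, false, false, false, true, true, false, true, false, false, false]) (.leaf [true, false, false, false, true, true, true, true, false, true, true, true, true])))))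

def certSWord23 : Janko.Tree (List Bool) :=
  (.node (.node (.node (.node (.node (.leaf [true, false, false, false]) (.leaf [false, false, true, true, true, false, false, false, false, true, true, true, false, false])) (.leaf [false, true, false, false, false, true, true, true, false, true, false])) (.node (.leaf [true, true, false, false, false, false, true, false, true]) (.leaf [true, false, false, false, true, true, true, false, false, true, false, false]))) (.node (.node (.leaf [false, true, true, true, true, false, false, true]) (.leaf [false, false, false, false, true, true, false, true, false, false, false, false])) (.node (.leaf [true, false, false, false, true, true, true, true, true, false]) (.leaf [false, true, false, false, false, false, true, true, true, false, true, true, true])))) (.node (.node (.node (.node (.leaf [false, true, true, false, true, false, false]) (.leaf [false, false, false, true, true, true, true, false, true, false, false, true, true, true, false])) (.leaf [true, false, false, true, false, true, true, false, false, false, true])) (.node (.leaf [false,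 false, true, true, false, true, true, true, false, false]) (.leaf [true, true, true, true, true, false, true, true, true, false, false, false]))) (.node (.node (.leaf [false, false, true, false, true, true, true, true, true]) (.leaf [false, true, false, false, false, false, true, true, true, true, false, true])) (.node (.leaf [false, false, false, false, true, true, false, true, false, false, true]) (.leaf [true, false, false, false, true, true, true, true, true, false, false, false, true])))))

def certSWord24 : Janko.Tree (List Bool) :=
  (.node (.node (.node (.node (.node (.leaf [true, false, false, true]) (.leaf [false, false, true, true, true, false, false, false, false, true, true, true, true, false])) (.leaf [false, true, false, false, false, true, true, true, false, true, true])) (.node (.leaf [true, true, false, false, true, false, false, false, true]) (.leaf [true, false, false, false, true, true, true, false, false, true, false, true]))) (.node (.node (.leaf [false, true, true, true, true, false, true, false]) (.leaf [false, false, false, false, true, true, false, true,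 false, false, false, true])) (.node (.leaf [true, false, false, false, true, true, true, true, true, true]) (.leaf [false, true, false, false, false, false, true, true, true, true, false, true, false])))) (.node (.node (.node (.node (.leaf [false, true, true, false, true, true, false]) (.leaf [false, false, false, true, true, true, true, false, true, true, true, false, true, false, false])) (.leaf [true, false, false, true, false, true, true, true, false, true, false])) (.node (.leaf [false, false, true, true, false, true, true, true, false, true]) (.leaf [true, true, true, true, true, false, true, true, true, true, true, false]))) (.node (.node (.leaf [false, false, true, true, false, true, false, false, false]) (.leaf [false, true, false, false, false, false, true, true, true, true, true, false])) (.node (.leaf [false, false, false, false, true, true, false, true, true, false, false]) (.leaf [true, false, false, true, false, false, true, true, false, true, true, true, false])))))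

def certSWord25 : Janko.Tree (List Bool) :=
  (.node (.node (.node (.node (.node (.leaf [true, false, true, false]) (.leaf [false, false, true, true, true, false, true, false, false, false, false, true, false, false])) (.leaf [false, true, false, false, false, true, true, true, true, false, false])) (.node (.leaf [true, true, false, false, true, false, true, true, false]) (.leaf [true, false, false, false, true, true, true, false, true, false, false, false]))) (.node (.node (.leaf [false, true, true, true, true, false, true, true]) (.leaf [false, false, false, false, true, true, false, true, false, false, true, true])) (.node (.leaf [true, false, false, true, false, false, false, true, false, true]) (.leaf [false, true, false, false, false, false, true, true, true, true, false, true, true])))) (.node (.node (.node (.node (.leaf [false, true, true, false, true, true, true]) (.leaf [false, false, false, true, true, true, true, false, true, true, true, false, true, true, true])) (.leaf [true, false, false, true, false, true, true, true, false, true, true])) (.node (.leaf [false, false,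 true, true, true, false, false, false, false, false]) (.leaf [false, false, false, false, false, false, true, false, false, false, false, true, false]))) (.node (.node (.leaf [false, false, true, true, false, true, false, false, true]) (.leaf [false, true, false, false, false, false, true, true, true, true, true, true])) (.node (.leaf [false, false, false, false, true, true, false, true, true, true, false]) (.leaf [true, false, false, true, false, false, true, true, true, false, false, false, false])))))

def certSWord26 : Janko.Tree (List Bool) :=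
  (.node (.node (.node (.node (.node (.leaf [true, false, true, true]) (.leaf [false, false, true, true, true, false, true, true, true, false, false, false, false, false])) (.leaf [false, true, false, false, false, true, true, true, true, false, true])) (.node (.leaf [true, true, false, false, true, false, true, true, true]) (.leaf [true, false, false, false, true, true, true, false, true, false, false, true]))) (.node (.node (.leaf [false, true, true, true, true, true, false, false]) (.leaf [false, false, false, false, true, true, false, true, true, false, false, true])) (.node (.leaf [true, false, false, true, false, false, false, true, true, false]) (.leaf [false, true, false, false, false, false, true, true, true, true, true, false, false])))) (.node (.node (.node (.node (.leaf [false, true, true, true, false, false, false]) (.leaf [false, false, true, false, false, false, true, true, false, true, false, false, false, true, true])) (.leaf [true, false, false, true, false, true, true, true, true, false, false])) (.node (.leaf [false, false, true, true, true, false, false, false,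 false, true]) (.leaf [false, false, false, false, false, true, false, false, false, false, true, false, false]))) (.node (.node (.leaf [false, false, true, true, false, true, true, false, false]) (.leaf [false, true, false, false, false, true, false, false, false, false, true, true])) (.node (.leaf [false, false, false, false, true, true, true, false, false, false, false]) (.leaf [true, false, false, true, false, true, true, false, false, false, false, false, true])))))

def certSWord27 : Janko.Tree (List Bool) :=
  (.node (.node (.node (.node (.node (.leaf [true, true, false, false]) (.leaf [false, false, true, true, true, false, true, true, true, false, false, false, true, true])) (.leaf [false, true, false, false, false, true, true, true, true, true, false])) (.node (.leaf [true, true, false, true, false, false, false, false, false]) (.leaf [true, false, false, false, true, true, true, false, true, true, false, false]))) (.node (.node (.leaf [false, true, true, true, true, true, false, true]) (.leaf [false, false, false, false, true, true, false, true, true, true, false, false]))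 (.node (.leaf [true, false, false, true, false, false, false, true, true, true]) (.leaf [false, true, false, false, false, false, true, true, true, true, true, false, true])))) (.node (.node (.node (.node (.leaf [false, true, true, true, false, false, true]) (.leaf [false, false, true, false, true, true, false, false, false, false, true, false, false, false, true])) (.leaf [true, false, false, true, false, true, true, true, true, false, true])) (.node (.leaf [false, false, true, true, true, false, false, true, false, false]) (.leaf [false, false, false, false, false, true, false, true, true, true, true, true, false]))) (.node (.node (.leaf [false, false, true, true, false, true, true, true, false]) (.leaf [false, true, false, false, false, true, false, false, false, true, true, true])) (.node (.leaf [false, false, false, false, true, true, true, false, false, true, false]) (.leaf [true, false, false, true, false, true, true, false, false, false, true, true, true])))))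

def certSWord28 : Janko.Tree (List Bool) :=
  (.node (.node (.node (.node (.node (.leaf [true, true, false, true]) (.leaf [false, false, true, true, true, false, true, true, true, true, true, false, false, true])) (.leaf [false, true, false, false, false, true, true, true, true, true, true])) (.node (.leaf [true, true, false, true, false, false, false, false, true]) (.leaf [true, false, false, false, true, true, true, false, true, true, true, false]))) (.node (.node (.leaf [false, true, true, true, true, true, true, false]) (.leaf [false, false, false, false, true, true, true, false, false, false, false, true])) (.node (.leaf [true, false, false, true, false, false, true, true, false, true]) (.leaf [false, true, false, false, false, false, true, true, true, true, true, true, false])))) (.node (.node (.node (.node (.leaf [false, true, true, true, false, true, false]) (.leaf [false, false, true, false, true, true, false, false, false, true, false, false, false, true, true])) (.leaf [true, false, false, true, false, true, true, true, true, true, false])) (.node (.leaf [false, false,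 true, true, true, false, false, true, false, true]) (.leaf [false, false, false, false, true, false, false, false, false, false, true, true, false]))) (.node (.node (.leaf [false, false, true, true, true, false, false, false, false]) (.leaf [false, true, false, false, false, true, false, true, true, false, false, false])) (.node (.leaf [false, false, false, false, true, true, true, false, true, false, false]) (.leaf [true, false, false, true, false, true, true, true, false, true, true, false, false])))))

def certSWord29 : Janko.Tree (List Bool) :=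
  (.node (.node (.node (.node (.node (.leaf [true, true, true, false]) (.leaf [false, false, true, true, true, true, false, false, false, false, true, true, true, false])) (.leaf [false, true, false, false, true, true, false, true, false, false, false])) (.node (.leaf [true, true, false, true, false, false, false, true, false]) (.leaf [true, false, false, false, true, true, true, true, false, false, false, false]))) (.node (.node (.leaf [true, false, false, false, false, false, false, true]) (.leaf [false, false, false, false, true, true, true, false, false, true, false, false])) (.node (.leaf [true, false, false, true, false, false, true, true, true, false]) (.leaf [false, true, false, false, false, true, false, false, false, true, true, true, false])))) (.node (.node (.node (.node (.leaf [false, true, true, true, false, true, true]) (.leaf [false, false, true, false, true, true, true, false, true, true, false, false, false, true, false])) (.leaf [true, false, false, true, true, false, true, false, false, false, false])) (.node (.leaf [false, false, true, true, true, false, true,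 false, false, false]) (.leaf [false, false, false, false, true, false, false, false, false, false, true, true, true]))) (.node (.node (.leaf [false, false, true, true, true, false, false, true, false]) (.leaf [false, true, false, false, false, true, false, true, true, true, false, false])) (.node (.leaf [false, false, false, false, true, true, true, true, false, false, true]) (.leaf [true, false, false, true, false, true, true, true, false, true, true, true, false])))))

def certSWord30 : Janko.Tree (List Bool) :=
  (.node (.node (.node (.node (.node (.leaf [true, true, true, true]) (.leaf [false, false, true, true, true, true, false, false, false, false, true, true, true, true])) (.leaf [false, true, false, false, true, true, false, true, true, false, false])) (.node (.leaf [true, true, false, true, false, false, true, true, false]) (.leaf [true, false, false, false, true, true, true, true, false, false, true, false]))) (.node (.node (.leaf [true, false, false, false, false, false, true, false]) (.leaf [false, false, false, false, true, true, true, false, true, false, false, false]))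 (.node (.leaf [true, false, false, true, false, false, true, true, true, true]) (.leaf [false, true, false, false, false, true, false, false, false, true, true, true, true])))) (.node (.node (.node (.node (.leaf [false, true, true, true, true, false, false]) (.leaf [false, false, true, true, true, false, false, false, false, true, true, true, false, false, true])) (.leaf [true, false, false, true, true, false, true, true, false, false, false])) (.node (.leaf [false, false, true, true, true, false, true, false, false, true]) (.leaf [false, false, false, false, true, false, false, false, true, false, false, false, false]))) (.node (.node (.leaf [false, false, true, true, true, false, true, false, false]) (.leaf [false, true, false, false, false, true, false, true, true, true, false, true])) (.node (.leaf [false, false, false, false, true, true, true, true, true, true, false]) (.leaf [true, false, false, true, false, true, true, true, true, false, false, true, false])))))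

def certSWord31 : Janko.Tree (List Bool) :=
  (.node (.node (.node (.node (.node (.leaf [false, false, false, false, false]) (.leaf [false, false, true, true, true, true, false, false, true, false, true, true, true, false])) (.leaf [false, true, false, false, true, true, true, false, false, false, false])) (.node (.leaf [true, true, false, true, false, false, true, true, true]) (.leaf [true, false, false, false, true, true, true, true, false, true, false, false]))) (.node (.node (.leaf [true, false, false, false, false, false, true, true]) (.leaf [false, false, false, false, true, true, true, false, true, false, false, true])) (.node (.leaf [true, false, false, true, false, true, true, false, false, false]) (.leaf [false, true, false, false, false, true, false, true, true, false, false, false, true])))) (.node (.node (.node (.node (.leaf [false, true, true, true, true, false, true]) (.leaf [false, false, true, true, true, false, true, true, true, false, false, false, false, false, true])) (.leaf [true, false, false, true, true, false, true, true, true, false, false])) (.node (.leaf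 [false, false, true, true, true, false, true, true, true, false]) (.leaf [false, false, false, false, true, false, false, false, true, false, false, false, true]))) (.node (.node (.leaf [false, false, true, true, true, false, true, true, false]) (.leaf [false, true, false, false, false, true, false, true, true, true, true, false])) (.node (.leaf [false, false, false, true, false, false, false, false, false, true, true]) (.leaf [true, false, false, true, false, true, true, true, true, false, true, true, true])))))

def certSWord32 : Janko.Tree (List Bool) :=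
  (.node (.node (.node (.node (.node (.leaf [false, false, false, false, true]) (.leaf [false, false, true, true, true, true, false, true, true, true, false, true, false, false])) (.leaf [false, true, false, false, true, true, true, false, false, false, true])) (.node (.leaf [true, true, false, true, true, false, false, false, false]) (.leaf [true, false, false, false, true, true, true, true, false, true, true, true]))) (.node (.node (.leaf [true, false, false, false, false, true, false, false]) (.leaf [false, false, false, false, true, true, true, true, false, false, true, false])) (.node (.leaf [true, false, false, true, false, true, true, true, false, true]) (.leaf [false, true, false, false, false, true, false, true, true, true, false, false, false])))) (.node (.node (.node (.node (.leaf [false, true, true, true, true, true, false]) (.leaf [false, false, true, true, true, true, false, true, true, true, false, true, false, false, false])) (.leaf [true, false, false, true, true, true, false, false, false, false, false])) (.node (.leaf [false, false, true, true, true, false, true,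 true, true, true]) (.leaf [false, false, false, false, true, false, true, false, false, false, false, false, true]))) (.node (.node (.leaf [false, false, true, true, true, false, true, true, true]) (.leaf [false, true, false, false, false, true, true, false, true, false, false, false])) (.node (.leaf [false, false, false, true, false, false, false, false, true, true, false]) (.leaf [true, false, false, true, true, false, true, false, false, false, false, false, true])))))

def certSWord33 : Janko.Tree (List Bool) :=
  (.node (.node (.node (.node (.node (.leaf [false, false, false, true, false]) (.leaf [false, false, true, true, true, true, false, true, true, true, true, false, false, true])) (.leaf [false, true, false, false, true, true, true, true, false, false, false])) (.node (.leaf [true, true, false, true, true, false, false, false, true]) (.leaf [true, false, false, false, true, true, true, true, true, false, false, false]))) (.node (.node (.leaf [true, false, false, false, false, true, false, true]) (.leaf [false, false, false, false, true, true, true, true, true, true, false,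 false])) (.node (.leaf [true, false, false, true, false, true, true, true, true, false]) (.leaf [false, true, false, false, false, true, false, true, true, true, false, true, false])))) (.node (.node (.node (.node (.leaf [false, true, true, true, true, true, true]) (.leaf [false, false, true, true, true, true, true, false, true, false, false, true, true, true, false])) (.leaf [true, false, false, true, true, true, false, false, false, false, true])) (.node (.leaf [false, false, true, true, true, true, false, false, false, false]) (.leaf [false, false, false, false, true, false, true, false, false, false, false, true, true]))) (.node (.node (.leaf [false, false, true, true, true, true, false, false, false]) (.leaf [false, true, false, false, false, true, true, false, true, true, true, false])) (.node (.leaf [false, false, false, true, false, false, false, false, true, true, true]) (.leaf [true, false, false, true, true, false, true, true, false, false, false, true, true])))))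

def certSWord34 : Janko.Tree (List Bool) :=
  (.node (.node (.node (.node (.node (.leaf [false, false, false, true, true]) (.leaf [false, false, true, true, true, true, true, false, false, false, false, true, false, false])) (.leaf [false, true, false, false, true, true, true, true, false, true, false])) (.node (.leaf [true, true, false, true, true, false, false, true, false]) (.leaf [true, false, false, false, true, true, true, true, true, false, false, true]))) (.node (.node (.leaf [true, false, false, false, false, true, true, false]) (.leaf [false, false, false, true, false, false, false, false, false, true, true, false])) (.node (.leaf [true, false, false, true, false, true, true, true, true, true]) (.leaf [false, true, false, false, false, true, false, true, true, true, true, false, true])))) (.node (.node (.node (.node (.leaf [true, false, false, false, false, false, false]) (.leaf [false, true, false, false, false, false, false, true, true, true, true, false, false, false, false])) (.leaf [true, false, false, true, true, true, true, true, false, false, false])) (.node (.leaf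 [false, false, true, true, true, true, false, false, false, true]) (.leaf [false, false, false, false, true, false, true, true, true, false, false, false, false]))) (.node (.node (.leaf [false, false, true, true, true, true, false, false, true]) (.leaf [false, true, false, false, false, true, true, true, false, false, false, false])) (.node (.leaf [false, false, false, true, false, false, false, true, false, false, false]) (.leaf [true, false, false, true, true, false, true, true, true, false, false, false, false])))))

def certSWord35 : Janko.Tree (List Bool) :=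
  (.node (.node (.node (.node (.node (.leaf [false, false, true, false, false]) (.leaf [false, false, true, true, true, true, true, false, false, false, false, true, true, false])) (.leaf [false, true, false, false, true, true, true, true, false, true, true])) (.node (.leaf [true, true, false, true, true, true, false, true, false]) (.leaf [true, false, false, false, true, true, true, true, true, false, true, false]))) (.node (.node (.leaf [true, false, false, false, false, true, true, true]) (.leaf [false, false, false, true, false, false, false, false, false, true, true, true])) (.node (.leaf [true, false, false, true, true, false, true, false, false, false]) (.leaf [false, true, false, false, false, true, true, false, true, false, false, false, false])))) (.node (.node (.node (.node (.leaf [true, false, false, false, false, false, true]) (.leaf [false, true, false, false, false, false, false, true, true, true, true, false, false, false, true])) (.leaf [true, false, false, true, true, true, true, true, false, false, true])) (.node (.leaf [false, false, true, true, true, true, false,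 false, true, false]) (.leaf [false, false, false, false, true, false, true, true, true, false, false, false, true]))) (.node (.node (.leaf [false, false, true, true, true, true, false, true, false]) (.leaf [false, true, false, false, false, true, true, true, false, false, false, true])) (.node (.leaf [false, false, false, true, false, false, false, true, false, false, true]) (.leaf [true, false, false, true, true, true, false, false, false, false, true, true, false])))))

def certSWord36 : Janko.Tree (List Bool) :=
  (.node (.node (.node (.node (.node (.leaf [false, false, true, false, true]) (.leaf [false, false, true, true, true, true, true, false, true, false, false, true, true, true])) (.leaf [false, true, false, false, true, true, true, true, true, false, false])) (.node (.leaf [true, true, false, true, true, true, false, true, true]) (.leaf [true, false, false, false, true, true, true, true, true, false, true, true]))) (.node (.node (.leaf [true, false, false, false, true, false, false, false]) (.leaf [false, false, false, true, false, false, false, false, true, true, false,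 true])) (.node (.leaf [true, false, false, true, true, false, true, true, false, false]) (.leaf [false, true, false, false, false, true, true, false, true, false, false, false, true])))) (.node (.node (.node (.node (.leaf [true, false, false, false, false, true, false]) (.leaf [false, true, false, false, false, true, false, false, false, true, true, true, true, true, false])) (.leaf [true, false, false, true, true, true, true, true, false, true, true])) (.node (.leaf [false, false, true, true, true, true, false, true, false, false]) (.leaf [false, false, false, false, true, false, true, true, true, true, false, false, false]))) (.node (.node (.leaf [false, false, true, true, true, true, false, true, true]) (.leaf [false, true, false, false, false, true, true, true, false, true, false, false])) (.node (.leaf [false, false, false, true, false, false, false, true, false, true, true]) (.leaf [true, false, false, true, true, true, true, true, false, false, true, false, true])))))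

def certSWord37 : Janko.Tree (List Bool) :=
  (.node (.node (.node (.node (.node (.leaf [false, false, true, true, false]) (.leaf [false, true, false, false, false, false, false, true, true, true, true, false, false, false])) (.leaf [false, true, false, false, true, true, true, true, true, false, true])) (.node (.leaf [true, true, false, true, true, true, true, false, false]) (.leaf [true, false, false, true, false, false, false, true, true, false, true, true]))) (.node (.node (.leaf [true, false, false, false, true, false, false, true]) (.leaf [false, false, false, true, false, false, false, false, true, true, true, false])) (.node (.leaf [true, false, false, true, true, false, true, true, true, false]) (.leaf [false, true, false, false, false, true, true, false, true, true, true, false, true])))) (.node (.node (.node (.node (.leaf [true, false, false, false, false, true, true]) (.leaf [false, true, false, false, false, true, false, true, true, true, false, false, false, false, false])) (.leaf [true, false, false, true, true, true, true, true, true, false, true])) (.node (.leaf [false,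 false, true, true, true, true, false, true, true, true]) (.leaf [false, false, false, false, true, false, true, true, true, true, false, false, true]))) (.node (.node (.leaf [false, false, true, true, true, true, true, false, false]) (.leaf [false, true, false, false, false, true, true, true, false, true, true, false])) (.node (.leaf [false, false, false, true, false, false, false, true, true, false, true]) (.leaf [true, false, false, true, true, true, true, true, true, false, true, true, true])))))

def certSWord38 : Janko.Tree (List Bool) :=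
  (.node (.node (.node (.node (.node (.leaf [false, false, true, true, true]) (.leaf [false, true, false, false, false, false, true, false, false, false, false, false, true, true])) (.leaf [false, true, false, true, false, false, false, false, false, false, true])) (.node (.leaf [true, true, true, false, false, false, false, false, false]) (.leaf [true, false, false, true, false, false, false, true, true, true, true, false]))) (.node (.node (.leaf [true, false, false, false, true, false, true, true]) (.leaf [false, false, false, true, false, false, false, false, true, true, true, true])) (.node (.leaf [true, false, false, true, true, true, false, false, false, false]) (.leaf [false, true, false, false, false, true, true, true, false, false, false, true, false])))) (.node (.node (.node (.node (.leaf [true, false, false, false, true, false, false]) (.leaf [false, true, false, false, false, true, false, true, true, true, true, false, true, false, false])) (.leaf [true, false, true, false, false, true, true, false, true, false, false])) (.node (.leaf [false, false, true, true, true, true,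 true, false, false, false]) (.leaf [false, false, false, false, true, false, true, true, true, true, true, false, false]))) (.node (.node (.leaf [false, false, true, true, true, true, true, false, true]) (.leaf [false, true, false, false, false, true, true, true, true, false, false, true])) (.node (.leaf [false, false, false, true, false, false, false, true, true, true, false]) (.leaf [true, false, true, true, false, false, false, false, false, true, true, false, true])))))

def certSWord39 : Janko.Tree (List Bool) :=
  (.node (.node (.node (.node (.node (.leaf [false, true, false, false, false]) (.leaf [false, true, false, false, false, false, true, false, false, false, false, true, false, true])) (.leaf [false, true, false, true, false, false, false, false, false, true, true])) (.node (.leaf [true, true, true, false, false, false, false, false, true]) (.leaf [true, false, false, true, false, false, true, true, false, true, false, false]))) (.node (.node (.leaf [true, false, false, false, true, true, false, true]) (.leaf [false, false, false, true, false, false, false, true, false,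 false, false, false])) (.node (.leaf [true, false, false, true, true, true, true, true, false, false]) (.leaf [false, true, false, false, false, true, true, true, false, false, false, true, true])))) (.node (.node (.node (.node (.leaf [true, false, false, false, true, false, true]) (.leaf [false, true, false, false, false, true, true, true, false, true, true, false, false, false, true])) (.leaf [true, false, true, false, false, true, true, false, true, true, false])) (.node (.leaf [false, false, true, true, true, true, true, false, false, true]) (.leaf [false, false, false, false, true, true, false, true, false, false, false, false, false]))) (.node (.node (.leaf [false, true, false, false, false, false, false, false, true]) (.leaf [false, true, false, false, false, true, true, true, true, false, true, false])) (.node (.leaf [false, false, false, true, false, false, false, true, true, true, true]) (.leaf [true, false, true, true, false, false, false, false, false, true, true, true, false])))))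

def certSWord40 : Janko.Tree (List Bool) :=
  (.node (.node (.node (.node (.node (.leaf [false, true, false, false, true]) (.leaf [false, true, false, false, false, false, true, true, false, true, true, false, false, false])) (.leaf [false, true, false, true, false, false, false, false, true, true, true])) (.node (.leaf [true, true, true, false, false, false, false, true, false]) (.leaf [true, false, false, true, false, false, true, true, false, true, true, true]))) (.node (.node (.leaf [true, false, false, false, true, true, true, false]) (.leaf [false, false, false, true, false, false, false, true, false, false, false, true])) (.node (.leaf [true, false, false, true, true, true, true, true, false, true]) (.leaf [false, true, false, false, false, true, true, true, false, true, false, false, false])))) (.node (.node (.node (.node (.leaf [true, false, false, false, true, true, false]) (.leaf [false, true, false, false, true, true, true, false, false, false, true, false, false, false, false])) (.leaf [true, false, true, false, false, true, true, true, true, false, true])) (.node (.leaf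 [false, false, true, true, true, true, true, false, true, false]) (.leaf [false, false, false, false, true, true, false, true, true, false, false, true, false]))) (.node (.node (.leaf [false, true, false, false, false, false, false, true, true]) (.leaf [false, true, false, false, false, true, true, true, true, false, true, true])) (.node (.leaf [false, false, false, true, false, false, true, true, true, false, false]) (.leaf [true, false, true, true, false, false, false, false, true, true, false, true, true])))))

def certSWord41 : Janko.Tree (List Bool) :=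
  (.node (.node (.node (.node (.node (.leaf [false, true, false, true, false]) (.leaf [false, true, false, false, false, false, true, true, true, false, false, false, false, false])) (.leaf [false, true, false, true, false, false, true, true, true, false, false])) (.node (.leaf [true, true, true, false, false, false, false, true, true]) (.leaf [true, false, false, true, false, false, true, true, true, false, false, false]))) (.node (.node (.leaf [true, false, false, false, true, true, true, true]) (.leaf [false, false, false, true, false, false, false, true, false, true, true, false])) (.node (.leaf [true, false, false, true, true, true, true, true, true, false]) (.leaf [false, true, false, false, false, true, true, true, false, true, true, false, false])))) (.node (.node (.node (.node (.leaf [true, false, false, false, true, true, true]) (.leaf [false, true, false, false, true, true, true, false, false, false, true, false, false, false, true])) (.leaf [true, false, true, true, false, false, false, false, false, true, true])) (.node (.leaf [false, false, true, true, true, true, true,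 false, true, true]) (.leaf [false, false, false, false, true, true, false, true, true, true, false, false, false]))) (.node (.node (.leaf [false, true, false, false, false, false, true, false, false]) (.leaf [false, true, false, false, false, true, true, true, true, true, false, true])) (.node (.leaf [false, false, false, true, false, false, true, true, true, true, false]) (.leaf [true, false, true, true, true, false, false, false, false, false, false, true, false])))))

def certSWord42 : Janko.Tree (List Bool) :=
  (.node (.node (.node (.node (.node (.leaf [false, true, true, false, false]) (.leaf [false, true, false, false, false, false, true, true, true, true, false, true, false, false])) (.leaf [false, true, false, true, false, false, true, true, true, true, false])) (.node (.leaf [true, true, true, false, false, false, true, false, false]) (.leaf [true, false, false, true, false, true, true, false, false, false, false, false]))) (.node (.node (.leaf [true, false, false, true, false, false, false, true]) (.leaf [false, false, false, true, false, false, false, true, true, false,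 true, false])) (.node (.leaf [true, false, true, false, false, true, true, false, true, false]) (.leaf [false, true, false, false, false, true, true, true, true, false, false, true, false])))) (.node (.node (.node (.node (.leaf [true, false, false, true, false, false, false]) (.leaf [false, true, false, false, true, true, true, false, false, false, true, true, true, true, false])) (.leaf [true, false, true, true, false, false, false, false, true, true, false])) (.node (.leaf [false, true, false, false, false, false, false, false, true, true]) (.leaf [false, false, false, false, true, true, true, false, false, false, false, true, true]))) (.node (.node (.leaf [false, true, false, false, false, false, true, false, true]) (.leaf [false, true, false, false, true, true, false, true, false, false, false, false])) (.node (.leaf [false, false, false, true, false, false, true, true, true, true, true]) (.leaf [true, false, true, true, true, false, false, false, false, true, true, true, false])))))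

def certSWord43 : Janko.Tree (List Bool) :=
  (.node (.node (.node (.node (.node (.leaf [false, true, true, false, true]) (.leaf [false, true, false, false, false, false, true, true, true, true, true, false, false, true])) (.leaf [false, true, false, true, false, false, true, true, true, true, true])) (.node (.leaf [true, true, true, false, false, false, true, false, true]) (.leaf [true, false, false, true, false, true, true, false, false, false, false, true]))) (.node (.node (.leaf [true, false, false, true, false, false, true, true]) (.leaf [false, false, false, true, false, false, false, true, true, true, false, false])) (.node (.leaf [true, false, true, false, false, true, true, false, true, true]) (.leaf [false, true, false, false, false, true, true, true, true, false, true, false, false])))) (.node (.node (.node (.node (.leaf [true, false, false, true, false, false, true]) (.leaf [false, true, false, false, true, true, true, false, false, false, true, true, true, true, true])) (.leaf [true, false, true, true, false, false, false, false, true, true, true])) (.node (.leaf [false,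 true, false, false, false, false, false, true, true, false]) (.leaf [false, false, false, false, true, true, true, false, false, true, false, false, false]))) (.node (.node (.leaf [false, true, false, false, false, false, true, true, false]) (.leaf [false, true, false, false, true, true, true, false, false, false, false, false])) (.node (.leaf [false, false, false, true, false, true, false, false, false, false, false]) (.leaf [true, false, true, true, true, false, true, true, true, true, false, false, false])))))

def certSWord44 : Janko.Tree (List Bool) :=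
  (.node (.node (.node (.node (.node (.leaf [false, true, true, true, false]) (.leaf [false, true, false, false, false, true, false, false, false, true, true, true, false, false])) (.leaf [false, true, true, false, false, false, false, false, false, true, false])) (.node (.leaf [true, true, true, false, false, false, true, true, false]) (.leaf [true, false, false, true, false, true, true, false, false, false, true, false]))) (.node (.node (.leaf [true, false, false, true, false, true, true, false]) (.leaf [false, false, false, true, false, false, false, true, true, true, false, true])) (.node (.leaf [true, false, true, false, false, true, true, true, false, false]) (.leaf [false, true, false, false, false, true, true, true, true, false, true, true, true])))) (.node (.node (.node (.node (.leaf [true, false, false, true, false, true, true]) (.leaf [false, true, true, false, true, false, false, false, false, true, false, true, true, false, false])) (.leaf [true, false, true, true, false, false, false, true, true, true, true])) (.node (.leaf [false, true, false, false, false, false, false,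 true, true, true]) (.leaf [false, false, false, false, true, true, true, false, false, true, false, false, true]))) (.node (.node (.leaf [false, true, false, false, false, false, true, true, true]) (.leaf [false, true, false, false, true, true, true, false, false, false, true, false])) (.node (.leaf [false, false, false, true, false, true, false, false, false, false, true]) (.leaf [true, false, true, true, true, false, true, true, true, true, true, false, false])))))

def certSWord45 : Janko.Tree (List Bool) :=
  (.node (.node (.node (.node (.node (.leaf [false, true, true, true, true]) (.leaf [false, true, false, false, false, true, false, false, false, true, true, true, true, true])) (.leaf [false, true, true, false, false, false, false, false, true, false, false])) (.node (.leaf [true, true, true, false, false, false, true, true, true]) (.leaf [true, false, false, true, false, true, true, false, false, false, true, true]))) (.node (.node (.leaf [true, false, false, true, false, true, true, true]) (.leaf [false, false, false, true, false, false, false, true, true, true, true, false]))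 (.node (.leaf [true, false, true, false, false, true, true, true, true, false]) (.leaf [false, true, false, false, false, true, true, true, true, true, false, true, true])))) (.node (.node (.node (.node (.leaf [true, false, false, true, true, false, true]) (.leaf [false, true, true, false, true, true, true, false, false, false, false, true, true, true, true])) (.leaf [true, false, true, true, true, false, false, false, false, false, false])) (.node (.leaf [false, true, false, false, false, false, true, false, false, false]) (.leaf [false, false, false, false, true, true, true, false, true, false, false, false, false]))) (.node (.node (.leaf [false, true, false, false, false, true, false, false, false]) (.leaf [false, true, false, false, true, true, true, false, false, false, true, true])) (.node (.leaf [false, false, false, true, false, true, true, true, false, false, false]) (.leaf [true, false, true, true, true, true, false, false, false, false, true, true, true])))))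

def certSWord46 : Janko.Tree (List Bool) :=
  (.node (.node (.node (.node (.node (.leaf [true, false, false, false, false]) (.leaf [false, true, false, false, false, true, false, true, true, true, false, false, false, false])) (.leaf [false, true, true, false, false, false, false, false, true, true, true])) (.node (.leaf [true, true, true, false, false, true, false, false, false]) (.leaf [true, false, false, true, false, true, true, true, false, true, false, false]))) (.node (.node (.leaf [true, false, false, true, true, false, true, false]) (.leaf [false, false, false, true, false, false, false, true, true, true, true, true])) (.node (.leaf [true, false, true, true, false, false, false, false, false, true]) (.leaf [false, true, false, false, true, true, false, true, false, false, false, false, true])))) (.node (.node (.node (.node (.leaf [true, false, false, true, true, true, false]) (.leaf [false, true, true, false, true, true, true, false, true, false, false, false, false, true, true])) (.leaf [true, false, true, true, true, false, false, false, false, false, true])) (.node (.leaf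 [false, true, false, false, false, false, true, true, false, true]) (.leaf [false, false, false, false, true, true, true, true, false, false, true, false, true]))) (.node (.node (.leaf [false, true, false, false, false, true, false, false, true]) (.leaf [false, true, false, false, true, true, true, true, false, false, false, true])) (.node (.leaf [false, false, false, true, false, true, true, true, false, true, true]) (.leaf [true, false, true, true, true, true, true, false, false, false, true, false, false])))))

def certSWord47 : Janko.Tree (List Bool) :=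
  (.node (.node (.node (.node (.node (.leaf [true, false, false, false, true]) (.leaf [false, true, false, false, false, true, false, true, true, true, false, false, false, true])) (.leaf [false, true, true, false, false, false, true, false, false, false, true])) (.node (.leaf [true, true, true, false, false, true, false, false, true]) (.leaf [true, false, false, true, false, true, true, true, false, true, true, false]))) (.node (.node (.leaf [true, false, false, true, true, false, true, true]) (.leaf [false, false, false, true, false, false, true, true, true, false, false, false])) (.node (.leaf [true, false, true, true, false, false, false, false, true, true]) (.leaf [false, true, false, false, true, true, true, false, false, false, false, false, false])))) (.node (.node (.node (.node (.leaf [true, false, false, true, true, true, true]) (.leaf [false, true, true, true, false, false, false, false, true, false, false, false, true, false, false])) (.leaf [true, false, true, true, true, false, false, false, false, true, false])) (.node (.leaf [false, true, false, false, false, false,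 true, true, true, false]) (.leaf [false, false, false, false, true, true, true, true, true, true, false, false, false]))) (.node (.node (.leaf [false, true, false, false, false, true, false, true, true]) (.leaf [false, true, false, false, true, true, true, true, false, true, false, false])) (.node (.leaf [false, false, false, true, false, true, true, true, true, false, false]) (.leaf [true, true, false, false, false, false, false, false, true, true, true, false, false])))))

def certSWord48 : Janko.Tree (List Bool) :=
  (.node (.node (.node (.node (.node (.leaf [true, false, false, true, false]) (.leaf [false, true, false, false, false, true, false, true, true, true, true, false, true, false])) (.leaf [false, true, true, false, false, false, true, false, false, true, true])) (.node (.leaf [true, true, true, false, false, true, false, true, true]) (.leaf [true, false, false, true, false, true, true, true, false, true, true, true]))) (.node (.node (.leaf [true, false, false, true, true, true, false, false]) (.leaf [false, false, false, true, false, false, true, true, true, true, false,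 false])) (.node (.leaf [true, false, true, true, false, false, false, true, true, true]) (.leaf [false, true, false, false, true, true, true, false, false, false, true, false, false])))) (.node (.node (.node (.node (.leaf [true, false, true, false, false, true, true]) (.leaf [false, true, true, true, false, false, false, true, false, false, true, true, true, false, false])) (.leaf [true, false, true, true, true, false, false, false, false, true, true])) (.node (.leaf [false, true, false, false, false, false, true, true, true, true]) (.leaf [false, false, false, true, false, false, false, false, false, true, true, false, true]))) (.node (.node (.leaf [false, true, false, false, false, true, true, false, true]) (.leaf [false, true, false, false, true, true, true, true, true, false, false, false])) (.node (.leaf [false, false, false, true, false, true, true, true, true, false, true]) (.leaf [true, true, false, false, false, false, false, false, true, true, true, false, true])))))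

def certSWord49 : Janko.Tree (List Bool) :=
  (.node (.node (.node (.node (.node (.leaf [true, false, false, true, true]) (.leaf [false, true, false, false, false, true, true, true, false, false, false, true, false, false])) (.leaf [false, true, true, false, false, true, false, false, false, true, false])) (.node (.leaf [true, true, true, false, true, false, false, false, false]) (.leaf [true, false, false, true, false, true, true, true, true, false, false, false]))) (.node (.node (.leaf [true, false, false, true, true, true, true, true]) (.leaf [false, false, false, true, false, false, true, true, true, true, true, false])) (.node (.leaf [true, false, true, true, false, false, true, false, true, true]) (.leaf [false, true, false, false, true, true, true, false, false, false, true, false, true])))) (.node (.node (.node (.node (.leaf [true, false, true, true, false, false, false]) (.leaf [true, false, false, false, false, true, false, true, true, true, true, true, false, false, false])) (.leaf [true, false, true, true, true, false, true, false, false, true, true])) (.node (.leaf [false,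 true, false, false, false, true, false, false, false, false]) (.leaf [false, false, false, true, false, false, false, false, false, true, true, true, false]))) (.node (.node (.leaf [false, true, false, false, false, true, true, true, false]) (.leaf [false, true, false, false, true, true, true, true, true, false, false, true])) (.node (.leaf [false, false, false, true, false, true, true, true, true, true, false]) (.leaf [true, true, false, false, false, false, false, true, false, false, false, true, true])))))

def certSWord50 : Janko.Tree (List Bool) :=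
  (.node (.node (.node (.node (.node (.leaf [true, false, true, false, false]) (.leaf [false, true, false, false, false, true, true, true, false, true, true, false, false, false])) (.leaf [false, true, true, false, false, true, false, false, false, true, true])) (.node (.leaf [true, true, true, false, true, false, false, false, true]) (.leaf [true, false, false, true, false, true, true, true, true, false, false, true]))) (.node (.node (.leaf [true, false, true, false, false, true, true, false]) (.leaf [false, false, false, true, false, true, false, false, false, false, false, true])) (.node (.leaf [true, false, true, true, true, false, false, false, false, false]) (.leaf [false, true, false, false, true, true, true, false, false, false, true, true, true])))) (.node (.node (.node (.node (.leaf [true, false, true, true, false, false, true]) (.leaf [true, false, false, false, false, true, true, false, true, true, false, false, false, false, false])) (.leaf [true, false, true, true, true, false, true, true, false, false, false])) (.node (.leaf [false, true, false, false, false, true, false,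 false, false, true]) (.leaf [false, false, false, true, false, false, false, false, true, true, false, true, false]))) (.node (.node (.leaf [false, true, false, false, false, true, true, true, true]) (.leaf [false, true, false, false, true, true, true, true, true, false, true, false])) (.node (.leaf [false, false, false, true, true, false, true, false, false, false, true]) (.leaf [true, true, false, false, false, false, false, true, true, true, false, true, false])))))

def certSWord51 : Janko.Tree (List Bool) :=
  (.node (.node (.node (.node (.node (.leaf [true, false, true, true, false]) (.leaf [false, true, false, false, false, true, true, true, true, false, false, true, false, false])) (.leaf [false, true, true, false, false, true, false, false, true, true, true])) (.node (.leaf [true, true, true, false, true, false, false, true, true]) (.leaf [true, false, false, true, false, true, true, true, true, false, true, true]))) (.node (.node (.leaf [true, false, true, false, false, true, true, true]) (.leaf [false, false, false, true, false, true, true, true, false, false, false, true]))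 (.node (.leaf [true, false, true, true, true, false, false, false, false, true]) (.leaf [false, true, false, false, true, true, true, true, false, false, false, true, true])))) (.node (.node (.node (.node (.leaf [true, false, true, true, true, false, false]) (.leaf [true, false, false, false, true, false, false, false, false, false, true, true, false, true, false])) (.leaf [true, false, true, true, true, false, true, true, true, true, false])) (.node (.leaf [false, true, false, false, false, true, false, true, true, false]) (.leaf [false, false, false, true, false, false, false, false, true, true, false, true, true]))) (.node (.node (.leaf [false, true, false, false, true, true, false, true, false]) (.leaf [false, true, false, false, true, true, true, true, true, false, true, true])) (.node (.leaf [false, false, false, true, true, false, true, false, false, true, true]) (.leaf [true, true, false, false, true, false, false, false, true, true, true, true, false])))))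

def certSWord52 : Janko.Tree (List Bool) :=
  (.node (.node (.node (.node (.node (.leaf [true, false, true, true, true]) (.leaf [false, true, false, false, false, true, true, true, true, false, true, false, false, false])) (.leaf [false, true, true, false, false, true, false, true, true, true, true])) (.node (.leaf [true, true, true, false, true, true, false, false, true]) (.leaf [true, false, false, true, true, false, true, false, false, false, false, false]))) (.node (.node (.leaf [true, false, true, true, false, false, false, false]) (.leaf [false, false, false, true, false, true, true, true, false, true, true, false])) (.node (.leaf [true, false, true, true, true, false, false, false, true, false]) (.leaf [false, true, false, false, true, true, true, true, false, true, false, false, false])))) (.node (.node (.node (.node (.leaf [true, false, true, true, true, false, true]) (.leaf [true, false, false, false, true, false, false, false, false, false, true, true, true, false, true])) (.leaf [true, false, true, true, true, false, true, true, true, true, true])) (.node (.leaf [false,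 true, false, false, false, true, false, true, true, true]) (.leaf [false, false, false, true, false, false, false, false, true, true, true, false, false]))) (.node (.node (.leaf [false, true, false, false, true, true, false, true, true]) (.leaf [false, true, false, true, false, false, false, false, false, false, true, true])) (.node (.leaf [false, false, false, true, true, false, true, true, false, false, false]) (.leaf [true, true, false, true, false, false, true, true, true, false, false, false, false])))))

def certSWord53 : Janko.Tree (List Bool) :=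
  (.node (.node (.node (.node (.node (.leaf [true, true, false, false, false]) (.leaf [false, true, false, false, true, true, true, false, false, false, true, false, false, false])) (.leaf [false, true, true, false, true, false, false, false, false, false, true])) (.node (.leaf [true, true, true, false, true, true, true, true, false]) (.leaf [true, false, false, true, true, false, true, true, false, false, false, true]))) (.node (.node (.leaf [true, false, true, true, false, false, false, true]) (.leaf [false, false, false, true, false, true, true, true, false, true, true, true])) (.node (.leaf [true, false, true, true, true, false, false, false, true, true]) (.leaf [false, true, false, false, true, true, true, true, true, false, false, false, false])))) (.node (.node (.node (.node (.leaf [true, false, true, true, true, true, false]) (.leaf [true, false, false, false, true, true, false, true, true, false, false, true, false, true, true])) (.leaf [true, false, true, true, true, true, false, false, false, false, true])) (.node (.leaf [false, true, false, false, false, true, true, false,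 true, false]) (.leaf [false, false, false, true, false, false, false, false, true, true, true, false, true]))) (.node (.node (.leaf [false, true, false, false, true, true, true, false, false]) (.leaf [false, true, false, true, false, false, false, false, false, true, true, true])) (.node (.leaf [false, false, false, true, true, false, true, true, false, false, true]) (.leaf [true, true, false, true, false, false, true, true, true, true, true, false, true])))))

def certSWord54 : Janko.Tree (List Bool) :=
  (.node (.node (.node (.node (.node (.leaf [true, true, false, false, true]) (.leaf [false, true, false, false, true, true, true, false, false, false, true, false, false, true])) (.leaf [false, true, true, false, true, false, false, false, false, true, false])) (.node (.leaf [true, true, true, false, true, true, true, true, true]) (.leaf [true, false, false, true, true, false, true, true, true, false, false, false]))) (.node (.node (.leaf [true, false, true, true, false, false, true, false]) (.leaf [false, false, false, true, false, true, true, true, true, false, false, false])) (.node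 (.leaf [true, false, true, true, true, false, true, false, false, true]) (.leaf [false, true, false, false, true, true, true, true, true, false, false, false, true])))) (.node (.node (.node (.node (.leaf [true, false, true, true, true, true, true]) (.leaf [true, false, false, false, true, true, true, false, false, false, true, false, false, false, false])) (.leaf [true, false, true, true, true, true, false, false, false, true, false])) (.node (.leaf [false, true, false, false, false, true, true, false, true, true]) (.leaf [false, false, false, true, false, false, false, true, false, false, false, false, false]))) (.node (.node (.leaf [false, true, false, false, true, true, true, true, false]) (.leaf [false, true, false, true, false, false, false, false, true, true, true, true])) (.node (.leaf [false, false, false, true, true, false, true, true, true, false, false]) (.leaf [true, true, false, true, true, false, false, false, true, true, true, false, false])))))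

def certSWord55 : Janko.Tree (List Bool) :=
  (.node (.node (.node (.node (.node (.leaf [true, true, false, true, false]) (.leaf [false, true, false, false, true, true, true, false, false, false, true, true, true, true])) (.leaf [false, true, true, false, true, false, false, false, false, true, true])) (.node (.leaf [true, true, true, true, false, false, false, false, false]) (.leaf [true, false, false, true, true, true, false, false, false, false, false, true]))) (.node (.node (.leaf [true, false, true, true, true, false, false, false]) (.leaf [false, false, false, true, false, true, true, true, true, false, true, false])) (.node (.leaf [true, false, true, true, true, false, true, true, false, false]) (.leaf [false, true, false, false, true, true, true, true, true, false, false, true, false])))) (.node (.node (.node (.node (.leaf [true, true, false, false, false, false, false]) (.leaf [true, false, false, false, true, true, true, false, false, false, true, false, true, true, false])) (.leaf [true, false, true, true, true, true, false, false, false, true, true])) (.node (.leaf [false,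 true, false, false, false, true, true, true, false, false]) (.leaf [false, false, false, true, false, false, false, true, false, false, false, true, true]))) (.node (.node (.leaf [false, true, false, false, true, true, true, true, true]) (.leaf [false, true, false, true, false, false, true, true, true, false, false, false])) (.node (.leaf [false, false, false, true, true, false, true, true, true, false, true]) (.leaf [true, true, false, true, true, false, false, false, true, true, true, false, true])))))

def certSWord56 : Janko.Tree (List Bool) :=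
  (.node (.node (.node (.node (.node (.leaf [true, true, false, true, true]) (.leaf [false, true, false, false, true, true, true, true, false, false, false, true, true, true])) (.leaf [false, true, true, false, true, false, false, false, true, true, true])) (.node (.leaf [true, true, true, true, false, false, false, false, true]) (.leaf [true, false, false, true, true, true, false, false, false, false, true, true]))) (.node (.node (.leaf [true, false, true, true, true, false, true, false]) (.leaf [false, false, false, true, false, true, true, true, true, false, true, true])) (.node (.leaf [true, false, true, true, true, false, true, true, true, false]) (.leaf [false, true, false, false, true, true, true, true, true, false, true, false, false])))) (.node (.node (.node (.node (.leaf [true, true, false, false, false, false, true]) (.leaf [true, false, false, false, true, true, true, false, false, false, true, false, true, true, true])) (.leaf [true, false, true, true, true, true, false, false, true, false, true])) (.node (.leaf [false, true, false, false, false, true, true, true, false,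 true]) (.leaf [false, false, false, true, false, false, false, true, false, true, true, false, false]))) (.node (.node (.leaf [false, true, false, true, false, false, false, false, false]) (.leaf [false, true, true, false, false, false, false, false, true, false, false, false])) (.node (.leaf [false, false, false, true, true, true, false, false, false, false, true]) (.leaf [true, true, false, true, true, true, false, true, true, true, false, false, false])))))

def certSWord57 : Janko.Tree (List Bool) :=
  (.node (.node (.node (.node (.node (.leaf [true, true, true, false, false]) (.leaf [false, true, false, false, true, true, true, true, true, false, false, false, true, true])) (.leaf [false, true, true, false, true, false, false, true, true, true, false])) (.node (.leaf [true, true, true, true, false, false, false, true, false]) (.leaf [true, false, false, true, true, true, true, true, false, false, false, true]))) (.node (.node (.leaf [true, false, true, true, true, false, true, true]) (.leaf [false, false, false, true, false, true, true, true, true, true, false, false])) (.node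 (.leaf [true, false, true, true, true, false, true, true, true, true]) (.leaf [false, true, false, false, true, true, true, true, true, false, true, true, true])))) (.node (.node (.node (.node (.leaf [true, true, false, false, true, false, false]) (.leaf [true, false, false, false, true, true, true, false, false, false, true, true, false, true, true])) (.leaf [true, false, true, true, true, true, false, true, false, false, false])) (.node (.leaf [false, true, false, false, false, true, true, true, true, false]) (.leaf [false, false, false, true, false, false, false, true, true, true, false, false, false]))) (.node (.node (.leaf [false, true, false, true, false, false, false, false, true]) (.leaf [false, true, true, false, false, false, false, false, true, true, true, true])) (.node (.leaf [false, false, false, true, true, true, false, false, false, true, false]) (.leaf [true, true, false, true, true, true, true, false, false, false, true, true, true])))))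

def certSWord58 : Janko.Tree (List Bool) :=
  (.node (.node (.node (.node (.node (.leaf [true, true, true, false, true]) (.leaf [false, true, false, false, true, true, true, true, true, false, false, true, false, false])) (.leaf [false, true, true, false, true, false, false, true, true, true, true])) (.node (.leaf [true, true, true, true, false, false, false, true, true]) (.leaf [true, false, false, true, true, true, true, true, false, false, true, false]))) (.node (.node (.leaf [true, false, true, true, true, true, false, false]) (.leaf [false, false, false, true, true, false, true, false, false, false, true, false])) (.node (.leaf [true, false, true, true, true, true, false, false, false, false]) (.leaf [false, true, false, true, false, false, false, false, false, true, true, true, false])))) (.node (.node (.node (.node (.leaf [true, true, false, false, true, false, true]) (.leaf [true, false, false, false, true, true, true, true, false, true, false, false, false, true, false])) (.leaf [true, false, true, true, true, true, false, true, true, true, false])) (.node (.leaf [false,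 true, false, false, false, true, true, true, true, true]) (.leaf [false, false, false, true, false, false, false, true, true, true, false, false, true]))) (.node (.node (.leaf [false, true, false, true, false, false, true, true, false]) (.leaf [false, true, true, false, false, false, true, false, false, true, true, true])) (.node (.leaf [false, false, false, true, true, true, false, false, true, false, false]) (.leaf [true, true, true, false, false, false, false, false, true, false, false, false, false])))))

def certSWord59 : Janko.Tree (List Bool) :=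
  (.node (.node (.node (.node (.node (.leaf [true, true, true, true, false]) (.leaf [false, true, false, false, true, true, true, true, true, false, false, true, false, true])) (.leaf [false, true, true, false, true, true, false, false, true, false, false])) (.node (.leaf [true, true, true, true, false, false, true, false, false]) (.leaf [true, false, false, true, true, true, true, true, true, false, true, false]))) (.node (.node (.leaf [true, false, true, true, true, true, false, true]) (.leaf [false, false, false, true, true, false, true, true, false, false, false, false])) (.node (.leaf [true, false, true, true, true, true, false, false, false, true]) (.leaf [false, true, false, true, false, false, false, false, true, true, true, true, false])))) (.node (.node (.node (.node (.leaf [true, true, false, true, false, false, false]) (.leaf [true, false, false, true, false, false, true, true, true, false, false, false, false, true, true])) (.leaf [true, false, true, true, true, true, true, false, false, false, false])) (.node (.leaf [false, true, false, false, true, true, false, true,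 false, false]) (.leaf [false, false, false, true, false, false, false, true, true, true, false, true, false]))) (.node (.node (.leaf [false, true, false, true, false, false, true, true, true]) (.leaf [false, true, true, false, false, true, false, false, false, true, true, false])) (.node (.leaf [false, false, false, true, true, true, false, false, true, false, true]) (.leaf [true, true, true, false, false, false, false, false, true, false, false, false, true])))))

def certSWord60 : Janko.Tree (List Bool) :=
  (.node (.node (.node (.node (.node (.leaf [true, true, true, true, true]) (.leaf [false, true, false, false, true, true, true, true, true, false, true, false, false, false])) (.leaf [false, true, true, false, true, true, false, false, true, false, true])) (.node (.leaf [true, true, true, true, false, false, true, false, true]) (.leaf [true, false, false, true, true, true, true, true, true, false, true, true]))) (.node (.node (.leaf [true, false, true, true, true, true, true, false]) (.leaf [false, false, false, true, true, false, true, true, false, false, false, true])) (.node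 (.leaf [true, false, true, true, true, true, false, false, true, false]) (.leaf [false, true, false, true, false, false, false, false, true, true, true, true, true])))) (.node (.node (.node (.node (.leaf [true, true, false, true, false, false, true]) (.leaf [true, false, false, true, false, true, true, false, false, false, false, false, true, false, true])) (.leaf [true, false, true, true, true, true, true, false, false, false, true])) (.node (.leaf [false, true, false, false, true, true, false, true, true, false]) (.leaf [false, false, false, true, false, false, false, true, true, true, false, true, true]))) (.node (.node (.leaf [false, true, true, false, false, false, false, false, false]) (.leaf [false, true, true, false, false, true, false, false, true, true, true, false])) (.node (.leaf [false, false, false, true, true, true, false, true, false, false, false]) (.leaf [true, true, true, false, false, false, false, false, true, false, true, true, false])))))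

def certSWord61 : Janko.Tree (List Bool) :=
  (.node (.node (.node (.node (.node (.leaf [false, false, false, false, false, false]) (.leaf [false, true, false, false, true, true, true, true, true, false, true, false, false, true])) (.leaf [false, true, true, false, true, true, true, false, false, false, false])) (.node (.leaf [true, true, true, true, false, true, false, false, false]) (.leaf [true, false, true, false, false, true, true, true, true, false, true, true]))) (.node (.node (.leaf [true, false, true, true, true, true, true, true]) (.leaf [false, false, false, true, true, false, true, true, false, false, true, false])) (.node (.leaf [true, false, true, true, true, true, false, true, false, false]) (.leaf [false, true, false, true, false, false, true, true, true, false, false, false, false])))) (.node (.node (.node (.node (.leaf [true, true, false, true, true, false, false]) (.leaf [true, false, false, true, false, true, true, true, false, true, true, false, false, false, false])) (.leaf [true, false, true, true, true, true, true, false, false, true, false])) (.node (.leaf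 [false, true, false, false, true, true, true, false, false, false]) (.leaf [false, false, false, true, false, false, false, true, true, true, true, false, false]))) (.node (.node (.leaf [false, true, true, false, false, false, false, false, true]) (.leaf [false, true, true, false, false, true, false, false, true, true, true, true])) (.node (.leaf [false, false, false, true, true, true, false, true, false, false, true]) (.leaf [true, true, true, false, false, false, false, false, true, true, false, true, false])))))

def certSWord62 : Janko.Tree (List Bool) :=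
  (.node (.node (.node (.node (.node (.leaf [false, false, false, false, false, true]) (.leaf [false, true, false, false, true, true, true, true, true, false, true, true, true, true])) (.leaf [false, true, true, false, true, true, true, false, false, false, true])) (.node (.leaf [true, true, true, true, false, true, false, false, true]) (.leaf [true, false, true, true, false, false, false, false, false, true, true, false]))) (.node (.node (.leaf [true, true, false, false, false, false, false, false]) (.leaf [false, false, false, true, true, false, true, true, true, false, false, false])) (.node (.leaf [true, false, true, true, true, true, false, true, true, true]) (.leaf [false, true, false, true, false, false, true, true, true, false, false, false, true])))) (.node (.node (.node (.node (.leaf [true, true, false, true, true, true, false]) (.leaf [true, false, true, true, false, false, false, false, false, true, true, true, false, false, false])) (.leaf [true, true, false, false, false, false, false, false, true, true, false])) (.node (.leaf [false, true, false, false, true, true, true,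 true, false, false]) (.leaf [false, false, false, true, false, false, false, true, true, true, true, false, true]))) (.node (.node (.leaf [false, true, true, false, false, false, true, false, false]) (.leaf [false, true, true, false, false, true, false, true, true, true, true, true])) (.node (.leaf [false, false, false, true, true, true, false, true, true, false, false]) (.leaf [true, true, true, false, false, false, false, false, true, true, true, false, false])))))

def certSWord63 : Janko.Tree (List Bool) :=
  (.node (.node (.node (.node (.node (.leaf [false, false, false, false, true, false]) (.leaf [false, true, false, true, false, false, false, false, false, true, true, true, false, false])) (.leaf [false, true, true, false, true, true, true, false, true, false, false])) (.node (.leaf [true, true, true, true, false, true, true, true, false]) (.leaf [true, false, true, true, false, false, false, false, false, true, true, true]))) (.node (.node (.leaf [true, true, false, false, false, false, false, true]) (.leaf [false, false, false, true, true, false, true, true, true, false,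 true, true])) (.node (.leaf [true, false, true, true, true, true, true, false, false, false]) (.leaf [false, true, true, false, false, false, false, false, true, false, false, false, false])))) (.node (.node (.node (.node (.leaf [true, true, false, true, true, true, true]) (.leaf [true, true, true, false, true, true, false, false, true, false, false, false, true, true, true])) (.leaf [true, true, false, false, false, false, false, false, true, true, true])) (.node (.leaf [false, true, false, false, true, true, true, true, false, true]) (.leaf [false, false, false, true, false, false, false, true, true, true, true, true, false]))) (.node (.node (.leaf [false, true, true, false, false, true, false, false, false]) (.leaf [false, true, true, false, true, false, false, false, false, false, true, true])) (.node (.leaf [false, false, false, true, true, true, false, true, true, true, false]) (.leaf [true, true, true, false, false, false, false, false, true, true, true, false, true])))))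

def certSWord64 : Janko.Tree (List Bool) :=
  (.node (.node (.node (.node (.node (.leaf [false, false, false, false, true, true]) (.leaf [false, true, false, true, false, false, false, false, true, true, true, true, true, false])) (.leaf [false, true, true, true, false, false, false, false, false, false, true])) (.node (.leaf [true, true, true, true, false, true, true, true, true]) (.leaf [true, false, true, true, false, false, false, false, true, true, false, true]))) (.node (.node (.leaf [true, true, false, false, false, false, true, false]) (.leaf [false, false, false, true, true, true, false, false, false, true, false, true])) (.node (.leaf [true, false, true, true, true, true, true, false, false, true]) (.leaf [false, true, true, false, false, false, true, false, false, true, true, true, false])))) (.node (.node (.node (.leaf [true, true, true, false, false, false, false]) (.leaf [true, true, false, false, false, false, false, true, false, false, false])) (.node (.leaf [false, true, false, false, true, true, true, true, true, false]) (.leaf [false, false, false, true, false,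 false, true, true, true, false, false, false, true]))) (.node (.node (.leaf [false, true, true, false, false, true, false, false, true]) (.leaf [false, true, true, false, true, false, false, false, false, true, false, false])) (.node (.leaf [false, false, false, true, true, true, false, true, true, true, true]) (.leaf [true, true, true, false, false, false, false, false, true, true, true, true, false])))))

def certSWord65 : Janko.Tree (List Bool) :=
  (.node (.node (.node (.node (.node (.leaf [false, false, false, true, false, false]) (.leaf [false, true, false, true, false, false, true, true, true, false, false, false, true, true])) (.leaf [false, true, true, true, false, false, false, false, false, true, false])) (.node (.leaf [true, true, true, true, true, false, false, false, false]) (.leaf [true, false, true, true, false, false, false, false, true, true, true, false]))) (.node (.node (.leaf [true, true, false, false, true, false, false, false]) (.leaf [false, false, false, true, true, true, false, false, true, false, false, false])) (.node (.leaf [true, true, false, false, false,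 false, false, false, true, true]) (.leaf [false, true, true, false, false, false, true, false, false, true, true, true, true])))) (.node (.node (.node (.leaf [true, true, true, false, false, false, true]) (.leaf [true, true, false, false, false, false, false, true, true, true, false])) (.node (.leaf [false, true, false, true, false, false, false, false, false, false]) (.leaf [false, false, false, true, false, false, true, true, true, true, false, false, false]))) (.node (.node (.leaf [false, true, true, false, false, true, false, true, true]) (.leaf [false, true, true, false, true, false, false, false, false, true, false, true])) (.node (.leaf [false, false, false, true, true, true, true, false, false, false, false]) (.leaf [true, true, true, false, false, false, false, true, false, true, true, true, true])))))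

def certSWord66 : Janko.Tree (List Bool) :=
  (.node (.node (.node (.node (.node (.leaf [false, false, false, true, false, true]) (.leaf [false, true, true, false, true, false, false, false, false, true, false, true, true, false])) (.leaf [false, true, true, true, false, false, false, false, false, true, true])) (.node (.leaf [true, true, true, true, true, false, false, false, true]) (.leaf [true, false, true, true, false, false, false, false, true, true, true, true]))) (.node (.node (.leaf [true, true, false, false, true, false, false, true]) (.leaf [false, false, false, true, true, true, false, true, false, false, false, false])) (.node (.leaf [true, true, false, false, false, false, false, true, false, false]) (.leaf [false, true, true, false, false, true, false, true, true, true, true, true, false])))) (.node (.node (.node (.leaf [true, true, true, false, false, true, false]) (.leaf [true, true, false, false, false, false, false, true, true, true, true])) (.node (.leaf [false, true, false, true, false, false, false, false, false, true]) (.leaf [false, false, false, true, false,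 true, true, true, false, false, false, true, false]))) (.node (.node (.leaf [false, true, true, false, true, false, false, false, false]) (.leaf [false, true, true, false, true, false, false, false, false, true, true, false])) (.node (.leaf [false, false, false, true, true, true, true, false, false, false, true]) (.leaf [true, true, true, false, false, false, false, true, true, true, true, true, false])))))

def certSWord67 : Janko.Tree (List Bool) :=
  (.node (.node (.node (.node (.node (.leaf [false, false, false, true, true, false]) (.leaf [false, true, true, false, true, false, false, false, true, true, true, true, false, false])) (.leaf [false, true, true, true, false, false, false, false, true, false, false])) (.node (.leaf [true, true, true, true, true, false, false, true, false]) (.leaf [true, false, true, true, false, false, false, true, true, true, true, false]))) (.node (.node (.leaf [true, true, false, false, true, false, true, true]) (.leaf [false, false, false, true, true, true, false, true, false, false, false, true])) (.node (.leaf [true, true, false, false, false,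 false, false, true, true, true]) (.leaf [false, true, true, false, true, false, false, false, false, false, true, true, false])))) (.node (.node (.node (.leaf [true, true, true, false, true, false, false]) (.leaf [true, true, false, false, true, false, false, false, true, true, false])) (.node (.leaf [false, true, false, true, false, false, false, false, true, true]) (.leaf [false, false, false, true, false, true, true, true, false, true, true, false, false]))) (.node (.node (.leaf [false, true, true, false, true, false, false, false, true]) (.leaf [false, true, true, false, true, false, false, false, false, true, true, true])) (.node (.leaf [false, false, false, true, true, true, true, false, false, true, false]) (.leaf [true, true, true, false, false, false, false, true, true, true, true, true, true])))))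

def certSWord68 : Janko.Tree (List Bool) :=
  (.node (.node (.node (.node (.node (.leaf [false, false, false, true, true, true]) (.leaf [false, true, true, false, true, true, true, false, false, false, false, true, true, false])) (.leaf [false, true, true, true, false, false, false, false, true, false, true])) (.node (.leaf [true, true, true, true, true, false, true, true, true]) (.leaf [true, false, true, true, false, false, false, true, true, true, true, true]))) (.node (.node (.leaf [true, true, false, true, false, false, false, false]) (.leaf [false, false, false, true, true, true, false, true, false, false, true, true])) (.node (.leaf [true, true, false, false, false, false, true, false, false, false]) (.leaf [false, true, true, false, true, false, false, false, false, false, true, true, true])))) (.node (.node (.node (.leaf [true, true, true, false, true, true, false]) (.leaf [true, true, false, false, true, false, false, false, true, true, true])) (.node (.leaf [false, true, false, true, false, false, true, true, true, false]) (.leaf [false, false, false, true, false, true,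 true, true, false, true, true, true, true]))) (.node (.node (.leaf [false, true, true, false, true, false, false, true, true]) (.leaf [false, true, true, false, true, false, false, false, true, true, true, false])) (.node (.leaf [false, false, false, true, true, true, true, false, true, false, false]) (.leaf [true, true, true, false, false, false, true, true, false, true, true, false, false])))))

def certSWord69 : Janko.Tree (List Bool) :=
  (.node (.node (.node (.node (.node (.leaf [false, false, true, false, false, false]) (.leaf [false, true, true, false, true, true, true, false, false, false, false, true, true, true])) (.leaf [false, true, true, true, false, false, false, true, false, false, false])) (.node (.leaf [true, true, true, true, true, true, false, false, false]) (.leaf [true, false, true, true, true, false, false, false, false, false, false, true]))) (.node (.node (.leaf [true, true, false, true, false, false, false, true]) (.leaf [false, false, false, true, true, true, false, true, true, false, false, false])) (.node (.leaf [true, true, false, false, false, false, true,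 false, true, true]) (.leaf [false, true, true, false, true, false, false, false, false, true, false, true, true])))) (.node (.node (.node (.leaf [true, true, true, false, true, true, true]) (.leaf [true, true, false, false, true, false, true, true, false, false, false])) (.node (.leaf [false, true, false, true, false, false, true, true, true, true]) (.leaf [false, false, false, true, false, true, true, true, true, false, false, false, false]))) (.node (.node (.leaf [false, true, true, false, true, true, false, false, true]) (.leaf [false, true, true, false, true, false, false, false, true, true, true, true])) (.node (.leaf [false, false, false, true, true, true, true, false, true, true, true]) (.leaf [true, true, true, false, false, false, true, true, true, false, true, true, true])))))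

def certSWord70 : Janko.Tree (List Bool) :=
  (.node (.node (.node (.node (.node (.leaf [false, false, true, false, false, true]) (.leaf [false, true, true, false, true, true, true, false, true, false, false, false, false, true])) (.leaf [false, true, true, true, false, false, false, true, false, false, true])) (.node (.leaf [true, true, true, true, true, true, false, true, false]) (.leaf [true, false, true, true, true, false, false, false, false, true, false, true]))) (.node (.node (.leaf [true, true, false, true, false, false, true, true]) (.leaf [false, false, false, true, true, true, false, true, true, false, false, true])) (.node (.leaf [true, true, false, false, true, false, false, false, true, false]) (.leaf [false, true, true, false, true, false, false, false, false, true, true, false, true])))) (.node (.node (.node (.leaf [true, true, true, true, false, false, false]) (.leaf [true, true, false, false, true, false, true, true, true, true, false])) (.node (.leaf [false, true, true, false, false, false, false, false, false, true]) (.leaf [false, false, false, true, false, true,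 true, true, true, true, false, false, false]))) (.node (.node (.leaf [false, true, true, false, true, true, true, false, false]) (.leaf [false, true, true, false, true, false, false, true, true, true, false, false])) (.node (.leaf [false, false, false, true, true, true, true, true, false, true, false]) (.leaf [true, true, true, false, true, false, false, false, false, true, true, false, true])))))

def certSWord71 : Janko.Tree (List Bool) :=
  (.node (.node (.node (.node (.node (.leaf [false, false, true, false, true, false]) (.leaf [false, true, true, true, false, false, false, false, false, true, false, false, false, false])) (.leaf [false, true, true, true, false, false, false, true, false, true, true])) (.node (.leaf [true, true, true, true, true, true, false, true, true]) (.leaf [true, false, true, true, true, false, false, false, false, true, true, true]))) (.node (.node (.leaf [true, true, false, true, true, false, false, false]) (.leaf [false, false, false, true, true, true, false, true, true, true, false, false])) (.node (.leaf [true, true, false, false, true, false, false,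 false, true, true]) (.leaf [false, true, true, false, true, false, false, false, false, true, true, true, true])))) (.node (.node (.node (.leaf [true, true, true, true, false, false, true]) (.leaf [true, true, false, false, true, false, true, true, true, true, true])) (.node (.leaf [false, true, true, false, false, false, false, false, true, false]) (.leaf [false, false, false, true, false, true, true, true, true, true, false, false, true]))) (.node (.node (.leaf [false, true, true, false, true, true, true, false, true]) (.leaf [false, true, true, false, true, false, false, true, true, true, true, true])) (.node (.leaf [false, false, false, true, true, true, true, true, false, true, true]) (.leaf [true, true, true, false, true, false, false, false, true, false, false, true, true])))))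

def certSWord72 : Janko.Tree (List Bool) :=
  (.node (.node (.node (.node (.node (.leaf [false, false, true, false, true, true]) (.leaf [false, true, true, true, false, false, false, false, false, true, true, true, true, false])) (.leaf [false, true, true, true, false, false, false, true, true, false, true])) (.node (.leaf [false, false, false, false, false, false, true, false, false, false]) (.leaf [true, false, true, true, true, false, true, true, false, false, false, false]))) (.node (.node (.leaf [true, true, false, true, true, false, false, true]) (.leaf [false, false, false, true, true, true, false, true, true, true, false, true])) (.node (.leaf [true, true, false, false, true, false, true, true, false, false]) (.leaf [false, true, true, false, true, false, false, false, true, true, true, false, false])))) (.node (.node (.node (.leaf [true, true, true, true, false, true, false]) (.leaf [true, true, false, true, false, false, false, false, true, false, false])) (.node (.leaf [false, true, true, false, false, false, false, false, true, true]) (.leaf [false, false, false, true,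 true, false, true, true, false, false, false, false, true]))) (.node (.node (.leaf [false, true, true, true, false, false, false, false, false]) (.leaf [false, true, true, false, true, true, false, false, true, false, false, false])) (.node (.leaf [false, false, false, true, true, true, true, true, true, false, false]) (.leaf [true, true, true, false, true, false, false, false, true, false, true, true, false])))))

def certSWord73 : Janko.Tree (List Bool) :=
  (.node (.node (.node (.node (.node (.leaf [false, false, true, true, false, true]) (.leaf [false, true, true, true, false, false, false, false, true, false, false, false, true, false])) (.leaf [false, true, true, true, false, false, false, true, true, true, true])) (.node (.leaf [false, false, false, false, false, false, true, true, true, false]) (.leaf [true, false, true, true, true, false, true, true, false, false, false, true]))) (.node (.node (.leaf [true, true, false, true, true, true, false, false]) (.leaf [false, false, false, true, true, true, false, true, true, true, true, true])) (.node (.leaf [true, true, false, false,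 true, false, true, true, true, false]) (.leaf [false, true, true, false, true, false, false, false, true, true, true, true, false])))) (.node (.node (.node (.leaf [true, true, true, true, false, true, true]) (.leaf [true, true, false, true, false, false, false, false, true, true, true])) (.node (.leaf [false, true, true, false, false, false, true, false, false, false]) (.leaf [false, false, false, true, true, false, true, true, false, false, false, true, false]))) (.node (.node (.leaf [false, true, true, true, false, false, false, false, true]) (.leaf [false, true, true, false, true, true, false, false, true, false, false, true])) (.node (.leaf [false, false, false, true, true, true, true, true, true, false, true]) (.leaf [true, true, true, false, true, false, false, true, true, true, true, false, true])))))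

def certSWord74 : Janko.Tree (List Bool) :=
  (.node (.node (.node (.node (.node (.leaf [false, false, true, true, true, false]) (.leaf [false, true, true, true, false, false, false, true, false, false, true, true, true, false])) (.leaf [false, true, true, true, false, false, true, false, false, true, true])) (.node (.leaf [false, false, false, false, false, false, true, true, true, true]) (.leaf [true, false, true, true, true, false, true, true, true, true, false, false]))) (.node (.node (.leaf [true, true, false, true, true, true, false, true]) (.leaf [false, false, false, true, true, true, true, false, false, false, false, false])) (.node (.leaf [true, true, false, false, true, false, true, true, true, true]) (.leaf [false, true, true, false, true, false, false, false, true, true, true, true, true])))) (.node (.node (.node (.leaf [true, true, true, true, true, false, false]) (.leaf [true, true, false, true, false, false, false, true, false, false, false])) (.node (.leaf [false, true, true, false, false, false, true, false, false, true]) (.leaf [false, false, false, true, true,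 false, true, true, false, false, false, true, true]))) (.node (.node (.leaf [false, true, true, true, false, false, false, true, false]) (.leaf [false, true, true, false, true, true, false, false, true, false, true, true])) (.node (.leaf [false, false, true, false, false, false, false, false, true, true, false]) (.leaf [true, true, true, false, true, false, false, true, true, true, true, true, false])))))

def certSWord75 : Janko.Tree (List Bool) :=
  (.node (.node (.node (.node (.node (.leaf [false, false, true, true, true, true]) (.leaf [false, true, true, true, false, false, false, true, true, false, true, true, false, false])) (.leaf [false, true, true, true, false, false, true, false, true, true, false])) (.node (.leaf [false, false, false, false, false, true, false, false, false, false]) (.leaf [true, false, true, true, true, false, true, true, true, true, true, false]))) (.node (.node (.leaf [true, true, false, true, true, true, true, false]) (.leaf [false, false, false, true, true, true, true, false, false, false, false, true])) (.node (.leaf [true, true, false, true, false,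 false, false, false, false, true]) (.leaf [false, true, true, false, true, false, false, true, true, true, false, false, false])))) (.node (.node (.node (.leaf [true, true, true, true, true, false, true]) (.leaf [true, true, false, true, false, false, false, true, false, true, true])) (.node (.leaf [false, true, true, false, false, true, false, false, false, true]) (.leaf [false, false, false, true, true, false, true, true, false, false, true, false, true]))) (.node (.node (.leaf [false, true, true, true, false, false, false, true, true]) (.leaf [false, true, true, false, true, true, true, false, false, false, false, true])) (.node (.leaf [false, false, true, false, false, false, false, false, true, true, true]) (.leaf [true, true, true, false, true, true, false, false, true, false, false, false, true])))))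

def certSWord76 : Janko.Tree (List Bool) :=
  (.node (.node (.node (.node (.node (.leaf [false, true, false, false, false, false]) (.leaf [false, true, true, true, false, false, false, true, true, true, true, false, true, false])) (.leaf [false, true, true, true, false, true, false, false, false, true, false])) (.node (.leaf [false, false, false, false, false, true, false, false, false, true]) (.leaf [true, false, true, true, true, true, false, false, false, false, true, true]))) (.node (.node (.leaf [true, true, true, false, false, false, false, false]) (.leaf [false, false, false, true, true, true, true, false, false, false, true, false])) (.node (.leaf [true, true, false, true, false, false, false, false, true, false]) (.leaf [false, true, true, false, true, false, false, true, true, true, true, true, false])))) (.node (.node (.node (.leaf [true, true, true, true, true, true, false]) (.leaf [true, true, false, true, false, false, true, true, true, false, false])) (.node (.leaf [false, true, true, false, false, true, false, false, true, true]) (.leaf [false, false, false, true,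 true, false, true, true, true, false, false, false, false]))) (.node (.node (.leaf [false, true, true, true, false, false, true, false, false]) (.leaf [false, true, true, false, true, true, true, false, true, false, false, false])) (.node (.leaf [false, false, true, false, false, false, true, false, false, false, false]) (.leaf [true, true, true, false, true, true, true, true, true, false, false, false, true])))))

def certSWord77 : Janko.Tree (List Bool) :=
  (.node (.node (.node (.node (.node (.leaf [false, true, false, false, false, true]) (.leaf [false, true, true, true, false, false, false, true, true, true, true, false, true, true])) (.leaf [false, true, true, true, false, true, false, false, true, true, true])) (.node (.leaf [false, false, false, false, false, true, false, true, false, false]) (.leaf [true, false, true, true, true, true, false, false, false, true, false, false]))) (.node (.node (.leaf [true, true, true, false, false, false, false, true]) (.leaf [false, false, false, true, true, true, true, false, false, true, false, false])) (.node (.leaf [true, true, false,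 true, false, false, false, false, true, true]) (.leaf [false, true, true, false, true, true, true, false, false, false, false, true, true])))) (.node (.node (.node (.leaf [false, false, false, false, false, false, true, false]) (.leaf [true, true, false, true, false, false, true, true, true, true, false])) (.node (.leaf [false, true, true, false, false, true, false, true, true, true]) (.leaf [false, false, false, true, true, true, false, false, false, true, false, true, true]))) (.node (.node (.leaf [false, true, true, true, false, false, true, false, true]) (.leaf [false, true, true, false, true, true, true, false, true, false, false, true])) (.node (.leaf [false, false, true, false, false, false, true, false, false, false, true]) (.leaf [true, true, true, true, false, false, false, false, true, true, false, true, false])))))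

def certSWord78 : Janko.Tree (List Bool) :=
  (.node (.node (.node (.node (.node (.leaf [false, true, false, false, true, true]) (.leaf [false, true, true, true, false, true, false, false, true, true, true, false, false, false])) (.leaf [false, true, true, true, false, true, true, false, false, false, false])) (.node (.leaf [false, false, false, false, false, true, false, true, true, true]) (.leaf [true, false, true, true, true, true, true, false, false, false, true, false]))) (.node (.node (.leaf [true, true, true, false, false, false, true, false]) (.leaf [false, false, false, true, true, true, true, false, false, true, false, true])) (.node (.leaf [true, true, false, true, false, false, false, true, false, false]) (.leaf [false, true, true, false, true, true, true, false, true, false, false, false, false])))) (.node (.node (.node (.leaf [false, false, false, false, false, false, true, true]) (.leaf [true, true, false, true, false, false, true, true, true, true, true])) (.node (.leaf [false, true, true, false, true, false, false, false, false, false]) (.leaf [false, false, false,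 true, true, true, false, true, false, false, false, false, false]))) (.node (.node (.leaf [false, true, true, true, false, true, false, false, false]) (.leaf [false, true, true, true, false, false, false, false, false, false, true, false])) (.node (.leaf [false, false, true, false, false, false, true, true, false, true, false]) (.leaf [true, true, true, true, false, false, false, false, true, true, false, true, true])))))

def certSWord79 : Janko.Tree (List Bool) :=
  (.node (.node (.node (.node (.node (.leaf [false, true, false, true, false, false]) (.leaf [false, true, true, true, true, false, false, false, false, true, false, false, false, false])) (.leaf [false, true, true, true, false, true, true, false, false, false, true])) (.node (.leaf [false, false, false, false, true, false, false, false, false, false]) (.leaf [true, false, true, true, true, true, true, false, false, false, true, true]))) (.node (.node (.leaf [true, true, true, false, false, false, true, true]) (.leaf [false, false, false, true, true, true, true, false, true, false, false, true])) (.node (.leaf [true, true,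 false, true, false, false, false, true, false, true]) (.leaf [false, true, true, true, false, false, false, false, false, false, true, false, false])))) (.node (.node (.node (.leaf [false, false, false, false, false, true, false, false]) (.leaf [true, true, false, true, true, false, false, false, false, false, true])) (.node (.leaf [false, true, true, false, true, false, false, false, false, true]) (.leaf [false, false, false, true, true, true, false, true, false, false, false, true, true]))) (.node (.node (.leaf [false, true, true, true, false, true, false, false, true]) (.leaf [false, true, true, true, false, false, false, false, false, false, true, true])) (.node (.leaf [false, false, true, false, false, false, true, true, false, true, true]) (.leaf [true, true, true, true, false, false, false, true, false, false, true, true, true])))))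

def certSWord80 : Janko.Tree (List Bool) :=
  (.node (.node (.node (.node (.node (.leaf [false, true, true, false, false, false]) (.leaf [false, true, true, true, true, false, false, true, false, false, false, true, false, true])) (.leaf [false, true, true, true, false, true, true, false, false, true, false])) (.node (.leaf [false, false, false, false, true, false, false, false, true, false]) (.leaf [true, true, false, false, false, false, false, false, true, true, true, false]))) (.node (.node (.leaf [true, true, true, false, false, true, false, false]) (.leaf [false, false, false, true, true, true, true, false, true, true, true, false])) (.node (.leaf [true, true, false, true, false, false, true, true, true, false]) (.leaf [false, true, true, true, false, false, false, false, false, true, false, false, false])))) (.node (.node (.node (.leaf [false, false, false, false, false, true, false, true]) (.leaf [true, true, false, true, true, false, false, false, false, true, true])) (.node (.leaf [false, true, true, false, true, false, false, false, true, true]) (.leaf [false, false, false,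 true, true, true, false, true, true, false, false, false, false]))) (.node (.node (.leaf [false, true, true, true, false, true, true, false, false]) (.leaf [false, true, true, true, false, false, false, false, false, true, false, false])) (.node (.leaf [false, false, true, false, false, false, true, true, true, false, false]) (.leaf [true, true, true, true, false, false, false, true, true, false, true, true, false])))))

def certSWord81 : Janko.Tree (List Bool) :=
  (.node (.node (.node (.node (.node (.leaf [false, true, true, false, false, true]) (.leaf [false, true, true, true, true, false, false, true, false, false, true, true, true, false])) (.leaf [false, true, true, true, false, true, true, true, false, true, false])) (.node (.leaf [false, false, false, false, true, false, false, false, true, true]) (.leaf [true, true, false, false, false, false, false, true, false, false, false, false]))) (.node (.node (.leaf [true, true, true, false, false, true, false, true]) (.leaf [false, false, false, true, true, true, true, false, true, true, true, true])) (.node (.leaf [true, true, false,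 true, false, false, true, true, true, true]) (.leaf [false, true, true, true, false, false, false, false, false, true, true, true, false])))) (.node (.node (.node (.leaf [false, false, false, false, false, true, true, false]) (.leaf [true, true, false, true, true, false, false, false, true, true, true])) (.node (.leaf [false, true, true, false, true, false, false, true, true, true]) (.leaf [false, false, false, true, true, true, false, true, true, false, false, false, true]))) (.node (.node (.leaf [false, true, true, true, false, true, true, true, false]) (.leaf [false, true, true, true, false, false, false, false, false, true, true, true])) (.node (.leaf [false, false, true, false, false, true, true, false, true, false, false]) (.leaf [true, true, true, true, false, false, false, true, true, true, false, false, false])))))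

def certSWord82 : Janko.Tree (List Bool) :=
  (.node (.node (.node (.node (.node (.leaf [false, true, true, false, true, false]) (.leaf [false, true, true, true, true, false, false, true, false, false, true, true, true, true])) (.leaf [false, true, true, true, false, true, true, true, false, true, true])) (.node (.leaf [false, false, false, false, true, false, true, false, false, false]) (.leaf [true, true, false, false, false, false, false, true, false, false, false, true]))) (.node (.node (.leaf [true, true, true, false, true, false, false, false]) (.leaf [false, false, false, true, true, true, true, true, true, false, false, false])) (.node (.leaf [true, true, false, true, true, false, false, false, false, false]) (.leaf [false, true, true, true, false, false, false, false, false, true, true, true, true])))) (.node (.node (.node (.leaf [false, false, false, false, true, false, false, false]) (.leaf [true, true, false, true, true, true, false, true, true, true, false])) (.node (.leaf [false, true, true, false, true, true, false, false, true, false]) (.leaf [false, false, false,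 true, true, true, false, true, true, false, false, true, false]))) (.node (.node (.leaf [false, true, true, true, false, true, true, true, true]) (.leaf [false, true, true, true, false, false, false, false, true, false, false, false])) (.node (.leaf [false, false, true, false, false, true, true, false, true, true, false]) (.leaf [true, true, true, true, false, false, false, true, true, true, false, true, false])))))

def certSWord83 : Janko.Tree (List Bool) :=
  (.node (.node (.node (.node (.node (.leaf [false, true, true, false, true, true]) (.leaf [false, true, true, true, true, true, false, false, false, false, true, true, true, true])) (.leaf [false, true, true, true, false, true, true, true, true, false, true])) (.node (.leaf [false, false, false, false, true, false, true, true, false, false]) (.leaf [true, true, false, false, false, false, false, true, true, true, false, true]))) (.node (.node (.leaf [true, true, true, false, true, false, false, true]) (.leaf [false, false, false, true, true, true, true, true, true, false, true, true])) (.node (.leaf [true, true, false, true,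 true, false, false, false, false, true]) (.leaf [false, true, true, true, false, false, false, false, true, false, false, false, false])))) (.node (.node (.node (.leaf [false, false, false, false, true, false, true, false]) (.leaf [true, true, false, true, true, true, false, true, true, true, true])) (.node (.leaf [false, true, true, false, true, true, true, false, false, false]) (.leaf [false, false, false, true, true, true, true, false, false, false, false, true, false]))) (.node (.node (.leaf [false, true, true, true, true, false, false, false, false]) (.leaf [false, true, true, true, false, false, false, false, true, false, true, true])) (.node (.leaf [false, false, true, false, false, true, true, false, true, true, true]) (.leaf [true, true, true, true, false, false, false, true, true, true, false, true, true])))))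

def certSWord84 : Janko.Tree (List Bool) :=
  (.node (.node (.node (.node (.node (.leaf [false, true, true, true, false, false]) (.leaf [true, false, false, false, false, false, true, false, true, true, true, true, false, false])) (.leaf [false, true, true, true, false, true, true, true, true, true, false])) (.node (.leaf [false, false, false, false, true, false, true, true, true, false]) (.leaf [true, true, false, false, true, false, false, false, true, true, false, true]))) (.node (.node (.leaf [true, true, true, false, true, true, false, false]) (.leaf [false, false, true, false, false, false, false, false, true, true, true, true])) (.node (.leaf [true, true, false, true, true, false, false, false, true, true]) (.leaf [false, true, true, true, false, false, false, false, true, false, false, false, true])))) (.node (.node (.node (.leaf [false, false, false, false, true, false, true, true]) (.leaf [true, true, false, true, true, true, true, false, false, false, true])) (.node (.leaf [false, true, true, false, true, true, true, false, true, false]) (.leaf [false, false, false, true,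 true, true, true, false, false, false, false, true, true]))) (.node (.node (.leaf [false, true, true, true, true, false, false, false, true]) (.leaf [false, true, true, true, false, false, false, true, false, false, false, true])) (.node (.leaf [false, false, true, false, false, true, true, true, true, false, false]) (.leaf [true, true, true, true, false, false, false, true, true, true, true, false, false])))))

def certSWord85 : Janko.Tree (List Bool) :=
  (.node (.node (.node (.node (.node (.leaf [false, true, true, true, false, true]) (.leaf [true, false, false, false, false, true, false, false, false, false, true, true, true, true])) (.leaf [false, true, true, true, true, false, false, false, false, true, false])) (.node (.leaf [false, false, false, false, true, false, true, true, true, true]) (.leaf [true, true, false, false, true, false, false, false, true, true, true, true]))) (.node (.node (.leaf [true, true, true, false, true, true, true, true]) (.leaf [false, false, true, false, false, false, true, false, false, false, false, false])) (.node (.leaf [true, true, false, true,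 true, true, false, true, true, true]) (.leaf [false, true, true, true, false, false, false, true, false, false, true, true, true])))) (.node (.node (.node (.leaf [false, false, false, false, true, true, false, true]) (.leaf [true, true, true, false, false, false, false, false, false, true, false])) (.node (.leaf [false, true, true, false, true, true, true, false, true, true]) (.leaf [false, false, false, true, true, true, true, false, false, false, true, false, true]))) (.node (.node (.leaf [false, true, true, true, true, false, false, true, false]) (.leaf [false, true, true, true, false, false, false, true, false, false, true, true])) (.node (.leaf [false, false, true, false, false, true, true, true, true, false, true]) (.leaf [true, true, true, true, false, false, true, false, false, true, true, true, true])))))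

def certSWord86 : Janko.Tree (List Bool) :=
  (.node (.node (.node (.node (.node (.leaf [false, true, true, true, true, false]) (.leaf [true, false, false, false, false, true, false, false, false, true, true, false, true, true])) (.leaf [false, true, true, true, true, false, false, false, true, false, false])) (.node (.leaf [false, false, false, false, true, true, false, true, false, false]) (.leaf [true, true, false, false, true, false, true, true, false, false, false, false]))) (.node (.node (.leaf [true, true, true, true, false, false, false, false]) (.leaf [false, false, true, false, false, false, true, false, false, false, false, true])) (.node (.leaf [true, true, false, true, true, true, true, false, false, false]) (.leaf [false, true, true, true, false, false, false, true, false, true, true, true, false])))) (.node (.node (.node (.leaf [false, false, false, false, true, true, true, false]) (.leaf [true, true, true, false, false, false, false, false, false, true, true])) (.node (.leaf [false, true, true, true, false, false, false, false, false, false]) (.leaf [false, false,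 false, true, true, true, true, false, false, true, false, false, false]))) (.node (.node (.leaf [false, true, true, true, true, false, true, false, false]) (.leaf [false, true, true, true, false, false, false, true, false, true, true, false])) (.node (.leaf [false, false, true, false, false, true, true, true, true, true, false]) (.leaf [true, true, true, true, false, true, false, false, false, true, false, false, false])))))

def certSWord87 : Janko.Tree (List Bool) :=
  (.node (.node (.node (.node (.node (.leaf [false, true, true, true, true, true]) (.leaf [true, false, false, false, false, true, false, true, true, false, false, true, false, false])) (.leaf [false, true, true, true, true, false, false, false, true, true, false])) (.node (.leaf [false, false, false, false, true, true, false, true, true, false]) (.leaf [true, true, false, false, true, false, true, true, true, true, false, false]))) (.node (.node (.leaf [true, true, true, true, false, false, false, true]) (.leaf [false, false, true, false, false, false, true, true, false, true, false, false])) (.node (.leaf [true, true,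 true, false, false, false, false, false, false, true]) (.leaf [false, true, true, true, false, false, false, true, true, false, true, true, false])))) (.node (.node (.node (.leaf [false, false, false, false, true, true, true, true]) (.leaf [true, true, true, false, false, false, false, false, true, false, false])) (.node (.leaf [false, true, true, true, false, false, false, false, false, true]) (.leaf [false, false, false, true, true, true, true, false, false, true, false, false, true]))) (.node (.node (.leaf [false, true, true, true, true, true, false, false, false]) (.leaf [false, true, true, true, false, false, false, true, false, true, true, true])) (.node (.leaf [false, false, true, false, true, false, false, false, false, false, false]) (.leaf [true, true, true, true, false, true, false, false, true, true, false, true, true])))))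

def certSWord88 : Janko.Tree (List Bool) :=
  (.node (.node (.node (.node (.node (.leaf [true, false, false, false, false, false]) (.leaf [true, false, false, false, false, true, false, true, true, true, true, true, false, false])) (.leaf [false, true, true, true, true, false, false, false, true, true, true])) (.node (.leaf [false, false, false, false, true, true, false, true, true, true]) (.leaf [true, true, false, false, true, false, true, true, true, true, true, false]))) (.node (.node (.leaf [true, true, true, true, false, false, true, false]) (.leaf [false, false, true, false, false, false, true, true, true, false, false, true])) (.node (.leaf [true, true, true, false, false, false, false, false, true, false]) (.leaf [false, true, true, true, false, false, false, true, true, true, true, false, true])))) (.node (.node (.node (.leaf [false, false, false, true, false, false, false, false]) (.leaf [true, true, true, false, false, false, false, false, true, false, true])) (.node (.leaf [false, true, true, true, false, false, false, false, true, false]) (.leaf [false, false, false,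 true, true, true, true, false, true, false, false, true, true]))) (.node (.node (.leaf [false, true, true, true, true, true, false, false, true]) (.leaf [false, true, true, true, false, false, false, true, true, false, true, true])) (.node (.leaf [false, false, true, false, true, false, false, false, false, false, true]) (.leaf [true, true, true, true, false, true, true, true, false, true, false, false, false])))))

def certSWord89 : Janko.Tree (List Bool) :=
  (.node (.node (.node (.node (.node (.leaf [true, false, false, false, false, true]) (.leaf [true, false, false, false, false, true, true, false, true, true, false, false, false, false])) (.leaf [false, true, true, true, true, false, false, true, false, false, false])) (.node (.leaf [false, false, false, false, true, true, true, false, false, false]) (.leaf [true, true, false, true, false, false, false, false, true, true, true, false]))) (.node (.node (.leaf [true, true, true, true, false, true, false, false]) (.leaf [false, false, true, false, false, true, true, false, true, true, false, false])) (.node (.leaf [true, true, true,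 false, false, false, false, false, true, true]) (.leaf [false, true, true, true, false, false, true, false, false, true, true, true, false])))) (.node (.node (.node (.leaf [false, false, false, true, false, false, false, true]) (.leaf [true, true, true, false, false, false, false, false, true, true, false])) (.node (.leaf [false, true, true, true, false, false, false, true, false, false]) (.leaf [false, false, false, true, true, true, true, false, true, true, true, false, true]))) (.node (.node (.leaf [false, true, true, true, true, true, false, true, false]) (.leaf [false, true, true, true, false, false, false, true, true, true, true, false])) (.node (.leaf [false, false, true, false, true, false, false, false, false, true, true]) (.leaf [true, true, true, true, false, true, true, true, true, false, false, false, true])))))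

def certSWord90 : Janko.Tree (List Bool) :=
  (.node (.node (.node (.node (.node (.leaf [true, false, false, false, true, false]) (.leaf [true, false, false, false, false, true, true, true, false, false, false, true, false, true])) (.leaf [false, true, true, true, true, false, false, true, false, false, true])) (.node (.leaf [false, false, false, false, true, true, true, false, false, true]) (.leaf [true, true, false, true, false, false, false, true, false, false, false, true]))) (.node (.node (.leaf [true, true, true, true, false, true, true, true]) (.leaf [false, false, true, false, false, true, true, false, true, true, true, false])) (.node (.leaf [true, true, true, false, false, false, false, true, false, false]) (.leaf [false, true, true, true, false, true, false, false, false, true, false, false, true])))) (.node (.node (.node (.leaf [false, false, false, true, false, false, true, true]) (.leaf [true, true, true, false, false, false, false, false, true, true, true])) (.node (.leaf [false, true, true, true, false, false, false, true, false, true]) (.leaf [false, false, false,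 true, true, true, true, true, true, false, false, false, true]))) (.node (.node (.leaf [false, true, true, true, true, true, false, true, true]) (.leaf [false, true, true, true, false, false, true, false, false, true, true, true])) (.node (.leaf [false, false, true, false, true, true, false, false, false, false, false]) (.leaf [true, true, true, true, false, true, true, true, true, false, false, true, false])))))

def certSWord91 : Janko.Tree (List Bool) :=
  (.node (.node (.node (.node (.node (.leaf [true, false, false, false, true, true]) (.leaf [true, false, false, false, true, false, false, false, false, false, true, true, false, true])) (.leaf [false, true, true, true, true, false, false, true, false, true, true])) (.node (.leaf [false, false, false, false, true, true, true, false, true, false]) (.leaf [true, true, false, true, false, false, true, true, true, false, false, false]))) (.node (.node (.leaf [true, true, true, true, true, false, false, false]) (.leaf [false, false, true, false, false, true, true, true, true, false, false, false])) (.node (.leaf [true, true, true, false,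 false, false, false, true, false, true]) (.leaf [false, true, true, true, false, true, false, false, true, true, true, false, false])))) (.node (.node (.node (.leaf [false, false, false, true, false, true, false, false]) (.leaf [true, true, true, false, false, false, false, true, false, false, false])) (.node (.leaf [false, true, true, true, false, false, false, true, true, false]) (.leaf [false, false, true, false, false, false, false, false, true, true, true, true, false]))) (.node (.node (.leaf [false, true, true, true, true, true, true, false, false]) (.leaf [false, true, true, true, false, false, true, false, true, true, false, false])) (.node (.leaf [false, false, true, false, true, true, false, false, false, false, true]) (.leaf [true, true, true, true, false, true, true, true, true, false, true, false, false])))))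

def certSWord92 : Janko.Tree (List Bool) :=
  (.node (.node (.node (.node (.node (.leaf [true, false, false, true, false, false]) (.leaf [true, false, false, false, true, false, false, false, false, false, true, true, true, false])) (.leaf [false, true, true, true, true, false, true, false, false, false, false])) (.node (.leaf [false, false, false, false, true, true, true, false, true, true]) (.leaf [true, true, false, true, false, false, true, true, true, true, false, true]))) (.node (.node (.leaf [true, true, true, true, true, false, false, true]) (.leaf [false, false, true, false, false, true, true, true, true, false, true, false])) (.node (.leaf [true, true, true, false, false, false, false, true, true, false]) (.leaf [false, true, true, true, false, true, true, false, false, false, false, false, true])))) (.node (.node (.node (.leaf [false, false, false, true, false, true, true, false]) (.leaf [true, true, true, false, false, false, false, true, false, true, true])) (.node (.leaf [false, true, true, true, false, false, false, true, true, true]) (.leaf [false, false, true, false,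 false, false, true, false, false, false, false, false, true]))) (.node (.node (.leaf [false, true, true, true, true, true, true, false, true]) (.leaf [false, true, true, true, false, true, false, false, false, true, false, false])) (.node (.leaf [false, false, true, false, true, true, false, false, false, true, false]) (.leaf [true, true, true, true, true, false, false, false, true, true, true, true, false])))))

def certSWord93 : Janko.Tree (List Bool) :=
  (.node (.node (.node (.node (.node (.leaf [true, false, false, true, false, true]) (.leaf [true, false, false, false, true, false, false, false, false, false, true, true, true, true])) (.leaf [false, true, true, true, true, false, true, false, false, false, true])) (.node (.leaf [false, false, false, false, true, true, true, true, false, false]) (.leaf [true, true, false, true, false, false, true, true, true, true, true, false]))) (.node (.node (.leaf [true, true, true, true, true, false, true, true]) (.leaf [false, false, true, false, false, true, true, true, true, true, false, false])) (.node (.leaf [true, true, true, false,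 false, false, false, true, true, true]) (.leaf [false, true, true, true, true, false, false, false, false, true, false, false, false])))) (.node (.node (.node (.leaf [false, false, false, true, false, true, true, true]) (.leaf [true, true, true, false, false, false, false, true, true, false, true])) (.node (.leaf [false, true, true, true, false, false, true, false, false, true]) (.leaf [false, false, true, false, false, false, true, false, false, false, false, true, true]))) (.node (.node (.leaf [true, false, false, false, false, false, false, true, false]) (.leaf [false, true, true, true, false, true, false, false, false, true, false, true])) (.node (.leaf [false, false, true, false, true, true, false, false, false, true, true]) (.leaf [true, true, true, true, true, false, true, true, true, false, false, false, false])))))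

def certSWord94 : Janko.Tree (List Bool) :=
  (.node (.node (.node (.node (.node (.leaf [true, false, false, true, true, false]) (.leaf [true, false, false, false, true, false, false, false, false, true, true, false, true, true])) (.leaf [false, true, true, true, true, false, true, false, false, true, true])) (.node (.leaf [false, false, false, false, true, true, true, true, false, true]) (.leaf [true, true, false, true, true, false, false, false, false, true, true, false]))) (.node (.node (.leaf [true, true, true, true, true, true, false, false]) (.leaf [false, false, true, false, true, false, false, false, false, false, false, true])) (.node (.leaf [true, true, true, false, false, false, true, false, false, true]) (.leaf [false, true, true, true, true, false, false, false, true, false, false, false, true])))) (.node (.node (.node (.leaf [false, false, false, true, true, false, true, false]) (.leaf [true, true, true, false, false, false, false, true, true, true, false])) (.node (.leaf [false, true, true, true, false, false, true, false, true, true]) (.leaf [false, false, true, false,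 false, false, true, true, false, true, false, false, false]))) (.node (.node (.leaf [true, false, false, false, false, false, false, true, true]) (.leaf [false, true, true, true, false, true, false, false, true, true, true, false])) (.node (.leaf [false, false, true, false, true, true, false, false, true, false, false]) (.leaf [true, true, true, true, true, false, true, true, true, true, true, false, false])))))

def certSWord95 : Janko.Tree (List Bool) :=
  (.node (.node (.node (.node (.node (.leaf [true, false, false, true, true, true]) (.leaf [true, false, false, false, true, false, true, true, false, false, false, false, true, false])) (.leaf [false, true, true, true, true, true, false, false, false, false, true])) (.node (.leaf [false, false, false, false, true, true, true, true, true, true]) (.leaf [true, true, false, true, true, false, false, false, true, true, true, false]))) (.node (.node (.leaf [true, true, true, true, true, true, false, true]) (.leaf [false, false, true, false, true, false, false, false, false, true, true, true])) (.node (.leaf [true, true, true, false,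 false, false, true, false, true, true]) (.leaf [false, true, true, true, true, false, false, false, true, true, false, true, false])))) (.node (.node (.node (.leaf [false, false, false, true, true, false, true, true]) (.leaf [true, true, true, false, false, false, false, true, true, true, true])) (.node (.leaf [false, true, true, true, false, true, false, false, false, true]) (.leaf [false, false, true, false, false, true, true, false, true, true, true, false, false]))) (.node (.node (.leaf [true, false, false, false, false, false, true, false, false]) (.leaf [false, true, true, true, false, true, false, false, true, true, true, true])) (.node (.leaf [false, false, true, false, true, true, false, false, true, false, true]) (.leaf [false, false, false, false, false, true, false, false, false, false, true, false, false, false])))))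

def certSWord96 : Janko.Tree (List Bool) :=
  (.node (.node (.node (.node (.node (.leaf [true, false, true, false, false, false]) (.leaf [true, false, false, false, true, false, true, true, true, true, false, true, true, true])) (.leaf [false, true, true, true, true, true, false, false, true, false, false])) (.node (.leaf [false, false, false, true, false, false, false, false, false, false]) (.leaf [true, true, false, true, true, false, false, false, true, true, true, true]))) (.node (.node (.leaf [false, false, false, false, false, false, true, false, false]) (.leaf [false, false, true, false, true, true, false, false, false, false, false, true])) (.node (.leaf [true, true, true, false, false, false, true, true, false, true]) (.leaf [false, true, true, true, true, false, false, false, true, true, true, false, true])))) (.node (.node (.node (.leaf [false, false, false, true, true, true, false, false]) (.leaf [true, true, true, false, false, false, true, false, false, true, true])) (.node (.leaf [false, true, true, true, false, true, false, false, true, true]) (.leaf [false, false,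 true, false, false, true, true, true, true, false, false, false, false]))) (.node (.node (.leaf [true, false, false, false, false, false, true, false, true]) (.leaf [false, true, true, true, false, true, true, false, false, false, false, false])) (.node (.leaf [false, false, true, false, true, true, true, false, true, true, false]) (.leaf [false, false, false, false, true, false, false, false, false, false, true, true, true, false])))))

def certSWord97 : Janko.Tree (List Bool) :=
  (.node (.node (.node (.node (.node (.leaf [true, false, true, false, false, true]) (.leaf [true, false, false, false, true, true, false, true, false, false, false, false, false, true])) (.leaf [false, true, true, true, true, true, false, false, true, false, true])) (.node (.leaf [false, false, false, true, false, false, false, false, false, true]) (.leaf [true, true, false, true, true, true, false, true, true, true, false, false]))) (.node (.node (.leaf [false, false, false, false, false, false, true, true, false]) (.leaf [false, false, true, false, true, true, false, false, false, false, true, false]))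 (.node (.leaf [true, true, true, false, false, false, true, true, true, false]) (.leaf [false, true, true, true, true, false, false, true, false, false, false, true, false])))) (.node (.node (.node (.leaf [false, false, false, true, true, true, false, true]) (.leaf [true, true, true, false, false, false, true, false, true, true, false])) (.node (.leaf [false, true, true, true, false, true, true, false, false, false]) (.leaf [false, false, true, false, false, true, true, true, true, false, false, false, true]))) (.node (.node (.leaf [true, false, false, false, false, false, true, true, false]) (.leaf [false, true, true, true, false, true, true, true, false, true, true, true])) (.node (.leaf [false, false, true, false, true, true, true, false, true, true, true]) (.leaf [false, false, false, false, true, false, true, false, false, false, false, false, true, true])))))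

def certSWord98 : Janko.Tree (List Bool) :=
  (.node (.node (.node (.node (.node (.leaf [true, false, true, true, false, false]) (.leaf [true, false, false, false, true, true, false, true, false, false, false, true, false, true])) (.leaf [false, true, true, true, true, true, true, false, false, false, true])) (.node (.leaf [false, false, false, true, false, false, false, false, true, true]) (.leaf [true, true, false, true, true, true, true, false, false, false, true, true]))) (.node (.node (.leaf [false, false, false, false, false, false, true, true, true]) (.leaf [false, false, true, false, true, true, false, false, false, true, false, false])) (.node (.leaf [true, true, true, false, false, true, false, false, false, true]) (.leaf [false, true, true, true, true, false, false, true, false, false, true, true, true])))) (.node (.node (.node (.leaf [false, false, false, true, true, true, true, false]) (.leaf [true, true, true, false, false, false, true, false, true, true, true])) (.node (.leaf [false, true, true, true, false, true, true, false, false, true]) (.leaf [false, false, true,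 false, false, true, true, true, true, true, false, false, true]))) (.node (.node (.leaf [true, false, false, false, false, false, true, true, true]) (.leaf [false, true, true, true, true, false, false, false, false, true, false, false])) (.node (.leaf [false, false, true, false, true, true, true, true, false, false, false]) (.leaf [false, false, false, false, true, false, true, true, true, false, false, false, false, false])))))

def certSWord99 : Janko.Tree (List Bool) :=
  (.node (.node (.node (.node (.node (.leaf [true, false, true, true, true, false]) (.leaf [true, false, false, false, true, true, false, true, true, false, false, false, true, false])) (.leaf [true, false, false, false, false, false, false, true, false, false, false])) (.node (.leaf [false, false, false, true, false, false, false, true, false, false]) (.leaf [true, true, true, false, false, false, false, false, false, true, false, true]))) (.node (.node (.leaf [false, false, false, false, false, true, false, false, false]) (.leaf [false, false, true, false, true, true, false, false, true, false, false, true])) (.node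 (.leaf [true, true, true, false, false, true, false, true, true, false]) (.leaf [false, true, true, true, true, false, false, true, false, true, true, true, true])))) (.node (.node (.node (.leaf [false, false, false, true, true, true, true, true]) (.leaf [true, true, true, false, false, false, true, true, false, true, true])) (.node (.leaf [false, true, true, true, false, true, true, true, false, true]) (.leaf [false, false, true, false, true, true, false, false, false, false, false, true, true]))) (.node (.node (.leaf [true, false, false, false, false, true, false, false, false]) (.leaf [false, true, true, true, true, false, false, false, true, false, false, false])) (.node (.leaf [false, false, true, false, true, true, true, true, false, false, true]) (.leaf [false, false, false, false, true, false, true, true, true, false, false, false, false, true])))))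

def certSWord100 : Janko.Tree (List Bool) :=
  (.node (.node (.node (.node (.node (.leaf [true, false, true, true, true, true]) (.leaf [true, false, false, false, true, true, false, true, true, false, false, true, false, true])) (.leaf [true, false, false, false, false, false, false, true, true, true, false])) (.node (.leaf [false, false, false, true, false, false, false, true, false, true]) (.leaf [true, true, true, false, false, false, false, false, false, true, true, false]))) (.node (.node (.leaf [false, false, false, false, false, true, false, true, false]) (.leaf [false, false, true, false, true, true, false, false, true, false, true, true])) (.node (.leaf [true, true, true, false, false, true, false, true, true, true]) (.leaf [false, true, true, true, true, false, true, false, false, true, true, true, false])))) (.node (.node (.node (.leaf [false, false, true, false, false, false, false, false]) (.leaf [true, true, true, false, false, false, true, true, true, false, true])) (.node (.leaf [false, true, true, true, false, true, true, true, true, false]) (.leaf [false, false,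 true, false, true, true, false, false, false, false, true, false, false]))) (.node (.node (.leaf [true, false, false, false, false, true, false, true, true]) (.leaf [false, true, true, true, true, false, false, false, true, false, false, true])) (.node (.leaf [false, false, true, false, true, true, true, true, false, true, false]) (.leaf [false, false, false, false, true, false, true, true, true, true, false, false, false, true])))))

def certSWord101 : Janko.Tree (List Bool) :=
  (.node (.node (.node (.node (.node (.leaf [true, true, false, false, false, false]) (.leaf [true, false, false, false, true, true, true, false, false, false, false, true, false, false])) (.leaf [true, false, false, false, false, false, true, false, false, false, true])) (.node (.leaf [false, false, false, true, false, false, false, true, true, false]) (.leaf [true, true, true, false, false, false, false, false, true, false, false, false]))) (.node (.node (.leaf [false, false, false, false, false, true, false, true, true]) (.leaf [false, false, true, false, true, true, true, false, true, true, false, false]))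 (.node (.leaf [true, true, true, false, true, false, false, false, false, true]) (.leaf [false, true, true, true, true, true, false, false, false, false, true, false, false])))) (.node (.node (.node (.leaf [false, false, true, false, false, false, false, true]) (.leaf [true, true, true, false, false, true, false, false, false, true, true])) (.node (.leaf [false, true, true, true, false, true, true, true, true, true]) (.leaf [false, false, true, false, true, true, false, false, false, true, false, false, false]))) (.node (.node (.leaf [true, false, false, false, false, true, true, false, true]) (.leaf [false, true, true, true, true, false, false, false, true, true, false, true])) (.node (.leaf [false, false, true, false, true, true, true, true, false, true, true]) (.leaf [false, false, false, false, true, false, true, true, true, true, false, false, true, false])))))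

def certSWord102 : Janko.Tree (List Bool) :=
  (.node (.node (.node (.node (.node (.leaf [true, true, false, false, true, false]) (.leaf [true, false, false, false, true, true, true, false, false, false, true, false, false, false])) (.leaf [true, false, false, false, false, false, true, false, true, true, false])) (.node (.leaf [false, false, false, true, false, false, false, true, true, true]) (.leaf [true, true, true, false, false, false, false, false, true, false, true, true]))) (.node (.node (.leaf [false, false, false, false, true, false, false, false, false]) (.leaf [false, false, true, false, true, true, true, false, true, true, true, false])) (.node (.leaf [true, true, true, false, true, false, false, false, true, false]) (.leaf [false, true, true, true, true, true, false, false, false, false, true, false, true])))) (.node (.node (.node (.leaf [false, false, true, false, false, false, true, false]) (.leaf [true, true, true, false, false, true, false, true, true, false, false])) (.node (.leaf [false, true, true, true, true, false, false, false, false, false]) (.leaf [false,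 false, true, false, true, true, false, false, true, false, false, true, true]))) (.node (.node (.leaf [true, false, false, false, false, true, true, true, false]) (.leaf [false, true, true, true, true, false, false, false, true, true, true, false])) (.node (.leaf [false, false, true, true, false, true, false, false, false, false, false]) (.leaf [false, false, false, false, true, true, true, false, false, false, false, true, true, false])))))

def certSWord103 : Janko.Tree (List Bool) :=
  (.node (.node (.node (.node (.node (.leaf [true, true, false, true, false, false]) (.leaf [true, false, false, false, true, true, true, false, false, false, true, false, false, true])) (.leaf [true, false, false, false, false, false, true, false, true, true, true])) (.node (.leaf [false, false, false, true, false, false, true, true, true, false]) (.leaf [true, true, true, false, false, false, false, false, true, true, false, true]))) (.node (.node (.leaf [false, false, false, false, true, false, false, false, true]) (.leaf [false, false, true, false, true, true, true, false, true, true, true, true]))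 (.node (.leaf [true, true, true, false, true, false, false, true, true, false]) (.leaf [false, true, true, true, true, true, false, false, false, false, true, true, true])))) (.node (.node (.node (.leaf [false, false, true, false, false, false, true, true]) (.leaf [true, true, true, false, false, true, false, true, true, true, false])) (.node (.leaf [false, true, true, true, true, false, false, false, false, true]) (.leaf [false, false, true, false, true, true, false, false, true, false, true, true, true]))) (.node (.node (.leaf [true, false, false, false, false, true, true, true, true]) (.leaf [false, true, true, true, true, false, false, true, false, false, false, true])) (.node (.leaf [false, false, true, true, false, true, true, true, false, false, false]) (.leaf [false, false, false, false, true, true, true, false, false, false, false, true, true, true])))))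

def certSWord104 : Janko.Tree (List Bool) :=
  (.node (.node (.node (.node (.node (.leaf [true, true, false, true, true, false]) (.leaf [true, false, false, false, true, true, true, false, false, false, true, false, true, true])) (.leaf [true, false, false, false, false, false, true, true, true, true, false])) (.node (.leaf [false, false, false, true, false, false, true, true, true, true]) (.leaf [true, true, true, false, false, false, false, false, true, true, true, false]))) (.node (.node (.leaf [false, false, false, false, true, false, true, false, false]) (.leaf [false, false, true, false, true, true, true, true, false, false, false, false])) (.node (.leaf [true, true, true, false, true, false, false, true, true, true]) (.leaf [false, true, true, true, true, true, true, false, false, false, true, true, true])))) (.node (.node (.node (.leaf [false, false, true, false, false, true, true, false]) (.leaf [true, true, true, false, false, true, false, true, true, true, true])) (.node (.leaf [false, true, true, true, true, false, false, false, true, false]) (.leaf [false, false, true,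 false, true, true, true, false, true, true, false, false, false]))) (.node (.node (.leaf [true, false, false, false, true, false, false, false, false]) (.leaf [false, true, true, true, true, false, false, true, false, false, true, true])) (.node (.leaf [false, false, true, true, false, true, true, true, false, true, false]) (.leaf [false, false, false, false, true, true, true, false, false, true, false, false, false, true])))))

def certSWord105 : Janko.Tree (List Bool) :=
  (.node (.node (.node (.node (.node (.leaf [true, true, false, true, true, true]) (.leaf [true, false, false, false, true, true, true, false, false, false, true, true, false, true])) (.leaf [true, false, false, false, false, true, false, false, false, false, false])) (.node (.leaf [false, false, false, true, false, true, false, false, false, false]) (.leaf [true, true, true, false, false, false, false, false, true, true, true, true]))) (.node (.node (.leaf [false, false, false, false, true, false, true, true, false]) (.leaf [false, false, true, false, true, true, true, true, false, false, false, true])) (.node (.leaf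 [true, true, true, false, true, true, false, false, true, false]) (.leaf [true, false, false, false, false, false, false, true, true, true, false, false, false])))) (.node (.node (.node (.leaf [false, false, true, false, false, true, true, true]) (.leaf [true, true, true, false, true, false, false, false, false, true, false])) (.node (.leaf [false, true, true, true, true, false, false, false, true, true]) (.leaf [false, false, true, false, true, true, true, false, true, true, true, false, false]))) (.node (.node (.leaf [true, false, false, false, true, false, false, false, true]) (.leaf [false, true, true, true, true, false, false, true, false, true, true, true])) (.node (.leaf [false, false, true, true, false, true, true, true, false, true, true]) (.leaf [false, false, false, false, true, true, true, false, false, true, false, false, true, true])))))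

def certSWord106 : Janko.Tree (List Bool) :=
  (.node (.node (.node (.node (.node (.leaf [true, true, true, false, false, false]) (.leaf [true, false, false, false, true, true, true, false, false, true, false, false, true, true])) (.leaf [true, false, false, false, false, true, false, false, false, false, true])) (.node (.leaf [false, false, false, true, false, true, true, false, false, true]) (.leaf [true, true, true, false, false, false, false, true, false, true, true, false]))) (.node (.node (.leaf [false, false, false, false, true, false, true, true, true]) (.leaf [false, false, true, false, true, true, true, true, false, false, true, false])) (.node (.leaf [true, true, true, false, true, true, true, true, false, false]) (.leaf [true, false, false, false, false, false, true, false, false, false, true, false, false])))) (.node (.node (.node (.leaf [false, false, true, false, true, false, false, false]) (.leaf [true, true, true, false, true, false, false, false, false, true, true])) (.node (.leaf [false, true, true, true, true, false, false, true, false, false]) (.leaf [false, false,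 true, false, true, true, true, false, true, true, true, true, true]))) (.node (.node (.leaf [true, false, false, false, true, false, false, true, true]) (.leaf [false, true, true, true, true, false, true, false, false, false, false, false])) (.node (.leaf [false, false, true, true, true, false, false, false, false, true, false]) (.leaf [false, false, false, false, true, true, true, true, true, true, false, false, false, true])))))

def certSWord107 : Janko.Tree (List Bool) :=
  (.node (.node (.node (.node (.node (.leaf [true, true, true, false, false, true]) (.leaf [true, false, false, false, true, true, true, false, true, true, false, false, false, true])) (.leaf [true, false, false, false, false, true, false, false, false, true, true])) (.node (.leaf [false, false, false, true, false, true, true, true, false, false]) (.leaf [true, true, true, false, false, false, false, true, false, true, true, true]))) (.node (.node (.leaf [false, false, false, false, true, true, false, true, false]) (.leaf [false, false, true, false, true, true, true, true, false, true, true, true])) (.node (.leaf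 [true, true, true, false, true, true, true, true, false, true]) (.leaf [true, false, false, false, false, false, true, false, false, false, true, true, true])))) (.node (.node (.node (.leaf [false, false, true, false, true, true, false, false]) (.leaf [true, true, true, false, true, false, false, false, true, false, false])) (.node (.leaf [false, true, true, true, true, false, false, true, false, true]) (.leaf [false, false, true, false, true, true, true, true, false, false, false, true, false]))) (.node (.node (.leaf [true, false, false, false, true, false, true, true, false]) (.leaf [false, true, true, true, true, false, true, false, false, false, false, true])) (.node (.leaf [false, false, true, true, true, false, false, false, false, true, true]) (.leaf [false, false, false, true, false, false, false, false, false, true, true, false, true, true])))))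

def certSWord108 : Janko.Tree (List Bool) :=
  (.node (.node (.node (.node (.node (.leaf [true, true, true, false, true, false]) (.leaf [true, false, false, false, true, true, true, false, true, true, false, false, true, false])) (.leaf [true, false, false, false, false, true, false, true, true, false, false])) (.node (.leaf [false, false, false, true, false, true, true, true, false, true]) (.leaf [true, true, true, false, false, false, false, true, true, false, true, false]))) (.node (.node (.leaf [false, false, false, false, true, true, false, true, true]) (.leaf [false, false, true, true, false, true, false, false, false, false, false, true])) (.node (.leaf [true, true, true, false, true, true, true, true, true, false]) (.leaf [true, false, false, false, false, false, true, false, true, true, true, true, false])))) (.node (.node (.node (.leaf [false, false, true, false, true, true, true, false]) (.leaf [true, true, true, false, true, false, false, false, true, false, true])) (.node (.leaf [false, true, true, true, true, false, true, false, false, false]) (.leaf [false, false, true,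 false, true, true, true, true, false, true, true, true, false]))) (.node (.node (.leaf [true, false, false, false, true, false, true, true, true]) (.leaf [false, true, true, true, true, false, true, false, false, true, true, true])) (.node (.leaf [false, false, true, true, true, false, false, true, false, false, false]) (.leaf [false, false, false, true, false, false, false, false, false, true, true, true, false, true])))))

def certSWord109 : Janko.Tree (List Bool) :=
  (.node (.node (.node (.node (.node (.leaf [true, true, true, false, true, true]) (.leaf [true, false, false, false, true, true, true, false, true, true, true, false, true, false])) (.leaf [true, false, false, false, false, true, false, true, true, true, true])) (.node (.leaf [false, false, false, true, false, true, true, true, true, false]) (.leaf [true, true, true, false, false, false, false, true, true, true, true, true]))) (.node (.node (.leaf [false, false, false, false, true, true, true, false, false]) (.leaf [false, false, true, true, false, true, true, true, false, false, false, true])) (.node (.leaf [true,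 true, true, false, true, true, true, true, true, true]) (.leaf [true, false, false, false, false, false, true, false, true, true, true, true, true])))) (.node (.node (.node (.leaf [false, false, true, false, true, true, true, true]) (.leaf [true, true, true, false, true, false, false, true, true, false, true])) (.node (.leaf [false, true, true, true, true, false, true, false, false, true]) (.leaf [false, false, true, true, false, true, true, true, false, false, false, true, false]))) (.node (.node (.leaf [true, false, false, false, true, true, false, true, false]) (.leaf [false, true, true, true, true, true, false, false, false, false, true, false])) (.node (.leaf [false, false, true, true, true, false, false, true, false, false, true]) (.leaf [false, false, false, true, false, false, false, false, true, true, false, true, false, false])))))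

def certSWord110 : Janko.Tree (List Bool) :=
  (.node (.node (.node (.node (.node (.leaf [true, true, true, true, false, false]) (.leaf [true, false, false, false, true, true, true, true, false, true, false, false, false, true])) (.leaf [true, false, false, false, false, true, true, false, true, false, false])) (.node (.leaf [false, false, false, true, false, true, true, true, true, true]) (.leaf [true, true, true, false, false, false, true, false, false, true, true, false]))) (.node (.node (.leaf [false, false, false, false, true, true, true, false, true]) (.leaf [false, false, true, true, true, false, false, false, false, true, false, false])) (.node (.leaf [true, true, true, true, false, false, false, false, false, true]) (.leaf [true, false, false, false, false, true, false, false, false, false, false, false, true])))) (.node (.node (.node (.leaf [false, false, true, true, false, true, false, false]) (.leaf [true, true, true, false, true, false, false, true, true, true, true])) (.node (.leaf [false, true, true, true, true, true, false, false, false, false]) (.leaf [false, false,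 true, true, false, true, true, true, false, false, false, true, true]))) (.node (.node (.leaf [true, false, false, false, true, true, false, true, true]) (.leaf [false, true, true, true, true, true, false, false, false, false, true, true])) (.node (.leaf [false, false, true, true, true, false, false, true, false, true, true]) (.leaf [false, false, false, true, false, false, false, false, true, true, false, true, true, false])))))

def certSWord111 : Janko.Tree (List Bool) :=
  (.node (.node (.node (.node (.node (.leaf [true, true, true, true, false, true]) (.leaf [true, false, false, false, true, true, true, true, false, true, false, false, true, true])) (.leaf [true, false, false, false, false, true, true, false, true, true, false])) (.node (.leaf [false, false, false, true, true, false, true, false, false, false]) (.leaf [true, true, true, false, false, false, true, false, true, true, false, false]))) (.node (.node (.leaf [false, false, false, false, true, true, true, true, false]) (.leaf [false, false, true, true, true, false, false, false, false, true, false, true])) (.node (.leaf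 [true, true, true, true, false, false, false, false, true, false]) (.leaf [true, false, false, false, false, true, false, false, false, false, true, true, true])))) (.node (.node (.node (.leaf [false, false, true, true, false, true, true, false]) (.leaf [true, true, true, false, true, true, false, false, true, false, false])) (.node (.leaf [false, true, true, true, true, true, false, false, true, false]) (.leaf [false, false, true, true, true, false, false, false, false, true, true, false, true]))) (.node (.node (.leaf [true, false, false, false, true, true, true, false, false]) (.leaf [false, true, true, true, true, true, false, false, true, false, false, false])) (.node (.leaf [false, false, true, true, true, false, true, false, false, false, false]) (.leaf [false, false, false, true, false, false, false, false, true, true, false, true, true, true])))))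

def certSWord112 : Janko.Tree (List Bool) :=
  (.node (.node (.node (.node (.node (.leaf [true, true, true, true, true, false]) (.leaf [true, false, false, false, true, true, true, true, false, true, true, true, true, false])) (.leaf [true, false, false, false, false, true, true, false, true, true, true])) (.node (.leaf [false, false, false, true, true, false, true, false, false, true]) (.leaf [true, true, true, false, false, false, true, true, false, true, true, false]))) (.node (.node (.leaf [false, false, false, false, true, true, true, true, true]) (.leaf [false, false, true, true, true, false, false, false, false, true, true, false])) (.node (.leaf [true, true, true, true, false, false, false, false, true, true]) (.leaf [true, false, false, false, false, true, false, false, false, true, true, false, true])))) (.node (.node (.node (.leaf [false, false, true, true, false, true, true, true]) (.leaf [true, true, true, false, true, true, true, true, false, false, false])) (.node (.leaf [false, true, true, true, true, true, true, false, false, false]) (.leaf [false, false, true, true,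 true, false, false, false, false, true, true, true, false]))) (.node (.node (.leaf [true, false, false, false, true, true, true, false, true]) (.leaf [false, true, true, true, true, true, true, false, false, false, true, false])) (.node (.leaf [false, false, true, true, true, false, true, false, false, false, true]) (.leaf [false, false, false, true, false, false, false, false, true, true, true, false, false, true])))))

def certSWord113 : Janko.Tree (List Bool) :=
  (.node (.node (.node (.node (.node (.leaf [true, true, true, true, true, true]) (.leaf [true, false, false, false, true, true, true, true, true, false, false, false, true, true])) (.leaf [true, false, false, false, false, true, true, true, false, false, false])) (.node (.leaf [false, false, false, true, true, false, true, true, false, false]) (.leaf [true, true, true, false, false, false, true, true, true, false, true, true]))) (.node (.node (.leaf [false, false, false, true, false, false, false, false, false]) (.leaf [false, false, true, true, true, false, false, false, false, true, true, true])) (.node (.leaf [true,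 true, true, true, false, false, false, true, false, false]) (.leaf [true, false, false, false, false, true, false, false, false, true, true, true, false])))) (.node (.node (.node (.leaf [false, false, true, true, true, false, false, false]) (.leaf [true, true, true, false, true, true, true, true, true, false, false])) (.node (.leaf [false, true, true, true, true, true, true, false, false, true]) (.leaf [false, false, true, true, true, false, false, false, false, true, true, true, true]))) (.node (.node (.leaf [true, false, false, false, true, true, true, true, false]) (.leaf [false, true, true, true, true, true, true, false, false, false, true, true])) (.node (.leaf [false, false, true, true, true, false, true, false, false, true, true]) (.leaf [false, false, false, true, false, false, false, false, true, true, true, false, true, true])))))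

def certSWord114 : Janko.Tree (List Bool) :=
  (.node (.node (.node (.node (.node (.leaf [false, false, false, false, false, false, true]) (.leaf [true, false, false, true, false, false, true, true, true, false, false, false, false, true])) (.leaf [true, false, false, false, false, true, true, true, false, false, true])) (.node (.leaf [false, false, false, true, true, false, true, true, true, false]) (.leaf [true, true, true, false, false, true, false, false, false, true, true, true]))) (.node (.node (.leaf [false, false, false, true, false, false, false, false, true]) (.leaf [false, false, true, true, true, false, false, true, false, false, false, true])) (.node (.leaf [true, true, true, true, false, false, false, true, false, true]) (.leaf [true, false, false, false, false, true, false, true, true, false, false, false, false])))) (.node (.node (.node (.leaf [false, false, true, true, true, false, false, true]) (.leaf [true, true, true, true, false, false, false, false, false, true, false])) (.node (.leaf [false, true, true, true, true, true, true, false, true, false]) (.leaf [false,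 false, true, true, true, false, false, true, false, false, false, true, false]))) (.node (.node (.leaf [true, false, false, false, true, true, true, true, true]) (.leaf [true, false, false, false, false, false, false, true, true, true, false, false])) (.node (.leaf [false, false, true, true, true, false, true, true, true, false, false]) (.leaf [false, false, false, true, false, false, false, true, true, true, false, false, false, false])))))

def certSWord115 : Janko.Tree (List Bool) :=
  (.node (.node (.node (.node (.node (.leaf [false, false, false, false, false, true, false]) (.leaf [true, false, false, true, false, true, true, false, false, false, false, false, true, false])) (.leaf [true, false, false, false, false, true, true, true, true, false, true])) (.node (.leaf [false, false, false, true, true, true, false, false, false, false]) (.leaf [true, true, true, false, false, true, false, true, true, true, false, true]))) (.node (.node (.leaf [false, false, false, true, false, false, false, true, false]) (.leaf [false, false, true, true, true, false, false, true, false, false,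 true, true])) (.node (.leaf [true, true, true, true, false, false, false, true, true, false]) (.leaf [true, false, false, false, false, true, false, true, true, false, false, true, false])))) (.node (.node (.node (.leaf [false, false, true, true, true, false, true, false]) (.leaf [true, true, true, true, false, false, false, false, true, true, false])) (.node (.leaf [false, true, true, true, true, true, true, false, true, true]) (.leaf [false, false, true, true, true, false, true, false, false, false, false, true, false]))) (.node (.node (.leaf [true, false, false, true, false, false, false, true, false]) (.leaf [true, false, false, false, false, false, true, false, false, false, true, false])) (.node (.leaf [false, false, true, true, true, false, true, true, true, true, false]) (.leaf [false, false, false, true, false, false, false, true, true, true, false, true, false, false])))))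

def certSWord116 : Janko.Tree (List Bool) :=
  (.node (.node (.node (.node (.node (.leaf [false, false, false, false, false, true, true]) (.leaf [true, false, false, true, false, true, true, false, false, false, true, true, true, true])) (.leaf [true, false, false, false, false, true, true, true, true, true, true])) (.node (.leaf [false, false, false, true, true, true, false, false, false, true]) (.leaf [true, true, true, false, false, true, false, true, true, true, true, false]))) (.node (.node (.leaf [false, false, false, true, false, false, false, true, true]) (.leaf [false, false, true, true, true, false, true, false, false, false, false, true])) (.node (.leaf [true, true, true, true, false, false, false, true, true, true]) (.leaf [true, false, false, false, false, true, false, true, true, true, true, false, false])))) (.node (.node (.node (.leaf [false, false, true, true, true, false, true, true]) (.leaf [true, true, true, true, false, false, false, true, false, false, true])) (.node (.leaf [true, false, false, false, false, false, false, true, false, false]) (.leaf [false, false,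 true, true, true, false, true, false, false, false, true, false, false]))) (.node (.node (.leaf [true, false, false, true, false, false, false, true, true]) (.leaf [true, false, false, false, false, false, true, false, false, false, true, true])) (.node (.leaf [false, false, true, true, true, false, true, true, true, true, true]) (.leaf [false, false, false, true, false, false, false, true, true, true, false, true, true, false])))))

def certSWord117 : Janko.Tree (List Bool) :=
  (.node (.node (.node (.node (.node (.leaf [false, false, false, false, true, false, false]) (.leaf [true, false, false, true, false, true, true, true, false, true, true, false, false, false])) (.leaf [true, false, false, false, true, false, false, false, false, false, true])) (.node (.leaf [false, false, false, true, true, true, false, false, true, false]) (.leaf [true, true, true, false, true, false, false, false, false, true, false, false]))) (.node (.node (.leaf [false, false, false, true, false, false, true, true, false]) (.leaf [false, false, true, true, true, false, true, false, false, false, true, false]))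 (.node (.leaf [true, true, true, true, false, false, true, false, false, false]) (.leaf [true, false, false, false, false, true, false, true, true, true, true, true, false])))) (.node (.node (.node (.leaf [false, false, true, true, true, true, false, false]) (.leaf [true, true, true, true, false, false, false, true, true, false, true])) (.node (.leaf [true, false, false, false, false, false, false, true, false, true]) (.leaf [false, false, true, true, true, false, true, false, false, false, true, false, true]))) (.node (.node (.leaf [true, false, false, true, false, false, true, true, false]) (.leaf [true, false, false, false, false, false, true, false, true, true, true, true])) (.node (.leaf [false, false, true, true, true, true, false, false, false, false, false]) (.leaf [false, false, false, true, false, false, false, true, true, true, true, false, false, false])))))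

def certSWord118 : Janko.Tree (List Bool) :=
  (.node (.node (.node (.node (.node (.leaf [false, false, false, false, true, false, true]) (.leaf [true, false, false, true, false, true, true, true, true, false, false, true, false, true])) (.leaf [true, false, false, false, true, false, false, false, false, true, false])) (.node (.leaf [false, false, false, true, true, true, false, true, false, false]) (.leaf [true, true, true, false, true, false, false, false, false, true, false, true]))) (.node (.node (.leaf [false, false, false, true, false, false, true, true, true]) (.leaf [false, false, true, true, true, false, true, true, true, false, false, false])) (.node (.leaf [true, true, true, true, false, false, true, false, false, true]) (.leaf [true, false, false, false, false, true, true, false, true, true, false, false, false])))) (.node (.node (.node (.leaf [false, false, true, true, true, true, false, true]) (.leaf [true, true, true, true, false, false, false, true, true, true, false])) (.node (.leaf [true, false, false, false, false, false, false, true, true, false]) (.leaf [false,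 false, true, true, true, false, true, true, true, false, false, false, false]))) (.node (.node (.leaf [true, false, false, true, false, false, true, true, true]) (.leaf [true, false, false, false, false, false, true, true, true, true, false, false])) (.node (.leaf [false, false, true, true, true, true, false, false, false, false, true]) (.leaf [false, false, false, true, false, false, false, true, true, true, true, false, false, true])))))

def certSWord119 : Janko.Tree (List Bool) :=
  (.node (.node (.node (.node (.node (.leaf [false, false, false, false, true, true, false]) (.leaf [true, false, false, true, false, true, true, true, true, false, true, true, true, false])) (.leaf [true, false, false, false, true, false, false, false, false, true, true])) (.node (.leaf [false, false, false, true, true, true, false, true, true, false]) (.leaf [true, true, true, false, true, false, false, false, false, true, true, false]))) (.node (.node (.leaf [false, false, false, true, false, true, false, false, false]) (.leaf [false, false, true, true, true, false, true, true, true, true, false, false]))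 (.node (.leaf [true, true, true, true, false, false, true, false, true, true]) (.leaf [true, false, false, false, false, true, true, true, false, false, false, true, false])))) (.node (.node (.node (.leaf [false, false, true, true, true, true, true, false]) (.leaf [true, true, true, true, false, false, false, true, true, true, true])) (.node (.leaf [true, false, false, false, false, false, false, true, true, true]) (.leaf [false, false, true, true, true, false, true, true, true, false, false, false, true]))) (.node (.node (.leaf [true, false, false, true, false, true, true, false, false]) (.leaf [true, false, false, false, false, true, false, false, false, false, false, false])) (.node (.leaf [false, false, true, true, true, true, false, false, false, true, true]) (.leaf [false, false, false, true, false, false, false, true, true, true, true, false, true, true])))))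

def certSWord120 : Janko.Tree (List Bool) :=
  (.node (.node (.node (.node (.node (.leaf [false, false, false, false, true, true, true]) (.leaf [true, false, false, true, true, false, true, false, false, false, false, false, true, true])) (.leaf [true, false, false, false, true, false, false, false, true, false, false])) (.node (.leaf [false, false, false, true, true, true, false, true, true, true]) (.leaf [true, true, true, false, true, false, false, false, true, false, false, false]))) (.node (.node (.leaf [false, false, false, true, false, true, true, false, false]) (.leaf [false, false, true, true, true, false, true, true, true, true, false, true])) (.node (.leaf [true, true, true, true, false, true, false, false, false, true]) (.leaf [true, false, false, false, false, true, true, true, false, false, true, false, false])))) (.node (.node (.node (.leaf [false, false, true, true, true, true, true, true]) (.leaf [true, true, true, true, false, false, true, false, false, false, true])) (.node (.leaf [true, false, false, false, false, false, true, false, false, false]) (.leaf [false,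 false, true, true, true, false, true, true, true, true, false, true, false]))) (.node (.node (.leaf [true, false, false, true, false, true, true, true, false]) (.leaf [true, false, false, false, false, true, false, false, false, false, false, true])) (.node (.leaf [false, false, true, true, true, true, false, false, true, false, false]) (.leaf [false, false, false, true, false, false, false, true, true, true, true, true, false, false])))))

def certSWord121 : Janko.Tree (List Bool) :=
  (.node (.node (.node (.node (.node (.leaf [false, false, false, true, false, false, false]) (.leaf [true, false, false, true, true, false, true, true, false, false, false, true, true, true])) (.leaf [true, false, false, false, true, false, false, false, true, false, true])) (.node (.leaf [false, false, false, true, true, true, true, false, false, false]) (.leaf [true, true, true, false, true, false, false, false, true, false, false, true]))) (.node (.node (.leaf [false, false, false, true, false, true, true, true, false]) (.leaf [false, false, true, true, true, false, true, true, true, true, true, false]))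 (.node (.leaf [true, true, true, true, false, true, false, false, true, true]) (.leaf [true, false, false, false, false, true, true, true, true, false, true, true, true])))) (.node (.node (.node (.leaf [false, true, false, false, false, false, false, false]) (.leaf [true, true, true, true, false, false, true, false, false, true, true])) (.node (.leaf [true, false, false, false, false, false, true, false, true, true]) (.leaf [false, false, true, true, true, false, true, true, true, true, true, false, false]))) (.node (.node (.leaf [true, false, false, true, false, true, true, true, true]) (.leaf [true, false, false, false, false, true, false, false, false, false, true, true])) (.node (.leaf [false, false, true, true, true, true, false, false, true, false, true]) (.leaf [false, false, false, true, false, false, true, true, true, false, false, false, true, false])))))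

def certSWord122 : Janko.Tree (List Bool) :=
  (.node (.node (.node (.node (.node (.leaf [false, false, false, true, false, false, true]) (.leaf [true, false, false, true, true, true, false, false, false, false, true, true, false, true])) (.leaf [true, false, false, false, true, false, false, false, true, true, false])) (.node (.leaf [false, false, false, true, true, true, true, false, false, true]) (.leaf [true, true, true, false, true, false, false, false, true, false, true, true]))) (.node (.node (.leaf [false, false, false, true, false, true, true, true, true]) (.leaf [false, false, true, true, true, true, false, false, false, false, true, false])) (.node (.leaf [true, true, true, true, false, true, true, true, false, true]) (.leaf [true, false, false, false, true, false, false, false, false, false, true, true, false])))) (.node (.node (.node (.leaf [false, true, false, false, false, false, false, true]) (.leaf [true, true, true, true, false, false, true, false, true, true, false])) (.node (.leaf [true, false, false, false, false, false, true, true, false, true]) (.leaf [false,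 false, true, true, true, true, false, false, false, false, true, false, true]))) (.node (.node (.leaf [true, false, false, true, true, false, true, false, false]) (.leaf [true, false, false, false, false, true, false, false, false, true, true, false])) (.node (.leaf [false, false, true, true, true, true, false, true, false, false, true]) (.leaf [false, false, false, true, false, false, true, true, true, false, false, false, true, true])))))

def certSWord123 : Janko.Tree (List Bool) :=
  (.node (.node (.node (.node (.node (.leaf [false, false, false, true, false, true, false]) (.leaf [true, false, true, true, false, false, false, false, false, true, true, false, true, false])) (.leaf [true, false, false, false, true, false, false, false, true, true, true])) (.node (.leaf [false, false, false, true, true, true, true, false, true, false]) (.leaf [true, true, true, false, true, false, false, true, true, true, true, false]))) (.node (.node (.leaf [false, false, false, true, true, false, true, false, false]) (.leaf [false, false, true, true, true, true, false, false, false, false, true,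 true])) (.node (.leaf [true, true, true, true, false, true, true, true, true, false]) (.leaf [true, false, false, false, true, false, false, false, false, false, true, true, true])))) (.node (.node (.node (.leaf [false, true, false, false, false, false, true, false]) (.leaf [true, true, true, true, false, true, false, false, false, true, false])) (.node (.leaf [true, false, false, false, false, false, true, true, true, true]) (.leaf [false, false, true, true, true, true, false, false, false, false, true, true, true]))) (.node (.node (.leaf [true, false, false, true, true, false, true, true, false]) (.leaf [true, false, false, false, false, true, false, false, false, true, true, true])) (.node (.leaf [false, false, true, true, true, true, false, true, true, true, false]) (.leaf [false, false, false, true, false, false, true, true, true, true, false, false, false, false])))))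

def certSWord124 : Janko.Tree (List Bool) :=
  (.node (.node (.node (.node (.node (.leaf [false, false, false, true, false, true, true]) (.leaf [true, false, true, true, false, false, false, false, false, true, true, true, false, false])) (.leaf [true, false, false, false, true, false, false, true, true, true, false])) (.node (.leaf [false, false, false, true, true, true, true, false, true, true]) (.leaf [true, true, true, false, true, false, false, true, true, true, true, true]))) (.node (.node (.leaf [false, false, false, true, true, false, true, true, false]) (.leaf [false, false, true, true, true, true, false, false, false, true, true, false])) (.node (.leaf [true, true, true, true, false, true, true, true, true, true]) (.leaf [true, false, false, false, true, false, false, false, false, true, true, false, true])))) (.node (.node (.node (.leaf [false, true, false, false, false, false, true, true]) (.leaf [true, true, true, true, false, true, false, false, false, true, true])) (.node (.leaf [true, false, false, false, false, true, false, false, false, false]) (.leaf [false, false,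 true, true, true, true, false, false, false, true, true, false, true]))) (.node (.node (.leaf [true, false, false, true, true, false, true, true, true]) (.leaf [true, false, false, false, false, true, false, true, true, false, false, false])) (.node (.leaf [false, false, true, true, true, true, false, true, true, true, true]) (.leaf [false, false, false, true, false, false, true, true, true, true, false, false, false, true])))))

def certSWord125 : Janko.Tree (List Bool) :=
  (.node (.node (.node (.node (.node (.leaf [false, false, false, true, true, false, true]) (.leaf [true, false, true, true, false, false, false, false, true, true, false, true, true, true])) (.leaf [true, false, false, false, true, false, false, true, true, true, true])) (.node (.leaf [false, false, false, true, true, true, true, true, false, true]) (.leaf [true, true, true, false, true, true, false, false, true, false, false, false]))) (.node (.node (.leaf [false, false, false, true, true, false, true, true, true]) (.leaf [false, false, true, true, true, true, false, false, false, true, true, true])) (.node (.leaf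 [true, true, true, true, true, false, false, false, false, true]) (.leaf [true, false, false, false, true, false, false, false, false, true, true, true, true])))) (.node (.node (.node (.leaf [false, true, false, false, false, true, false, false]) (.leaf [true, true, true, true, false, true, false, false, true, true, false])) (.node (.leaf [true, false, false, false, false, true, false, false, false, true]) (.leaf [false, false, true, true, true, true, false, false, false, true, true, true, false]))) (.node (.node (.leaf [true, false, false, true, true, true, false, false, false]) (.leaf [true, false, false, false, false, true, false, true, true, false, false, true])) (.node (.leaf [false, false, true, true, true, true, true, false, false, false, false]) (.leaf [false, false, false, true, false, true, true, true, false, false, false, true, false, false])))))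

def certSWord126 : Janko.Tree (List Bool) :=
  (.node (.node (.node (.node (.node (.leaf [false, false, false, true, true, true, false]) (.leaf [true, true, false, true, false, false, true, true, true, false, false, false, false, false])) (.leaf [true, false, false, false, true, false, true, true, false, false, false])) (.node (.leaf [false, false, false, true, true, true, true, true, true, false]) (.leaf [true, true, true, false, true, true, true, true, false, false, false, true]))) (.node (.node (.leaf [false, false, false, true, true, true, false, false, false]) (.leaf [false, false, true, true, true, true, false, false, true, false, false, false])) (.node (.leaf [true, true, true, true, true, false, false, false, true, false]) (.leaf [true, false, false, false, true, false, false, false, true, false, false, false, true])))) (.node (.node (.node (.leaf [false, true, false, false, false, true, false, true]) (.leaf [true, true, true, true, false, true, true, true, false, true, false])) (.node (.leaf [true, false, false, false, false, true, false, true, true, false]) (.leaf [false,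 false, true, true, true, true, false, false, true, false, true, true, false]))) (.node (.node (.leaf [true, false, false, true, true, true, true, true, false]) (.leaf [true, false, false, false, false, true, false, true, true, true, true, false])) (.node (.leaf [false, false, true, true, true, true, true, false, false, false, true]) (.leaf [false, false, false, true, false, true, true, true, false, true, true, false, false, false])))))

def certSWord127 : Janko.Tree (List Bool) :=
  (.node (.node (.node (.node (.node (.leaf [false, false, false, true, true, true, true]) (.leaf [true, true, false, true, true, true, false, true, true, true, false, false, false, false])) (.leaf [true, false, false, false, true, false, true, true, true, false, true])) (.node (.leaf [false, false, true, false, false, false, false, false, false, true]) (.leaf [true, true, true, false, true, true, true, true, true, false, false, false]))) (.node (.node (.leaf [false, false, false, true, true, true, false, false, true]) (.leaf [false, false, true, true, true, true, false, false, true, false, true, true]))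 (.node (.leaf [true, true, true, true, true, false, false, false, true, true]) (.leaf [true, false, false, false, true, false, false, false, true, true, true, true, true])))) (.node (.node (.node (.leaf [false, true, false, false, false, true, true, false]) (.leaf [true, true, true, true, false, true, true, true, true, false, false])) (.node (.leaf [true, false, false, false, false, true, false, true, true, true]) (.leaf [false, false, true, true, true, true, false, false, true, false, true, true, true]))) (.node (.node (.leaf [true, false, false, true, true, true, true, true, true]) (.leaf [true, false, false, false, false, true, false, true, true, true, true, true])) (.node (.leaf [false, false, true, true, true, true, true, false, false, true, false]) (.leaf [false, false, false, true, false, true, true, true, true, false, false, false, false, false])))))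

def certSWord : Janko.Tree (List Bool) :=
  (.node (.node (.node (.node (.node (.node (.node certSWord0 certSWord64) (.node certSWord32 certSWord96)) (.node (.node certSWord16 certSWord80) (.node certSWord48 certSWord112))) (.node (.node (.node certSWord8 certSWord72) (.node certSWord40 certSWord104)) (.node (.node certSWord24 certSWord88) (.node certSWord56 certSWord120)))) (.node (.node (.node (.node certSWord4 certSWord68) (.node certSWord36 certSWord100)) (.node (.node certSWord20 certSWord84) (.node certSWord52 certSWord116))) (.node (.node (.node certSWord12 certSWord76) (.node certSWord44 certSWord108)) (.node (.node certSWord28 certSWord92) (.node certSWord60 certSWord124))))) (.node (.node (.node (.node (.node certSWord2 certSWord66) (.node certSWord34 certSWord98)) (.node (.node certSWord18 certSWord82) (.node certSWord50 certSWord114))) (.node (.node (.node certSWord10 certSWord74) (.node certSWord42 certSWord106)) (.node (.node certSWord26 certSWord90) (.node certSWord58 certSWord122)))) (.node (.node (.node (.node certSWord6 certSWord70) (.node certSWord38 certSWord102))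 (.node (.node certSWord22 certSWord86) (.node certSWord54 certSWord118))) (.node (.node (.node certSWord14 certSWord78) (.node certSWord46 certSWord110)) (.node (.node certSWord30 certSWord94) (.node certSWord62 certSWord126)))))) (.node (.node (.node (.node (.node (.node certSWord1 certSWord65) (.node certSWord33 certSWord97)) (.node (.node certSWord17 certSWord81) (.node certSWord49 certSWord113))) (.node (.node (.node certSWord9 certSWord73) (.node certSWord41 certSWord105)) (.node (.node certSWord25 certSWord89) (.node certSWord57 certSWord121)))) (.node (.node (.node (.node certSWord5 certSWord69) (.node certSWord37 certSWord101)) (.node (.node certSWord21 certSWord85) (.node certSWord53 certSWord117))) (.node (.node (.node certSWord13 certSWord77) (.node certSWord45 certSWord109)) (.node (.node certSWord29 certSWord93) (.node certSWord61 certSWord125))))) (.node (.node (.node (.node (.node certSWord3 certSWord67) (.node certSWord35 certSWord99)) (.node (.node certSWord19 certSWord83) (.node certSWord51 certSWord115))) (.node (.node (.node certSWord11 certSWord75) (.node certSWord43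 certSWord107)) (.node (.node certSWord27 certSWord91) (.node certSWord59 certSWord123)))) (.node (.node (.node (.node certSWord7 certSWord71) (.node certSWord39 certSWord103)) (.node (.node certSWord23 certSWord87) (.node certSWord55 certSWord119))) (.node (.node (.node certSWord15 certSWord79) (.node certSWord47 certSWord111)) (.node (.node certSWord31 certSWord95) (.node certSWord63 certSWord127)))))))

def certSPerm0 : Janko.Tree (ℕ) :=
  (.node (.node (.node (.node (.node (.leaf 46878191083194918565024328048753428289948635830066757772718821293251602907538649025209882674145751854174256164427306664543801261812646016) (.leaf 15349106081839914151484799373491268238158615037457569465224823692087693810973311399087921072623192281143458688432009987122817655068496940)) (.leaf 18898759022402270921444947388131675174445201419971955124296786869049556008392838563276170232428636902174371583925307501339633027652092197)) (.node (.leaf 30743152004616993604027336894622437940485760486722530722565874608847011101321107590546841710746768029996906755884547220637639248087437608) (.leaf 6123355129304191014857137505974503115404504799412097808582461671080490122878473222077444335782788836239103805264625769922821770212235800)))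 (.node (.node (.leaf 27166273990599455303623436124395012133063830927954372741927854925561773095300822672132928750990891142833690320274559127442717631696248504) (.leaf 25662783351717443955908066585124284377772126675459088023150153426837387122229841591412028334875004322563148556531885257415572913031075246)) (.node (.leaf 16112321187525134240689965179760776360686041624570567726070579529337187407731002905720940712183347473492107692182571850567535487892052413) (.leaf 32010006590189561357957433537486621586667466418361482982600197651070675710404085869812138858369706136236789809668831033331067466012647177)))) (.node (.node (.node (.node (.leaf 40142421747685959316285723217370412080839694377932686551448976147454816744021338540183369985174529190826177850716331422236740523171040134) (.leaf 16235382424505879658566129136206402234684589132257039681410304501953059457871093017343914462375898953740032322094285631534263359607591309)) (.leaf 24270898976005085548351261569633313079877682883731001702556778882386672361067968214432673480788156465719632089102086750778810850066423586)) (.node (.leaf 21993807638634444460797611970385075535986118834790471652855388166951458580316442269908310929250891560161901897774194897111245175472656272)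 (.leaf 6031575291997847975205069134894198788520456893947036475366758922075163498312825515132985005539966632565831363560743197256796729439359617))) (.node (.node (.leaf 6672787789399474602577084191714776022179078817548201999963827265123545325100689542346910198538591950885444709631178299706872423711934384) (.leaf 18161428512626650811136691204037112000147999487374016351340520932134386642277026907102187824912874724446383809650434880461402421546525)) (.node (.leaf 13142687705182864217308193985114975158440339910938995530251874744548965658793995873968767183429982489375887212574081951698613656554557848) (.leaf 35821671133204519980067630741210079149477234195095878378861051214011349569168540854131117665534269775724009247936802343239242761888469159)))))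

def certSPerm1 : Janko.Tree (ℕ) :=
  (.node (.node (.node (.node (.node (.leaf 12659171220766902389722792670658730944092945558795991899337739442579305751296745923573712578268248887654337979686612391505794397700538926) (.leaf 29364849975316207908015449486087936668701304129538708370412798435916503804515674107091309057297963094888913520946349924116017334989788054)) (.leaf 2453127898854310895695877715433874397371943020151602145240700619570977562784485942421365067302833905635555248784465787142968567229453366)) (.node (.leaf 31265833062092783472734783754226470866296686793119063561395495638091450365810271728215522912259078459385510985328849418779462268867102728) (.leaf 1666443930256983769265655943735646299657948388106669473598504001674788198436324015954905903826212783202491732463913625355893991610437293))) (.node (.node (.leaf 10495930056263644733416645047920092054940637212166477342813285248187367564023304988429854041368828048347861433354545721137143245852723730) (.leaf 24145664928988126439690555054028746755418082132933291720993563709268741915946521852960018485004123158785344845946761027614089767811587134))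 (.node (.leaf 20476635685681175309313758295623444789635198969847267937806025720923710722174965357553181358394532966007868809154805500378776799267194538) (.leaf 14612302179034265438838454344741387905956110877280695221824025796657423349737294434856125313456405858414320824021097591197627056470579888)))) (.node (.node (.node (.node (.leaf 17757119809049598698005734682045257607160301608803489906815815583584408060459611253054281860789063976276872296984914840902202505344485888) (.leaf 29126478354769917505330824487033063548757689483384291217595841667183468331993911669778286147804094550741947097613370622330925720141533320)) (.leaf 12545376649895167087555373918430687242722105542598135727402437963494915877748909161133638186200828665939180302300773311587481752299359288)) (.node (.leaf 23299850880307980430879194161253093255973681057247702518395663788229492767858822217958557939661707753769788114137723099326468210448324228) (.leaf 45253272449426180494625554746718625767367709361376554013684041194687394925243346968317352396103081555148366870511688313682327556585816197))) (.node (.node (.leaf 31307179129149489772266361613559751631325654117904374499902560601777575334282079771225477738194167060587181166974989152285847545232989601)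 (.leaf 22880825289888522732144866433109299899515968645261790855891745945798316085191286365553852338958928504189518007622394087628910058749018518)) (.node (.leaf 5191206790872378912452031743598275159132451719954574792230251985312849758624814578808588186597311741265148145234403498047593689289444263) (.leaf 6014969457309054320460603920212174370612801778173951692317309082261126265823348643463390520759914386675998755838768220512397295398393628)))))

def certSPerm2 : Janko.Tree (ℕ) :=
  (.node (.node (.node (.node (.node (.leaf 25537134665582796386282034494544749437068337941718721972284049577142353381689098936608675406800463142421833366430520528927482287149931055) (.leaf 46700908948957894543887664472012629432913401472495541349525885576852956228183418847725788345846900490162308238145449855544935189561776694)) (.leaf 44355676722488512116046818409088759436101352414519878332800681923177589792020169200177394159278932138145093485083326784553148285702035217)) (.node (.leaf 44582677998333064020574206384693895461754656602839173654587578537871445666049108698199637539588440688712833101811300083999463371975934861)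 (.leaf 38648541435759873959612506254604282263294972027475594253803031104851579766772950045627945742803655998583975748760456545250736391389481869))) (.node (.node (.leaf 24823031170684423201909315246153726224860285384720429340990002704510030752933492430970227378508077023919188681922108712997436539607042211) (.leaf 190104439648685827615796158554829557870151887904598296865858306046943726629009980456572319148764882024626163562565467703624150231960065)) (.node (.leaf 9548024381290538938491089081145926205582154256012412984068536734920889510129278234007241990970771061737979727305080812880291224476483738) (.leaf 10291851892640348248866704548738103271103127732452920767428522653864052154521651313250925802309487202983806274029644507152976166135775240)))) (.node (.node (.node (.node (.leaf 1513321175486160460354270213579963561382405489645301229427856406466793436260505982841833437790910807160284323152591016942096628838749697) (.leaf 27808590871981747112965801544717018011270259206782785290291237037853420000789758192030134489044439599896389017003234056777162166420723995)) (.leaf 35657379485941077335716827383675602487230933241336554467551841149366713203060052533867529527250632612993059171732266027090408915916362930))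 (.node (.leaf 24271293883313893073696961326670354978592653385998556540890274137345530641649927414479238193793830178705810079505870030403332557968295326) (.leaf 7343589107811571600870240236228763636240232930791796804495652981862401166809712613112343263070210688430122044223116696298299377486027684))) (.node (.node (.leaf 42976613608527835799405999048202372345442609865230593177536720735353247535854569142599206680668344269253225362079879572042158020409770893) (.leaf 12421472612119379477139120338787298995874153084879572960012382609822678661825317547747989660179529353495109398739916376836894542814318620)) (.node (.leaf 19950580628791740351025136396711630636634667658873579257542560180028097285370213443485520364065670541123312700225773826856651872547292050) (.leaf 12552007803583431168707626274714347592918045616991429853667652332036290082893012766962261156599994944672874840243803626309496557758153604)))))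

def certSPerm3 : Janko.Tree (ℕ) :=
  (.node (.node (.node (.node (.node (.leaf 19228453259796079744207043966126410132245596214900954241928116031669199115108606929185978061992748179870655064336001359182723347153704888) (.leaf 36354493785492262043651392566342175995008638155295438717731945509322793357538951286080655309853701790408228066865419102213309627782864128)) (.leaf 41527957745249753573609524377298019337606354280515746684364513049463754254157227913981940216641710980234682766554341795358254980062466859)) (.node (.leaf 8081247709354789421806667619741511116142227867035458090614610688417081428500113547604473696135841135320614671813472175403363087016825616) (.leaf 43714506895177425997324100151265295587509393811140222086510792774587122966589804805370838744129908248476715544941141934477820493058938893))) (.node (.node (.leaf 32902904995041235453071953455098290719595822088075552111307432587239467889552206437011339925825171853290032638473509466345692307436770096) (.leaf 15321694421115761944244224878597831070099053620175683654414889989814523409418456455307476764411774701570894153751690112643050258760566457))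 (.node (.leaf 32781744890278886085481074183427496372225758241117842290424085970127086515720048075226643465773504738069463523166183665414295844142601237) (.leaf 138059694389359790252426501981305416841079821973650089290620391048363600763441739527114890945167757853692793344782677438071370275965356)))) (.node (.node (.node (.node (.leaf 32316863065727700496841411698907464253328236853135825720675093655378865119002703383690433085370889273929397127633060291552209450264167941) (.leaf 3034381079918796003779902834038309103039526733679172529170819802023529948681286071541817260143420569074744879896363897000345800606221868)) (.leaf 23327469787911576274466691595025364873263746161197610309166313225839660348854631352039557942367354790077674817950460655877743896221402263)) (.node (.leaf 38711941522424831216211895241108486662050369087512505630181274000189315162675014864205436245379107347645212705552930969424884779934818335) (.leaf 46574822416831689397312938242590108719101592103222580018419843261844502842993311397065674643559322054836300834007042976548545245831728154))) (.node (.node (.leaf 1062723555024943700631296573506410864942223979723218534200272883132668050831152718823677621464854210811227137939818103069602338008783511)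 (.leaf 37167628693724765755197261344861050291714448867661952005192601686944773748277639176595699976516608479455479761585114491417750426754845587)) (.node (.leaf 20505424034320847826003462678961953087559409422330443895688389463232296581023577842198178014536242578250390625422326969816918410399978161) (.leaf 9564975157662720723050684445032078066766368582317918659070437233458208909095200153735540365434637841838401904344903230283553020376695205)))))

def certSPerm4 : Janko.Tree (ℕ) :=
  (.node (.node (.node (.node (.node (.leaf 1602129742135048492653238622762834120283090845077901990609174707366708741603950284777115019049377914831915880025617681722004924399113907) (.leaf 38655101461156272838358443907123194946556574894360243591373934017673370404475418653547784979529243927415970936332909675990194638580944688)) (.leaf 18291869679327862298016559220185210961372282925513875477841401769964866509109405985055236257516115275082476201857049192875225883981388706)) (.node (.leaf 45855700014190814494407266856748736704566197510256142235353890551898884376993061826393147500009436172533743935283521106426482026223436207)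 (.leaf 19166467916487558356724283045138267575607174461137410705786090959476079247916514908392311829404779818852264003279320739308899075069596310))) (.node (.node (.leaf 3169195190253706885023929697650577958022285556700717490580478878521288264380757652327408129267153415249040018781492635691672747616717955) (.leaf 19744262461412351467376320970093842120964744993332973113223434160883001070660904255886550483028498055359484204658621997796931086248630310)) (.node (.leaf 4571369971943924319454311275498557330701502675594321319039646104924189020338579921927168557036144494586225542736433262189794156375574059) (.leaf 42885008825227758957613261941449328833559393458351494691237167969212880045212412611529242734966921340861040955996422475277549397617005965)))) (.node (.node (.node (.node (.leaf 5357615524783269260876876387347849980146036054095035447475610939105772359658000014572823295116914786575950039005553069900955550369766656) (.leaf 28353634733114039282987930074249166139639333383402040746157030586742371978735658009338210695529929221382986344234025317949477833977008552)) (.leaf 26213584198787739936076136431487260709154123973605161860193710830687160781008829814845870195680072533797436910934732991770898981494676882))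 (.node (.leaf 4590311695745479214280907756027485727202558179433202439407963266181799335147571130915234900521651867761664795450529807141665413400285368) (.leaf 17690395877276617252666373387888626278048402721583198909838830534545247507284930556277470257940382265416967654550276756843555603559603372))) (.node (.node (.leaf 2341526954085487879106076046371310716045858748884605821834605962155454242384965937760183559302271820177736503473897300581251618108150020) (.leaf 21233067594088224743668116707261122477774530560532258268106465229160289324872166730058046895063497926272319735461520911780274846738996867)) (.node (.leaf 3953256512976432701961078580618592176277404514251984874081556836989036610299569434118131721774720417081511034657504572276581367047768624) (.leaf 46534893170633041794085170372180377464021366112939373983300077560085631865706623724446307894272132831220949749668925221439088988365936044)))))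

def certSPerm5 : Janko.Tree (ℕ) :=
  (.node (.node (.node (.node (.node (.leaf 11697576351707509287436156209082248486085914658658340172402999716467806091348027640265921478528068308086960755290330630416873916815531456) (.leaf 9519581959711583433010697698788507364853871080259990804704658887975067326558934859474181150071482962151978353883968207409580478806082107)) (.leaf 39392590784441094621355413268767036434016158959394796493520523058403334766824375696648180710203209270413935363410101548330583178728427011)) (.node (.leaf 8835989184054568416815970106483497975851641602469936074501148810386215253207798272429214333632876127502341855125829453297038095844952993) (.leaf 15515256566378527487726533049541575172221997247721824064343706181974411598498245474955946264437590115588354554072685045532517190097911966))) (.node (.node (.leaf 8745374639948841369254388358778448325991801144173822160846252181593883353699699143042378535584039860317253898827644185810632727188560441) (.leaf 35072554796657473092520500364695552506124990550564889358150344784188444814425516421281894992179850980992506149975908271508827984330526901))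 (.node (.leaf 27654967999098950683890329848312509687857889538974631429400475442192306169242295056096244561590621995913608030912453355169565500800163884) (.leaf 33454160248945833350953753532288409033627112451350457120063623341132627885206653818647502090988394633365789347112391597137579555349058077)))) (.node (.node (.node (.node (.leaf 2221334758626388906193134106045051670184962164617893360727789819737197427209609352540537095261566593570354655764723153203764951683093915) (.leaf 29887753955367574220180044756428002515373498211830288688575262867938064272604234026107065130745130203214249560822799525967178913467504306)) (.leaf 19104814365924757293515793280150470666278457317166802190828137169335981252059923409848050399675205257920129568919972933060445684026215819)) (.node (.leaf 28585348805422772043761541913422842159625538547903707742212686183906794202203514134960622390073437191482579651245219580143835042429229599) (.leaf 38659009611540539371417710617918165160682701344991650945297406094192391075708254340997603865489687039901723572326771819200557746942677133))) (.node (.node (.leaf 26186026437463545168498388245135432411795040112189773023059234210763975748967721811139183887818691937029665155652416685364488894134309662)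 (.leaf 36342489720125729017347232303763409515126560167471384448558167979642996717139917938104936362835833905249477569498942005442011789030773046)) (.node (.leaf 37905562274689776204064596332651279188483372951023921671098068359853304323839347320273533912668167956237920142524110060204541336984524845) (.leaf 21943668806418871582015854146222230410849808122370940639212602281927802357898387893910398558993976909419679425946318228069591072618224049)))))

def certSPerm6 : Janko.Tree (ℕ) :=
  (.node (.node (.node (.node (.node (.leaf 5905750834994827752673548662966731633232515562176122965618511424719745181662162946714440153714346987003090489320042284307916665677127198) (.leaf 10962039109585249260686555408649337700946849867981202227949870590457501976743873460087392147177894366461198594316269380161556259426716845)) (.leaf 5164219771371010780881064656936045311908363418557547055245314804250865830417872415512052506796021090872083651167380863946868948143414806)) (.node (.leaf 2976756304378496666129852156404728721508197643589133404517485820665500208862195041130892814915903487822867662004857752851015402871774238)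 (.leaf 40096103284455400896569595217792426292791341263656744485948916272680478818777314268340658013212783659061798437983602439585752645693054353))) (.node (.node (.leaf 29800886796070630009888523526611673457060920780818333682673379469046108655930080299526344337293943044446933361763386287052685527852271882) (.leaf 1726382738491043606894881192581279916159033849096368762163045720980961705358507804640321029774564794465770873813351278519848771888257290)) (.node (.leaf 352731514724649659800341195811767395292997493465574947618299477735729691717214792873820470014645153702235140882353305445512318080524312) (.leaf 40965606402230167437282756509903408958183738632621336547106897118306565461240090812772831821255290783301208445883110156862966654766089391)))) (.node (.node (.node (.node (.leaf 26963799775839317332101885508656880617726053938675253416820083018326166710666570451074737497287350382367085145866498214041626283137254450) (.leaf 2182483864561567599375586379282360866757533557765521750578135860566340806311604385478357279016591337848370470684906244342388696006564664)) (.leaf 45100565282562037479807927176882975762376226803144282736378380942059206802472122430533317598069949084697955428425324066980520416447697693))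 (.node (.leaf 15577185221995789415927278059252336701982878674695462272245879674800376231234453397686751738317408267735339812535368528201931027945117189) (.leaf 27188677484456485544349882641951817976342130084298744272206721291400322800349608597187542945432384606327093568754559975563732840302118657))) (.node (.node (.leaf 30606783108510463585056444087152995788437279777925024726659649041004507308599563985573658242722561928230186940675372858177937957250780712) (.leaf 8279737936860245349892826895359990925835481778857683536702265927122303260211518722749642287185354538930327517901289883072927428407429678)) (.node (.leaf 25633414987043035060683703359087656983266472503801177447526989191868813766680121585097033148172196744087345195747067921462542025769211028) (.leaf 897296311669144205923825483327430116925440156525930343773500858698037843109464891404002667129731615241809412418291018803161041659076379)))))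

def certSPerm7 : Janko.Tree (ℕ) :=
  (.node (.node (.node (.node (.node (.leaf 44463614747623177022948446756914734149357492232910855094163028548903597306191341482322476700148589566072186623884002303035472582790945165) (.leaf 1022300061799187588170670421132449412107046269464981923510609193739665486404113326390919172570362283579135032128618849567163198856106901)) (.leaf 3696710156179714032911033920120364617355878991594078759317513564463452466471480493897162265229178450652896591506419330586576285447016844)) (.node (.leaf 19215860947970397155207481886662781378977690345836278164548012801675066976448353740438750896215310723708679135137108718398952954418578836) (.leaf 34504710302048701570097419532831679658027852372676249364982553781668803955498139072166452673408073390275414111881152528984206718494246170))) (.node (.node (.leaf 44519240012138035095970488007738021308920986133487838070968488330007530431803863393056091577952799852872028122506713205057215544800107537) (.leaf 17541034885160644285995012822855121413824913584939357917885933173912968680302884709076926539732755210698034245493147138624349811797382564))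 (.node (.leaf 21805702905822885352477219310013811154111377927327721207428758700552247108439064061208750015932008793589065268147844750605641241513117352) (.leaf 30630775602808326268644344126376569538180665666245505046871574295342436759513070277167638795987997873368689595194172803573071551358981055)))) (.node (.node (.node (.node (.leaf 11114293661541826349702864463079021578273131419469463506384134767493769975436181819867744253507272246405942474181179826829355561364082089) (.leaf 34953084130754707322934169490253868829058990038472812503434421719983792798208160676454624526045319957951544112079046049137284678194437903)) (.leaf 46694827076131135098174542163685496405884068680659689919683438350792647369994905184499799458430255512272029402788472917750362698957259395)) (.node (.leaf 8841582852583996578854542933232211213502331032488086267808944516679427771583377705592859326296142204007364651401496985850295396812232713) (.leaf 14020038403880008355758469731338607556191018211667441951149537457885483425030640306496979413148812098226500834074789762628179467652322078))) (.node (.node (.leaf 14050487740555958517384109549708329635882878067279199356658821866279794455180615120830330978862461511810040472603823726821836640871695256)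 (.leaf 14641575303260222359187172882363317175739168462142662813914450170670870014811817096242242896721217089750031531465085195247433118243888518)) (.node (.leaf 18438223470381774216633007729787647921090622713391461686059120419273340700618061748620516912603870911077836095150042150484333757718417040) (.leaf 21200117533156035430445494153902868411023645119219246561015643693701982774823761928178678087522284498051072387994334486074011643061601580)))))

def certSPerm8 : Janko.Tree (ℕ) :=
  (.node (.node (.node (.node (.node (.leaf 43230018965560828002011323920929409077155339667448209050656892647950972996849609155883335593985134959817616790692983425432241172434127907) (.leaf 41710289614635691571949208519955406734307036541760568141846181476890342692492018890657580249073327078570935413424471931727820148332643252)) (.leaf 13114029017227388829392621470928553920835664980532219406795531813421530803125580346874253352383994488125254088386254403664070817243157041)) (.node (.leaf 7440701738428839684049594571081002565164598374200261095541994909465719268714526048375241901766779476470912826731267297904760000753861821)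 (.leaf 21835964476562859577697128152698370362801410418123112375069025991833109164779409598444593274981614588443419456365457653548465699688846485))) (.node (.node (.leaf 38756837714649065649524986108220801634207183810690604929487186554384638951603507140823796704950314870377420807066857167536369588960085641) (.leaf 37933856568085807211820084574847784630532316707880262031716239595216908507606660839029132851126609583418171601276750194466437781522684307)) (.node (.leaf 36638505518098115770617644375504426554824176051037077184064659381414044374847224595213615857257130923875132563241455192524465535242309156) (.leaf 35127788117323548974334114130826944816418481595840253312170229778511509745862574614111094108614614676860329288088745291684655852581229748)))) (.node (.node (.node (.node (.leaf 19948596312598659108126544113726160053720183839036667243392592704243054903142544072168858628642998800844929415385707036075405168586758690) (.leaf 11215489274790178739797145410434172629510668297068090156832232281519335707299906682419148099504827932518111875092276619331582987086202933)) (.leaf 16831537260086951977864593129470066834698745472674656050195203667723753269827409687265485865966323990455597738589224875146803131533985035))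 (.node (.leaf 35015849149416766129992857755845952727483954850885993000801126026624426995836119375254596615001935679364872241133032746303159840495174699) (.leaf 25065785361263172898161988070620257785575186883534583752452314628372508690618392232771442088025685703048366007867802547003537803702362166))) (.node (.node (.leaf 35030237851118313116285007863549471178017046920506546163005184104884490548110636357426583272238173342105433782703084928807080038829867320) (.leaf 5201898175889633365196850968802013303797140450213220786888285834132752539218624676343990468505582424325916523517057062122710809635818880)) (.node (.leaf 15408256254567545470709749017736707643914507576319392758082267591776915885850728931135629925874971313346860907139074886163879000915380489) (.leaf 45984930138273647551280772136549727221802767902519413562727897615145447680056705246617046964942023470646902859786804627620881950935684768)))))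

def certSPerm9 : Janko.Tree (ℕ) :=
  (.node (.node (.node (.node (.node (.leaf 15447371992619344258324975327754632320755391921191672792871928757292214993889689746043228210372644251498537417856921261112666393273335953) (.leaf 21402945586336338480518990323631599273133227322641912472913209970731141952926070633272557070558711844778645039720831263713988733097809418)) (.leaf 26314826288534485190461881468505600596008134964973850865324526057146752665548594960593533758388314200053389773282678216027366564043866685)) (.node (.leaf 31311491012694359984014217690530996430247293327624627444705108382423714854176022794604447008030203122590992849578740553176576209887500688) (.leaf 28614085447061629384760340707049547420580947196193749999835035423304389389800501573388225360835827608619168805607843725355396818377263288))) (.node (.node (.leaf 20655191858570888635658597554682872699997283925326645232406881103472961490038459381769172764084972095815177440352074201427361410578452271) (.leaf 15474604374333945572211878444077473661054002662619624779291238583285330737642481197825072048264698954036491199419401640297549524026495899))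 (.node (.leaf 27178820294630567545089849812212796988228242199095595628119135515663822969896405609646533943208962393333965535364514315376947755047051170) (.leaf 30164046959902297489563971752839364309742895618477474170741511131550774427073362648190657221286370122158137147510346962647189513545438998)))) (.node (.node (.node (.node (.leaf 19051544835527997100404082079804134585379997901296459252813278406978809177151766446320374262065278706803186624229208888592577330797397260) (.leaf 19857480857436720522364152727140917245769213445417436240945855782561657506224967745948859866522960507591420417774392909620326261364136734)) (.leaf 21936919826997385352465887903321481956132073652733223320193660148612543367784667811739280658087266355418187444697361371828612071281613968)) (.node (.leaf 24127925029055892025000088097337559294799861561539746621609423673985055881793210572708832152681267973334915317516328048871215333936203576) (.leaf 42986853066723915254543748043809417946653283106851957110634479821935467510797966910428540705555337329159540271174668681319345355804694561))) (.node (.node (.leaf 1689041104648110828581082595059623528647846246948706958619350894835184180690972873777888583010592806316982830150749551180349495226728864)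 (.leaf 43894529412854033174014371662497419593341956760129397183951621236782953576277027560236162753694714534408665759018783303699740992339562132)) (.node (.leaf 18490957472125348265882251162946949365067973144918285701876145071560301657703123183820966434656379822058784853570749942811462985952367253) (.leaf 4373464008613136496060993803848980362042044755077816824264367164370453946940116208355565059094137849266835958843846196219988257912309922)))))

def certSPerm10 : Janko.Tree (ℕ) :=
  (.node (.node (.node (.node (.node (.leaf 29921722941374228734282365681683869666710612409855940991982288679124614344615798386673726832708961545037509979061143098744899290943854607) (.leaf 18377615670217593038924047965665261841336715061676933796788369474826997632755422992701333177110043032157117878355866563496002799949716744)) (.leaf 17650644407433423338534476408847006283015791155625425492354476114386575176884520391894912108814915542270688530619507605618019940740767627)) (.node (.leaf 3793469080602978657799513418196816675354625822976259507876793841486499320413825889684680820748838980423963198841898531436527698645109785)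 (.leaf 10484750294998279259392291374236624420533964470495610286530598021443401041701463424618914658145512798762216715274646150481261409277006110))) (.node (.node (.leaf 22022156196195721144067443835067696420220401861099178035746913580004825852485891110020027614752192291264064252337362117613195594478342306) (.leaf 11682056110111716861004701503569258827444925614345669586586491509772302036446189620824497106505735888010622784384910543562560794371184820)) (.node (.leaf 38847986043218321946245872991608680149815239224461090010654331341735550532102267386057120357007056315429235461124981309960188930847589416) (.leaf 960783101055080929216854326477589204573293970216597874379458704653630703407556157506327962561373431224480333997712501785925832229246610)))) (.node (.node (.node (.node (.leaf 22811844099520355867060116444792243904986150237596857552180396879251701511571129473013835843510779418333554044350626236627875690931770412) (.leaf 34445703772482782569673288582246049780689227685199526388556499247220733431326137537288760612442303910675562983901420765136571030276120255)) (.leaf 45367364747464514223415553255035851457256497512631750527948598559979991398507376051990598855383567013816235610413817849688019865339976064))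 (.node (.leaf 25627911498470735166742508540322091657258865950946594628957903299702235167240247635558981824468513971474455652335809697087686092796236834) (.leaf 335267523791948604299044403817615819248998200300150528491503357049321682069914915384474580956401313742374768633479652936162376653069887))) (.node (.node (.leaf 18909933552855477498067710005286237143791051243569075745576031240402949522398725077644385982685608551276447231183207234897279081369261323) (.leaf 30000916213320140682741307242725153725567006030189645592849331461067865339080035429992110737775063664760437022765406330556402085980375579)) (.node (.leaf 14669911180860754033557244585527648973108860028792882058640287837716278908723256884335862548497405731408629940764269804848285926419552447) (.leaf 38597078571517440622069522659317694958425815862309029472789067686050233850307381607660499260063193002258610187786676559916258984408647588)))))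

def certSPerm11 : Janko.Tree (ℕ) :=
  (.node (.node (.node (.node (.node (.leaf 35196274348629662247512400663758703328979788338295974930340410316299131780046267608789281942509107050534618643877226559412607454506979110) (.leaf 19768394278745881411209953334604916143537180436947003250157579494143763896412630315789013693607959124153286286501584309182566139725403945)) (.leaf 27713276895160567386355001298037092281215456178149396935914943482629275078440469325613745391281889346328598938094647446019462944335810603)) (.node (.leaf 46591989401222182947843195508809746946202473438024129247281595616440753693572372425652533844837371608319630565845465185107844653205801744) (.leaf 3716284483825435072351193369531572590084918987471914966961070773881184731991828245550698497567813059740672945157709747995992189995849405))) (.node (.node (.leaf 11074006375384595906608027081011274908400827303713746199136777835374197037321866382627578697692411939828191783535947035656037363517644457) (.leaf 43003050390869383513356651092307582502299536248040012744151824419179519064376407827497017252188425362861399482752087400231395437595363768))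 (.node (.leaf 17019593842409937726655238671172895819408597376213435658929051638656858136219334078398187474375461604309302669797361317561148272452359943) (.leaf 9740503059904774854256267109232230425931342645406340025075049080403245697432912057884234374689643381244533361538441811268959629262116611)))) (.node (.node (.node (.node (.leaf 178090781284513784972809133132705015084203745977684230023458575178170396650322080628603031786047745617795144444759347040843225211719815) (.leaf 20709822458045230805907166486777496587405705817229462364685979345136773385408843345971189827619392341090491343081293482251216427481472026)) (.leaf 31606277528395665036430337193141237079304097540305219268545105724632431762103923358834842125676400804113729638190120551834333275262766400)) (.node (.leaf 825565588567212914217963416374971475760413404071009269647576519502253640827140479069690428579315965877970262605296242794416575324263476) (.leaf 45825594442463660650948576555398049290958202710515606444199787317011330562461802590882442197967215415967318513337572377558618649300962728))) (.node (.node (.leaf 6155430084322933865570162112563585476337253599758737365602691368158244989858378326480493041314853245996687631149548228612239405666343576)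 (.leaf 6553573330705596776520176766802554146653472051123415131106016117576067885454184316756221356149805123266134712671508609170252834443286660)) (.node (.leaf 22874796117161878717440397805468564765681173854011333404846572455860648255505184982504692476398021059606571454957290225718132744032534965) (.leaf 166148092669293400623838846010627972025276543547816571785964981742810724559414156261213146233822597912318563231787702540080517061463812)))))

def certSPerm12 : Janko.Tree (ℕ) :=
  (.node (.node (.node (.node (.node (.leaf 28621052861349885341548651701526571093981623335243710922309003214804502271797845804879323818706309284224348480203070066341958589867974304) (.leaf 24100683180384859690619309586335480303440163049044841655126510834361690050419770756372261472692470589999241332326684258523818637289196331)) (.leaf 36558344929195059519451534182343433858033539250034819713618387479663767624293775019396108863705916020399601593901731483257396178898061469)) (.node (.leaf 38160960136582629075746226125524438350338784686453511229126275674409844826742268171056963716918154749565541928997974664825221796317288725)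 (.leaf 1632505343772057402536802300625210061909377999665376448092850613075957872305254390366260104974099269404079357674573076644449244114738067))) (.node (.node (.leaf 38834913010723593644413214890393173846520962530893656156204071481573983950730576219546991078164297399578950429904768787184132719502951068) (.leaf 1624262927844971256153223860646169643401386342451720179006628309591266768080441164529368459127326588007096520224732959741955007718722457)) (.node (.leaf 5111662071732575067474683798248516716746979785317755334343569442929059821888676237970955086782636346208217437247491779708528199504842424) (.leaf 42925148710803191113786440633224475051304222724128558514919263956151608315949632410285528331756292786443503473006347772347989152496174521)))) (.node (.node (.node (.node (.leaf 14141998095990606770353505245054431487903572385770749009614557709040148406388878246348590906653152561231608964423122473216235830604828856) (.leaf 24810084577527885914898654293987472290112373940093282273515787267637379707341728085445548442242112579741317854098424998361091370245309615)) (.leaf 756615171718738881016999445493642864850383443565118292951044916231431515754757976329266998540062694677001441244421089039514455778462501))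 (.node (.leaf 17450446293812610140361534074791745459473761429539278197229761041710405758353464807110211790859945362380646793655024719669215534126291002) (.leaf 28610542000031880988016990664868702960903448945605980495774554537463587227558775214107282026043202138873476190102517757972318744926834969))) (.node (.node (.leaf 11675708712167390189844309235198433525518517009202813218947163539141985350470743006229356787194221565888173700390085429879901351163217421) (.leaf 33487971900169428940498310625873427059399047920175720117683054541684019113893323548199180532024948183405311319981952349057727714065604412)) (.node (.leaf 32157527503120475873652866922068105747364793190091615152367045289927235281965196707180116506480774243276791731596913296015379282004804486) (.leaf 30529062073993489023650276460984485599291666985758420949549371410158850345742301884056165516937685038169168892140463478333088050128552717)))))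

def certSPerm13 : Janko.Tree (ℕ) :=
  (.node (.node (.node (.node (.node (.leaf 4618667837546722464834175723503739802275802009533327608665989734053788619466959208247923307137241778435437388313741989976269300978697379) (.leaf 33640312063422652525495103707921374365382836412116051030937904961992235278945264875770443917122834529646539050228173868539448395655306518)) (.leaf 33685284769368989446477717599046180545758122219572073194350689337190102721646279924910452614701636722576327822544982562189888388405217463)) (.node (.leaf 39528300049955995253449121597009449188008827106141723136830758326127230710927953500756466469954177291041664146151245224471040133755128194) (.leaf 30795445988515277420126164374877748075155816561161389300859398492259021637275252308964386552370133814916450603375298416608283998888025099))) (.node (.node (.leaf 19200286821426813814638334324256525184733935891157686219783754263475352977427267585408428715909529034919513679872280194920567255647700254) (.leaf 20529824824672656289796280306107868537771657129407732151549392886143575551342139524531970008102659744247033455799842126206605131446853298))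 (.node (.leaf 13890116631888143805248501012329865087481497897796393520104363840492637140321001262778169329013215275387169818229313113595766152079840191) (.leaf 7605610126865366715575030700640363475557632432641936423771840346924619848110586995165546804414820731924457752501177190629759077398414849)))) (.node (.node (.node (.node (.leaf 836509062237304388589228885276714054468240002922836886842208636632978783975152878350101341605121960433010755809147916843313148180860298) (.leaf 35179116777671213830769502197629761694153083583805907870306488336530428654654473144494575313359540548873291805193822817772910674682039066)) (.leaf 42164288248977923581845754906909970325885094283244044487184638078336392292066485494525121453872779859932324285151751985459679781395482653)) (.node (.leaf 40277311542120323584403896617837869489641084852537470676307712795922439062425870707941500774115772216754693043510727267332432373553217924) (.leaf 12358654674383967566156186740760238118699612267234653499511380339360492125271121431654000129329454634249849736192698722470328182564800802))) (.node (.node (.leaf 19699846269999728928284688744277490963867237053361036525449589770077682699156106150580375551019274348584443556258702925168154143979998339)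 (.leaf 14164797076504224618526566233413421265364125334813976867239122764441756861264907625630915073693442458672758053414200881765585480750995970)) (.node (.leaf 809144068553196239333754808180422169003534741025885541893954830664412338082553414239422273413644575877915645543068806247466159246036160) (.leaf 16274863508981543492943499855516949623501955926495288811525101098901108417956478913066232746174691809444689047482906388909113553066008474)))))

def certSPerm14 : Janko.Tree (ℕ) :=
  (.node (.node (.node (.node (.node (.leaf 13846643579866840397942532964753913136944474412509869668649999710287004110003898248835090270723249496800942451213925409446983822407110328) (.leaf 10250468819050516911016957301356545122026692085347273423221115970015688869247889610078377216000231827042157464449010636311069023227676816)) (.leaf 11165211259913435893683942266649905967479354982504350304938664110716383316914240570289545947703453796581809363930806043540539446260863551)) (.node (.leaf 307756370052799656681018804143456885114113639282710040179944691201928679005494996209730763383306307068036410645925184531033030990402949)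 (.leaf 46758227328938666943118888987509476044168181301864574224947496053031861024110271679025472398340493766324880066367909121873990550165065119))) (.node (.node (.leaf 3135249284488851229740177169344193802011432934197246821099144627857524358338390340064767247308917601834820554581334737008929543037358510) (.leaf 30608019939657874929278409844051847389157204368354356031696420831954146533407726693684714336299806805826774497896317498002933083611078689)) (.node (.leaf 29183629658852642147240080720441964423441063514738132416776540440273904972804799505039610715099033520177863531595720919655943252458081461) (.leaf 34503651028881871486184609863746085193273045852528688210602861994242438969675734160376468954173891021844673242597058406814988715273341209)))) (.node (.node (.node (.node (.leaf 20363471725523690876744980997709224079069556022001129660893155976765091303686344505632427376758060775275073055900723356722847799946758058) (.leaf 5871584659232385501264536126102694041780556608345594574820007260602119617801459737897465593914009770480319909217004894871167248359938215)) (.leaf 11817616307837528721569103183629634038779804294980438539565244892430302832843626563279038338140555585512779350865451381767947050476624935))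 (.node (.leaf 28660716595904216772418690444745142857976769394798760398150454177827343673394205245041095326261125991200837768708418963190511215835094708) (.leaf 2958904456923739372226662222714610593242097422182622674476589161966907261790466001719723205730104680937103045256449031324349912974827020))) (.node (.node (.leaf 22157277264023632381308788294617567996550946847099061983559829254573345440252873161966686266179246087494013092546557236064043420424047874) (.leaf 3852254502896098738448540215608157772891139332702522690180139847753040200788046171506522299896386520011580403854528464172632877457956877)) (.node (.leaf 16765213187248911665837586290503759863146547560112200013106047030734546319808075002334359369614616245649175339666981387687980533727759110) (.leaf 29374695261459181484429041781838463965317956126765423812124356101564363685960886950634924537353557691635632075970963438575510145236655744)))))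

def certSPerm15 : Janko.Tree (ℕ) :=
  (.node (.node (.node (.node (.node (.leaf 8751809955388100619201022065982367603183663064956084948321338323352047687464966244070531662041817136001833778020318805115200241306161572) (.leaf 7404808658103653227280377917698373096757559264041249302667091555604144580374125694459931354916376205162063139350091662987228935016878373)) (.leaf 11926885865977838068327782939806420741176050946474248987104232180010973419731222021836304530098065163820276620443102268100363376723614366)) (.node (.leaf 43747862813741721198949956009475785643359979438418487871895601346026568827388691763617577219968580608277342258098313976742984169134609027) (.leaf 13304963378383024444779920942577236740103891819724279712960822424925106180450049240686569290000378224310322513959136432440339247519285558))) (.node (.node (.leaf 43678838026805789308401904052780397208783182036363153151839811665504529816797038411503272330884217853971399466839690703286791392863979422) (.leaf 42315698221528226755536521142151747972043597319041051314330703694101740586175823266824794318009168045288916848455802878871785625239195795))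 (.node (.leaf 43123109961176513949008889934257371063750776832266590567988930404807640106937493693573307624142911535639887101138785176038760627216914864) (.leaf 4628072724839097266658545893434798798177325759728866239338910758768462181393291649190961256364034162821204675333828118371426710590505105)))) (.node (.node (.node (.node (.leaf 35775928636777621809120476088996190571605948561373576693084961994648813267832134980866109422353427940445523756727410833734650331977862290) (.leaf 10914534704644292945275205089640979162846406753327004340807873659164913346810306353998569653641396301905900741536229588203945004993528596)) (.leaf 30620542078699093037430894833567224215427632918059822493399884528398975208667821282086129925124298635358636173447161228353146371353059077)) (.node (.leaf 10341946043001527691447829534796962142294793901257684475569850628942082546955454327792978073535354592874997579093886524305851613121486086) (.leaf 35945073775172416525241526805209518689991413203322355740603284951607455556084506182757526595097825848671288150892378575099302657448171328))) (.node (.node (.leaf 17616757693972212799528282310784024875810318791830462761313707054190874851376730379389519252533254474401248297474079542555065181712881928)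 (.leaf 27222876621588715850907136248429225529503594715051721946934644979757295179645033742212739442272761314492364340764904926862512197180987704)) (.node (.leaf 8127787812351581178007050246266353149273834912035653223113711859371830991441121049519590276143433282362525130297158112035685586287811367) (.leaf 31585634969567599933563023824783579172794583260706156428323523247316194360597514042099423562107533963255170201118037463672312834944044091)))))

def certSPerm16 : Janko.Tree (ℕ) :=
  (.node (.node (.node (.node (.node (.leaf 795877894095854151280546046755166632593418059104643061984488540812983991489466084805960145742935559498469047901612144687382144289053570) (.leaf 35673443559773319450231114667830304931235347568620242620658058883084236297774833767018881719835408028514771250450053094920351739544273843)) (.leaf 5357210801492671443533817075972541345621029405021265577212049038614466391620602199294667110654786971691904041212847996164579241594081549)) (.node (.leaf 10518413632440735433736004557099969567129598829360558993930927148029171615081207692942742941988098110412840073003807783781736006875613866)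 (.leaf 26271115719340289159090944614185988875171253016457999691455703136872125085529699776126325630172336442618482127170153147571172700639402667))) (.node (.node (.leaf 30794444594430019051881044356993453449467755921660627945442562114902250484296652826943773635890664949104295605578364127235308832582049197) (.leaf 14071295633628083356905225830493799514257564834561297003093535224000784332324085733058578921519038714537212055146951514138729183640897547)) (.node (.leaf 40805187670422894886256404734326689517759468822738903714965944190190486986583463596288439470509260591693182533449562050911251998129460888) (.leaf 779414589317947916109583607633850805202735229094685824814405473585058578430584226740317209366297301743211243744992576274849764536159928)))) (.node (.node (.node (.node (.leaf 16009312837293157497687988115946686793205131218732815896811535197338623277121945645409017834626834547004286647460148529121786042647861130) (.leaf 25485461054407786342530358957597368088251016788441578660974001033326759739432518563219825990917328608000803344831926420027215720856160778)) (.leaf 39490024170734007224107130081776932715456063138821903861983938057915788559989130711703859009283943746163009760369953507952800544313300124))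 (.node (.leaf 11152844544731095684671087872819321424568413902608194292900297441324416843343368737400941853719784424072520124405121333855455365412312496) (.leaf 40981744558967621139627296008881804116938695672676257794845606033409839287814423451101039255125392560023510851872792368983328765258339332))) (.node (.node (.leaf 34480609840246338921651139602463425857524111770238960867654424728036846838873914603316147231821780757765473361119857152266961997118243988) (.leaf 39462241889496639713006756930063904911872932152228893096742555077541514751732213583648432374319201588235062442440422705324860729542647604)) (.node (.leaf 25645927634330764463659239772470156929453238445690002302307813666084192966108667273934893852170930273275487122984897739662968295219105289) (.leaf 33678805697774668017158954796767492365156553277666405572348923956293638029023491214419550566450411867020331092000422028353262714647298590)))))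

def certSPerm17 : Janko.Tree (ℕ) :=
  (.node (.node (.node (.node (.node (.leaf 8304364534327513066741553525389221360511315750081728052280014052110908427861331096369779413811602103483247123713293627737247610944553498) (.leaf 36531327643590352069053958492468384134442754200088197186022645955852302516594974284319317616252328349149420446563807173215293966154482463)) (.leaf 45218179496481460319422445843067174239706829141144047053056141442786311878384341038688489771276559981063105963270737896119715019673505973)) (.node (.leaf 15459400471819501242728742045120712507999608333016892996185332227389233806322416167111399865156417104971714044114447013069415760630878112) (.leaf 12670225197037892326725667637201344462883565547413741560348331327280896792117913795335673306602140063991901019602245317165878857289130015))) (.node (.node (.leaf 24951278243093501129320247803302110699317340791005848484309357114253711663945776394663135013078835285153184733498662024365916672083250065) (.leaf 33692420897702952040669891436289033863345698211287005693254291427163454362214823354154095170370985951972905492941815115716407701004818579))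 (.node (.leaf 8730274023559562123621449959898571672600487963288440443647979843104234297639364277635282277857033565050075456199357695047346751640536976) (.leaf 28540459275751463125269079170251169272822958469436744800938183496845000035322504663961342158673186238977231475322651051635573664953342496)))) (.node (.node (.node (.node (.leaf 33559560252062022186225550815399566578807177259364395241268325641666080605270063959759668238508993564027621262166972534854582431327061687) (.leaf 27957076426405675898107942539985766753316542294822474853810855753239966837388828969541323733503739237602691123687298207201532212132430982)) (.leaf 10409147376171422415776898468946933366125736556249038311487797107347983601984047955743493193848342352703686220297336782289973960659288742)) (.node (.leaf 27705289294458123493021685596979143075520319567888952075609188566407095007906254349773388319149090545145004055427824333263695400671644550) (.leaf 26507312942004867738988343031109687959428311197328622937770338310197793852448501227071420672080006347435710213633342712530085570048414390))) (.node (.node (.leaf 23527326968843083074087845554885969275763934790049817747680520317414280199768488348216017847145723059459445319469983553943695187918378664)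 (.leaf 44492121921057628778761437258823999829001199690167361572140673476985262295778809223401701930754284277813168935289117116959334899454282168)) (.node (.leaf 9801331312529608079362399602764795187371818705121111035184396385813302811711357753782400040324728960763525369085864109146152341942130587) (.leaf 35661744978463109892845716433660847601576468197560922872830576679463607790071147825661799171205502149112931923896194455505878964165820807)))))

def certSPerm18 : Janko.Tree (ℕ) :=
  (.node (.node (.node (.node (.node (.leaf 16782019370278681675671370488450680770665473999004823591398014335861447559100102967129423857716448674534201492512759766420555139041674259) (.leaf 18512175360956688563164021028838892891016045841087241298212576180202183533515164843025049117894623092153026576485159854030027464179505552)) (.leaf 46144280263153923487998905688489211626114416842166219160493812833621098937171499092053761710531508865797132177970008937180946494128407738)) (.node (.leaf 8956850925577817955179657139062732638064499013341708236733558304559695470310302821792841886159801381378028819328681238174861543342576645)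 (.leaf 20449490659523799025341567099663307217309935396334626409338565493784996015722482402153308866108762027731030261296421842575752129845973512))) (.node (.node (.leaf 42333971759282450327315123800411566901200436237530226628158856311138563803867415967237358824599776126540217641213068049448781000602714126) (.leaf 34509467404344941721007986987454206748977991229686278570431086350303420580181587148289049904540584697400052610447667549982607691982822040)) (.node (.leaf 12426547342676291130377361251143047164229047554956247938731472036803262276794458484211068428354519972160805888900628761623733145090886203) (.leaf 33656665337112137847779653287328956418313827195423109010159572229342962568512387880316794177603853868378327179060275048360731187379506843)))) (.node (.node (.node (.node (.leaf 20573212359238245255362929405285548308087640652473866070684243980430442497996835750303261215563383293890329480581208606427229626024281521) (.leaf 12572223069252196566545973489628070932238662473750388405767211997117723852512650169747733369179437859995249246294125977855966539502017559)) (.leaf 43145235616972084107074847767744415338763274317623495686232888155102588067605921929967000619626816429866184751408297087274278726198647439))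 (.node (.leaf 16904858439038158971725790652596513550809159905465714909781284688364557469931101605200936894070459319758138442757666323234824456084214042) (.leaf 8240746359182190439191824763582629058499197219127665911221960919096876280325838775418931720571646742361645808142026390436613175914909956))) (.node (.node (.leaf 33522429642493434024941698729172080214496931117324005882278375152210966122187573727738051674666626722794924497425842568996411508557512855) (.leaf 24333631031200634322180181907648582191606903151796724141197961576863113614487384784175465210718328103933308683356499757145573355761637421)) (.node (.leaf 42958243988255244316506425239921717277537467107758538671067612932156257445028523127029900828486772262217918626507561581167046018015797273) (.leaf 9728709241615586325783109380015936993831328534336250215295777828037954287702922242289422490290375796098175626562978831523550338097337740)))))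

def certSPerm19 : Janko.Tree (ℕ) :=
  (.node (.node (.node (.node (.node (.leaf 6179777329967046546473975687142885546337296127406159526304290835546888987637405061881632142544682802478668670858327787117786079234312114) (.leaf 44480901670874918468549177376887683962818865013088950664725177580021824454831467285814947953501843942715013018453066711702192614634391680)) (.leaf 1005486941348540209753682029546317363066438176604784347876965703959596882412059448393328927142778050245193416624827846991546468266529160)) (.node (.leaf 10948779561847931677453319140799170349370855394045895420875385339663602595898088668372249514875513534203030382039428782889335900570934025) (.leaf 37148499377644134457328511655102232304976984364401309975570553134419777690779234387959679901445113870134779454466004973162106355668207028))) (.node (.node (.leaf 24338469624394677163916691768234829791264166570263918669286782758709434691438254931167344620209540206465978369178965144487036048914928139) (.leaf 4630595807637297405364078007429256421564291826320278685526276383018290432043630141276783209343599772235700271446001164271510892132832389))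 (.node (.leaf 24277147920503481322689604674411176519716751737991131131120393230671368768738882045522724447233427054310438940305289827099692736769592589) (.leaf 38637006997391086572298395127485931441334479476219409035903327375182997397323334710924687197990208489853872623582210731253057287968834567)))) (.node (.node (.node (.node (.leaf 38683588204669044322632972623337154509421671583324733116426741553873110898349024247637615915069896327654013797886891111719519329733935257) (.leaf 25793164413145065172927867011023056872342816204300174111305129645336355808704784079718487740715819675921629704847107632666285196800663178)) (.leaf 16092851485105138980261428507051980015588131994639430483561964317846818929385725342439210761728774845947893336574267764766852239809626174)) (.node (.leaf 132220811608798030627198345644698963026508885663013607149864763893204833398272373284419080100322107230568558000993172296995084234442540) (.leaf 38694060928094654238276802614273805822187579330632684011909053769171171959432557258160129927819575139507759017632960193946557109378648894))) (.node (.node (.leaf 25702207224065882415169119999660732554903738848407438833641922416266167938093960456281982383020881127122448238450316688893360766474981379)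 (.leaf 46534715386769964203535416837618837709798373117830630945612242276418040355655125718257473590766479233745847028842352535064076700197553544)) (.node (.leaf 11800183607781319646442824657273215679727216936005112747408886833486127222086267334466156779420543484910676059113016103402482388307727371) (.leaf 7371808900819962284174954493545417136209142333308869432216919490277741632820097078164016036288375949445601051675704782491241497831510189)))))

def certSPerm20 : Janko.Tree (ℕ) :=
  (.node (.node (.node (.node (.node (.leaf 24033909994971136003170683921834642450481162764703095515732766456040848920762677742237991683842513277267428212719444183461126516979418678) (.leaf 16822209281525847569203596040966252982652076944719640171298380442928543219161634897304964010504809563408954799397115233015050145307476880)) (.leaf 9467983337279180765129961818297577294233216934941622107752010636672963108818236370251697105598848334624435593276589196497270873470045239)) (.node (.leaf 17520806966027253234065199736667941013384539922550495315873835475888737933999834346976427241743848927121531703740683990722525669779753370)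 (.leaf 27911032753067923868015896270097021676286047466364503305175823112811169723308239588208685123135318350979969786700144499409637718428096785))) (.node (.node (.leaf 33709866665594859933427996985733307346159501005428478096249348906402556776193405723827870476459669716318097333504563558118428427258382993) (.leaf 43743383324841466221261323038812588030529251761653498536467429818983215481992808670721881963108301520973551379056045345713329037978292895)) (.node (.leaf 40166239042262426149557112488503997220445133743372590938801150807961331200567213308884046161128362685716594449171126469380714239531811973) (.leaf 30164893636519211012708693658204869279118435730998352392706858901929805852435709398006944862389733565200683628790720120894747145679738551)))) (.node (.node (.node (.node (.leaf 8826508879459903105254519110588207081240814313179630587417029971434322772470516048804622399062286185630505709562290698512305523108568836) (.leaf 857815279389982645301376548756405279876403388790342584956006197147705938219548539298987192502332975992418579119165952192546855719722924)) (.leaf 32833303778177151745024001164436000018022480825654000239569339633241358251185439207616939605127891185257683301497685434073607994008585889))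 (.node (.leaf 17642967698142134339276378253232635941925921279935391254088938396871768961501803892739939744747287899217473667535637144859156953766184885) (.leaf 43968958963517929777865753353963707576265495909658168333135193526040778432185096611664121113909138398632386154152888827233870037601944833))) (.node (.node (.leaf 22697577464673415358631378396774018311252882780726714631141939842271327660445138247106222499296942217121126635839210505958349700640457360) (.leaf 38803369304594859547377220941651980996342058128263669915523597295024281253387314944468962599106049199209352683737987194233957380780268990)) (.node (.leaf 7384089794370835287202229499643068898701909266390456290451694602535181063878752489802152399761646275567171302486576523313563317322718361) (.leaf 43669212536884512658988849108669082099529246754804730490369290239525801417821828167497024804507894338472925420079730920173520185295947962)))))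

def certSPerm21 : Janko.Tree (ℕ) :=
  (.node (.node (.node (.node (.node (.leaf 27758420480439745256265941644588469747084288557530512191851295959316136795375445933179067542083728380490811033383999605981703268816913666) (.leaf 29939482881887484790516615322149868402044497060657724065177592454605437115222580946241331698833164550808638641338567854972322277051289220)) (.leaf 29875334804640577277845174790229420085441437434933493307362323845731594306321078392298812387021317658325884820807956866197550031038057226)) (.node (.leaf 22669766956034474045117978165875501342886500823067899552525893449781678207058614946294701893835677571878656441185635892993578059980309796) (.leaf 32884501072108526120756838909092481678134872198355638284428346041151231456411638411172073878072126767152313658201418441594100531107716748))) (.node (.node (.leaf 989565126595186711450996812597027521803469938646054160140574448545970096802717178639468343847900258986231195334421874977033040641311158) (.leaf 19888133116372367176302055802056289414222725575008583365873178860633543125887040560714210345039857993230582675856127326980279959689004940))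 (.node (.leaf 6577040489012802582859096553838951316753028417174249575463933189658157849651091817958987066334610384587495990080029057850368501102253591) (.leaf 11818109219594903966180753894502877938691483113265045668183403466642176585689964362044743303078992658523371999042445933362639456008472475)))) (.node (.node (.node (.node (.leaf 34958326577599538444151811328426566557076185824430482856543160846318164900458596087770146847626989553513528234372244247560274885111488440) (.leaf 42204607393113487623964618710003751991643332276516860091174617207407397844491425013308210470109552723416427672017688093011187356385857291)) (.leaf 9728444343670590446609783216267830834933069049081136855506267286467037217140825174362022048897621033391473133846603201802529905633003959)) (.node (.leaf 29319097780530705428910077508203834537152256206297634813846384087536809769401754051990379841647792271615238629676303184899773210454605868) (.leaf 45151088117442318980204145444907591248965314629270793824946777231342186559230445212179118237267894735266826989879286426487149625166339381))) (.node (.node (.leaf 8174066404828009835023198034970710680755293452790235801298618849073273715578854444881755364901903761283639528804291923800997494560479025)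 (.leaf 4662171038531569464083367595992563551013960834812647805552713923632699431628459447098791652942457157046927912353148472347429012765628083)) (.node (.leaf 38581864252689254237945280426700434488918000076258233072697170113109514500789197137058878874802063229605890050886918860735675475985634191) (.leaf 13833939630767958988018060389869548045239023997162240770483911698234321710618275413453639669576460594813805842908331541102227830765608634)))))

def certSPerm22 : Janko.Tree (ℕ) :=
  (.node (.node (.node (.node (.node (.leaf 45279839485472810413616498990206844105625981676569213815989840629576002619064159705895159176722577950959072776578260680248830410075951373) (.leaf 104133646153641613787857145106992185165595460965722079242351036468014721052170689605363492913595357982029413137132458296585496554374184)) (.leaf 23283340582883376374965333500664724227720328574405063506397123909190247972251304153211660022675026830737151879419848298115465251943909781)) (.node (.leaf 7412889232316026012885255565868932398596483669676326440482102294523546969278259247511595892742867799300263951063205000172120820117313460)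 (.leaf 35873258083581657486271448778788296932397867582687243803387574296276476017696408256678879858099929078327755216047925865553270750191066014))) (.node (.node (.leaf 42284373214005642004720556533089596385391273725322285997128889389411209752923488708305448715113488854107726796581199061161953303345382419) (.leaf 1529292438241305855660500627271056721587642534352400633211875191179240105815861066012838314214563785583726794199198644447525826388660739)) (.node (.leaf 37846811849934912282241023877605146912870275648891705704918784124359269557313305996125916527898708220835972677879287714908543799441622579) (.leaf 40175368455236543947073489212374991744234168387613424001644048901955138458448486467402284165398705761666443562918057157646557946703661592)))) (.node (.node (.node (.node (.leaf 29102273530256906296181078591289407486938914877679638523035966809540222621963143664709599997582985975850150589760578437733605940993738020) (.leaf 12555272348738189258032802676201793519694764198656890581439655609356744320047195428325982886492308021566908712158069921937493586343957307)) (.leaf 13154000121502434102709375569246744919826779303151899503844570626091258177909767191671908303970369565061359165240212564939587182186125627))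 (.node (.leaf 14038192374553463778566034677606816113889951426586151019262990442977329692858421003497350431515535423752438218896069295659883784932317363) (.leaf 22727350091084176959398184590249783033774716701360950065291222087573081738500085786718610624054070000553160622440752317476172662779155463))) (.node (.node (.leaf 18274393653326017248191189687635637512985391982469214646783627976231834853202126670913476422779497323035570229849003753835947464420363011) (.leaf 32737971430375050362075957245090878035772456377507777183753358593785276170683213104819512417776126527805886925766778027305409920278613687)) (.node (.leaf 3918534519086646862960401294780665613051345328774990262060598251691556215078296563746452036068409881766302791861327242114806835732406164) (.leaf 31364619281817577264950527089201011417851132989756922681776786509694769625840347611288715019579967936147227930770138352101422849535577257)))))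

def certSPerm23 : Janko.Tree (ℕ) :=
  (.node (.node (.node (.node (.node (.leaf 8275383846200683643613422525531707348953942873964434365184989733155284998114324585960982334287109901072974313238444543298336019794808855) (.leaf 1739482254578367806402793463582467661453533988707686075058612512187357173782172518348095786929377631762771518441491585110009764622058535)) (.leaf 200927410433832742018106359656659357460640514879055154455880918633691348783542658906462916814536938125608055888657726871763428659633828)) (.node (.leaf 5144803385981926694635176588734029220562510437478242376543980766264800191560692659060184999107165560917897510600765867114167706927711245) (.leaf 40051601288785127886053773084601918589067343851462208051035002818359455860892156445378854117446386625297189020618844769061165291268279318))) (.node (.node (.leaf 32310762915707867217170870408152903707114847416339363815344757073448396632540629547371939822307515426478134938853795366078506723189756193) (.leaf 4696117543131831586538880837674612179090715939890029705492594694451485247635704322070924038382117761928864337272872261980927071558541078))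 (.node (.leaf 36367360210542821228143023478366826577610247614787470919650271282705265895258821621177769351502658540103918949986912258018146744034432443) (.leaf 39564228267867863407649701588348126099394653674414411578701086864579878599176182174985070210566743880395567540978454158750945882902855688)))) (.node (.node (.node (.node (.leaf 43117021631305990516534464926826723031848026158738242705603220747283877229651448986080112139250820156002598863105984340115792557381420096) (.leaf 42504547181303105012588614307770233540085695001522949694851870303369878289996001448956987255038825306261904409155976897070067992001778350)) (.leaf 33537115336881255672169349215699222314925491713175622561311588772019162086720475339880783148926133259975046510293241394065358229028455868)) (.node (.leaf 13102483969336716659198157989357128965379424918194512561086677088310780780689894202101318143100835332526023379245719069595719840710625441) (.leaf 40113408927014279289624304208807084832727647862424810227784843253181545616115463329092613479887165782090260360370193817414145922805384754))) (.node (.node (.leaf 29217083855336493199684014873387995251227023911259606539446347722791950962482224931028674684272470952337561000493620252648240325670880930)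 (.leaf 983173508046497150704782327057203276082640279633146142985540820997300264006458336630685479425536639741583735382821744790321575171219505)) (.node (.leaf 23288089113223132206222914613640022639055989223621513137922614847197484164332395790310585622886992321481629455477219714042427458946810302) (.leaf 34231963716121514922356010955370198833399482553272018885222976627408450074283374691383360750514424764545997561351501530654935168672776490)))))

def certSPerm24 : Janko.Tree (ℕ) :=
  (.node (.node (.node (.node (.node (.leaf 6606230548753744837428530328438330309454424707219784632440687250961034930613949440067286638760486308616802412054166144976092879353790600) (.leaf 22651383712342717854096626752646812289910258007287347372794049365572442351388771227492619724709369304943707453516251775441984421655334932)) (.leaf 4361579627015615110390365850294320898011951979969747923258441379813607353528783904570217074225367239601912149727338333044972241060840761)) (.node (.leaf 38024901829355536136889060411004663883277788328918297102072752666638471636277885230980439782314810915149624258721931507530657894234281374)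 (.leaf 33747848430819886531725191222551321023486302319858260075977679145988141884303324811555243145858179637209999319960175031678396622341970335))) (.node (.node (.leaf 38002799457585025065560086441758613675060485069512700237847840878517546987384448087987883640203741890122921977830073384463680046482690737) (.leaf 26928172278088609555278740238082661194871533467181633906064515105997282933361970765212727654847248825430762558135806930802916131800306718)) (.node (.leaf 17728809827009037898142606486043303798659031195553920701767015963296007437094214799089221426789735603378966042130006996703689693781803960) (.leaf 2472044118414203637372477534672000214323133133724171932149403392807403141158181377672114821998052862385624534774946810157751482747913382)))) (.node (.node (.node (.node (.leaf 21334699370292849921378875749199396184771213815152356756865419981506565213223559530292641449450182403716338105639665584857727390881926456) (.leaf 25541704697782123380824508822458447897688620086274333073150456791185163939687940517097984922334975301371684512153539630386117334689715392)) (.leaf 18899286786113955416059351870859858150760040986603709389584399669632700694983546519591730444906684586059517593630950937145669073767324557))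 (.node (.leaf 36445137421211053094415451801210910768862427164445366919125541726384335592883201931235682157324007835073050025322848450618652221950366730) (.leaf 3659100261933983050743741118796292894790051434054302721090153895205436126217532906351866578207916412598790291360424290803641377975096092))) (.node (.node (.leaf 42191625723865853631457898345363737066431126442692421387359275876673132471253165566338720361338457741412803614456286644023590224576781458) (.leaf 22163102396251399234867237414437212976509469509206677213939165099773328208995411060183353842694409306870883279040032994678112935761020559)) (.node (.leaf 25769242774267543535028082725886837699694876797576830966788316165015744844458172627228166305298220299232146624642600457837432689709023396) (.leaf 33595046907302262604890049001605959855400945191982353003538922516741294191660955728395036962380634251554268922734729286544298419788356141)))))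

def certSPerm25 : Janko.Tree (ℕ) :=
  (.node (.node (.node (.node (.node (.leaf 16078467974138077488017864986931798595801635993062561146986263701919467082034607717807486939045052671371485038120884833497628182668368400) (.leaf 3981871642321781291075453003840061672068931615072697513504653367960946518600728732497469987005465151606394962337619305993752151375743918)) (.leaf 7486582980593831106234582875398738497059841961888163709376263611181103699316614397519873240688635328159077508651421577183516250656034446)) (.node (.leaf 318360773294888319616197199503211709796236709524665222506694777521053384318430014604748813310623383012856558648937485134070163752405662) (.leaf 32891869444063656494524713307014669442677396471727432350633193226547927935559167466416555220550991985107631059414057459012729914467451697))) (.node (.node (.leaf 4656627399417273548061763661766722372025050538683847943384343115515468465830045589234451250838635167892828560874221639493468241156348686) (.leaf 25016281348137707996696218420994756311084348576254477945220977467712000166667009572223599395611041637772502863718658613771022869188641037))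 (.node (.leaf 35110448404782739657984558270266842793291983358832043169400240640359605219750175683987296343396682819527769366008568711236103549168567577) (.leaf 34906594506779690667780562121077928434513330646143211081024904443133507488319476375991746915548539426295788453319970080715187344527705124)))) (.node (.node (.node (.node (.leaf 34328232561995229986321476587115408973189221567835766701781505570993192716676232119014876274533285616316570919025549061434977243500217123) (.leaf 15430871046694636222889986697072469043579626095909925476473179630718715822080504949545123862298537354841653582970997366109019819288434825)) (.leaf 5238274002078949636681904716807431098511409933564161726977802652356563442761631753638714628015688991882193443510608310254274448147454350)) (.node (.leaf 30114452308452708241631385295534217880782138767845021331793453329656003400161129238001327483919294395551284197939650477692181135419968827) (.leaf 13295197615655293111883528832102858131767797094788540423020947866669872645054163864554292108406310936211794927619140444177285001951938100))) (.node (.node (.leaf 44667856769714280849585652511231632525267738608974263900349856099654235968519343551268846158239368409608326712578207676868636980318014991)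 (.leaf 40874743493336295349482483806812684148029511313623566897336788817956442177279492023804398235534903499806521087109107062150629190030510909)) (.node (.leaf 30164429962362195057853130226515069082630387054991762206728998942403426760145713454106392942535829467729752254202406817008113117257029182) (.leaf 41630473151227306375856308102367666197345956940647522739852601416043460501292632564461791176380044888130708731087554208833801020653224094)))))

def certSPerm26 : Janko.Tree (ℕ) :=
  (.node (.node (.node (.node (.node (.leaf 14663042311548845255834891980398539853965372551107567777608501631667703982047305896304237931999397894635949906723489699688106862276347546) (.leaf 46508848950538219229014525540543347952378506857413386077568983099788535737669167094911234592370605407195600533021452513856243522067994)) (.leaf 32767154147480536246052418603576003606379981272336362141957168838815272977502815529366772701460394398623884076157170671334002543309770787)) (.node (.leaf 42158956474329256801849998154145638433487065522855839680623878122410626395006912432942899345405374282786539099332215333074288602900220187)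 (.leaf 7524912608172696449421679077717251998670544449449390884219333252580052353808779124979472690984831989050046711900822516938044383351264055))) (.node (.node (.leaf 39364860883948824636494637139374553859357494088125625686445980765384446183373704032121083225147479364173783779172389008179873985621249715) (.leaf 32282310906184808114194728481952073858972104702251530926525137592173881930098938657090281180605039785938115203589233350104095393113674370)) (.node (.leaf 13976698825875946518995909038834353640495570588364792157825905764809770205916119379874429447984854946469417763851010827476120107461051905) (.leaf 6116876789233077216285732620673291048920945092434423854818044847330810917387111981066844266763508806325385140919578874233784419941113482)))) (.node (.node (.node (.node (.leaf 29368971153301885510044286190434704557096883993049829569476959329757941532894692291790367261106873034515285133798421118434463317210701494) (.leaf 34269359074823384170466741675887701227744548352104613450833268847412934103135306845541471549349051851219084947021455359126232160981503664)) (.leaf 37099789492604796487193491915416337452717742330563894515877769493213153710388121468356238715031523643806693727463816672798766484519490992))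 (.node (.leaf 33669799746917526398130655853030804117435495612347472713079266336795293895876158997221372074460444475659265489185153893563809002905176360) (.leaf 15354615813126798953651463710678042133799434311313294074246639748067467476363093145634554871674317058917189044498768891701239309989991298))) (.node (.node (.leaf 34520317998783904201491432944942849316409433856133710398748389468285774026232893591627522472141097968935491064851262056804071662019854648) (.leaf 45064777381830881349250600057101759813968337259130619342938329032917338088634215046239575818704280792630763549995438369585322824876016910)) (.node (.leaf 26904712056532020225030663206388865690799731110803580448828658779418706907355833638321546877062702593908769590022939721791676143167215494) (.leaf 19802855093716615850700871854334802272281723750742060428561162882843814140670788939661244620853883203982092096988966874502292474971341614)))))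

def certSPerm27 : Janko.Tree (ℕ) :=
  (.node (.node (.node (.node (.node (.leaf 9569756468578359743309233757369158380932205666443099240424333335267661500967744477754691963770428138030462356657203068014695972126792711) (.leaf 23413935144916996159171572929793983957087596822225770979300477780215929863272753144675757620612880628730391558278563626052470624099670686)) (.leaf 38063043326342614610289422665993511087305578357126120015837871334808672852335126966597661793192513472256113752486949473291186236585121153)) (.node (.leaf 28467083412318612430165948732098235823817986642960235076901596175544009323764461302075018122709323700603423765722802654562243349332729607) (.leaf 13437470610844300067998804310346316621951943903688731997636940519333546405638976333706032517063489793042339892175167184019625547242031143))) (.node (.node (.leaf 30108943612716086776137745326528247502285095509971898041338345253713354035618698777959637704842153218067081352866600124579964164532886820) (.leaf 14679727525584704719590139513796956988611754096869411625662019484311691172593009461086256083167737824819656615120849717090702455949041326))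 (.node (.leaf 4469018494500581884101070868340640611342897307138944596212958407095892393817354242739401177866476113257407537983957911321078132394481303) (.leaf 43656021306681230804472208014668407431343308976680320364479495003695566407375895286493976779308656451323345847467186714057388794305158451)))) (.node (.node (.node (.node (.leaf 41659791243970272748423028889059092002625702401640999571896366975816134742399497776005136391269217255806846530264055301450094737839315003) (.leaf 18262665918362749925391836487661428883284932092103843325844565466035919729913886072470622393913933087290751138667722820897249302691040034)) (.leaf 34452102950920293032715864414996172587467307430694471826938831474486164931245704264785115295946319247671218687117606901924171935454893312)) (.node (.leaf 31596147479647960218495830366917342748486534443513046996190007591867630374471641467536112966280141641160706553122142834567583456812992144) (.leaf 43090719750516627753405020430271745494009341487783046503659453766417153013845386667955343848974080534905832790064416905852987651580318612))) (.node (.node (.leaf 35071807540384678710326656918867654574050042945393979846765689528401909402360894301299115955431242135820013000333906736381967600460859791)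 (.leaf 3776953621727617561723858342607422868376835509653566806205265272723894644264458676774835268395779825829888409104790339746908337781459383)) (.node (.leaf 41549740510127861814677110393019425655451182854930547885625011755427911013796853140982479755515208093232209873628313122616998024219510448) (.leaf 17030812486933811015778008733944233293637991344425434892049838428405500838561884410532955856233418277136607877071141358868315938294333465)))))

def certSPerm28 : Janko.Tree (ℕ) :=
  (.node (.node (.node (.node (.node (.leaf 33510241730911026867004798216691715086702611943149907469429333951936249212198031244975239513144531110705263002198091518345565281163642255) (.leaf 6776634234293363573572248371708627435181395225746272765445158202530712349363046885806009378003829160685798223083288831471283650131708578)) (.leaf 40272570865347524292691646813607276660929840610379402472404728558193065792193705859082621982938574518350406580221150676625151028386939789)) (.node (.leaf 43832674327996826496400565626729937363236368128604775124274742381588304314116704500532030735189935072165935697228368725643507766745992593)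 (.leaf 14014596723630117862994368016587954709139398248389503211625637649930061796667143599148076482518704153496711692698734320144947135329310519))) (.node (.node (.leaf 38749920296204646762383933045547265871567557599639714480623597827016718021623957715260273312757667380983536456456513720124210320839002401) (.leaf 9529170230885157114902760032214052212278666286169060087671979437494942937206523765951764759061802288339253793397640889870497382943410741)) (.node (.leaf 19756852111544564226539678123636072682465245623337926141904138519902061583014386267139310814819383999876087518008124594229420211713449138) (.leaf 32345629882004227986854304547126531358678843431049735339846708856455313108798921641403949582921600066245450701700255804314522615334589490)))) (.node (.node (.node (.node (.leaf 14584037535555027634201122009099608023081009243128307357428661016317832908697178708109912907063571660759536811357126163104667127268069659) (.leaf 36554301742712206359532828001372829331340786057226318916965531157045301119091992919931648414303822187715684613483780827456366943928587430)) (.leaf 23625023725747380873489189797243960045180570816332701723742767853521943540678985797939593312726283867891846078064928207992406141005140740))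 (.node (.leaf 26411789329441472024916964829578424663592234295432792922322794422642546637202376637999978884773704888161387045356172620325325648351712428) (.leaf 25666775702981248956508520523387122477731103635303156901526370585061544120431450959054955162704829555261500215133507378046428854855966508))) (.node (.node (.leaf 35905023251518211166917926359080988909282795490465905038365935125958701771915107392164516037721489989410903473621530112675934864359096472) (.leaf 36678575552461045258965785359505689530296966934787488119268241694289504178696284216039242431441747027292017288084908740619287779602841777)) (.node (.leaf 40897911985995418362578961123231554947012848403206508330103189377374258450425849380322892169728235808391722148069694005389377528270192671) (.leaf 10995535442897498430277366970246879435021799797731479504696802830967503692135125567603010140069515718384130539511784217689112022493218083)))))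

def certSPerm29 : Janko.Tree (ℕ) :=
  (.node (.node (.node (.node (.node (.leaf 10523461052273344050604981719567101181970049713485221866520603492733991209177848986206121200367846669838483072891535168982166579777196168) (.leaf 9456186223252695748353866307541860299152339996349308058008890950187666483174965639379582559502493493501097442692153328750735017565249328)) (.leaf 46672335875426375600036294628575823427536288091570176757554476878013350496293049941862850327678793481110159570641678287438348181019008319)) (.node (.leaf 43145145418622272308277590403023796971627215007696905327975868415905572602209011254007035433568603341951785675735014274313325913135388735) (.leaf 3080212525377356232589995281155452806086304166686050469911981309208755527782796171067908311671523298666545480810232178916938814935736340))) (.node (.node (.leaf 23460386618235600257948356210035897137159802987777072459820160018061379062536304051788151517516914754802800192034753957944228410076568891) (.leaf 31300220163612055166628891698390868160129075161647663210712867345489330360063347655695662708415666038913720740451379160580201710379979659))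 (.node (.leaf 40864291275722163806874814231519694241006379093852138324315949330366833609290740111694411204654555962146501224671888559029589520998373415) (.leaf 41544724563738277842153430236918355070497642707218632829902453138422003806974137763948780024502917017569901438540319491945672687246247440)))) (.node (.node (.node (.node (.leaf 31369867124428458598296404766983447350417577605967170975802570688517607695041045994279088942544005186283692762221042565596649988362293668) (.leaf 40193165094799213437663316594460277858392845577972155092910070970222973437837555295935012076131508351435899939814896320151571329745704248)) (.leaf 774004263005585531177009956327990582291109689939297381449170912354509166541519159991478659920138524349856264344067365329761899980852492)) (.node (.leaf 44606407271901061342005791158699255664163535291285895248088229754841936538700652794650805080416117768337160063055540547655485392129856186) (.leaf 24185628003273103470416951291540050535729252725196292390083778838826994147827117670865791236781962512214849828776428678224945737986690235))) (.node (.node (.leaf 16202067097656822779211007942123580815326173879017951387763373371137869225288682276775928340300322723104911936962508649060024327002855195)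 (.leaf 11875379375975242182977666880143388706055914773114226768192711837108376263548721491380626278579062827924531236804378923773861284431371525)) (.node (.leaf 22130228524948770094410933061849636173691443610446949069601724408970893762378979538998014782818520312396888334728581647304173563196869048) (.leaf 40930733683706895013253826307721852461201421965220016372458913809462998081372325346844396629447287622935810719135641039805968613405855111)))))

def certSPerm30 : Janko.Tree (ℕ) :=
  (.node (.node (.node (.node (.node (.leaf 1533593133737880426344099085405826086265299037021245307760202143789906683588397997190712617786613041975242580573184970589888480373428134) (.leaf 5163565107783472774077476827961034970767636565905126152807356307775771720502030894388647063578879436419446642261624858001426757850897182)) (.leaf 11050593297891447035659819164030175740582843373367493422748443134880185386960979991517304540489977017312051855609553516197332986677366962)) (.node (.leaf 2511386902937830607336147362194643202864019540938585758537055477358656540011067611399312137643271087881391294763961305608726626829442065)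 (.leaf 25627785750451948863595792279573696377065032565477814938114608774142847646730003361366244032028247539681733325332430293819990120730298505))) (.node (.node (.leaf 26440819556446936936611251325778825190008162608469699057513268560149472193632281208232665930259008035986083349701206456177975394839331855) (.leaf 23458579922178980726082187314784896926411039852675824570510701329351983193055201502765394248951699612638333851460747805672200035631417989)) (.node (.leaf 1046263175309127583525753402549512995751756827986809907221489903068946093609451408521783081564097751104034252804116658895697970563456275) (.leaf 11229105429371130197825578246412418988098687481049681563091898320483018033091136895124374706167649836525029424680875174805402466369194891)))) (.node (.node (.node (.node (.leaf 25615576684596971335741287598815815756584811824988491681183805590297371694864221979365569591796400895230830725256256189956057597406167982) (.leaf 23585309691808274630671831889094399216815948595988734981295243652204401405609895477206980157712066567718079175505508101783888715791261492)) (.leaf 30114315760688604441551398777628094110655837739451468117869430368905590003667690053012233402264868264525562961264674772382868080664172416))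 (.node (.leaf 8342333194817588275332385184797739160114344240892036510901420212677632245987321553055857845748710431478122175087159532836268520780273451) (.leaf 6060614412865698271275168384702902426842916484205546821218500496069809291392876198974441897171404627777454448437259273381497728538134535))) (.node (.node (.leaf 250786945550622151657024616515153921285011987211898328461134169353338838175591395799511860539870112242138913718726572463914705555198890) (.leaf 20443770869449537533936432830476577965038792679090061882799782515360067684909446445134999398177925731146889191489677370746462794169719079)) (.node (.leaf 3963872859979621367048710950006925435459032141206700250745260160865602350107815765250633223878125714553662509149055555816203421858434232) (.leaf 20501258788924406273695197357227521733541655216211176949533560059849118528445815817559271931306352891675311086660347512479723431242373299)))))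

def certSPerm31 : Janko.Tree (ℕ) :=
  (.node (.node (.node (.node (.node (.leaf 23583180918180413142487944750251194627137299779088948077876870913677897065133979181505525655762236097701712387032373681596350793958342951) (.leaf 46569233061418146588661377706480885736067565619583018157289592965293965836982499200532381686805526078754850553112967331502642697544482819)) (.leaf 14844712083569342188016217361333457112242428982901900959475270531939435475070560554893509855506275294779183011587329215883531448866313860)) (.node (.leaf 25459056934614218288928505784921773537242739633436481210580492201054000718633455075983420320561158766630325918518361591567412660944279976) (.leaf 17780269596653457146431589490555237890444124879759810822136670834917858446940285308853073457632878793263979032992157266630795726449479337))) (.node (.node (.leaf 21283163016993001572435631303722039108983392688463442319306246132436163492063801192109395437864065980397826642759329608544260140468098335) (.leaf 35797313254687021684518803181018268290407834146994063297667787257932670020822748071007986950510598915139345390257513901382297837760251563))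 (.node (.leaf 46666614799184787612463809549355409733986432498120226342462489306288756825464122137437494461802001087081941172010551106888589057748474419) (.leaf 41584114771733630567911278497690792470198208210997800497846698443901995707109194619269668182610462480483783603478436191791917306732629004)))) (.node (.node (.node (.node (.leaf 1653760743374724192673899908442075558777007563883019560393141688160464326573534798337673819069073372188807276783333682004825114426463240) (.leaf 30794957220619770563167442650960036045688196149180934946880924679904056452692850907885292127926513780713160762067368628722594223512701844)) (.leaf 29358020807421102205619961398390019206259686970201355426857918304572809142445137064104660440369593915575919340559534166421208398785792005)) (.node (.leaf 35168253005962506524207012744627563773527745036710191737845092395496622651777197900267161965459873454562648249484576694372626405759242795) (.leaf 6589081514791384983653292611486888649817068142536220168046202428314666944706062012054241298204189972598691903850751048082316846843911436))) (.node (.node (.leaf 40748945473100010726387605707881691924621849757602496459897160291926531405158841759500432490559918344652526867225108352568414956658689434)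 (.leaf 296803947594677806706624483530719698127923479402833809102830830452460934733385626050782720495052377306646775526070628392230718554740254)) (.node (.leaf 10903387720243840223021703639689646870621145020337163216333272112118232635282958102505870532304567295455826586209912112655893092327477909) (.leaf 39449014571190283280042849340947354540149228422231931406682191952369195592227990759824699306226941619851958678451823238417684938078700980)))))

def certSPerm32 : Janko.Tree (ℕ) :=
  (.node (.node (.node (.node (.node (.leaf 3090186521250948948143260865506415233244352197799942995766306487598114165214520883408680622396333798045992629129975535570669243793802043) (.leaf 37228588892024036970109799072327560695539596112914134858169734454415086940413823921898180772795265526510593074998999831790656159093933110)) (.leaf 9562787855915856154592875123362080403976863651338952474175665083394562475536962101525135002812088481945071509036940924300371732149622920)) (.node (.leaf 44572385141772783675947134251750253794370721523779754449115470775028462303738511237846775615489874540405962229228556821577762315004854793)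 (.leaf 29296002801641572800809763602280229702676572607311031347255563500408070441980553548440736709882927349040697705392352447938713956783840000))) (.node (.node (.leaf 30590809052374017886407181257967123550367878012382512888131979050160724524893442751835108131987446025753812463013864173709818858825809921) (.leaf 12414649423965060990541991872272413579286618964143686896982213656352416290310486770701195340915041133845408736128724718615608538182146689)) (.node (.leaf 18376152762727602787181295277441444933573002314749946661762728613532908505426397606208751746107576900260775191054652984490624955741052931) (.leaf 43752479333510077534960448804375416890142119828963041880355248739122188954509973074837976300191373551536573643314365035906578785707250580)))) (.node (.node (.node (.node (.leaf 20404822179464397874638640166031560729031177424303015988083480423161594260764535222026262357239850068570487811018946083944194709142148667) (.leaf 1683489242206915549179005132920729641202062143417817173851288201503669275114742417803941673659040285500473350103832085086769221024435249)) (.leaf 14641037064663386487851102859892636982986325028391735485015003454908940709718616002331720944479111195116426171735114546618060137793542153))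 (.node (.leaf 29346621276890210492516014107965329306815739062893985810088001717294565403428132439101978908946209838018230724016402837489854102068693674) (.leaf 39354122694117010863256450335388793733526100497699712804587900765430675303432327321705973286739296156467244845348508360805466540064638912))) (.node (.node (.leaf 3226683080195937049308649337296954879140574045224797886638453925754455291231150652292730419693988784643045189269625800134463872364907072) (.leaf 22573535165063607121663428254888314544635508053479644585666248356952358242023345020745672069334038633428345456865053235356464450470562740)) (.node (.leaf 39289839070758675065872324234842142727354706537659953680549061457912922433548769988228478551383298108596143081899674468106295622818008111) (.leaf 14633411497504684829784544361987151228694816289339697660420070552640204911436440367858157454182957895167471456316850316638517704356664067)))))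

def certSPerm33 : Janko.Tree (ℕ) :=
  (.node (.node (.node (.node (.node (.leaf 30891224667881691956206024670510875361217909944912019303426959743701167165424311154186600775901460328262991072050199893717029570753107901) (.leaf 26378691954946999050359553767870508860012302170924522048762620322128323749372753587382025449666629325869009391898363194000542021194767027)) (.leaf 22783284754442711809112592941159931257169665050154331824471227558484314534275769491310315159471022049111398119089917459537308987156712594)) (.node (.leaf 17064487136658971685799804820057683748857759650202273289532308935196652864076217324800012058924562533990410592378575163113441707820812295) (.leaf 25713118167377292133168628049585443803238763977207770838590823260944087666416059864979781405906349198197077610240310494272986686417453711))) (.node (.node (.leaf 27860551186772937468216613891522266443311309957667260014609969775584812540919398539842726678815932480056064613233508221701721671996740016) (.leaf 21391657219311276772332277390160618630007871578428748746913916606616267596538925229660850633330790887534472284871371159655048012043686444))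 (.node (.leaf 41658164388405743288586014983700372895668935036265976582224071147273449044015153975247022591650498422079072751882638036669003850272315570) (.leaf 43095957562199398026900313239679949827580383185162667342127532067309384149425818494985054120671775396518292147194588117962266220016550718)))) (.node (.node (.node (.node (.leaf 40864501647112440270570205661943744178966235935922518911017682734520686192437268451221938965234028157194795044293792096840553754681908125) (.leaf 10510920832795612189687533145739509778040674304676648979643134848140206079664503510215378081183477897781791078881396232599797561551374605)) (.leaf 46632186210066967283880239127686271086579628022441775409498808363365335411783042022947950157509729533433716022378832129065288756884067369)) (.node (.leaf 7292609665354303158573543477222718007232920261434894057106029505478047116669270557729437732326500638469335676043808078133554162562088968) (.leaf 14164360618821502075627696699623555260009177142013806994060718120133276933468862140302106428926281704687398667252958116375039988986154380))) (.node (.node (.leaf 16021204063710025231432622235926076152118835302733275985345852039563848237423952076657136261512703885708239815385143020829025033240843454)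 (.leaf 45128027148980387720051473743335372766843901655886436377307969405949496176562313235572703915963235531506442217981965307394618732409030971)) (.node (.leaf 31561463575381247496769172876477081665932140646289304835388907152006282148639463678732492250426657017346472220328172007010096613223924287) (.leaf 42987122659739515632857788546662016996943812221715659333559238220818367058503154293682064825381070122025358397142444500554416156515048984)))))

def certSPerm34 : Janko.Tree (ℕ) :=
  (.node (.node (.node (.node (.node (.leaf 10415798553974812708177014436581832435216990353050810276157855504029499040245793593737978587740632025666534452449396978331806980297528510) (.leaf 8304309360145674975887358424191282681113213281583455861286836430541903677640322006153271379446082752214569088896618765231612458846607888)) (.leaf 9042101992336912988983727783787216335245079080745851993554005627241263284893131077970635595240446645992127399638263751412345213284619047)) (.node (.leaf 14695776018672383437818098307482643583039754446003652269958576967031780984935470755546565742053825686374861587269901210528770967177463937)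 (.leaf 24913081563440393240986389815704372971639989787678189964462751431747974471682949686778361463454831239859222325942430636325115729044769560))) (.node (.node (.leaf 44377322605921970389466631912286451707978911005507078320061914755484716789163797850481082430784040387690949539065563527224558124012001595) (.leaf 37394899893646981378866013635680873789327759582732198992907203443455844103222107138323752238116098626105817318260879439587694929655728574)) (.node (.leaf 30124422831609170840606126073865855635923988342972330430072746636815997955924219419547041989112046263206030057980235656792806735865203627) (.leaf 12636993611249415810927535326124958216675333040419384241023360436725777330407268542903492926725337784501764964563897202775938419944365605)))) (.node (.node (.node (.node (.leaf 15496534174466621287434131308798129716945526343521767523007409789981397169403596896606170853655013836646552774449591394464076627466912901) (.leaf 38031065314644781520729892838582720761031396630248268369020197756782138515283180333093321635881692859972264860391550407884340153899501361)) (.leaf 15356352519357051008099038463660670820526828599845820112107057305558702360943282415654748222382408312990743864420118291613662997396313901))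 (.node (.leaf 11687099509801650458087883379237219450909665656356153917898854936552278138216670330953673926461180745760414543413400994046839523145090235) (.leaf 14787299530757525404271199926542979793515888753535690765874468445406607858464419708796531183442547403923900720592282629240211103160074688))) (.node (.node (.leaf 21205117629307959252059136771697042651876436326441185619982256490622225429221358000558543324051945721703557703929019477899620149768294144) (.leaf 28580825243705236699458744549178588114931556217909049362737538711179600019102142447824585846304684793136822041056847663576073323371757699)) (.node (.leaf 297499546751564767335608458283897353781622498742226066823635177749993070672969440098911631744127076540479026199106506981905243413910799) (.leaf 39387270375224876638348213772724598821579896628210354357505055951194632845281512845125666479643060302141202396219026763585733170190098435)))))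

def certSPerm35 : Janko.Tree (ℕ) :=
  (.node (.node (.node (.node (.node (.leaf 29897652375049854726326559823181586889015826080959500979600516233292749238025214558180895739813199014042520187450435776767017794824178100) (.leaf 16098475314540057178286104462615628835063218281471226371854379232741052919627634436217809220822476126689929061946792533989409692401736861)) (.leaf 5157316756118744236830487578240327707307841575857108278720549611692748695274542214233930924510650068043653357172832623458712499675496764)) (.node (.leaf 31266938333409032342892121589856502639929428762959249003246562811766970567750230813054379115058921047488617900557477377247639033506192283) (.leaf 38689751882888020240697137291012025004857756773979981182165470436609946528739450574936039794655102512898367309058678448302566185741014962))) (.node (.node (.leaf 31601887720210566789973841546533020303883745971391573653152366553661603929798633783116952076526291524167728680941720674002544869275025669) (.leaf 28636936797497556172075044738634995637934975059509933851731975543135182600950461374575313479144427832195638144562933599967955310195968514))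 (.node (.leaf 39330303454770669992328633107327457141402961231840994694693701448350419857187507993466212649669782482061697528627033295764898353445657256) (.leaf 2368367071423913441057299165647656387010284387769710567532987757484627663113021302967156125247456176727495680729518081302990850731072960)))) (.node (.node (.node (.node (.leaf 21925874832715626947800786702175615091164668002230248004802907243086394531301179952698571309242725782486305260511940858439329120017302452) (.leaf 20649116330858458328218855908638120906344419581466281624918771157107761847986713059896376481064063255963707400049613106204474585540419471)) (.leaf 36463537986488800856169224713550977406895133921584470236152345041881947191469665953545458790815504353748454041870857580561164984944100119)) (.node (.leaf 39393739294516020171455289660943128768691012194367701439595277056408938913099285683966482785515808528059314277786158209148269412414624770) (.leaf 31368006409486315807884348780724246661692895066828377814415500605131659899837756134245172107221211173290695319502372956912955116252233905))) (.node (.node (.leaf 32931163647085295072733352633400737745432097150738124028378273016319046529404245650570451374783120728408369143387267782479217379662137375)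 (.leaf 44559615706558486344904706395187327979881947890122641917528490197500141794418402017870876846963226899662650081812921528372591535424560682)) (.node (.leaf 42158928014076846122115737376192306323861607511362606972870213898209832188553493625750247729480268272739092161446550455279161053176105125) (.leaf 46008438854414003813269597946649956656992731277715709252329459855964910621734486913358801216055134918903557907677746267834313171874138176)))))

def certSPerm36 : Janko.Tree (ℕ) :=
  (.node (.node (.node (.node (.node (.leaf 235173108950520932777868109266603850508015521284732449675828537247518625346169797857986129471130405941236030443601938848948976957919296) (.leaf 824858276870253816650448765583771579980490623729929787415977339161374775858322192953840434443882849173442802809292941881221546215114255)) (.leaf 1681012818268710722348401856730096055859898200522475297671037431946128500482925178450900685553258606873001309216378527703722982955177385)) (.node (.leaf 13329681336304062909773115947697647374517701057896704127305680962676049504740760745646000517914532871644384694648557559636880319465458049)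 (.leaf 41733251097469118473989209493679135665324059721783613361345642369726058474217715117170380408803428167394558375794844255521422234341720073))) (.node (.node (.leaf 26202705800111934830757552741934382694610015147253194540376924219324863429544011397271623870054923228639007237906884941857536929618692125) (.leaf 26178228266228940332061655033001033139789776764734692055849755926092042867018653120454828051358394595341162355279289176738264340572521877)) (.node (.leaf 21903846415569179477488522451153270939782056830366151140778035058439986450802760954063611178613036180991025289496240016577246695566791590) (.leaf 28364292567080233146688139397168729634471868005606156974323560891578333982443952829980661443193177034824357308422414526182627405980245291)))) (.node (.node (.node (.node (.leaf 2272438272233329402467196235761221360940076763062651408615754202079410184945143554379487446536239550038565500566516681106299928032612397) (.leaf 3140659147703481106421106562241170384726820961065110313373844908588329686155049585016780008426341283387099075026927179530298431974064911)) (.leaf 25066497881062502591011492100331255771821376192346951707194813785145470335674151180403370243066732255743133951859592706476868556910890535))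 (.node (.leaf 9455522547729779275327686996555170776083053752886399272828810887586627878533517095582174408874398932490687443351040390647395241704803769) (.leaf 44457850277295382611867594805810607369126077624685046490560772787341213076822788119967907678971338139666374294208911210480487500585259311))) (.node (.node (.leaf 27875712398970475114265392484029436992026844498659927422485009396095888970733719075953453711507318260815525623396822959973097311356985371) (.leaf 12566778500215795715554389524788243735797906563834197588191744651907428741646290970063463048090575483807926739123294980068209236195925140)) (.node (.leaf 16144672405272667013814432301471387160895924726460757427612319584968932296720867401353237834867737094354720460927736547861743472818888620) (.leaf 32176784408871238791801415071580904175862962049421417107688685150783616601537594609652145179748372168705852241614109415047956121767759279)))))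

def certSPerm37 : Janko.Tree (ℕ) :=
  (.node (.node (.node (.node (.node (.leaf 36655813588114472523851887854345313334246887323753363863395159228903209137162235040171572832924970370395836919857002592561064323727461947) (.leaf 16866898056679820514802810072627706796934439617880145467434929845902240530263340263665221258251472649240065062163265402642657264828161579)) (.leaf 25450986139949940786043418853610806876848441052745168988103727386237694829985820708437746304983425973630617515875838395814394369704742840)) (.node (.leaf 13946617652659215537143330493509276090287252602865888913990250457552683668231452469531003134862231563743412914762503886307763783731855395) (.leaf 38125986786831638212133667647749900357972001557239585407970673618480766817901751947115292123034474294585655270466820456663260849022622759))) (.node (.node (.leaf 29278028287734421573531070373106412239623272060946790798700604671843289637324609212118167295355671564888968809799857891027253248385470506) (.leaf 21084582108834827269272929225096330871580567310637913873466025789826596261833968509618347213577202871086786268491985798880356242849537544))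 (.node (.leaf 9534985798826244313227047264120172542490739425967257455263929478888485715354143798221548508842686271380903501079250007065390488681267482) (.leaf 35185508870526856045814166776661859974708376207968624177028588426796445923112451300735791867741672485027273537533921145970301189661592879)))) (.node (.node (.node (.node (.leaf 19643424916004305330440978160725319957790935693152918396717952449342513761050021152990557416284722303036233318846978292537847506929424768) (.leaf 27199999919698419685090522095954232143325581175607770626449892489548167928193788892702070381410680883845915001736531420517207309768314385)) (.leaf 159316650992076800333564939889031773179948154403944591155267726619002626854716923126567525574757780551734865367842845659678062634142363)) (.node (.leaf 20550954013447256057094897135107801982335638533058168550545181539084997390867070951947545680816835268857730047849590800425452532725701310) (.leaf 26513378100430018623838119354427085694752260903345807508794083623216088979439553074233545216496356973356512601827342665507301172819137973))) (.node (.node (.leaf 46660713177198530878717523293245037172986287858547306121056709260304221886804759117291141725826376100043866103336705064944830817407357219)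 (.leaf 10318559320982672763053863287072717818041040749168915703285991858129071680067505221918507299501525012429729118865934254548118490047188522)) (.node (.leaf 27977973059378650074921351777518422478951143065165720533278122611659873674068713878435727636564071172513650362909438139372324756126351373) (.leaf 29937302960925897164582139046436777804987157533332738948262609517937948901179557936499621965648964115493156944155610298135124397278466196)))))

def certSPerm38 : Janko.Tree (ℕ) :=
  (.node (.node (.node (.node (.node (.leaf 32265024621528195792359110531041876487112261715893544982888953857709213979796641947228519885488758340742007462006069830785698557910748964) (.leaf 42982325984148592766046777876341816735761668207153081401019243380267067258795218940503379114114771580951208121881610663167518170333844233)) (.leaf 8184048978952792391974844096436859915924939514619008283124469482544358154893061200236975801194989965208149530158813410087421261362810797)) (.node (.leaf 35810212757417432412308941972245697103792012180562516236042725606892193610553049431763218510395789499496319067599893420859519779244901020)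 (.leaf 16019875574118751166312010144897687940360431497870759793440502178340452743042644607702665608931140856068049116239474249245949506886681990))) (.node (.node (.leaf 46024910554220974563244601949291616870913081326515318321057396734452532678534327489935210126291705281527023413917292927860263739838120591) (.leaf 45229741898051621099947971650211931851844977348305690274236158629409988543377403271513326186085853972175184114397506187348564018174086707)) (.node (.leaf 2364177890196856789868398439660648940215111670493277089994263368154765749857889145895911191229052107326042421121477028221553584840317441) (.leaf 17655180923709010312975350779105452205640278287044023957806173022973665729109881277416269927212376624988698038396491781607653653745583648)))) (.node (.node (.node (.node (.leaf 37342315524999155478320037408305116522885772186322497300609561610951310839805032309708067681084425363981222478492603303170633288489668157) (.leaf 9081944824964850288971180664000037134013254684593263860704120433942983530329408496755020527784539360044877190620655051386740301756303403)) (.leaf 44385351238772890943736107700251450186963722746574952983104149801560038794496081847650161484573088148140847146738378741150264228181482646))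 (.node (.leaf 39346461109192840022914208569536630133375132161265979056321007986667675019174670528222916095429601690081059309967615428911816597223986060) (.leaf 22886907852789619456013546669913016604669894658521800685489378883572468982464843600958019760362898260090264851369042599544458494280844698))) (.node (.node (.leaf 17082634986058758893875765559787026173632103689848087362894528902936248341037283792000268468823785429276946005794637655438029693359557415) (.leaf 31504806019419841346748352979753100313945754783127152891427349978195489443831151498786011490214079427727467430262260099509595982432247441)) (.node (.leaf 24264808154625247894336385783785403151878959622182066693105120125958203412548804431277594976669492430176193514607877470146824099588150949) (.leaf 223327134993453882432953901036986488530651534969548764581222045429613195101248763017473523663458198701184121182579641243786129743072654)))))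

def certSPerm39 : Janko.Tree (ℕ) :=
  (.node (.node (.node (.node (.node (.leaf 30705169151145281496912606118164505649043296538623055063250306314522774111602388239231070951992033781849349976508713944026722174247131918) (.leaf 3123363325792863746333150022165773510165354962657551171181352997920767249945214199534384299166523560260745071560416497596331475952025777)) (.leaf 31574425073840231979180899279915712299677229543648041837475678177482024327825893358430970963433582222225314946420851123262960963481930256)) (.node (.leaf 27900879678148686200088221436162009013705123135480743004552832894661553079341718846388335126801144459939868100823632510306861226318626845) (.leaf 950651489452175248642176978013795286125255302918545645459587166417108390302520907381231301734903338102610313852775719242938842272911513))) (.node (.node (.leaf 17473736454676709637378984945563271982630466098737989481205886128465112399395632268504537467633855999382590456139083571323790903864906240) (.leaf 35134047319608292474786622271129620973238134010116154518152297749261978253742563223216319886997941747067222459604995348442374169690444423))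 (.node (.leaf 25763079570859819737931174639664892193240073996256953038805591490100208324552781918339981729878341699444078771412160615028293952979686792) (.leaf 22668348911742819734365971937064889069449263953525551684557869475457958076439915119353951290000497638137784720884947739201161313602552591)))) (.node (.node (.node (.node (.leaf 46809691224899561149150866416356293441580178030248748717838786920084768953098863627943148433238038089463443118063119522921366395994524304) (.leaf 7492705972558660320846865270452334660740295166483809109785691623434550061114042498594812286228375810543937958629110438584936579329595405)) (.leaf 40312932309156516116383400524515782193700844907876248536396383764813928946397715303078414533764805896049766359249830812950023990369469738)) (.node (.leaf 2489694643455484449024610813362052227428262143171554212365085774141229872567519387194889821073254924096516368503341075607979835378485261) (.leaf 40879805771458470571347393491051257381700714487119778937747853637275125524075581637273559471950775707480268336910584967665505298721787655))) (.node (.node (.leaf 39263001049251911140647750206705392249484735920714446046418598168431045687808864748596487872474298845390812258219161466506918466390182657)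 (.leaf 3232687897030225285767807263475226149069200223653965249268918490730504556551820453933559769714383831852999735739611555934497774307639952)) (.node (.leaf 34351392991695396486849465051153088958173041673374968165731440596024615981558071446488293524405187983460586838746476755220962508331144246) (.leaf 40744767767163314259634481107938439204245492627119450338742277479128820574100386977929595601663323336633286618766223956754331882521779621)))))

def certSPerm40 : Janko.Tree (ℕ) :=
  (.node (.node (.node (.node (.node (.leaf 7509195028422956194921269711223141347495475435897428957496406841878715201464307353287006775713135001139293588061237114596885670872793641) (.leaf 23294609400967787607883311346340552098077266640118488546247224957606101869253020286240727812895604167717694580844169947885127811077560619)) (.leaf 4497803346877328651006439912246624991012493778472391651296570767298175011978825949155665565040152025682807687179588950205894971074086202)) (.node (.leaf 42238451007642994770723663749531060183020675230834789661714036279283878839501488162769455577552697367150015923174093303165689544349420811)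 (.leaf 25751691100424925846401073714881358607356311008419219253302578672444854348231397679902564015640658064753943003187036227957760095322871343))) (.node (.node (.leaf 9569405052003561062455304724268206391611108458584318596476739572825252130243328699417068815654470596928736561888187138908905081351197482) (.leaf 18443710892726828188580069549092331575042577151316840967843414162385270996733585162311264221453416612281199849948912276348329339543607997)) (.node (.leaf 37269980068280721861254092550059598374976803571736026548721332046209231162810597073387589530925771845369402011802113148764745561979934894) (.leaf 17753618939981854885084389480304059159524499192490269545203154244790923393392954236162238822811837723608533372091655795897152845028217631)))) (.node (.node (.node (.node (.leaf 43691558946304807055368816151310601267587625342350504189164218967458672598643244290254917284985751696249289204098083927253669134358647860) (.leaf 45961640652371346041726981158096190920734035361636335183963785926615489758901099461609336722920684614492509006121324912822000288775823410)) (.leaf 45819731237081588637379859062371619612466251808672184808792728367043810804247930417765837861535660538861840240938626990057439893309970489))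 (.node (.leaf 3787561154635949215676308086542030826841091118263443460107052620013662486812466524769830732699435437953136821293649389453101458003005586) (.leaf 20495059131591583243610341015730301677729872542750516978398737083451477881945611179407551666594660946147255472071036508195476259306065955))) (.node (.node (.leaf 24934437026344823421384596620059841695644333381358755150523913572391813623369511876010267652266056697819118067374875238469501407531522213) (.leaf 16014462585510431350581378021019342853553690476982411070834893701450236529390552569236702207000270994745177107664390636131651223904553634)) (.node (.leaf 5845234814903490052772839070221810121746541913789777177203225911276403665416586564843153200017445143746785422967907853016028079450608811) (.leaf 22009585499833414459008646288695719472592162117409175206598537826671080156735754182183103672641767223395123384887832885571706343402771716)))))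

def certSPerm41 : Janko.Tree (ℕ) :=
  (.node (.node (.node (.node (.node (.leaf 3742839446290336647770334348141932493229164594958866654464391732339405850831605882080362613600554048157983336231373799667632275712726677) (.leaf 35657130589337631065467297499761014515109374234031820131447538041306294684134887406511832142356714174965451414300570373009965169523215361)) (.leaf 25078611761114355262855032453682462321790585255319496625574079307753564044535027395634160211933454041930387755898894063191905361702654470)) (.node (.leaf 19956840642553271216114143839138588276641245419499179311998223274540006849369653888982442666707897998386795641991936363881194124374230942) (.leaf 8081563455050854256670736620518915763470707860062166822321601335116960914730257096686469769866692709969382708714440080399149980847966473))) (.node (.node (.leaf 42959100308035874559827264328244275745374605722820541184591203596414412268030269267319970300903976903404987928810607373657733345313622845) (.leaf 21903574898109301547607602626171294701718052879616968076304914278574503997763221712699627875469237529934709574094081728821877558515304509))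 (.node (.leaf 39347793444243505906796108378986217163189364270287764287556708784814962314809842281332188462135038187427031536297883617473367843944274223) (.leaf 2432374468222861107047518762439702441728607234279137399872213389379532046006031675172261893383660505077878285337928542425007248875096737)))) (.node (.node (.node (.node (.leaf 22874041273262714086527065703080859753937124621932913373600284964732606603055917660111740649647644672899041845682300021451519852298816814) (.leaf 35973478634136676527204438198206268617745861648051174191428246751509097151252502278388903287192447440231916796066292710992222606040925603)) (.leaf 26997346558494699878795323492732542324487729102852194460810052497839305709785293421306092229098843821092492877526420430134794372260037166)) (.node (.leaf 14566692688681428192631288222123441168368430978228650396708174633437841299163074665655644611275183393873870765181566649058368857125216002) (.leaf 20461166266865070758284293611172822799508420656736252107089006704363313760899448956172897519276249507877741574966397480602614877400009023))) (.node (.node (.leaf 35854003652502465926627487240378064802312804527888239397515724271484570159172233312639578968224139418956034258613644563511076895473456900)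 (.leaf 35734627444223747204450509191313471649692209334028729801450243328328861844282385484434782151650909542053619830168082714846726948527527481)) (.node (.leaf 52799259631085263201828568921257457252930909274519855036416415615526839747694424178400626185812473465132806865330536049593437573696909) (.leaf 4595635291326177706041582501884315153166443470409312293250843542172841586265586677958991006753602412061265010503007921005918216599619620)))))

def certSPerm42 : Janko.Tree (ℕ) :=
  (.node (.node (.node (.node (.node (.leaf 26230408224974520296497177364052548626017784345534156331628445774317356818122788460852629010887504700332640446575936432037524098314405511) (.leaf 40789395588588921440223692344129355475477775119870580358890540691456571610446917901116498475175810436667405599769482951687336821693354522)) (.leaf 40873465654894190384211844354165890370766279294553015971905009327092765242806010333914926665676654215497563318021304404077513588248678801)) (.node (.leaf 11033328249153919945508305819422500029644029085240745052853508409130772335461171048011042130983832549676330036801677189267957772769189273)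 (.leaf 2339527481222212852686547432535310442603429205087615440553440963820994545403921143615958583190652954690628997530992236991096721817542169))) (.node (.node (.leaf 830205705514016810853342088495163322425997579674877692467751968096020645304987689545249852286102492956601303474641402311761084226998575) (.leaf 38047913134803654160204263635359461738985178238559419740349450544961630763047844299117758606782632161621265859176126359953100028040545577)) (.node (.leaf 4369526143921426695903189401955888920858970498755500195170663372633834381685452024797574212036150917018952429262747097915870418212916785) (.leaf 1454317029507897794077395822452054077118139196558190329842861851944910121793385527993816255232998353786690565900727830291509618741644554)))) (.node (.node (.node (.node (.leaf 2393061496200509564124012568506942767240006042591201315260913802745652916597831473864598424291211515025520404708871579560726757192421787) (.leaf 3719830043974925957113245864817936485339779449136331735372053515295441735879745827108975704485375340108779276880827259433169363522784027)) (.leaf 7446510589955635331458637424826969471586699589300397047379186954138692881113337066403793587399600384155280660568137772830953746972416191))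 (.node (.leaf 26259055690214570676299941669981350371434391305735825029144896693043890862790974466321719377294270552018555094773915981740048352627449387) (.leaf 30028067009281313164770823586253989825117511017319602064482402618630071541949843372858969279884752609872381489669921122989709972801130156))) (.node (.node (.leaf 36621564822781491434040525471925641381900616130894505319567526535786844086408885827195535954067200446114559250548778632676291876634493192) (.leaf 3141639373609641772737508476029002377394503316187389582731573920209107576978151104444941062614047880649590002136507136046681967938657952)) (.node (.leaf 1456400725207499312127528053247551931037578896665583722350994037683483194239638945950898560456876638187640584541897235925055352381300638) (.leaf 3794345219755529065668211830516871177369158440278198928634579536957314111327513598697268935180034770445856613359860357820942540939676317)))))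

def certSPerm43 : Janko.Tree (ℕ) :=
  (.node (.node (.node (.node (.node (.leaf 40908430679949186047394044028974304675142005268735089321788237584956416208860225791163075261834820539910730685986896459568806524957168915) (.leaf 29193963046991159057891937949123986220492472255830014974025236716253603556439928634088458144177699912042462320222306886000511789543408824)) (.leaf 39568217956300752751172781298777217875118204032337048823942843821151719318088816303260131752441720591790568222420420125138385528725069093)) (.node (.leaf 5900881011990934686162807012206077784717680917107362985694326805047918109222732160728805240841292596070743503769702357752201783671888014) (.leaf 39267056411668826324664544398263627908163966083621108428351264514062264994881733981435908964151375764789474661273659334164726334786034824))) (.node (.node (.leaf 28706022750759805987670933891343726932561207226879177342928569236411847713529319968808083038528657100561104588878294666892426944115556404) (.leaf 11056229561408031231038188601643507835853410231310570862014502113855848384230207546363662126867405147238859309067272682594277875897604903))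 (.node (.leaf 8030112905169043239573320895835578552011002351212259136756110724609870583377918036616325938261502119717277603675514924170936057321737913) (.leaf 39982222255442993760895352597232904295008124110413760855308397352230432248424633010671667906558519923970292485874955078002250448231731479)))) (.node (.node (.node (.node (.leaf 2927116126341685207953801351205999044164887211685605155651740024406727513453290927370292098388643320504450631273968779260609366285487923) (.leaf 25469671092752991338085221683777451858377329464545562177462276628913904098208695608375101139092597626330330964059921434067762875707956137)) (.leaf 10232623911121651246358226766713173480774638815200094133379789055885388024158218195702381659491882702879544433778053454025798326111912576)) (.node (.leaf 3034284072279318954639074628282785024969274530958149905743483267351228293625123608882845795913479438160954570700533859918361609760526095) (.leaf 29313030080709550832659099963496754988850520754258838349342145920941529732839519810431288137620886243458846461689077490068443498761376041))) (.node (.node (.leaf 8762258102826553299381422386419379595448558922779740552364078158449275599886065378194170924923940448819349621904260216394757563786435073)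 (.leaf 18190499660130411151713650347890187579073267854863340722870213441574503529550123449024007151345479891836577305771417026369225025248429066)) (.node (.leaf 3056383145156233627383961685724161472569657211846176777201724210813315326048331815159865033408055076511366174914213162832614849134747565) (.leaf 45405021961028276662463161904067808952653988735376603058084433268215702339916554280828096394767813020888635587004295612859321730356757158)))))

def certSPerm44 : Janko.Tree (ℕ) :=
  (.node (.node (.node (.node (.node (.leaf 19693466779123427908759368786995511593102253601112056373556323948273261574919452234180913944829418349530869564793672732504777756754460713) (.leaf 44679157932605532297439059759235316345828292100373951047496397029152247909553013844720058055445628916044584480352270788638578831977137592)) (.leaf 11682489200159081011474354469684718059893416788121074563732080292618866896311021378296928368688391135331895950201150733828032197739584517)) (.node (.leaf 22591641023264613125655361962396744456374400769972725644438501826063032934449439846898507003668970452472549828388777346709572060762016285)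 (.leaf 15453283675684131139688206217858282489838267043595042672473867541596598634424130155958831814830354791098431475820997837786672609068961216))) (.node (.node (.leaf 32152815727003068129157829779438930851960654334675837007913331196612832836356766757157028297728362468771384179117447278085789787275533103) (.leaf 22618155068976091179523789255231711131621375657181103629643119292950864663585748154654969136708979716600769342173232392735810678834909612)) (.node (.leaf 21386175726952162791685557391702368486836747722215125488040666184243216566814905925010164074742934756996831811043461735299489159698564791) (.leaf 45978451765220322637666209067833438825547080060882179571309332574399342676274141489140259468748993350633452791317693209266378086056992814)))) (.node (.node (.node (.node (.leaf 24286745527570195954107433277758329178524952919733709029212146937713317697356782843636611086663434967045101902357516310645757926871865133) (.leaf 14656341454032122839171706503441851555480779709540493198756741947314786159499517325255474514456849553551489985260479117989755314990531081)) (.leaf 46031610033090541333743421625925502796309441321292883954235910048217899491226621322014674885717862616062651810542727500966532832783716874))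 (.node (.leaf 9473446878134957747971152320886958832089742411264670105957966672141860550192317899426811614431801799446293462649044634952431149330516275) (.leaf 2408457712422095669101725107848256383260911963152773242957140885144391633951181120612126034819661225233708314436998241408054125052808221))) (.node (.node (.leaf 31324624089798959840667143578086814580543874300775153482258169580648237317118412823897770568995531428676147385716921348710550118624271801) (.leaf 30788544789005937214247438311540360569843366234027485598725435856760073319487068153335153567514825528346709169342864284416050945866078234)) (.node (.leaf 40000059411659658406368566754690375995951603198280751903543621945090062269497258096062920432260307387741862981996258684523810794951820310) (.leaf 26247160262375916880608552409639596004103216968105889354263989056295663075906483547750337632633003885383092970450049757171112137693186315)))))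

def certSPerm45 : Janko.Tree (ℕ) :=
  (.node (.node (.node (.node (.node (.leaf 43037266155711847423532526378784154397129241138718239799460334934576756491490839115179341874978046867393195447620573334232715965828731570) (.leaf 30578880275183617987709534333286527884312155024359231030352917772943064999735840100157093680772162497566487474682953216378024403507875981)) (.leaf 43680818028239137985059638869277159351280963871249619480452329162590406620021643134747773042646903419049291338114935961095509336717218751)) (.node (.leaf 17621867713178279396622708435105419450721033970784109020982190439783146275663176746056346375000608816146209045594789158537755004008023715) (.leaf 23380304652454399286050291211537849788807743514871346014559901575855134028990349958026149770741458325719495525199122547548259481669258242))) (.node (.node (.leaf 36591846008806417911367435725253911372819213094963254115303007752558821685882044809462923104805835808950826846780143343638622295598455707) (.leaf 7996835269995224235570124075315053793725482111154711927563519571051632646046072674807884923455461740298702494946309677556766533600593429))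 (.node (.leaf 33628450647363205218932811329796653515445391667333189795078401725010319728103312216950503607145874240685369917934371148473538659473775040) (.leaf 29403488718986415757645236719144212899084832189200272383424900338120668435738932888737182120742407880932372737799022813687382062825756426)))) (.node (.node (.node (.node (.leaf 16980380294092506691318340892297575633536862086826751320089643218456634681421150043358372066316759225095118265699723045891325383680704924) (.leaf 46769363743269480320823220228829008706556062026424571133350806461056462875754236236971277871759868336121683119274408852877372534515025294)) (.leaf 26485886435079904333076637155885962021663059316244725881454729104604503792689427731683098353448173428231230046956997081063331166716844712)) (.node (.leaf 11658091547696795871838869416794876358513037560924477670596829308732543926875691145600266514296066152876881552984455520003228628792738852) (.leaf 16968299187583142003663219606465497791464214776079693442024460932490252319365025156811579306980613191185624517289046747044005482715944380))) (.node (.node (.leaf 28562763745664159075359005630558246355143493747808763951239472069064454208547057194840989749898380208587355599436452596571094201454021282)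 (.leaf 46758185032166911317829968252022865467387547606818969137597855828338079310727877688073407933123797818314163120794547696208001629895590657)) (.node (.leaf 19858525926618330191762554674122557782240447984027538497281974490312788581177473773814049681552357223141294393326961477045256580822503345) (.leaf 12589929286533118720373885483550314573093171726538133535128582596391650954545409528460364499334924526200559381328089921545961172606928926)))))

def certSPerm46 : Janko.Tree (ℕ) :=
  (.node (.node (.node (.node (.node (.leaf 33062301681634553259054223632088372565551401880393889338994625180522708087376549375924243410502098610335176754461316120909138185769419800) (.leaf 37898412475325352155554289548105034243164329732040244334164927072364950638090830872132368849154496964756319717679133767639439958107660171)) (.leaf 36600222892991859715276018938293732786676106788283140942192254629517919445869450014978881526158579022255930137442745754415703724445882255)) (.node (.leaf 42368528397272122407037292473731325403466167413551287079223996398995357644438562267293396096153497260642304853754031588463161960078789019)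 (.leaf 30086902909175331485990694445782713082228318362143595661938201997269868589895606223054888521877724887216481966361739076969471473813030719))) (.node (.node (.leaf 27148961730263672517954009957802482332426662600442731744000106521877730030182213043520925947455081972305808218208203621403943153017473466) (.leaf 44401621600106479288201021889374461352927675537260486687009732707270856401373895504152597365554456818041483142591928032582592757171306782)) (.node (.leaf 17071713829942001778046284115500061221170752421054758739050021177297581351041368773712169527558672375179050746520747664764329791743725453) (.leaf 45353612540701620125532125791462550173057670541173922755687197753423192175181895599577094142528144824494633643117094909465827759100351018)))) (.node (.node (.node (.node (.leaf 21163589289551790423266175583113444159014774204814311866824269675155879121569204139189124267365929866786132006343666701092471058482225203) (.leaf 12635531794153756378604160216090155465307102656196675780182783809934974926425408270097014382303836093173230561373946629876016349799104542)) (.leaf 42361070581201985822812751121673809129780809840996509106655506747354868846323394703773435996578435956500748996386699911046744270707187755))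 (.node (.leaf 40994092077143216688825181082976769305481316173558265089161504764745686130108183938915030379325446269427726367687625124986606513048209445) (.leaf 17741070686399028228895906249865755698473019744154402515992069003889502908809296437193083710186811598104640768069694436312280450122563631))) (.node (.node (.leaf 46012475907794831600891132317728191634357403347027055348907703524543372188166754621122677829594898427437645133716657881916965061424339761) (.leaf 27922160614056688026879241834813843914507844939771138200973502648768493866583574128298708797172335255320341739226850658162889002459037706)) (.node (.leaf 36452359660340459647895953135774297731198786830428908202894810290120055583587331792829484247202317016719170886100903339598267423348049702) (.leaf 13931376780549801343573012953545829573951296840526595624480980421255692697875783089642838082677047399440290689250858747816947630115526582)))))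

def certSPerm47 : Janko.Tree (ℕ) :=
  (.node (.node (.node (.node (.node (.leaf 38052663782962939306479173637772997749439043681377816951235573422813700152508603945779922950254010094578391685816859392335892735601936679) (.leaf 4657912853651607729782074655993706027928171436621146719454510919139489107664684229498992065202398562546215651303161719205055397708514588)) (.leaf 46070551913532242277929544597044490091849111336511475370188890417785617106070585833616938943404247386103742845524476577545595510535118082)) (.node (.leaf 6872010683847537022632007227302693524279683237967377755888115957230981646400480306832205755151944422131500882452299239982387333662020367) (.leaf 35149613442171715278913785505115882955013254856050605993411005296084181813936381351476609103026332285345271881379261268354110389486017177))) (.node (.node (.leaf 19108987625136453798586744032255671463854498745174699793666079344272827881653825600141763937049186592970885023875216283836270270906830228) (.leaf 9029546618623090417783966633377171642750867151948454486426263736502237844248545418614511205738856039962520477200912288414028585140962049))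 (.node (.leaf 21420732226716800972263860918156903592140654721723205255081267907849231717554027772495420398469754060909891263793078821762006675030805152) (.leaf 11976445638960133732693571111056878400228892888268394599754864927719579757222757111658038670580941780377875969069801007352758653556575156)))) (.node (.node (.node (.node (.leaf 37960482533876577482718640564087615833760083294352892901822610006111937125384900245621806864954318161996421154019369033579802178168701756) (.leaf 25015174822143861690923313670533652290244431336706295591002301909408668130374127111826683753941955986615169991572849997176607900240121918)) (.leaf 35771143403236911417611207543081732913636259205744316595193657203334985596334322598879093365453339578825490016094392994964255431197246858)) (.node (.leaf 45077404114723436184895414437351231490044566601852121140828564074133487257556123797424855304232311692306099144302282964969699838410622780) (.leaf 27797158856478502911480773711976682961041474626303872984400921026827877898732226860302049570471207193728946020455803473038561296161069070))) (.node (.node (.leaf 38653872104071596380986788778179267727520986664621941264136800893476369238158141670239942596083286220223651466867842292018726312851217555)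 (.leaf 10431496093468077404300885470011800793166938894953265454753278327459636931111915122961632292481033196949577584852593306821248403561160250)) (.node (.leaf 10177840479890227699544395127232170013710175097442861341109394919823839950108826467101027699243684385357500077739008986990795902127623997) (.leaf 24832262342288108172106423515197345231228784513612651216081742019465803594699973272651073839743427524919450690744008098137540639538795780)))))

def certSPerm48 : Janko.Tree (ℕ) :=
  (.node (.node (.node (.node (.node (.leaf 18291907231856601972663020593298921728029540429671639756033243163541635229880773592259118854193929986338896663614195270124391547300552112) (.leaf 18212050216689692068424539089774988810831312453105887243521611201612478940823217161411461349250694260365392824766734981493442735688336512)) (.leaf 7371234637206196834143578991017613874046960694515016447504949087338368534214083394055702016478124414967534326769784467469939010786186)) (.node (.leaf 45321573611070452464883280580243108434515409781461822682715546169703101768121031853322735330154183467505043123098935192349724403187569035)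 (.leaf 1001851641142578814634284921920258413486723041919684730773105569636928256090089297803926287125395589669490419826697265436023450421649034))) (.node (.node (.leaf 19926230353566166771442684852399397528859560485770905413024174605516027996359399319457419245511929249819776091124366684241064672407461419) (.leaf 33499807148857316389490604288144165848917686907328861234406623999438156230116704625945182377184228912366603730313037957753504211449745197)) (.node (.leaf 33679774461446744992620945563316253429338055303879101941381978437677743039224756143569592388339590279699938323450694994026406210840316304) (.leaf 13425597720505589140732936173138153706601651571388849390428121669565000687387767929059601635450352364179446511341096263295361162742087861)))) (.node (.node (.node (.node (.leaf 6003033698287033092056195338906085717952801626027272488476531622283978727852558571191236387560128586280621447654904321683948644778806793) (.leaf 24254124016000269856386895350720916975227511984055820216102304125373124840512975669719600804874341269395399765185174207884480060200097215)) (.leaf 21357295659099296153485227888693195316940655073905807029556937267313336832963513732679377117844860935644862947613274029480702823218397466))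 (.node (.leaf 11256970394400483043091821309815011220363856891004759109133459123708873678175089346214738951027794517486566301747140998461019619026027652) (.leaf 46138689559941446262839691573652326526609769808836738234220941996562378298387696114138788473514064690342079811132475588518797629656144427))) (.node (.node (.leaf 40302472772757577411143320506129409249583110918433636949357531550991179512512723994262458949723849921477719083962601545219379750914151342) (.leaf 8116650959644700334322708474348780141530904161110974256062182739718836365189315065034423283192633631199713615335918125352579889325759512)) (.node (.leaf 33515823344948625573505120996928764036631861570312252989111418528607150847413998410075272795838557808244514633177673907284120873758330269) (.leaf 16186094441334290246691027169587463406427390392813501197847964428229561209736768163754110249384010013753417676166638195945194115804976518)))))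

def certSPerm49 : Janko.Tree (ℕ) :=
  (.node (.node (.node (.node (.node (.leaf 37212177086673802508870890989631590744915822878809731549726877428602193116573206916775441682353907956543419111901132973434060910969080194) (.leaf 33627654111460052603966657877240805902021703362102272787708106851134505671270555118849971756784955798053011590911373981216729904083568559)) (.leaf 16719965313914989467808195962415860865044046541601808570584300697319158744442766615802021119572176396730289211520241851317417070687555764)) (.node (.leaf 43782118078438549326249227610138826557509380747531789693107882619263086619798923558132898579167004067467889671616448874015262926298109353) (.leaf 11840018487949592213688040442003282179477179819729725180473988374599541242596981660515343460669065995516747267707757089090927067749171252))) (.node (.node (.leaf 34368690007424061074062726359204122736682260760285047456444448961174866790026194769565911091072227029428796799604485475146512968039842476) (.leaf 42283394500700735506835188764097811136908991662853621516851867506810714055158098004911168863862012006305391553438007566115691133913139895))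 (.node (.leaf 38607864229087791766951987175537535395796758943614368767064438499628077434475927331819216434550257231096578678934142657417568519436552237) (.leaf 25544147448586401439400168958867621410641752080490401164235106560483878937148261626684224611776428477202759655500399401912598053033183266)))) (.node (.node (.node (.node (.leaf 24179387156217051972706871783838165401080629582818146549791289631956272496744394923125371357487623063227515169112865861953318544064102664) (.leaf 22869352263871456939927471985693018841668347240531860402147772936892709542086812736470122576390652353779232653022835677715854541394943269)) (.leaf 6543161346544794808827535472658326883619600509200175879710440065832863348337904622983354379824853207760247405496895781760367721149831733)) (.node (.leaf 19871317875768411689784496551711962327997707742199408779922155312554348070788449594230273262422353747794733125137815079968750948944484487) (.leaf 7507830966428033552463181656997424100275823612148035311771699041140790400960400542222761332993042948729077172439658367486811024568783631))) (.node (.node (.leaf 26229468851515638591597465950623539147690033905046087357924692485277476627768829488794020216352134950974047862623640075623086352102758705)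 (.leaf 37860659243942024186049817879037651987029468002815524810903651230627186970596232893195020084539372625311610374579155144286352916255036174)) (.node (.leaf 25759885336339330045984512298313138148299300127747634330603995324775106905923347658105926077777077468560660984241038148132794067388892818) (.leaf 35917440953895970621783973765781326374853791272927485272505257800990012010115713732002937038136900059141591920176233884379699607151006853)))))

def certSPerm50 : Janko.Tree (ℕ) :=
  (.node (.node (.node (.node (.node (.leaf 14010322915832700221897938375292810727986547002543283927341946648835585802553452160248344911263534877805786281244211146883707434458631482) (.leaf 31381311700540013306778482020617726338137107006000910359370618922535023648323792268008893476945900162329806049979250384155283356540935041)) (.leaf 40109135928611231974732522528834612977076468603974361347235437420376295641633750710366762270731327071416190604839361040685051402120879254)) (.node (.leaf 18511996583310857338025454272569719628166109485229275051484071944954154379225059306404056264771508503611998756545000165623312255138634524)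 (.leaf 27713524350499902242504415440147323842126938873823412687736216906077854629368208061972234276596009159362157726038690759321613364508990377))) (.node (.node (.leaf 35899906893754266174930161887104645288105136518460314653877603211553755694429162461272629995437244173183634825099167758155293363817156415) (.leaf 23417926457794525856421560534085110666236321253568308382191185650434374997696985943816010883517552244408908999240374367655862917097148214)) (.node (.leaf 13816688284756692046963387629972429111670182562312857048477938551126140789550616799336172480041371124573744316224550707518916885748041767) (.leaf 19842561947070487454083298966823918753696647851929166247994669393713178665624582791618316139869280136447036740334135001847962475579218954)))) (.node (.node (.node (.node (.leaf 34351002876710824342150577387115713781468412125957478146043137600578576397958007504972944866212435070768968737174327535205773345234001564) (.leaf 29194135930133340549818305085687772904573102096253166031395027635960087403198033152140037098478948483263579750053411114254761363736467005)) (.leaf 79685953427146294208349173769903783289862100647520971057757362622404776386774685249047866447752324858140891097893411867032570502157065))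 (.node (.leaf 2336468845059177530337417176219882196583651460999404864827461482101807734561264475241600061183431291654864515264682423465746303948592145) (.leaf 29353893642746566323637568394514061745727475947440023789321739425595508373341467442609492399251534334367567692637685886848757907136912822))) (.node (.node (.leaf 934072236108441904057322966853890035254839815120108025548390650215073000129222227716209726145697672747371047362793117621494629047943820) (.leaf 32323619049247037461148492465683151144902323706589661547197557894663404502682243104529440101520962115933604423297690824287357403113495743)) (.node (.leaf 22846331508000077205120965482786841843899694487467034983963648724620755093243775404504532597318065770965801371012976896076859104648043682) (.leaf 43038181107225056772496359969878351307930258763772473512367708828219372739127232251436271799788153117399765312924429586431821388550898210)))))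

def certSPerm51 : Janko.Tree (ℕ) :=
  (.node (.node (.node (.node (.node (.leaf 5094984814756699306210559989949539459764230332718350085185696836557819209323989150204686415555526554426935671464193010907677757165789095) (.leaf 16083635623189006015239582497797038903541319662763536790270141793621881328976112960694095482081366917809861145495918873055303033852745011)) (.leaf 5190529580365581354111139548508591105217100100619382897376161364623680488880000997755931541776840636279089271869993489858153877372109361)) (.node (.leaf 1807934870616215884223592875591125808513327983224327161428405457943923031152024576392928800896870978976775870337071479635839595641298309) (.leaf 21188125041826250633700739883193759091094265465023366702188462133153723614924683965298204633337700358911791395540808447848000058762724644))) (.node (.node (.leaf 46798244945862077111446620631152714276545345853053252873564140910141626493235534846869937548773075809098078751483861094159482980239985554) (.leaf 31273246231090698064852521764352146127672302356407945664696423010409777874391190580180823527395949752722118165565766488218016495572262314))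 (.node (.leaf 34269977788899211951092639477457661819559893532075956839439927807745484902867171235935137073549774808093322636196048279989503794623267381) (.leaf 30580600692164468623114214331942278945609780899190552363105747793422255164267702985212352515263362130740942284746487239837018379284087727)))) (.node (.node (.node (.node (.leaf 30880094055996226318183701460372871420824892021931256068645012518817157075640992386379213058108697016075201631937870560904003151255493919) (.leaf 3203890709198236875754530422867249006103155117484138747049449907300291401492029286545394241715088208194013346687900557173446608397849248)) (.leaf 35888593726726344670145936485202435140268397332012091652044047618995078821899272359030354701832956844805707437938037519962361535710789812)) (.node (.leaf 21385899110700773677964330555369151341267659132323279119910164557201888903992359077869582168090660177266406905021264821638313198517505937) (.leaf 14766728628066157252655754064219896858395328390762440904155885828017419592654759098959925068572560002670022247331193805596464098824392869))) (.node (.node (.leaf 11766146904063862822411275409530746771590723303168078623511120030462166415530964851114819193769162296629181816296385670025756638756642582)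 (.leaf 22056938866767272018447037893067569822869617563628031962362746073504473447459093254661111788824208168396495880761209691352834448344893729)) (.node (.leaf 21437840609631742171313858783336649204325458407725277344003789169668993908575177177956444981835833686596039153521864597859064217293869496) (.leaf 35969427849383958598396204986558627062934060253042518079256672605309922970815297487782035227049920777011031127194260896149108708709010574)))))

def certSPerm52 : Janko.Tree (ℕ) :=
  (.node (.node (.node (.node (.node (.leaf 20393554469814520138375944157679871466343752066955184481385541685500244280021459242948874897042470858251301057540162562179649943959246231) (.leaf 20371182092784535100488777080438014876837149761597697469617617758984952656937547064836371817827674945032313174571108191677542882900787224)) (.leaf 806837986398546760903608865306468550996223884929720535736392105432604847043485567762971736840358645335821518895622694532454955515891602)) (.node (.leaf 41057260004959953175542406661805008501883893633928866208213359325024902133729716279997556475827091702949248294164115410910020618468674747)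 (.leaf 34221012157604546441386066761245343900916776732362680003102860153522952089956075970818192452581958698743568781841639275110664589062000556))) (.node (.node (.leaf 32937459720708216768795370742146000542216471942378263393842176434033658216217849622784417174743501274862908526427078056482033373953773115) (.leaf 44525926748154899315002401556160563634474295631280963582939141529148013917722767633737688488711245974541130437909581359671551697036973098)) (.node (.leaf 35048187849867653374790430269813376510916805685079175472096390282642229013463010544972991701593274214259207206421091153620100961014799657) (.leaf 6566439823650720104509462205256637561491293686069944535783559547494515645088584460563355595427329927371371929624936351570340427713844266)))) (.node (.node (.node (.node (.leaf 11870458991772762674555088529474944383037893468890567378104201271879604505905097704653869699786304995609598224689177322266434784723603595) (.leaf 178428013585650896594516594922157534125927441003824782500264970217051428681553880058896295136254800886574001873038728591245887933087924)) (.leaf 29352818976975996166720780586319189107533762242248782887820633830305803886107154048046356874038240858205691159808727377918812869962355616))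 (.node (.leaf 21969990160370085434633716675793404285160580519467729943170628617288991300328840169699267089760222213363875997251418566447960765455860514) (.leaf 24056360653638850005105422215997773982405975847216025501463926031703949961644646582418604232027845430286490541569721948025248392956418464))) (.node (.node (.leaf 44430464958115996365029471442498893034668618321622786938554511396439449577536467528120473699314781662854210402973551035760916896827268633) (.leaf 40192447022992601791336312153533798229161166543096144583524714425821411832864293773017405818926994121758139905902326744599707689237188870)) (.node (.leaf 46036660489798714190606205818399041441960064372560508606709184552546407585486805564800592980531175290961640514052561844334743295608690461) (.leaf 31380599850742380412109191604745562177433740014561065806352523482251808022984922986054031699065968034315739387235305354241863086728660361)))))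

def certSPerm53 : Janko.Tree (ℕ) :=
  (.node (.node (.node (.node (.node (.leaf 18190451057411288351579597805216798284864273676825369234789731852963033472626557601448557269856049451276303470783759398956436787210373043) (.leaf 11125474419208933316800105611674076426617320860568354785344522591825209604542576347384456057349042356678315763522629938012928238911492409)) (.leaf 6042522450703419543283459021491316413608365884333275225464660812582715707082321940891972661441101404376062286734836587620735490399344426)) (.node (.leaf 42254620505756811976076431899533173908734542321472350106547355173888692007620344165061954528319523263667056165517081165120098078676195003) (.leaf 19711334601847948663970944290845804215475644165737291344347746244164962949978507886093031674653118828132720205590882932082344836070755500))) (.node (.node (.leaf 9706878895219583105679705333235794969804958570315971844475230613322727475128626762672654488198566009056459557943079408426516457798092966) (.leaf 40324435154962472082391462921869855946558614705130583315523006573637244581563461209419296279539589017848421810874572898867498818071563313))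 (.node (.leaf 8995050405093130242767342284394376350945506493258495688539207316883960582911572707549319085483646126271074089134188628632314508531948468) (.leaf 19166928806165620986846410011848810604253161668224331417243127559453940359196458747015630399890074302977702111919008112733618377180497677)))) (.node (.node (.node (.node (.leaf 2238332285584589115325954651418653830046055636633935391840115101830320212502081610790034392409180922012022580544778069717893659584633500) (.leaf 25526447697232183236215334535365828978017449504564786283154430559295983273980932082962775587723899895425398346034414672508967097392340501)) (.leaf 38658781134550759553538928930126063257332725809715237809953076042736201952593606719312460993945475525531086408173905902948839031208674816)) (.node (.leaf 27729759155342779011655820427775482197081914003595588364956444965535450093179876464240365820888940792213595232701710896124874731135831216) (.leaf 4549988550921007679422382615944802496107921409689945792646250678053719358859410246254697598247667472730931210767586088293911968000859441))) (.node (.node (.leaf 43940878851044029432871206088317052612696757333370575295025160700529068869171821863635978036867733655221603788497469622954842567165040683)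 (.leaf 10182543211929026248996925769468439677307799388976941143341710341471486993562008962256081850767888699329078779689737696254000128448192438)) (.node (.leaf 45422146375405636932164960958744085564707824177688281390608496526244837696481452136082849917425348081806646148371005316834176420219834275) (.leaf 14073007838496074968222552729586278522141229645009623572447347623412874727005572170901411986167251191620388158193467909539895856233122823)))))

def certSPerm54 : Janko.Tree (ℕ) :=
  (.node (.node (.node (.node (.node (.leaf 24130229060896854332837226166007859522145636186795671421408568922026997732662013624925533770813255329798510302826791570806031359861561875) (.leaf 87939752973059169485016246110149369738494703315542931756990828781958053930479832635486124373106619737453790376826403802101482854157376)) (.leaf 31432907244872083281389761838250303150414795786413886039540386255727490644259091310401799620855489017192159885126950572604754025253470893)) (.node (.leaf 20683334115073337523656246525486047057770551761831925366208197993230513973395236357812164567205366525466274827278248192518194924723294639)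 (.leaf 24306425276542831920365215962315393978668418828778731411027598195656876858486028736035103823811375371295000197613104796261341020565839797))) (.node (.node (.leaf 30154408099202670426159276040453997445386691887139007482239922934299667734638273848647675863879886312025365871347998140806987268160823192) (.leaf 18989200740499025951826610744620897361246722058833250390489088288772136093922480061208324967315130450222001303370731226855902078979624580)) (.node (.leaf 16264662786839093735708573723027774826518107016439398002628153293310840330391504989754486541649781963216605262551898727678241887362406327) (.leaf 41578887585276584664991217083826542370227655747574505723343631776050880178040441026135963425647497575636994979626027858175664273182383779)))) (.node (.node (.node (.node (.leaf 3653319311049581564539754907668315989728805707385840319835556346110445525674779427223923124236471059128720473247503826636980838033856300) (.leaf 36667922502864072951388494509490236165642088052119219690199182009715489659303385046172189886216138278022631519493083482020660756080990359)) (.leaf 16041650749177161712728000641446414439320084424675530316320315896609056743199353831540171081857200544251025441675852661546093419665692214))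 (.node (.leaf 43101758327693751574877269925514252377702615032493899152510699775403874719587524466579429040132668705274359531483732227018338598845370659) (.leaf 9643922981767993693610212737298568316182127176323768867678537891954209410059901828038766662928227544171516383381511457948031840921755302))) (.node (.node (.leaf 28462737122693901278967503709215474894094744425986775499255123943134219990553444212628316881269821476679747614697306220435255229913058222) (.leaf 44441525553560437816194287948287954990013084792988117626528672072425377321958792733152126149703276408337887997094889529830879186620465153)) (.node (.leaf 2296659240748318246800457013439079002840668681738665199036823603950161313329021357336450154524629862796925119251999607984368683441753344) (.leaf 27195594265355830746361063463828083874411914930845070877695275745447616479198577182045608389426797260295777491303136561068360815662374838)))))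

def certSPerm55 : Janko.Tree (ℕ) :=
  (.node (.node (.node (.node (.node (.leaf 35764307326683386932192670976957323363270288449006918915407134522018373711418159908924198426341350209316468574270729730890055846988111366) (.leaf 12543665273178555719190752560359722724023047230354510973480959425836592023637541062479142671919467188540788982850955740279123140793291829)) (.leaf 27139164575536333714838731929492605023893042693210509221957527994732726785140952282789572704148742157961577248095912622062244300704571138)) (.node (.leaf 9796322441211381366865155340347617269597629864952131470958667718529095545254867819919561639529688848396418475426679880597398503660720520) (.leaf 43821813157562055733190869574697209844549833151986832763272265888190748337136061789411513829606766555490364921699492755768739465175552824))) (.node (.node (.leaf 30143324111052200725163896749346657392655120677016171711971972364409343369635530976563050532319916898996565858693881970975136107337598357) (.leaf 30017070189730595428425399628573967775483572062080760330234712691138189857488678083221050846154388706249272889592260703612789645474121097))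 (.node (.leaf 44645541768647709214219673286300392257736004887599014223782670736746153016664874220352244471714705387232410575502352561743305066955279008) (.leaf 2250497441573498521459288476267985859048096534829668160152064003788976883994769955669544547787101171107649315838336083691460513556189826)))) (.node (.node (.node (.node (.leaf 18968079479397270588129655518177434570079141095237461866210387213440082001470463945625151131022854520414472157795412196858560029930018624) (.leaf 28432480773429379593748939516448681434553690819015295248987554288323194774719087219020480509597446814819041734778506244357130579253313706)) (.leaf 35013422438758174444612683071020136527223669086092699064255646420777990015651657655519199011082264944007180121067618365887895001240913727)) (.node (.leaf 24843443175853331049582217614292103367537338498281963194262136044669750823803750644120146740830652221522633032757479968180444797554607629) (.leaf 8133154574947118927006076084456318618637695391174872668386562436051904315161774962064146297825248772012593261347632073302468919841377043))) (.node (.node (.leaf 37290991633184312075346675113050679988777254494485369736018128561084643768755271993039627786610935353444480953099887117108832991919529117)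 (.leaf 5951582014525414238528374862324617344469502756762464993550003312589815483029062494943407294467370949720891539313027808474040758350201377)) (.node (.leaf 37812882351492584907995237289857226673259277691209597253369183680668256340318305319578800978512035867943796485435909674991979475723804572) (.leaf 3844893354946484544517171174647388910437701202110141171602767431113575366372620047056804801782077986434534203170395432448093288501911065)))))

def certSPerm56 : Janko.Tree (ℕ) :=
  (.node (.node (.node (.node (.node (.leaf 24993245720987958897309317244290303974347447419816153940149390239578851250292806589212103620731627833172193688839037728800048020075957168) (.leaf 11227544814948493620339075245025512794556662093423375215919411337776331376555168235371343102723216551798113962942391973984273224574688803)) (.leaf 11709293669743365658187798945350221821284930930844261748523049026665902543725359974364465543257124206524673609833249670750554156537037959)) (.node (.leaf 3710022498936332861580608457219985418053715699279915089509155301602758106557992420771385357036234385910068016155025329239135713803378622)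 (.leaf 9803106903933102491975027720262618829639811747496705065673149266305537003208821899718943151309580734429887166209878471286108017534324226))) (.node (.node (.leaf 24821298674955263555798792305375391781576994691248236605924211321075456093810762120429197433861840402522253092505047516073517560923264411) (.leaf 35122425420386247689033107305882758133064049858743342413946169063966877599287987042752299221809941690682429335415313069588211380364728485)) (.node (.leaf 21136188646521929960932242081172730038874692651453302690092918215872442508582306342672308301382827505941531737584521830914778396417346487) (.leaf 6104534925233384490469880293760096415314534052125694625101077885214401689740267162880218837881166420007772495044420461987492385889177744)))) (.node (.node (.node (.node (.leaf 6691551788861749099093107246586067938059044549824930324283008322356203815004191564075407014046081159918098855731134930006045158969300257) (.leaf 42379309110269405648923135947862295365532138079576760638591873348354725609357064062205226946935642829870374093680958630284042345898531631)) (.leaf 42236607169307438365180201952475775367682701300499433973330728122262606853910827655356264939395236301340314673092516931914428524606114825))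 (.node (.leaf 30722652607372067537430527728575312706494569462396762250937402306194091397953502005550854536453089140968590794283721241535423281191425939) (.leaf 5288301974306391100726641919106472697719390023442841479861651017966835287142698649663993823957551088442148660889360628293511468066785191))) (.node (.node (.leaf 43248769117225540751506519825770464078479350707794702294600691951676059433898003177159002258101434900773128996489639955050221885907459250) (.leaf 19851921353914406321532161208815574369623900130922054165777347915694795812799348354688583475730324848503556027329548329559505725757031611)) (.node (.leaf 40836415518048896519023268850507163943184131542335219908515279625478413830194466791451092419971922257678998902905017522444969442965684671) (.leaf 27830331407481626590499642492497260780272084679223914760702489345558508308681844642277727778749977724901404020100253424945093785972165144)))))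

def certSPerm57 : Janko.Tree (ℕ) :=
  (.node (.node (.node (.node (.node (.leaf 16843297512016442143461615852695844470255458301711135730869953429322568954570962261150577974059051907182742610516670102015685931196437292) (.leaf 6667103093845773256525259370626781440265411635873202145949846342659766034900928110713849114782541840033298272659927560640711936717311761)) (.leaf 4548435477361237352998554917404653989384004913134266583314425272377330135030343769563293733866755680406171870827801792200101002325365566)) (.node (.leaf 11641463730552763861044839285834474975765053406081388940709983619204864130284326664750701377697850456201439157378779393218870607513945013) (.leaf 3731265933989312559460222063724885438425630645084928834488020736595723268228591878392102074204578914429322770953216746010377759413308723))) (.node (.node (.leaf 40171769426617141469027342012731624454857544078172556260340302055593449045282375462235718340792537944453196517944195638857460226481177624) (.leaf 35725396137836850047714337094482354661515573780032365886910863286723967651267062854576458859562290287959751378827732952214379985059252881))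 (.node (.leaf 38688124392714558510559464528601203311649770959404185647279101227778862556312633977322024585216393750065024182252829256452941441466106649) (.leaf 12693816763336757727662280112142779524894757602585530672071753387535596651170281827358882659574708445112473675822064211349863725009983640)))) (.node (.node (.node (.node (.leaf 24747209783055893962895645689075008951663540147876694738342104959317251033541736408973945597602960188849834192665944768320195041828869021) (.leaf 17656559026559114336498328254987291870451725718460216969815063218034534103855292198849942100899297809364541097556168414860674306004342656)) (.leaf 16339103714878681422699787892322517307203195985856741025542654144030052912327258995621785935660619888562542206992245323674007759972028720)) (.node (.leaf 11853378920995665874362215424711208958493806290539200441341283583436032286782465112431720123739021518374163649115490068119269639874858277) (.leaf 46809647541918561716466224264791031150362823490410200414732861727116615530047596905459875339008573837093900022211943901992032223510615594))) (.node (.node (.leaf 33043803358507744397199513715606954848619185717873157854271051519548165874064441356632803937797376491087843090140842239032382906016570933)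 (.leaf 13982204941202851594921315965679293732026554839576792681159909604351949782736403691502938047148310149423977496330158280350120970513767103)) (.node (.leaf 8887494350659424701381067476328224769889805057624387058717564038550385915623992471552900200772126070606998390711641038646450133127042741) (.leaf 6904989862371295637662874455862246900673373932901818092150617739804039992023085405340958484303220068577324537973270959111482845843244322)))))

def certSPerm58 : Janko.Tree (ℕ) :=
  (.node (.node (.node (.node (.node (.leaf 46649175383495890285490880215710942137483814916942149834500743160980542597242727059703331752899274928459639233878685304775178878678666394) (.leaf 22165747899924588319360179006885651217298117812561385268641947882714309068010518100073854297051074502669061754161558786387835405935936795)) (.leaf 30561892925821451113743606127509485598555895497882187987896732937023485947111519903681722397316555426226397862900815155240786538856353422)) (.node (.leaf 12448854872107077190057883727486809746849579104531690735844316326271059556707265358431151452367052924796456239705773968815727028164565897)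 (.leaf 13429845029895993511100083744579466880716717367825561999636061442422289178805175317646468659405081295518003859468693307651809973388332963))) (.node (.node (.leaf 6021759007795146048987800796343799486069079300034572939193265280584151885776448383265888433988100107760865456106544049968122294251902528) (.leaf 34365979468419282725111115109687031021247901104901914938857764683901075298136821703238073885293637252549067254548561994757587465981823894)) (.node (.leaf 24282334527117403562672854386244932146314649805304533924018648177404719929469952409761321416635173710487231575071007670231044496208626317) (.leaf 29102653462208213123862454967073727449096896264510426881856965630949422164829443978835397470675139393872370691243342911726141310169547179)))) (.node (.node (.node (.node (.leaf 22000238846309202472454492117106449135425763905358629863909268856004530974150306364754062813789971276339437866307103259662296318776511752) (.leaf 27917152719179749128107239582460160893437397144634458796778002062450512148127700096096582385115415351371714421551935863061389286953930378)) (.leaf 21267581985961852200284911737481229224919657251242174914227704139919934417708213344606706597511624376745552196569386503664600369637055758))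 (.node (.leaf 12449332129334656005082429341199594630013741224875483756279915821764607812269973045641315078263735595882118702189245864308259862273087901) (.leaf 9086506211524078707351338201820048348600124907341233221067270844166159175187010383935408295318788885299631805512271534813569179468760367))) (.node (.node (.leaf 22828408293671480547481489036652867665675697682919619216531058558426735878013834254348415672070123126835858833592309488325490830970537909) (.leaf 25621645963854728542768545145910314598910115313858159045597484773758461093074289564730508962630319051465649730872781349631322864904669341)) (.node (.leaf 31528287545282767533801186642419496063678970396268166612944731526948433483570630280755011976859613080979014130410890252252257525072286229) (.leaf 15339930340938818769734896531675754761223156779701355731408151656129043265799384039253102044213415753005320506411409628644706806265156127)))))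

def certSPerm59 : Janko.Tree (ℕ) :=
  (.node (.node (.node (.node (.node (.leaf 30592182187234705946393855054838000256522312207458819119349955491516725654445864544543281261069426074522446299832528040403457190749242003) (.leaf 21251029134837094917580785308173200387845308006252319152726659073932893032715422254310340554681499151625766024837570593925707045768650291)) (.leaf 36509276933747078780042928597190909882901084944957489673976487081785952357520229197895264297615921140707637385385704166620087929914693126)) (.node (.leaf 40215070690808717391168267575324584527123298595961364719935552763351458809374634496891683209870519857718009863827737004547315731945447460) (.leaf 11852965059766721512929126969325782747354390844962326741782368664990217416305192394362452067357205520910008856535077988497720236363548470))) (.node (.node (.leaf 28394629650864995484045290836425526551645932183215531882496725050977155112241964610734554079477279303570089952853648146665273790694921363) (.leaf 39403768780333533550444912215159388238764761799259613291076097251322133250662493320041102354101802388692826991000458081074653539301511570))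 (.node (.leaf 27082660299815412807990131511154676009494645758472579070816828902299311874695383667478655434163209364271307902231678466718290820186184871) (.leaf 5306233532879461189689929309621688918290467479807206143201251028043788067122517254989030332801084622460242861273656023961533167782037894)))) (.node (.node (.node (.node (.leaf 45927940320098342106800971522214437965015944663106644779721079822522491281408367870937254074274272167490035896926313088015273763936340746) (.leaf 33611522107173072534093193456565516475707980861354377113032189134057030254326501656884339894636732015875971043016326837845178379130706228)) (.leaf 30160969629375533888139191674249798627500048065555657641155764688869662834566675363394859324983037752176581114837530893597674323764040491)) (.node (.leaf 32906727193855106665627951505758537697518764781326617888202815642099653582070124946486069135447336780866644630497910884588130155847027861) (.leaf 41039640739765369670643378271009138491116018020696574549818325374552723026501308220072592917241587150908241466971998302542920684234919969))) (.node (.node (.leaf 12534288819211891715382747704400880518366047048098615514880050028313793915918336519773865712436156069747140309401973905077015125286684419)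 (.leaf 43094270498436191193413292917284606006498763764787846912332268296631239812311166523245727557376457206639895717832433179521512151162850349)) (.node (.leaf 28593281841826932200668181596623266430209832645657049187877052655279631419945769838496724049389652090831976405348552933634174107332692893) (.leaf 120593160876357597808789545289186822147057095025422457755288259279473924461744509033259083554406140406616863441589384538355608289282080)))))

def certSPerm60 : Janko.Tree (ℕ) :=
  (.node (.node (.node (.node (.node (.leaf 28586672335841703581200294267684213367266576150356990271198261236584692158623282468102657043597213189551097758388722968528597730665304583) (.leaf 16342515533485954735583079022485828942454043631449902290270250775988368961299434622821464511711166713875264472627585661836784887147677193)) (.leaf 6100646269160772606597067068196888610071016048266963176624389300130774556493430448356441675445842453839831161481587753312736328373142686)) (.node (.leaf 27932684923353127831745111306257129370039537045314090287827358968080470757703270781214094935811724821389736797598564987453892412826109570)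 (.leaf 8814625824178471539199017167805957641778122395466713054915189307024945841991125857425147573218985677997926752354118457011713888449762979))) (.node (.node (.leaf 3097330259592462511639796527070816660593204801937726963358182937129375389121949210002036272241409203504818284932793398315062879710740489) (.leaf 43918087725480372281201069326733995903015554742096216429515747456432899811331781197793003590995984431666925648343167788532392519581373703)) (.node (.leaf 11098506424677846092005892363824995908362258898951404802216525209758883953538482283231707981049874403357207517867793722935909347448576648) (.leaf 16032376501381023585523534993556483773875833127957778871796346284238048712905656813209281656336394750186608471970414510290180551133924005)))) (.node (.node (.node (.node (.leaf 12715300808761928223381742071314922555373852998762303232044205717686185123370833024992957383301460266462241948541723279421534762155885730) (.leaf 37387304944641531063965424556972405666624119356676888724168545361585790097218847027399157734378930995306913776570287084104199303515330112)) (.leaf 33668155541047400278715871310431389979732225289511486339741738463918576278787836575139097215650988416986380751768119524849749977680993300))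 (.node (.leaf 31277584140662194508836439313095640234198493805743117425335130676791992926803956163486487981717849447537210276744992764700591231282894094) (.leaf 36662338722957417869506242690288784442325428613208377146347993075042258527205393577224344879961999553842996763406237266256892213317978431))) (.node (.node (.leaf 3777630920078856293252690975033029149039687019114665031988297515400224503957050852868767387785775639114130841848538280207329659624325164) (.leaf 36610971861747995329706706463422723250038653966192189606879802703070754499504778372009546627771496893259678265491153656384919887961068088)) (.node (.leaf 9014239440150088044426362909501006966520464358048745006532550654882212505866898105619686313800508229219084801318650551586780026560038934) (.leaf 34527375365357621463752278787890817350176248505681387730608331532190417059151311064314007089653351733873689523080753228988641260417275552)))))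

def certSPerm61 : Janko.Tree (ℕ) :=
  (.node (.node (.node (.node (.node (.leaf 39477280189227243058899996940850438632430243618902059565298408261951633269110261159157903799708737628014367544314917329482313992306744737) (.leaf 24838650981676989208202664805775201067932524280834321277953112707977492817292470001386105758658240464736374260267444443419890772188467870)) (.leaf 38598329009485047635045706935093495761608459772434666582710559366127491525079760663245052875416093025346644171948081899507470099706544170)) (.node (.leaf 11926520973139173069134372419648462574644717935724805883325024099396457001055976051440419314786534700553475930432732986307512094622728593) (.leaf 32237829315363532737904290387568045976760113887189231678533767337157153169965467474210828058292478129956935739125252276069852052594791325))) (.node (.node (.leaf 27644936969664998353680926286626086152749848444779643458224049627896318424272356779556027991711821053563686286547156933856177429944928543) (.leaf 7382547206902922738750894744467949235908850474490628453597946261820263267741593202166607450067393249566919311205919128627738490216007219))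 (.node (.leaf 27671249264035793419516287315142141252903976390998636579169077526363155820964823282434818767249291418524545718065476417258485123711128894) (.leaf 21869271914795189965553019021441490116024326178305172357005430409788280037300220996424648362157044131292419665152494914858076808560576001)))) (.node (.node (.node (.node (.leaf 1053357061788134994870507922609582628032124613069233450109860558119196359659327360530405134157790130263173751495358425214137423198804352) (.leaf 29172879531844744258639169093364400750458434770037674324100006107910795190228326372513677932661636183380365796075959297371111019023335560)) (.leaf 1068983468479318824966548336623108526949233126378333144386821806611772038232031616538629100974235739106568519489978585005194846919278613)) (.node (.leaf 18967284406143072416547990004378338106259280096380452877342754971847393946108453961437788501863022810553603831190348271378608551184583682) (.leaf 13379151373152830393652540447025641931971938898381905065396831756501872356595983120740978982660746896799566004981997815222989035680698172))) (.node (.node (.leaf 9479833714204778322573431207813360011726169735214647821651899938479223301158148242410070561787751805061500413580948258141247793802038960)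 (.leaf 32992512507667373234578100555971116282699520233448706844261647511152488770948436945322031931435305033441633384432596453481770133697355835)) (.node (.leaf 30596316544005139030799144775332137992578891375599793442609364569392070334433168136212560682739438873883654481843114172898701328534477867) (.leaf 38632028468164331807091808778045538560770602890415601114850660385953039650587598941285202739639245091927776877197186433230558294702841788)))))

def certSPerm62 : Janko.Tree (ℕ) :=
  (.node (.node (.node (.node (.node (.leaf 34468460106782671226480309442310590199134428577080550855215560829497569540418785987743618017865302450364715014171455202167514313559069441) (.leaf 38001559416436232572200779819291935874009930422165249562086305650169685675347299269640144582850480486126016141046040519442257074847269520)) (.leaf 4664166255991905068196038428699009581439647287345947658918298717928591233461502408431425141620009740442074086813070174188106255834782502)) (.node (.leaf 4453490523332903489664743546165174273545268600968812167317523947244162290845586376800046081002922571378256955035275026386164934777766583)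 (.leaf 44536486311551402428637477628516044053717342816885320546042556866136697500421180509195354110861467175574731445055745482195300744250186647))) (.node (.node (.leaf 16105755210739973978343452102161290176796163478835431553583509445257251532491661237644848645757329942695337733242865358340280568252780734) (.leaf 7356105569152834972782060077944796811744951775357434782483492281170819387588749626187356750745720405026030146362941637694843035478625832)) (.node (.leaf 45974209849374477830597995909732304912713427832310291970375814133168704820523374897048403190646819614395949794451315984739473417834645634) (.leaf 10347402762958508312907698975949788524140933636847683664135712973505783083322497202829104978818948525442619268078363026835554009774443070)))) (.node (.node (.node (.node (.leaf 19973180933241757356127020922010275227617489927509280746037534317823484134397372669742980083030763771897681939218014667152504581064429346) (.leaf 24731695664658250085506472201741909975615305523226032553458832337820792701107231744799353775676226860362953574497132907638200036506913313)) (.leaf 29238627232961007474716698666479340475424652226275119908061931565194363929907691754450833658089226299237490348979470183081652191224666767))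 (.node (.leaf 24077217630100766548938260249481561951312071030400982981369946870335731041125151354745954502252210571340359095406337087390403294885678770) (.leaf 40078520093748964429178953301598297505786407204611380020951061534533210812544048093484132054866841620994010920795654271529638489158295611))) (.node (.node (.leaf 39455107528984226807072472093284447245396825662572459536073489685538473095898923140330616806447748373017934917470341148118050594725287850) (.leaf 18503083709693535631546939452719410710992492970376678361078898879039352176946148968828844576428987818640461502169131804720020800186241414)) (.node (.leaf 40004584877052300292167640335316690448704303058459114176672949332521834712714356856411671252148421158665254982734309240487984170760325250) (.leaf 28694479016751124335705975190259804373329471553957625420782339805757530063639161327388048136525096646347025080348205755258370705419326638)))))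

def certSPerm63 : Janko.Tree (ℕ) :=
  (.node (.node (.node (.node (.node (.leaf 35713240986610579832442910639625986965361274234311415400610546933599995741442998340923101989212871889751516210803874593915752674603620748) (.leaf 13192596134797365892804952909904944565577591462322986504681273941055732088125904754958135096478073975155960724292293323716150596457191946)) (.leaf 32248990312575012354600097162486472831817920918547784613381349097599858946898352882935835992329770200622495724541580566448237217558970920)) (.node (.leaf 19767632238559079131704721103910088602958908790369326945182558499669949495939073527734132424766341089868006372425160002928786471805473591) (.leaf 42504284148228697150579076269851040420410081196526940471756627708237349462368558863600759153026893959322222283015690001836483216096284442))) (.node (.node (.leaf 40828120643790249018266769941505148185715661328282245018627287356016083689602779255099675912105071502630338861246892560926779561546143292) (.leaf 18416294746318474620031550293946223115427324867183773850363470670857193159507673372481928037611012115978006851923654109850922012196736691))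 (.node (.leaf 11103609257643517320022863181781115738113972514362494953758423453790801454732209362284465380218092400593234807396773508929188773071162379) (.leaf 46563775748771724270936016576932264534214919535815274336940399134178585054852957024586329016824027411562613207386257017850450202275205794)))) (.node (.node (.node (.node (.leaf 24139756998881563450717999683779882254246265680566139526338320922929400420547782341186921228038087312470577117510416382437936238162580150) (.leaf 19654281397073496543662153809667474757708336076404133934305510399558217339976801719693581808587217592835156148409538425242447506651465090)) (.leaf 35117446394929227298667994091325345045288615319886901054930687327565500781601675681777546048904235012915779121537173225900507957316392867)) (.node (.leaf 7458484683557167326388907556082962680853716532245807937590157563321251711580396188944536617624559528446953688289935525887946578981653785) (.leaf 17645292149988509651298554754994145068774522106699628127056904244309447775852488969979775731566998605688798192059750527794690879731848623))) (.node (.node (.leaf 37886620116029996857782384464382373323671214326496597890154657218264224444368572413954840411664924108057142284231660426852560550471308476)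 (.leaf 4458730832328018688744786518307974863768753716400068257210654821043324751336290863335431305794996277767278475983618570626169320046598672)) (.node (.leaf 5992209187871299901908200718314661286008864396320479738638559163689612339825069635593090400507670426945663327218086971681648870108009387) (.leaf 35110621720247297363887264873489869498154018643938975085163785382607342296722017760910777996094178077562070101869512738899213187980172051)))))

def certSPerm64 : Janko.Tree (ℕ) :=
  (.node (.node (.node (.node (.node (.leaf 19902983499127503913622422072794547494227764718764940865505294930786635526856173376863133991590614138232595310227245873952618157944982444) (.leaf 9596587631369831739414985375249461656544236683218483264208117484529856137375151297507777513778502354815294555438055550632927401410414397)) (.leaf 44690163279097736299399883287453620271066162581428851461261756564605269275952835084529896809398300045837995473655452739439389342647928192)) (.node (.leaf 45217601663973187341046596341414954013823791019169236048925675861366192046439914989521487443318661934443240441539833503317790870322336406)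 (.leaf 11778714105077619130404553721040062123895370553650039385365291969044923367347627909498349966474294143680792204048467789407914983794049838))) (.node (.node (.leaf 36376066474507279557633085702694649983448731675307552147930686495694224761186693207362630721050973782188701163039126455235237817067931581) (.leaf 10427376628951846419211110120529453626716281529437687322069681111465864707606355258867247330400221706056813057595546130003700611608807472)) (.node (.leaf 29161484712170742264215897835488173442772089910616177187951774135565535454088811719736697045152410227761700342860894986093278022708433574) (.leaf 6104772986774906443025456528720236550215756996078501323902682606977903260534007948305137386856300000318863185630088510614981035282072704)))) (.node (.node (.node (.leaf 8018256842653103533473343397665662044389215198743725079087228270542281543339380537262165580308975115494785058997002786392658956142608692) (.leaf 10500223973800580356526637901050264509510844405116325430475234172694104876252707958772930034938160267393904748905294147663160590419152002)) (.node (.leaf 46093934761351054892364800021918155948949425802781877149912342949319606744568287447828323212062609499021344303265001849829425067997336237)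 (.leaf 28398148221189200075357871717294450031472286781913409055338265487384681837565497733513146582608336691386613377793449152024973117821473431))) (.node (.node (.leaf 1024000303169723588471937239494301657930130857014667730792546398368367599984304681783154986834292567108626981159536118218104945521952438) (.leaf 38099104550985286212653678893592882733514909036074882560798657278114466391713157816916818867724600802095340907485504197923533102171226378)) (.node (.leaf 45838144222702134704223967100971894881960895909544267882509514440022675669787100162173676143572649693474568047730116298730255838681712049) (.leaf 2421513311561401254720404939147441613721905516123475908149172600785459117974903874484433221791475950008332317319346868883885709213256455)))))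

def certSPerm65 : Janko.Tree (ℕ) :=
  (.node (.node (.node (.node (.node (.leaf 16865876720894781117507514932539525391374787626497788624016481211907713588470203883078400926497841611932445769845681423984855687824793389) (.leaf 1613211033279133265194013256146270797292384965003411782492405772355466554306958377900639525532398387030093894192121446164312147980471725)) (.leaf 2986945532501101246073532465196190241635658881237031438292452750324408905302732721664975212447243042602580241930851758159050165765381512)) (.node (.leaf 41480926779669371644677909154477488763944054939423054774318659313349844715200691666557050021577905425358797980784927734375587618583418653) (.leaf 6656538791025836688605495661144236720123233227675695374181640640715085608153663024807654733768434411911747658835826083479811331087942685))) (.node (.node (.leaf 36552858411531740193622167620896499536487066434003524056991046074769592415126278011193008611878667352262909713620717795105441014779888667) (.leaf 41494847277026253857605660438205295913947934591510179435981593167121472928008569486988588499026071483478302852555856877159575430707941000))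 (.node (.leaf 16930069280287070238377229352651986978024424669191102503671851133555715409617395589310530031210049050000774711630683424421324356378398135) (.leaf 45839026935558532867982370888532178580429979042158961432898292191212040307583831626532705597442997065184182418370175852177195165651685662)))) (.node (.node (.node (.leaf 21143226038983082160908764879112457417396475948157518106915916142899438763772993953976628228485682339533573892175495028389645299786847424) (.leaf 24748189125628553576863005156154271504314387964725765648371948652560121159234627058663218850612422533760407982015639974087148712489205919)) (.node (.leaf 6740758690946494934989085997406822167911638240026452590334192534998257083733072147893218095051029341349063049825602147966916255482796730) (.leaf 11825343727169928392430258691741364964358864349426467523692028105256694233576092060194364695677563131111709571048156404575607734883763476))) (.node (.node (.leaf 41612981713943549147512882159108112409583777985408434035092900423901229868506316864414507969922202853128101244593863494327693840812116108) (.leaf 46815413998943768015442709066071751551220570547318610446265441294752259333666013269126632541716376360286472307643131114680105402912169019))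 (.node (.leaf 20619702729281903639058595447275208971583254296270130229949313100853347361736597565453182084658161981742188531777203568188483846403118889) (.leaf 39493660871015626615366380280735904217939729340748491018736348311817164958246790120643672390981525733084168006381700368190597718199699618)))))

def certSPerm66 : Janko.Tree (ℕ) :=
  (.node (.node (.node (.node (.node (.leaf 33567759344993111723130412815920445452154291408105921504881704785536025365765835661649822392952188231673475630745310482113446250332281617) (.leaf 28519696495506091449172621725703853138871825272274253707964195536156355912841594874289061541798935773014256175113260215774586725703522752)) (.leaf 28371974885135897461536509702178702965962369817872611455188693037682237615561580128280813284427790819717945892901142812734512592547257015)) (.node (.leaf 26491659886688540007609488518107961512793108283724380144745973043977387563090094552017319717760230606809899240526147712927627789583028488) (.leaf 16770575574398740026821893814812677701876367489018739609776554246397661874876456467515484826412959225701061152844833436975943983234536637)))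 (.node (.node (.leaf 43167912471956126754188814496747064933791553257171740566702913149656126589773200594911360375282881951196308098956193732348960174581799968) (.leaf 30153225522140296405125678606075050405307341537402953777293598057911576781103808479482477457737648343621447671589061725412837697803277723)) (.node (.leaf 19973843651986254893788542257617436208744369379612262254463567799580996377745351831979909170338892635770724002960283845367803296992662056) (.leaf 13822100980608808891113630406851478382551478141529802077548706979821060559310235101588666459621037420684842727942108104521637968654762881)))) (.node (.node (.node (.leaf 38802661602252828164356418077065075560845639300118132893302524538680236034043340558272023844770792474887279805272959832264551171518255255) (.leaf 11097562008546596969179992241713887224307118165490802043127639614920073095077787939183763253510495057405673636036609310621117308667305896)) (.node (.leaf 44390533125250316813448319169970981564193924364366592328842444472503605926374350808690228365638766565865488951396408814342273836434345612) (.leaf 16833045271235574726398128264931539859685281201938641775222182160461752782332540348787417682396685905419605169245206043501307920124828827)))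 (.node (.node (.leaf 32998914669221639304044195530781859393706290621219615860643991916262812006842874738883733228343121347902630906786714634966383947059171135) (.leaf 8984445209517889098703434979530654619963533489240934863834266409885292749428172807015998445826729630207768136339859623973630835895505200)) (.node (.leaf 15423737474002052827812485892802076615969077031744757356069360252737729699345311623717676022187051945788284483441964204832459020965463297) (.leaf 40092367839840719225830999559401069090221872190707015710869312138990506138656955948163931464120234925786003293966954442200525582299759526)))))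

def certSPerm67 : Janko.Tree (ℕ) :=
  (.node (.node (.node (.node (.node (.leaf 37829791832853483269311122653460635802890547870457542258015517924156326263539224790423568354002862454401399250232796003378376787828279553) (.leaf 19062714305760343714265518815796001147951144646309144294156454345734231882651185716832129421988970571313008713414920342773031757651678108)) (.leaf 38752181598004437836709406152441061572738098207616027560311738300040556851737339854769661685515074735708952282378517430669851267766355888)) (.node (.leaf 32993760853544383316903283409183612863125676384969079415869811055795294396419639383126554702361378271894594588030689454132091379624533792) (.leaf 4463971886890294831009858107802750067971832340816649320000144926595272537994905487672916397947490080215033102518890325733192046412532526))) (.node (.node (.leaf 3704077161281105164015427642274437668437001661297651779915604470451386876604597995878734321852947444856038416537922329579248006493331517) (.leaf 20584610839357380606290723237512700236897303371540164828171623597192766141407321030720065980468788316592018749908019114832994131073830164))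 (.node (.leaf 27915993705721833506996750997692266170424873726231472531138222167434382105573169237087718630923277201926871834133263567533776321185743390) (.leaf 7383829900120151214816536922631910809446662492290023628339741289799293705181653856705439237327484286415141411228097406984259089271347464)))) (.node (.node (.node (.leaf 28456257894347836209994468385277648736047102186795818305181476836163786844046044223802327920722185025890298199070076223825790859355768469) (.leaf 1631061521362195605079198291722736766680669464906102108591862206270947031689741115696900654935422847634095470636650769559945170475505332)) (.node (.leaf 24885407139040758593994829171573304103259038737981400313947152046889095702354447849059209302253431612595990967395264916891419436770956433) (.leaf 39398980284883769242810955448349975519458925654921452185838507430689838326064389524355996628388197452134288313587408216496732514008930449))) (.node (.node (.leaf 30784979711927273749611712817529063675478047676638115912097187495227369989986409904567840771374208240421761655874746522528346410951740204) (.leaf 2248893430985675520077779242668515386726003345960770358053284538504774842865548447301357455848914007816599253338182147462562552304320544))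 (.node (.leaf 46569364422081104455609589198740967194103196202839613898993326577295380905420475248024162226355291063841241752843424558322419970859737019) (.leaf 25754375018750968728002693348884621287609345405456140898856687067595104768320941914346099811421661967233978759445442294816236153233246861)))))

def certSPerm68 : Janko.Tree (ℕ) :=
  (.node (.node (.node (.node (.node (.leaf 21375704654203699972652805775472632445659339498164636838260823532608509345129391410749566063138368047855772261847143420502749245026027431) (.leaf 41442600204814271742884067249460683142017056833445823404262357723796971431311566571881681880512957654846931064170541267734463874890552463)) (.leaf 21381588776117479423502506147274673280245542280161466717550260736658098860095450279530745973957725789246802354300523907653977077543280398)) (.node (.leaf 24157646899290010268350137089538639858703717003089427158326778711809215405071521080240998010157169633149433380751084949480299509535904922) (.leaf 28382739710456533277086890496607302346328328566487206684300261130921030407306025745311097272408877613442204096082333863201444692676906304)))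 (.node (.node (.leaf 38064778250686697260104096416923046672112539439448812306494046850679517349905052672247368744702488376499554153082372609015052840154698024) (.leaf 3101149988503850173433004691685930559521457273465828443336751232681022040395467325815572219480875022091352874369890769697122386346088383)) (.node (.leaf 27172082755712505500825596858036043817706938686168883764155816184447241851445355437487440768751324441619055803950885684415258959890597527) (.leaf 25497489743408428769262281104363396849356693530163762982800012534590275510086919953056264234304217665981994079401354783082066198615575443)))) (.node (.node (.node (.leaf 341863066699268418340091381709245319408497636647748417415182824259990931257776327561087734151616559065823770717565179971020380309424192) (.leaf 10188836817912962712961153863209738890482512355228617377273499225291038585531479797012880853866422381307170332445890501814325906835807923)) (.node (.leaf 31589546548491747995569720092127519841849685157483601112632768693296406793557960851227845986593936082903527667683962407036173003958831785) (.leaf 3721156487369985559348282135972388994882970615367261880925048030725605727696599928680614419937628728271431721916347624106945068738976284)))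 (.node (.node (.leaf 45387901486652060247162312008704506764402446323189480971457694887149856481733318881633499720036355968479299734842970587260789722720966528) (.leaf 3135518303487194708697510724186944547410315514870944103313506814734816601423796241441446241450823805961517466003145507489893919943630900)) (.node (.leaf 26189416965437754365565545089887925219190387571100551335240477932355239929774692059939611615731256208795055432048086829055185636643659304) (.leaf 19246722824622707563588987137262995537414122406254242083781816143094122506050220315344952262039450561246560038734489174943008896966001312)))))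

def certSPerm69 : Janko.Tree (ℕ) :=
  (.node (.node (.node (.node (.node (.leaf 35827121487266680681250212287402961420975961162945100619176001110916826063059729273784469352204925627513551445094127493324990058539851803) (.leaf 16314527888348202421404915834797502861989709262113992352674338024484607474697802241086254080200427069845042406736542486136137320223294359)) (.leaf 3188400379110564104261965481574231315848663429975834601919710658128965489642745913405939111180854946023301005925478660113228186621087143)) (.node (.leaf 32827897035976074257803546207044624357287009613472168851909351262813602314482564241351757904010561470217576183600317235239023380412173232) (.leaf 8155209772490142759990264776383196458800694984431326252880368469264609187098808129103126884805834047742877277888101339503154812221869231))) (.node (.node (.leaf 8292212231559328205184824460013268203561260247991940259647085984021341085283491625633931391665632071063110248009959749217054368697785662) (.leaf 24996583240621100976586136941554819137387605155139858455506831053343822060340810488899870053781983232110293499699016787614159343945683460))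 (.node (.leaf 42976442468646104804548625000583344878163815612449141170704524278157110191849855312764178905287351036411584972803068261826980697518968598) (.leaf 9653425240086345413473689249031335719176631921035343920793101248589701144328689379428899780337116651951345456494030659180054387900975528)))) (.node (.node (.node (.leaf 42884783131746721661529888469974635303323795156302973174250687109501854753810673251844259624699085139938708705342672521267977708953110816) (.leaf 25713307596418572762765240213234248503540489878096338715742128359492565207306124585735162763875392838376885281911218140888862013255933472)) (.node (.leaf 8966916195787617940856962424017464340784832119817175118231988238090303200211353618685841961796806131936669608652629234193283427840377764) (.leaf 41016220014983757282170758249341854821394293093979720556103647523273999102102823538404411750897605571726016646626261516155763742292287393))) (.node (.node (.leaf 11227150446307395561437435812535204708008353623796212578466263172004833353859585241432602386608060636758790832770752768280513349683385647) (.leaf 34911921893731720449377586290841131283667192408137665891129375615379933833963900821359346701940576182562728550930125624047357225232664844))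 (.node (.leaf 13095400451562558860598604103319697789049588881419558330679242238608966250082976685738803761833140915481989651639993575371070018329074988) (.leaf 27802173941188878043218547916249273102794986599227295492373300043607435765199855948427400801174367163913217975594862038857354750154556942)))))

def certSPerm70 : Janko.Tree (ℕ) :=
  (.node (.node (.node (.node (.node (.leaf 20631732314751344094840967567178723568327106872807647143456716085004813451947142106004222595223697835226238688526633993145251141184444311) (.leaf 4403017583607227277667723466539266136367656396566507811881821307399132997751841548345092572406036721941225795911427361276347204204368543)) (.leaf 18195826484200617161871319894900481906412252882951884702319489542782986923792624636770010571436772244396302866336637706562781560336309941)) (.node (.leaf 39540633623273955580441085871459428555582282848639281928055300740659516684116009337863430196018005678791591012466673078908044515738291263) (.leaf 22602808245317931308227597324885631286072090005725087674415193751048094492992880598972581228480162705566433308272285497081406410680127018)))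 (.node (.node (.leaf 13839319594558586221127068023038298234762029361992651736455543729263360510334528868671216462612251859237388116260236725861011396302635553) (.leaf 28540848900086276041790660302634802699864151256144395090852981358871876219308487733205740292050016811442351766657669951400813043445681711)) (.node (.leaf 29988984397202540890352109172549237320847849496552752098271401682294916946337380659227754224668629623510503655657699282565958933882295218) (.leaf 5196045083878618833155494170806617218781861187255772670371104178133264809178384249437068427352751936093839986835169803474360834416233872)))) (.node (.node (.node (.leaf 38853576882049845262645307508124522353696035086146437670560174810221194746673363078053299990108912533613127190232153280433948289130387471) (.leaf 38756478011907752329470524371819151813199082444321417740100004311634025398567717893768739401353570775152866947046414930074634650304758202)) (.node (.leaf 14043915604509262725689880056575318985337452508257116492304103876743379241911448401446257186978688393075619650501125119234338170651877386) (.leaf 31989213972092938895131632136450685410128437931232094791629881845215475364585812017566854990742276544247454159062666124649900484015117087)))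 (.node (.node (.leaf 20456511394829374659392575207084240816072535833378356044924396348751937003197076408157971144994244462613408614038005710538061333743640615) (.leaf 26958177418818963047211854663961811503001238123103580522525224257818721625341489675012949504216809313654636116137677509446018515256002307)) (.node (.leaf 41770697706709382911869128901570398862568340489194987904110377710477506942096830401991652857070844441954196826492707438358013160033353731) (.leaf 32129352050333524989778902474770924507345171915981365640372199596342825471402783760813216246940981614673130769962822015545542030366610725)))))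

def certSPerm71 : Janko.Tree (ℕ) :=
  (.node (.node (.node (.node (.node (.leaf 41783039528885973979190131801552002713611717768543533665801594792046653498932771387509804720251555396457965516316513508269047548423867403) (.leaf 8200243403793770780260590262958113864247245828123122367197568988279145804761634566549074348044858039278761572321344691550660651427681189)) (.leaf 15434020607264305608799958986064425032941966324335684646751180292065289520159243870866603129195164146505161208680983152065519733119797512)) (.node (.leaf 29380204608200747241096652859999190624469118199987520938604303284108277999847293533586013266187961863137209595326242569952314700339842336) (.leaf 36529833856550965662694970068161616611531001005763383645061435801431126071400853387600554399430016199394568144933838024643697067830711080))) (.node (.node (.leaf 3880239047774715337755171329241837985815501842520039452946780721827204636514836952145266760171961591884135087280101817784880893067023251) (.leaf 16190410689322689748086843369684244178815729796950387557660321995610920752429596927939843674437300992060616936047742799195253120874993830))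 (.node (.leaf 17678369750724053360033305874197078754145304908743618234514348953369578680951179289967432141630669805565279582414574320238452567853138618) (.leaf 6083108088073714758635514242705094342673884421781944010741522101657076949034048862246923690328213589060755957480248979600898167495466122)))) (.node (.node (.node (.leaf 45365908017987179211241532117649874560168404867130366476233260729986505773499542356462954697026491790562927420051530722923295501487541927) (.leaf 14838575448441720844294477260254772405800452696250898454922486417954907934728360969757792930682037927140818805854551385013717448796494263)) (.node (.leaf 40181329581016331914644689678828714903622216440396671418047505990543742294908589174595135524971852901586494547276494050342347579874533181) (.leaf 42408015022559700543660373731744175879690026178673907758778221742658406145677288204177108678027587747261045599811868709077508269418186157))) (.node (.node (.leaf 27781453068895127543302089020152187497432547417666848816115221699300176600671090656888465572008504416658955526943718374418832334162091145) (.leaf 13908168698594435570961279742685616474043444406631569177839450127815260266988737377260701016544963872591765874229884343254742372883337255))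 (.node (.leaf 18495981518619833191466995949137486498204740150925127328759762265435414988262233357676394457149845906235472772585820272302027905028888123) (.leaf 11845333408190754735538893457548973925877922690035918721738092884051468127878706221930979626340999273677859263113606233734158917046669981)))))

def certSPerm72 : Janko.Tree (ℕ) :=
  (.node (.node (.node (.node (.node (.leaf 6866077780114609314749901077900048707416735888949686621292434355136034065542396122370799931309262113191819627956421889519298113593742220) (.leaf 14815616440574249817176915533954822595266740460409848333120674260835315385121911429654094520078834349677437168981684379929515585671070343)) (.leaf 32812634104847532052583031628440804656804351687824533637703804928973779430937899890232408240709852256830941909270767041184942881140425231)) (.node (.leaf 15504020317558959107632143755363198463943107010278661039840014744789939892811629418317331522853258740490812120669682728782633520945202729) (.leaf 7593185840633813694300533379461619073218785604797004015701540054242613169574496684212812391756641660474965119407833105354998764531964463)))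 (.node (.node (.leaf 21833697153100521398944177886052654469306490274391341161385956992730712918581385344010339689354775507190623778605467719913408412252898692) (.leaf 35016044251314937022257153236230343415690979005520738097702163800050995720198693524270523828636039058478773622905082786543198220107026741)) (.node (.leaf 30626039676347102251028523951119487800886680807542829106921143553704754355713186108073670181751007716038382776216643447234370170747096503) (.leaf 4669729709921711130281490971172361674419308140685387503619666136581073458664574196005954437152931737120053719994593543407242748996240931)))) (.node (.node (.node (.leaf 36416608878906779465393179236531236854811633759916198584210806606722436066904561260982720610876035756797855147774033313992324312350166954) (.leaf 36699911835779650237460704007215357569278957646437818849085812322779237219095433671111477454324160188052187476472629728754982284067000713)) (.node (.leaf 27205354081719506854895946075089191269266881397184205520127876300922340914873218782257655522351361263161816411400313692092385652753763879) (.leaf 8883251163807437959535517360093763150918203114710537716957634039136638088265079944152181124829158479005336778197122504027041703766740030)))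 (.node (.node (.leaf 5952598615436051787360788068960159271562168062447001826213139932664819481187464779646672445154612291500354671208274449522701159030016130) (.leaf 24866818554781976710904939485028803608643938012712165554331667101363878653186725714161654807192986035743456146705044242773393546152415013)) (.node (.leaf 32119025452710486811746538491316311280149951514522309844452762290401080235148179855677613782665539552028202989798252140163297055026546366) (.leaf 17722514892820102744267413779640390041341245119391214347405623990911334418685625873994819857705354156880028825363008058440892498976374926)))))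

def certSPerm73 : Janko.Tree (ℕ) :=
  (.node (.node (.node (.node (.node (.leaf 9671003373704748892363293185552911861383078992377466004009029459442266418300591177768521127361130264886365313844326072301888063920363710) (.leaf 4362596511489370490224835066370865013861575337815233802995329409527472545988845567646215269611897518567075311950081167447701293514950544)) (.leaf 199870445611802590319173427490538033017029279759335946124300135917485573143893197441943236046053372125858852427407312580941525346191881)) (.node (.leaf 16866445513441343486593357684440089030799570994782121702873210290671879105036993192919277088131032276897865848078666834449838382260786096) (.leaf 5872265925217439304108481918063774665695928728813496779889589821786479809103288218665006016809443849570503093347893261338192651932140447))) (.node (.node (.leaf 7429158584187804587565932944778323519944114882421586624870418980288255371260175025788678538086070631419377654678880251714422144930536228) (.leaf 14862183124489718063949365143596579050238886642067850647792635713111562148668824721589037297940969593416992125106384435549670698700685442))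 (.node (.leaf 16947148182722008555511695541002954155191409783957584711806046299854295940756608641943035883124852325360429743430070680050141695496472965) (.leaf 19721493952966782937278961231768042639170523350332745938249391041398095510137789627043627365708201275749039376628960939495891027733041680)))) (.node (.node (.node (.leaf 40260371557276219872376325121296507083667686410406950272477320255878203307363861098270090884631596478537094152634446834968285495873769495) (.leaf 13430459886068332579756396732007320733116843315718244226280921865201498966782245507587469684290552973564546067205970945852648551535677580)) (.node (.leaf 40129598561559885503329469264808306752705098131585004354584141750837505593396532951410306639051915889991517823947742672747494825806484261) (.leaf 4470217311963603966826039201873925301294961905397843485605658593962835488599112276016950785419482749336558280131579540142248905440255423))) (.node (.node (.leaf 46852725482112085139909230736377301961291691100260467674142067486629507209983807325852546810408775403890693356717086700541518442614329) (.leaf 35083680366430689243343238019083009815220946082614097712730606030993608131494016454551496392194739430335978821303382206775793528762782085))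 (.node (.leaf 21330408615688199402824043839972323698434813954120610205918660822125078121243426489232154581637230144903185912102021962410141670864887868) (.leaf 11790965853651309387248094778351765825567377015496252929492499961778736925703708886918773448642983556761537834688177542484208110157974412)))))

def certSPerm74 : Janko.Tree (ℕ) :=
  (.node (.node (.node (.node (.node (.leaf 43792893019056645493204722466733922692594952192291584574655881202463601017221439878201374412551796777103856007926703300191594033103640343) (.leaf 26251385848391093769645590507429975018552444892235766995821055675433308717940743159505147842414430584151109756465921638209300593059501113)) (.leaf 12478257542570047824289778466775723869044592190163165501740501721426827990846475976376180288507289960049708871588581033065936367421163426)) (.node (.leaf 25571090208524330746212314801501434313617376676579984775357921577711348786229576114585138838336812801718850332958235950024650625393678470) (.leaf 6878682016323405200036432414966089538392094492403650127110240958296058338641556926910693151629648819195990738131111522345993811238424596)))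 (.node (.node (.leaf 4420172508681080964634596145168908107662513233521862126584278865194030133198633437787785451516427216899062326664969512610024970269639321) (.leaf 24294987608544231924001825335710156951529324687131351376663408741150189249623863324142995670426438599738758124648717307735596379396227214)) (.node (.leaf 43015022379821008942991872289170307438489401999478893819790345560521180314101252563886071836859245825889773534135887354493868888866396316) (.leaf 27776047703692422123195812896563889298657501420107405185768936456638056080383017890179403380996941254042207691843601225096420458052258215)))) (.node (.node (.node (.leaf 23278189467275910722080533820758685512190679878961853568091504546958381852580050468401594477619723655038483852105531769775626925646616111) (.leaf 46769407426250479753743682547551909598697022740479796096490438910860617532154029970446795931930110910040000896738519646646528772670232759)) (.node (.leaf 17031620297947043083986135766170626615266593511733043105175458397201861331618989431147446892126178309915111340464455244865811354290620828) (.leaf 34197057615225312673115120503991317512897305316343554854863788812879344501986647032216153358881814969552782598962370230306313461840516775)))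 (.node (.node (.leaf 19252274678959161008062797956078824980137177710371366000797584008658478838839633132755297439487848460460658803712545974541268607497034024) (.leaf 23607194775081949168953222065326177586832448937079412697124711374813049082137879524939714246107161743935863486894630722630086331511968524)) (.node (.leaf 34190880816947108187382402681163017575208575618235725113588984813174935309099554991834835137856394426805881395036248871611510705480632211) (.leaf 4709686950322722324115997228037888715184663859987793678456124395313907503837852742530621575585651143139188986479177470457620018567303833)))))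

def certSPerm75 : Janko.Tree (ℕ) :=
  (.node (.node (.node (.node (.node (.leaf 1068794174039525655120159055636292043103519662861102285813024901623831526174774680102545387783656104872369952991168985296440919598221364) (.leaf 44407081366297399218717211195609194715540662374175332409824617713677007225062039252022888025164140500293173425291340615471654055619189942)) (.leaf 37355454786394908640648849113332193889344530701026202416086982125725826913790726273208620938676110570368743602197589263298919018108207757)) (.node (.leaf 36427128929347259914756777739886865478613629006333509057252183114554780503652776619739852744342164398589814215873392258350226935720140340) (.leaf 45791968210910411528749301894798008933562111108965776066062711322681107356524300099889123119616978201722975071724287019540052046957661493))) (.node (.node (.leaf 36701941441135835110199413774488652079833512030787589779417251512506843365933218543937123065910125441256841819347478654337214637144786436) (.leaf 45978497894148392361165083113535778340687538627460520703372866854698693536721645135855712933527252934567902481639018408518145115435518754))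 (.node (.leaf 35213275378566088710425866756735203347128304013257770655169210989550135991926485285955431657349567407300099700334423712977260625919115275) (.leaf 26236562831536484426811253536565456893699085505218214163725928945281869443452692213411469253464708883128177452090991191681374388591630008)))) (.node (.node (.node (.leaf 5998329263008280472134467927990882781284413477837041630808881550688781995432658413177527242201287339230303992215572168328189566545484429) (.leaf 32891289876075252141786753199663774270818920423551245380085366515981658085533174460791402952871932293015115904872624564489371209461351975)) (.node (.leaf 33065853712325642072585653248757609950171339041126604876049784380002003769792937094619762538426590325303836663308577247598699505584248207) (.leaf 16975265894532554547731663816700720232101593488987390840361349125541282523977935623190997208576166610316585785456954609501709194552757779))) (.node (.node (.leaf 38672712424338959323757311384495558206592653954930986012886414051109699610716398813665241055410307409562310506720070713270694628624651649) (.leaf 11240323592121081246281786911227411865770529407962775213713666588866644018198512825876145660023830903476663710018005967723154988530778272))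 (.node (.leaf 26434113475932091059500655960197188289248292128892791467593122256704220584793675313544707418790658612337897604196255598859552319236702627) (.leaf 18206779247046980980668964685820225523064543432907441709652648250052106791220936901338177591268389325186961302565870450397796394943190029)))))

def certSPerm76 : Janko.Tree (ℕ) :=
  (.node (.node (.node (.node (.node (.leaf 17694557698950153583923644664560360391259725808278035088678022146807723155586856584028123103287788958784098253593336147486502374747657399) (.leaf 34992923004825773316290591249179397475357806385271233311444015206711562524181677613112111968213361802136128172359941332467381508187441680)) (.leaf 7367292596295840664122050569587997116423264737109200544748187337082742363586863013300224035916495133077610491724327106693513094242079258)) (.node (.leaf 27905764441465659687309767257975050762354027766188052104918908973416866751930434598467680951942181407996538084477435915989647453638362381) (.leaf 21278817563491841616753610492828599465944527708854078982630256180806530807215865594726668777508783281168722205194538407805707218650989975)))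 (.node (.node (.leaf 35144369743295181808176066825074635072700127295842355382802836231024724714905465446033447412673625019859300051264871930559274150850371619) (.leaf 30551899809837075105717894469423991676445562110225412862114627043141804755262335232316841839934925706501207853626353538609398216191689605)) (.node (.leaf 31534082643650875121519668556435275663773379682050161572570273187356580849234584880154050640871586423413390558361035207769747265155451700) (.leaf 15400529088997142653147030678524250972469100512271399451476487450707753717934906025564013026904597970279559822398176438997564247260039210)))) (.node (.node (.node (.leaf 46114838978889588335581417941832507783005670763710928746026912329129158935774121246451011156356796761127615738370972072184013898393914919) (.leaf 22652463634358986599683127806446717462262762204064531489018852762644436246097861861195650907751022384925407478860957743326853056053431186)) (.node (.leaf 40852430534223965612040910027869198128560279769468940220982880939096847768136543790132117675225481663403187352668024937567954495702243760) (.leaf 16212499579191748763592321617499633312470276859823682975114755117166846361482532996112030810802004162830575654715783349695627579303042079)))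 (.node (.node (.leaf 31409556848365523529577612185561629756355784699583134139786045411873778036926188812486690278029954724713506120680687317391005405676313637) (.leaf 26223913944671962984401633910557041257034985984987351283619313033053815524561464020050737977608585105214717852652092486000696304376847256)) (.node (.leaf 43855080951040793238098318063651403122591847512608777867651587203302501746156342385378057863692742204328601470332856777768577814291861383) (.leaf 25632705744816838320759396250025149191866937589225861293857560560853255109180451866654291641561823104933917684105562118902788705864467371)))))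

def certSPerm77 : Janko.Tree (ℕ) :=
  (.node (.node (.node (.node (.node (.leaf 32845369418828541213582448400237609101139618229245815478085772944426544942491726505553521666404776362386993450740180157673917886551572897) (.leaf 8270055224081599688749651562618214064396661762905287260140737413895476765625729668197192968042084670138035259412228556984154165978434983)) (.leaf 30097179177737816820695392312638257911914248479350314634555702068305003407826857215392002542244380621059140078341248780103058980940045079)) (.node (.leaf 22074239296934482160648971673246348721144264080831470636121745967393271743547949630094439538735889034279005745305910313292031010277711935) (.leaf 8043323282538926671927169109517867919177401915640880927218259689094968785298654943133252671570135679000919467805229406999674641986772905))) (.node (.node (.leaf 24258787725249791365237341800254846231278724897415412126088663939592040734597253184378389089219152034068784875290549043540389266534892805) (.leaf 36552177467115021622787085233234298678548825824693513762521076080059938212244354328224657906073786324864602965135923287612495927399669376))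 (.node (.leaf 22778928884543429813281390606928191944498221218664284610926882722931614612635248991880801186939841832697301313688509416205613100716640675) (.leaf 27008307264529988344902425731025922160091103003327570520706709528650778129997841780127805482129825806230313777297239803836023396415443080)))) (.node (.node (.node (.leaf 27240899023131102964020610732187349144799796994268616185561187624621366035894387806479907273188738099262701868054169178162056949871821110) (.leaf 46763640969225273454765956965423506646370398752246439593413378385727004979409277555974471893972007256190361010470102641109854021516611619)) (.node (.leaf 16253665722769303590829987338775113277889511894294043107768492626919533749271010914338929101789861394583623972943619907942987952040837564) (.leaf 30637212003506312723293141961895184497454701738611989716953621280497558661870683433863328029907566710874618155923877938473952716630985239))) (.node (.node (.leaf 9693616987659405313062832003776636394004709143831327072122023058649854373757949194308409416839670661004190015055483284418873624504009790) (.leaf 22737150645314913220441397108566676125557288895385518938090868794050070606172498183428011193891356378493900981008861101782200528629024643))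 (.node (.leaf 14877536799307207560068342139759307172390548430314022311130636514809773282703176737009122898831358755983118031494340350035296837599780762) (.leaf 36359215252116510467150310168134809018233442134244667396471563776732347786601860155981574798041368669612869748267081374456856835411627321)))))

def certSPerm78 : Janko.Tree (ℕ) :=
  (.node (.node (.node (.node (.node (.leaf 25492875256957015729675518838851252275086125161263633474493983793665265399735172791350260182346025837427519536555139422994652258699026235) (.leaf 10414563694721829544703044013327109374926757081049096295664370178096613060618275708292574914303272299567732293676384630693221040367523857)) (.leaf 30669690086848464760423932897541864400083098697297927331685749241865360143973452050858984160934250861322542280790668583037642650803863680)) (.node (.leaf 6583000020789814992719599677339052855000343865363524048300220843188632903197238276640588738194900652510695136709597948271318882956334472) (.leaf 5116767975607641772800084045478448074481542117081029801678837990533892548399199273303652811560842890347085758394619608409167679271587727)))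 (.node (.node (.leaf 12465571585572922490261448127549697874589403629929417413473624475244246503872665748104580140894829637889015194178692680662964742807425849) (.leaf 32993045872690718559568937875413300766344930481715564690412342893311149204869432826166850594114260700305014389059713127487658033108668548)) (.node (.leaf 13822547004339305725115531845207457318237440130666976074086073327395442442170330223209629268652564909815004603130342426625416773334111421) (.leaf 10221404545332521995913919209617154380143021438975122301859655385287022164051362956448895349882556767256031532119975822799295532748571062)))) (.node (.node (.node (.leaf 35098412012824468915002770244238589605252953361801841616560680614802758065165355315094470519754858244705209948381823117246509250208861602) (.leaf 11266286288729826006676725139057969870604366145341088883449331029886597303946657285527001520549805234815678651455566796158494691387819556)) (.node (.leaf 24048550754595466563608628499740573207564017121536096756307274215296968401875606132463566296973219879218752423404785410009926504638666247) (.leaf 26395685674395899720595620973394649134798070224498117022329553564344485457049260866338745360805443625337275798468045817630360079469644318)))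 (.node (.node (.leaf 18923335582135274389819297129490327278493389854340969680318803438590762019454813716837315485232962678056260232357058687478583821823676341) (.leaf 11857368121301233309521465381782034693053511179354279872356575622515099438032004365622927450397156005905242049527380780789928900728195231)) (.node (.leaf 36695070532688909303314722376801059693695014187811239400893472634273371310296642895617141863867060173746417611013915177417252987091141768) (.leaf 6825651203135365290036784920828625818286242685030114852646268780931817529496927843281748955876730852038048718332950712814210520803938321)))))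

def certSPerm79 : Janko.Tree (ℕ) :=
  (.node (.node (.node (.node (.node (.leaf 45076088062973302708551880668045037571965249739286481936383604229636447196961100526014207166782492647912133792507472985430131389688389270) (.leaf 37235554241364626018165363097772096954855837275544252595569543032245120405013983243859732148289064384827400895118468191023698859432041989)) (.leaf 25680652218995786197822926322984206118167895082960687362776651058869905114053479213580423036752308508101064163692488170572885161624752925)) (.node (.leaf 21404405987102516632649417917933011505639126288718411305482139286959740363672991258296466365340179239338181954571016100953924309464030247) (.leaf 16031905212706653361981211225885054341059620895063506046776400508862655199199339382406401306972392765686238662185162054973347970490751279))) (.node (.node (.leaf 45887464752440795014062858480672480836782720335824414227788380324593347747833538455280888347175693408709791650721782394072945339484935611) (.leaf 38034116403664113424896375731290700477851483933900126778457845476616399038184845577712851877969990634489072754179562489229697483658354610))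 (.node (.leaf 4469287535792051249055826264226160182229339621377460968334384072549618920998697131305977496776009061925190185776706717526827520449797297) (.leaf 28393116171461075353703816418348718664044302611777842421094064072806711725806828685532562390728656725754219763073282787347210742622503324)))) (.node (.node (.node (.leaf 19694661786238237727580302778254265876478994933080520613162943162182305865318461972130223327323120935336991568634217494512020694548188855) (.leaf 37228312772378396110351131097151645099980459147291432904532320357477715714266287588425726933874733585009589321398240737155943924008014359)) (.node (.leaf 35076765301162460071597677171288051241496614738754907162239803194273291010623289282223348690563245538454941049622653422774940514080792090) (.leaf 41533942269284108819181401486219689080692218141385035007238777231417798769655797344096712718534659169018412579510010724811064101130657802))) (.node (.node (.leaf 15412895973317483713097136936645109576772187271127236411141222098153324891762695670780957140910677263231057781151325816582856134540345387) (.leaf 25531720662318597483011600043964314203784051015045009156573097525638534748978326235448345463113852834900734784627679608338373293199547907))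 (.node (.leaf 1011357985025691566626055834367478992414388929764872030047869469041690527564710139404427491075375997351010131511382036792097875255922434) (.leaf 11249284186068319099819545873527924738397311714667295209651980227202057783197280303401724539378330247147371370335830779922203796065125423)))))

def certSPerm80 : Janko.Tree (ℕ) :=
  (.node (.node (.node (.node (.node (.leaf 6655385060051721354582643500756257775023112202054562749555552377077984670442263476774366929445433946853156071257054776582202640683927971) (.leaf 25452899980238056607196978922481712903580143478692885883451684065035544300178663775124638813257339010437628684803260941117346035239127712)) (.leaf 22074323564902946591387849046853373364431674146581025842278654030632131907342349820718962915309625175290151779440089655752626751668783789)) (.node (.leaf 14561620522746346712118749435796110951022777277009337314809991424591305708946673084391792574279735646703021087091448090149179310224021029) (.leaf 23335115819960316665639719256002165463402447621241426197209992302840734161712969833329805024044193673962380648904860046525315611342462999)))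 (.node (.node (.leaf 31335446894587044208398233083240318049007963940704509135788787008314370308680267494331605402938503740390461607883472670925792196346976031) (.leaf 5976382210507249370858371441366395595186525760919516882504674879947317961949247041874445153377831628118319235897738311260638142691907250)) (.node (.leaf 40199067551730740968517749299805048096737750342894886108751123391734160559416003169072482806982981044891768527911598563290517028523737875) (.leaf 35947246752682812421508681023951191744104473477848011005010331025481674574668192696405071140650936834273389326344534388849293934174589985)))) (.node (.node (.node (.leaf 9602451555061333243596924824109796408505627200049370414847196134050938007180595725321000941317771909116980595181535579692219791003519165) (.leaf 22696996535883849775660577803560739946844171758928699698225603106060285291946094372212249894843051050457032323518637767932547060138609423)) (.node (.leaf 37802627528045904817219087239676747423523195021350799892777501555807253430948130497495083285588554690200035195966234840595250502284860695) (.leaf 22590973448734288938772209199322098620708426545736698679798223926809325256910129764579560012876493662843763003491267621758780294664837048)))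 (.node (.node (.leaf 33037194133813885600239796061773290386109573775337004070957826988540534606195277583951418531061147410404460087457055366985789058952256307) (.leaf 43849971904697659310267851652062422832295972711024719049188016499720394266188877813439999331315274187632812535848226338820375758223678359)) (.node (.leaf 21884971018014828970665096016515467421197258610866060864266097857696102268916483617801377214117376755546826366867445568031427658992783396) (.leaf 32096957828850892514194459067234244106870339321571472701293584110590072636083952201905795354019766184247807402714872496767755280638430396)))))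

def certSPerm81 : Janko.Tree (ℕ) :=
  (.node (.node (.node (.node (.node (.leaf 52099985299099571441687973889509309991433364145673623080163329536220286270608920498307040268875408911096632102190290582475497070122686) (.leaf 21136757154781801946406697548947586541656755910449141305055099012341959922230724147037146174981090542883051963061882190320893874856694146)) (.leaf 4550340206860575858624019854044148499103630485245964749859613917317551448563435125936740648619483440644486691828152764554505698297577916)) (.node (.leaf 11744186796969702126647007171562835150423061517411906426475514190956190729968510205034890059375624875963379562318047688914119457273318937) (.leaf 39523205948616553562035787664167033881113712731260911122710140564745730716681462098020926419266774370048781119555240431444336092983660445))) (.node (.node (.leaf 40949854110566376294556834327606308542899772617425201065281595805976763451395874414423015988482125648992902789241887664917318471441225747) (.leaf 24760256480754982763706114637181476611440852298537642490509178899278513974094040414982674697503014415100041860556265332025030148444145064))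 (.node (.leaf 8310032185545015558716425862344237409316843802234068979928974238125509339766429867285461448220355055966365372892945920622307837303084567) (.leaf 31409839620075704634823162582087185690119733656379862546620722591820489907273792128066311931455438283030262150930185054461958616114091687)))) (.node (.node (.node (.leaf 17728101036373028487980919405187696005633666505022535691127745906654536611936612837076007793122889062967129019172615741319146534473370159) (.leaf 46832272521102275717124385185316484991182613022444600977910714896121845272379843968337918513785328262994429606682180913459424654994260230)) (.node (.leaf 1569387974391189685609181817631245103863148295421522006080920906815005193493743044347778585872289047055719144367541843846868039172542911) (.leaf 43062098507710901384823524674131425919260432327801202652309092766682662865009307241564652384134281641811454771890917601872402358719175198))) (.node (.node (.leaf 43850423642889244059727925216815287784156646434111537073112494699304646063902315900257335932746497418012712794448869518947218220573394603) (.leaf 5363071092855001742054462137004078120968024874486051592032621435406615544239489458320193494405846486284176613273872344228456110965784717))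 (.node (.leaf 17458027217579075284422262585261984563468208146940015336705226523868134404920176525909362066287751897095800685533975422774608216331797643) (.leaf 8161900265973060953580681894817677534548261970570900144988514322639075212915991431629792975249034084531310299334977595818826758096946858)))))

def certSPerm82 : Janko.Tree (ℕ) :=
  (.node (.node (.node (.node (.node (.leaf 22878488866136539803693138813473541006279505922257507316535479109817995495039090477967195456606420203493070544002516643834099410422634534) (.leaf 24877551621107695254987985031355521314962617765456437085098191091519005383997986428249895497141513398054905368751161290258364977240867512)) (.leaf 45825403518266183837734294495897978584907742292736606410564862557499157273020967899177207322038975647795183184714434482718088094081211821)) (.node (.leaf 14800295410346359724614772847697091325826118487254840953185519525475641839288595671835372439988702453805661614004954054429406331880443792) (.leaf 32289626451773185845543973902759966403370803422365225756879363227091163683045003764086144993883339579637998312757823325678159739845249203)))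 (.node (.node (.leaf 12363729650870757930688514566088586631590465997736830233324459762796234315512900307434845053583072869449307653950874840972450687175055551) (.leaf 4639738834666122836333836837875772934615674739826092726601197378494832576130591796317976387277249907054187303038559957256394758785670679)) (.node (.leaf 18318711358222445692829325675131940723492506686976131135949042775990058340972815846487762899083122255315598949158173007291792003479225222) (.leaf 44581611240732575166802164361152818161220011583916886989305658966974834306183069193678723105250132707754256221209821577472895417123114263)))) (.node (.node (.node (.leaf 27014198194742218940489180452558784039175746801487104271296129163647123029781354495797041608353604437809188665980790513861867094118550832) (.leaf 22889790346668064581522322029545995667160494729803926866414789255289830152136682522847740456211809360856846513054752870134648626593208722)) (.node (.leaf 18275227869932024415311272792052809011802722394767801675200722739326942538033224424623826946159898752033458826647407002667302298053250308) (.leaf 14008787603641670649744217974505376428544186442011112349743707865725363763714130918032021543882545542306477432798382583290961409494734135)))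 (.node (.node (.leaf 41771446349393725182674852091628859677308983602710064611271912878579613462224797275990576123479981479396042006925826922251803786440099851) (.leaf 11745784404185580232648007879045623109098436598780352129618673198026088052184210423771578474377608241513585280066312433813489031540852515)) (.node (.leaf 31521105959652865175695057898825376058498449896272760840296342908017842864555020245165853551831965568678629431742199291665083975858149531) (.leaf 20499896679270271656928209249355619831246278165161229925179756295737264224055537040547163581061896063507229491917048114316412998304140192)))))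

def certSPerm83 : Janko.Tree (ℕ) :=
  (.node (.node (.node (.node (.node (.leaf 21981789496623457370211738767985112970191346101955621702483281801823791093577438509113804374172728977312576544376717959595030161867785992) (.leaf 21175092727649529757133030937774096385846391800660626043194703279786732618259065241857159486056573517408595773771743091909708655431978021)) (.leaf 12691603112059839780792096621913768705209778091977406877135269154421671896405228499747872237944565795372124607919829710588613683414077217)) (.node (.leaf 36445890888103423307195359451586869262156430031603000600959193060591866178326494758607886701197339675820588150611101129865142617935714319) (.leaf 18910990229458578811930555948454012317760284673296831339755899858380867648103632682191380691370325979706411451646832816869136580451851528))) (.node (.node (.leaf 11727347250522921141128730927615805154495736005344306082816248456398134204694381630536586837259982802284739022551390032546599268579184811) (.leaf 42304878160176727236765856593600590440600604785201957379406928232236336430908996840427990572011760841573276104965553809298474986866970641))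 (.node (.leaf 12499155638494298925728757467416071375881106219797523219984057290377650213196963017650157327769113777189033842544126023384555555018250526) (.leaf 33475128931568688336642055266911624809327876214426842228841635899377602664552696282386523159488925563153295126903946811527239735766670859)))) (.node (.node (.node (.leaf 45956058648853349147512979200955651381482436716571144886743634651232578609673925042083265957584643279254101986194687580543724936308540209) (.leaf 8900279510134624093266830158983968866467147131069467410302940615158708059564989731341756302684346184212237255248880155663692995473016633)) (.node (.leaf 18365029694852021761229777540924569654050950502036905738465748883846352020857155927378346800642018977266364142260755100590911100471723141) (.leaf 19109728337229479948194099132454168105524739930996185855515962501058001150826416813901351247673635124026630542677357420339836954727959452))) (.node (.node (.leaf 6548534078716264962679090565530063101710267339815268156655513566691582732009519021409497137111081205317325428200362233119660336125956272) (.leaf 7484851717088137026991901200896451549183706734384429978648084171375148566215666137356504659969432682928983818842178456311621933645694623))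 (.node (.leaf 46763818753088351050794751051327086688961723237105924195611157476672536872752031406218724814544377573315798059407435125854532294311756672) (.leaf 29961926237840293113736044997618298230758134268514608912147653242254286137817352621458859825883937569650974127465498921715291020445032196)))))

def certSPerm84 : Janko.Tree (ℕ) :=
  (.node (.node (.node (.node (.node (.leaf 10206577089168244167118167142987277972239501152411660663463142855203423621872204025061462614200854200735173049036001749918938794119698717) (.leaf 21294478997198274731745121428224468680029906874469670312589617733709107994598020448894716567857860701802698568938702443134729512915353871)) (.leaf 7518736593493166393430668465485365300982447930631222528561566782267484314505055924420308920300710287921435698581228564443135590195939257)) (.node (.leaf 30018570534706055199547484207622979348353266970909000229960855042106704362919874498429634355204896543415482068137281609260323657124568476) (.leaf 30641828213796823445664081581208502474850047708857477327950160648651979967834195725995822910359820315661702659549370039457794126313201415)))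 (.node (.node (.leaf 38098142786830682688633532906858074438905124241696519480543184343009678971143403206874228292861090034040970830858790510159288114032201775) (.leaf 46569454517536424016609532979722346475912963741840283965340092351946039658157586962127380551515995151802943123848900132010448545460308244)) (.node (.leaf 43139212283323393345676240807159313693548793600767847147538490151481242686759965134921483229741885605283323744620296670451003347068670776) (.leaf 20612750604515023444320353902315709898765276918912828792231716407274661390191714926829415372758568197722705125602717433799134681175332381)))) (.node (.node (.node (.leaf 20711181794918017392135498513920147167508583969163432576252926447495638644265688181169977648357122791151490326069672643449187583389990966) (.leaf 26924001814386139855683971676963747811179139752470355013306422271396726820981334670923550131307181785827920602851556802036722667660319406)) (.node (.leaf 31590428217746487299359826582051929104503787729093543229457889785039458057428012879466019587196738484073698219927369163024360323645162300) (.leaf 5962400032274790351721710378962629989847055303457745122663780820793130270063344027888115024860132060791269734474963414024394784555372583)))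 (.node (.node (.leaf 26944287369699830179119608920219432675269059463377034897169769688983818462431303896036020440306542091734064304266354691836395493035838594) (.leaf 16878775469143202829599540449056810091528652119750589689541777242824127135252927635969039558931211059597847346612195945884654000746926121)) (.node (.leaf 120094448784368689365520656344131404459737853249704318798864931936417117594572737176874441319040959251219157223577911015610216881099060) (.leaf 45122916141081620034016248635118481702304206195502991845399210231384164927712732560307009616719688988848950898333406754907589046331805455)))))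

def certSPerm85 : Janko.Tree (ℕ) :=
  (.node (.node (.node (.node (.node (.leaf 12436874386126841656282282047301964598117053338296336467178947473532601904101764695642910131034128613992617188823073178838482980559946941) (.leaf 244989392875436167028872338547462756524000467413223890341126190451422223346463922206047547687904931691764197135817171819963619492762632)) (.leaf 46798068526671716433870850039254125657409528954607676933244295286480013173414430241212385194894924513726965940244456142131654099984368649)) (.node (.leaf 2413574682083059631749848631781494342652171113467596006747431835792478563291340088606346925951945904690033687745692416059386012007011624) (.leaf 6906976680391430099080750020608652189583338511429707447823829311422634461945037779837023047546823405936989445006807004763597493387462170))) (.node (.node (.leaf 3788228704817381244906038385071676681378789589567239125295290100206806169827917998645057133632283477841311706205270989364787364500607637) (.leaf 40870399743396900738743058499525674750489984365903710814990483904422889881824366921227109548589882982254733270861310801834190781399878918))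 (.node (.leaf 43811521666585670266683880764434625571588542889855197213215294521819601926355986126526411834358970434086135191903934517266899095343521046) (.leaf 39387806169208465418552587156965898552473247139578276714727034243722981394463363014083513098432511482393633041048930069755310724083925294)))) (.node (.node (.node (.leaf 28349373884834640526964258579120720068215016799900941365048387061463558430062332306053475104160433342390104210634282287519050562311525021) (.leaf 27217956188053614043943773664482202834982217259241601317878019600267482633048342984541672269299578287678815528144054436802927180646654001)) (.node (.leaf 2427545520215734505779397429883503050641851371940537360477131836908741693578472564427166149369068823716709957605210641142136321331552004) (.leaf 21260759546006888020804986747157269851348417436547077023572467070007839013842187664475463381759883453354885551165614842129610657353172133))) (.node (.node (.leaf 23374457189355278593012696695463832738338435096252343349304716464761528659157939866229812558601728556866214644910124634807615055739231395) (.leaf 41487807476887170224875458626978057480796054946633426996981443069517737927682167295733626466644586975909329109295669403017758602452130688))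 (.node (.leaf 20352020245020147811554420890865630674902526255241872740225685661221164493169566033910368333978413919360390125032757612006915158314065545) (.leaf 21330316115175893839476412177706747342712742890734197123134710838443086603914683791604985053845666944984328299311752719563031267577973550)))))

def certSPerm86 : Janko.Tree (ℕ) :=
  (.node (.node (.node (.node (.node (.leaf 35854171428445401853301043622069758668881945081987717833127086893687919271174182347819888181032765537258074498635231365569826207763733694) (.leaf 22153591801581741667764264722889047035061134796012392648516630502719319030764362759034637346826102272594449764848373885832574709338112308)) (.leaf 44538218523469603093859712466315782467021656385919231511281740357674670345590806971706120839999619188129853382553162246318331728012657960)) (.node (.leaf 34316620233933594957244329102932654212386475089863119650148310794219112102749653343781031802750853506125204413016781169467764995252635453) (.leaf 29330322271632039209508986387064008362717085528453931644009629916919566691768986828652306097923014123444985533994722330658991520008822025)))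 (.node (.node (.leaf 18507948055924631229062701534595980858857420369081300339697429372549538694851416744786569617967421229311204301209730053862685264840872892) (.leaf 14130326767779157943877364255673243795770996094380499784564942048292670874507788316282400083980741083973080658526643522731149274160567221)) (.node (.leaf 15281373313082667028509792399460100626318101883126204966070344875503248043520765814052608097396626448247340531489412110474393323812618535) (.leaf 24145051100620207972554500285708142616889968681563983351028823144172651410484681984344390942190143777659716553899290100832014258754275477)))) (.node (.node (.node (.leaf 6180093942693432042462606658082236920477636077634355274234842086315244947781121565812219724136795492324432669086082663148934722633942683) (.leaf 37280182496453011661557426561164268497262616423870461758172798799395920238343151712286374714020938876683554752692919890128956210285514130)) (.node (.leaf 22704842606211267038584777121827659661247683361013654123341834732911394467823431377073963045005495284932940150720967708716031158529219730) (.leaf 18961481939832205527350810558787985034565513301843191784115155707913367843787595960989789687451371212960405703123654969632627525598298632)))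 (.node (.node (.leaf 41038711508260523730565145215889514398492790483607828861472284517019746912829601306709101290153826689082617747742741920254262306369308421) (.leaf 37416366559987869215474296010820316574470153309977706439316152791471281975601535041629256339580148133790013959052673287276558392249047593)) (.node (.leaf 38852177236911912091907990210723708836714448335134860327864480392290063533237216578444235567917353070110929335032564681916030959852668952) (.leaf 6084397008513700635147098495715881250381458012300145830496159933029406259925446018765696026349186845851604945779584319010058330712693032)))))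

def certSPerm87 : Janko.Tree (ℕ) :=
  (.node (.node (.node (.node (.node (.leaf 24263931952793085138778317068106297176805229239702234507434113150632300998390921108636129352566197316578613398872613601050308035775976327) (.leaf 3884931818544827414675634232994923975150647162684021685428241982548473078169025284237816636078209598852566162961152602355326556056372791)) (.leaf 28647762712964401282437913804790585517216963024280725305621462344666512260221541954811682323281331450391163137600726548842316670928916261)) (.node (.leaf 10937960184907352180320817873170365401623565161860154612299206406193769072170003977010254500354445992921789792556890004882881452303912999) (.leaf 23611315584086910256284317380442534383404163601014998375875858026100148262757334349767355429990975537739851454612976269629411592642517901))) (.node (.node (.leaf 22674777755732212728158120529905347320115917745492375838714713243741027335909713403853757388314943639036982994438332021682678451323324963) (.leaf 3083838851517531724464986903768469279968317889155139012612027916359695516978153843261101810419289075674680969030598701725577689552142633))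 (.node (.leaf 19006407879508581982948783937158237466334394660589368195508000556865156954466930852054448515492025907143435486295893261871732173487016609) (.leaf 5219151262290095415293844680259041170843337956808350801677979045694371630408324747594573843230525097875172767698801087725651917621187885)))) (.node (.node (.node (.leaf 34207000441601317375852222987760002271897886625308892095378004883069958845420630705488071145025102621578925888604632558157939128743822744) (.leaf 19687868682512468728039712632431295138688334790650511442415950571250479650583350046601194087940196788316056904730262763026652297106033705)) (.node (.leaf 36519936413228812414180134368694724886123469310756383468782137560748574212383587530128014895162031604242324203713560892109749965372102434) (.leaf 40852961091341639895549847765199153588767300413656659257772972443466609163511577186385140981833826136579191487799526984840366179729769376))) (.node (.node (.leaf 23623296913151141207211471764498675851312748860636203363120479918936920700047329095535042892314261367558612556098643157853939980005216829) (.leaf 4651673410295953681044231555270280308143360723616251623916347304466113522817536010640768375070978659443907905883258864698025955650084775))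 (.node (.leaf 7281001585816499419479071158132214004826493372579524249201252998902752961144270127322294396257175224214732776018436691907862483907534102) (.leaf 38580133089554814855014285094322692495195029312220183364548532903984430329599314591277131714540941929824195731450090803203279687449070637)))))

def certSPerm88 : Janko.Tree (ℕ) :=
  (.node (.node (.node (.node (.node (.leaf 11204696613539779569812847916085005654374440124381206536470603726287789697746416208195381650333860401935799354744842372526484970814313390) (.leaf 26326744828753565307388150820591491159136368044062491654664422658719340859811387181567792829505716969875808837837887739291668820163005616)) (.leaf 3129138802475470796033851513011993977003679172751061324272571574972399065006922097061415549090151555035629702207611590114798317461210921)) (.node (.leaf 1539883941241948333938019088472181344957758886642072084128417216111199748710614958877221764034673877334467311004610354698400705159059969) (.leaf 11102571613514219618060474706892314189397850796063090864307460717243801806218559533936792368692600089909216951118504089345126543844393915)))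 (.node (.node (.leaf 8739106928103275190594111074868278791590796569259120751537095599233882648374855902455530986250070125607443170735884030746383589623481011) (.leaf 44645623858194187481871475068750751270923308387608542832312612096777095324689196432600045607477915402090618718082235599797905316804510852)) (.node (.leaf 859002552524435698234154619085823396931368166452670729038663563769173494010244390466404061930971439701138873583770373260659785783427376) (.leaf 25038680333007139942260544050972600987551036982310238975944368896334668879706166758144815470117183628539387011661010597196945921957348883)))) (.node (.node (.node (.leaf 4555829534505045501684254983617978016914058175251552106018392921903724379326353624200518843664009576271842898337941514085172526739064614) (.leaf 23412338439996114806499891476320777079191653474139041985787955991467895387012024988589794240562711443131787406489617365725667897203066681)) (.node (.leaf 16145781778735534715483207546398951090884647218573917580577934032615861036209541146753199761351285642970536854325424399281124442909974186) (.leaf 33548559883007522353394333441651582449393300427800034216998708364707612505678937071451975526502779298059636472530128723963592230838667554)))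 (.node (.node (.leaf 13265032470155182920037427399354673337666500595248081242037104680842834241245546060179788510006187320386788310107961136821352215099855544) (.leaf 40981313562378549051711628943565448786522269638063998938825096040233538691644979655675381094930686913220928813913818237386031485976105875)) (.node (.leaf 8780404232274192063814958849095893255381689878331489861143309137064583868003914462373388656450804071376609395556305112043016997539664160) (.leaf 37097805173836053781130875892283087618126602400476287131498766394350072896039116781827992839025102414650211932000011773544096070000843275)))))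

def certSPerm89 : Janko.Tree (ℕ) :=
  (.node (.node (.node (.node (.node (.leaf 42971202651277517859456759892057599985757652309732202326394956031186970259190638831694789631338207595815277541258668606370008731285554953) (.leaf 25604527489872881376336373238210179010102455177938164155298196945049643780398557527614099592440133765895753634400489175841365258662646706)) (.leaf 46609560865262786119533067050055548948389971645594841140294128832923221333979859210744255812587052144578695302223005577569173917353795004)) (.node (.leaf 42469366183129388063762043542923947062649091386956489432093362528503947774131729015458756219246521334280665265945960066729604078589139738) (.leaf 3170120141419084759941254031011976053253486087001876712923694085121178388005973223618243690127432720087899062107660954856228503551378719))) (.node (.node (.leaf 33447601799515763901441506268505444948963077153611510836358106657294960891140641101626768058201869060563646367061790640733377302010678166) (.leaf 14158158885779784736012859137765101347821251408325464784784825935309132585169342317500372660883745116353159289745713008664610939094171700))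 (.node (.leaf 26172113078408163758189426883711303021742811433489412704063295033700332941996422631114438141257543259040069015246446781947648002413240216) (.leaf 5095068956748391605524694833149944947312876708665990457302234155974383332655725729692647823501146551023171646787092402900232786372544273)))) (.node (.node (.node (.leaf 40011043380923441619218750414437989294003934913099835935530871876723051587845929694707946762652407753088517150609210097794323387845135534) (.leaf 43730861913785125251027101408192138386191735801284391159363501557657703288119420058350287928807505709749089254803023649812596476728908710)) (.node (.leaf 13890326350125086747762820736187657581928090581955518861320886498816359319814697098869674037609687103830058115823461552041200296487403657) (.leaf 26961460687257102060278456777368292914330946514622294572149483766911476045570774149054825093045547395293065669245765760415067352361912837))) (.node (.node (.leaf 16072580237057930486618829446593533900162498117253358660890765121122131128354929332433968693581389478174815557144067146082449380738519964) (.leaf 11652225563665902833775510247821707723090958862753319623706468969150892842091714912102339226956600034974910483920877959007739873226445623))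 (.node (.leaf 21892133917293764268349454297673393721012969980049204287422823194957065544203073543644427091596066077286996336047921458197583592606731162) (.leaf 27052980189133815941683546532445055295608914812999392339347286039313091832465968178052356694273507041459375422324601924145095068195378851)))))

def certSPerm90 : Janko.Tree (ℕ) :=
  (.node (.node (.node (.node (.node (.leaf 7468157415170271302673353937730295932587662767940030994412408519622399607657219698732903009145778991551645115530502662633554403457109771) (.leaf 19801434921157051401766919815157192228018097000583357307828106127865449701244507177064869684546183139503189346882535855241048322252688147)) (.leaf 365202318904555040891205895352355196460195531696780894751333388531332760892685677883767625979003115668110928569382076008379276497273789)) (.node (.leaf 38854521192602195939812332391630784514504417969329912132181112803219040636866902817538370143465105984067496101346132926808540192390532015) (.leaf 42311432826677595336671683302527782789040002289347983392299882524317286197290826953778408953894449074900978183793580012155923703624878598)))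 (.node (.node (.leaf 6809824782967296260345988706561260923102569933577572736383663935275337307170493699912223702028800395002797733949456067587571771077465103) (.leaf 28699178062752817212331449956618900678775130909422581100341225737060823318508322972948148608184968411285216556141979981782212038252724364)) (.node (.leaf 46116869591235370432008735924277382981703506243292884446154164332552131564370708418860709593442973618193458338012922858478256841640021820) (.leaf 27631232963322631213664600184612297526290405386847689306218231163291912119613350078759482978779799863780351608143017638820753688790077334)))) (.node (.node (.node (.leaf 43043242637469503764004303466516655116714623008937318137447789502779519716296753909736443129534764256988946908198980645979577566528212612) (.leaf 5428682896312257091438238148386707608884955604375192942477522707349179307844758440987523097215471578125993315073288631100892177305968056)) (.node (.leaf 29908521985880399355857490188190840486006910768366732367303606692637727432826568360736434219981700763894680959262980300574209498784829339) (.leaf 27649466700060078989134050113110721253426277245943169950087143433932260199526019467263507804502823404827642167246798412946251582018393501)))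 (.node (.node (.leaf 2306744430272678178049525447947233097214414280403178055711348185390053149920352451903885901356118516055711789434167062877616107646929315) (.leaf 21345223044358674063289275454004652824566967755612098478334588386836566527724346165752511476164699855116653564751382664268864045856773788)) (.node (.leaf 35969114521280914200237422521302888687771951801949311137337338460318520551543291794580551694346049307228818722301303677341860983887387147) (.leaf 9551973749071560473534939619839143497552682296883524893019045497231921028247388253087425292966458283272123002957816804907787834807131815)))))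

def certSPerm91 : Janko.Tree (ℕ) :=
  (.node (.node (.node (.node (.node (.leaf 30584367044180239163235429622574497852798479829587270768468568323278204609922885881999981591238440888643070306467730672752344442448775708) (.leaf 12418964374589310829152431299075514939547552052147310782757986241235284747785220234796615551713158428191901618609141731306714929339555383)) (.leaf 13152013963574569064450510438587420641009136726381859937566306482267402856913001545042898870341016805103606001618699465247690261256590473)) (.node (.leaf 7349091009791833161544694481821304237336707068277547050509550611549385561903060540487515646078735367693121804944779490595185678437075336) (.leaf 9796978244954958360299161559724145501515209718708491344003294200456802699752176018038788997281523088833662713280382867345671684746222126))) (.node (.node (.leaf 9030536028535375001777405805601638996374138374327802956017107019927957021878768524835140572417042323989065997187230091289721983820859034) (.leaf 27060124638483544270665816659161836447247934702401805825547046059891031750338227900771178064648950589466832807670139898404134374103811203))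 (.node (.leaf 32340882109877943675764299601114673687084739287457883133653113710884193811587325783067079931225581690832009023686154823900600555669506455) (.leaf 28377775404526741159325321640533452320320520461345247208249708032272300959044048510407250622694785157093604979417119801964746181152969151)))) (.node (.node (.node (.leaf 21084490863626513429287279745990983031971709282942808183840514913610143205999053585563242539365290009684155935366583284868252047657242681) (.leaf 26911842961737318598114752518056093107483580872164338786855720985410915492002612739840679758101978216312534447402261507594171856561015731)) (.node (.leaf 27052793786645621534444972965031184505445136139473060809458223775429638111493237419628140244425299308843768090356205401075369083518012578) (.leaf 41715297085890777288720632627317356698957013371059102757729393883863515675822377637884393833421090026326133995058772662012202880378013860))) (.node (.node (.leaf 14107355539912793044224113988281635726080099469094554888496289943809656598378816951674588969271480617292385918226373942373485714311337743) (.leaf 20473134497123755752594253372007502342238701274041896070033894578609997479201699820447107393647761727432380085347097362320278205872774659))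 (.node (.leaf 42435660562729783492940436327228245766903029837897544995138757690936526328127106018552824647186560922420017919489888041177700743231605923) (.leaf 352520707778969577803807838102898228554962926796384696849999916015092992764484698324245150026761956523137265710771158330548067953723579)))))

def certSPerm92 : Janko.Tree (ℕ) :=
  (.node (.node (.node (.node (.node (.leaf 14627905208336864893291850211544425329403807312652358270517565697055218807127934641328037474682755802845417442409837951564688261768036668) (.leaf 45848620762665829656738314714161719099852179399783528663372593624889555402066243525031730695390582980508093725410259867842473062063408026)) (.leaf 24787179858528189526092448339803409632215039476612932348815974766978256202292636693060380994255987384180132368935447093234018516813972249)) (.node (.leaf 31311924637150880175853272774238283280386973485490515878869630551069412956157649305756854327415175652527787749671544672335910483500712064) (.leaf 12709431691367322899864700365187726036808600247174962675932639833542408380128591805390056506350729262743443416552333873234936615630374581)))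 (.node (.node (.leaf 20420608668777475236256790878424399748256836115898708896094902252989913356435589418655258499259452954102970387949863405127188445122383790) (.leaf 23335155644891619953367567693120533843606028586379211832027954952520153472168694541202940802426641693870706889938820733207371696486570273)) (.node (.leaf 18171196644468136127130747458145588533263776624189869728568839827905953202970298029958081769598720030435357768485997642911327844848638753) (.leaf 39517262842949247573235348095913320657702631588807163533716594444488587908620106388675181856483588629785664321335690898355492588801153955)))) (.node (.node (.node (.leaf 5378227220825488429099561721574111067608973354875768290971443841957521483879355957067559871958020768615249219077867917996807664236006190) (.leaf 6576961102133527637898758225713461813274790666204778683980407556375935341169117489373103082464491856731674095495309272216717563417009201)) (.node (.leaf 40188453985768662110945448087260894248603587819922960433048606743143742410937465939262529885238492253013496594990776843263871803477070338) (.leaf 2324786535727419996636976114476664265712406699813575857782407917937452909113244629852655938841687150472083124031582552211214187719266580)))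 (.node (.node (.leaf 45172166632254098707283876650612641833566972755412588262427375726252441719546064730971914354529881728734292611036526738450220454036803598) (.leaf 43072972143685403486793222154232338688357028312795940825211292369918198431833626031367960352937199687019892522981137119556201848058678442)) (.node (.leaf 39301426119733764304546428437512255607467303077142420615901057926503853760735154382101261298197125578795692027054219345073993661114518958) (.leaf 27234583103762208707229421166300625701593491696630187573246132857304529299340857022629983229266938421234787393700189489158599571378165044)))))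

def certSPerm93 : Janko.Tree (ℕ) :=
  (.node (.node (.node (.node (.node (.leaf 34275534958560956260294054330162828707572558947977371592050841102615947051694881855613928637990725128535965246112347598546784296404404131) (.leaf 11987258661006069830938307938465717838879810224767651664734086372988295392801159853758826792130902467357067413263867152789991078217849145)) (.leaf 29267916394261719042502593481370353996536668151560555668706906757618410123691826164335117959279741937149706890074837960853110791561037231)) (.node (.leaf 847638504258377183109250814098674148234737227704551146279367250300480455176707272813855867203770021445974307461111955955586059391386532) (.leaf 11885973787052613084326215183178567104560041503391860060826433545105112616582018794365440426236974617671665987748511116141053661376107147))) (.node (.node (.leaf 13414399280406776879050444450348890562090259832372680631261837833400776745937653301384711765423103672594426512588732189336095198754359219) (.leaf 43243327463045221401261148207139409319126439489200209519415674082442812632881673415804634331596649416037257333110556585643196154313840023))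 (.node (.leaf 13226218804047177796240069966883251342775611881594827008200091794950110475769464005097185153322578675879727534055626076631582528661280540) (.leaf 11925733759466312570540057799974081613079556584987085761099918414250220126595931426825409056825538495464223380198965851588945421118083510)))) (.node (.node (.node (.leaf 14578972883326220716162569221671070612578722085898868826296902997935959958961809078542194954606213914412802347528958410490460800654415292) (.leaf 25758945821262318491342103445741989395843511704961392240824852776061329234671288424382794156461413009840884328659229063233325639913296536)) (.node (.leaf 7393723126954929944169900875242031270552025077797863664521667174418828692122685427786259131110161732280219516962344931882549377915345171) (.leaf 32243270996798660409699913979554000719132658695407052051533699423360325157167906557562483386030015022630521937206355172119961382135369243))) (.node (.node (.leaf 26955738214525480924193960609746841906653886187241465867336526912925800530837295307034797657684307960112064986235738515502381761192416149) (.leaf 19962436168296627649193247578170995372117335872743686570401262943425567817634989932726834045454065159091264843676772148244040448836082964))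 (.node (.leaf 37375551522116736815156695304479117266059969746143181876173624172661703328763549005227830667068551411580497228926397388555289256345539091) (.leaf 4613379001581517944994739997010433850903842276852878981574626421714060150388905313174885756295101466105878314350133671713320675750727221)))))

def certSPerm94 : Janko.Tree (ℕ) :=
  (.node (.node (.node (.node (.node (.leaf 42259217878744680092086081940151923656823915791129411812001772511247760102863833463125800773694967574777846543692107887369548176078930441) (.leaf 24946098587392019720502120568503983110754408548689165743960436407286651071695642726936373852601382694408622181954494408514772206355350181)) (.leaf 24088791547305634676816930489205573980333453325503615235860528114845990042918633275674825637193583324447980975928937846023226045868967212)) (.node (.leaf 2915800856183222543232221050826150532544022619500659212823754715959718056787191732115096996640636226635211267682001070296276110197955854) (.leaf 45996605714675213564387975703799830479938868185613486445291147725267999007424617980017991715954932666748011069252642586416373713569366417)))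 (.node (.node (.leaf 11189181775154487576264858279593568697846964047041679221897269725781874712350969439187733873595929082800486589478277231751795411748519966) (.leaf 30529632128655039187156711852093435061009406195718214340597092379747545480890277050282331961641687532265754913958195743994544811978068632)) (.node (.leaf 14545136259356338078682457300426630984163550773447338783402198657869032033302398050086077864999155949239107640431361460612788469917289791) (.leaf 18472696360153810213015188783643286718294720887519524255914833024122488467784869315858961808309290237471316458770200488639586572272831550)))) (.node (.node (.node (.leaf 11811192833376882174254999630366156294221231937767580588145659571063700624614775543350742777952129624759774821885032695882349135211467956) (.leaf 28455944155219609998376850678762602737866030917765494963915707167087531829082936253398505963521269470618978515933339338107842625742524443)) (.node (.leaf 32119684707195494596219831010915368487301767998736214131614366024558272877390515718136701131481328235356081319643648706264101157276827946) (.leaf 26935595436813871823947789441368897505662223052734636586306564640521581718824713086603756801078087332319350646318414396398619703656990509)))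 (.node (.node (.leaf 9661323888713433340282625938217537118489552141453605262152122301125973637444530529912648501829286274415876418932402296997204340612255147) (.leaf 2501038918917089548230588268736909540875765320101761176017721119202399469436878825989407879206011471025222448841007887440603818821471675)) (.node (.leaf 26208079237313356222852020057648247537922111242618078665950943622128435613889054181957924142543036403908827505237697344670505194767258667) (.leaf 36571430113245762140191235357999650471864766992980603818302005956043707567572913833402798087685336609638249399727603663248526572670736909)))))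

def certSPerm95 : Janko.Tree (ℕ) :=
  (.node (.node (.node (.node (.node (.leaf 331972103475311269021556423205470795880609823790456517934253079068914560733440514848215274026649248869254240653037948395504813466197016) (.leaf 14787963845004743390656721140566799766547743034218171660162609840310916186872475111392984939040278230585243756250330941422650142176157070)) (.leaf 32060939757923677129190033933893177942211170725582796861538349684495245143721629502676308912396315586594807977045518407870686182169693458)) (.node (.leaf 28462643208579051110992636905429705573967456114608878881807971564308818384575115146206314414051234558531856340850286803766314576579696911) (.leaf 7429881470564899191698369459808693475254754909294773803291471203168576647257126182635284892946561838245407330277693368510474866108678203))) (.node (.node (.leaf 13897557031172544300825072572929588168651837826502358990085929442474503903606267608973231079940752300101314692729131167863653667445032471) (.leaf 27934068751155166746738959004878667485213306884286725302685154801779313957732734686896950658710651410453010325149448002083390240227839510))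 (.node (.leaf 11825118919607985500784828732369614260899221993169938797180655420545106497619604153341477684864993621552660475845154981169700887572401712) (.leaf 20557557779158740447791034876955413079555380047849215312788134169059810329919632747574540510558147359758324683631509995309429066773447463)))) (.node (.node (.node (.leaf 13902542613921327585575252916733759889347102443544828760786150960680280219092741984587869161696586346899680725614278278427683068171116055) (.leaf 27843741436934616976021057743362193758975228217644593136238431194649801656211989201612429358656247857431559967719701967605850168260844220)) (.node (.leaf 6814424381561207149646044235998767104272132457611376898758118317074929214578858821017923529781663895338701432769509374899396571673583634) (.leaf 38780385574647307361424284891862227122445667496414753283986918408478670071250970388633008304885389931728847236353833358747894627631744424))) (.node (.node (.leaf 19880633477046154383415592115439058260383977678922908858807956150461595240609642650287156381180333283991837495408189008518650010101993362) (.leaf 6560803486159029910261627578852857889074008880369605299682938660036707483512782440318151558310003582504317630344510374573532291573045027))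 (.node (.leaf 8928573945595992398620216189367778047308810347279447894062021433547536840707880982244542632995397275688592002587920611174235842945210505) (.leaf 35918070041216091609439411064445508052710363634672347624735198116209879674139950549209144123475165362566501394160417414627579574036155822)))))

def certSPerm96 : Janko.Tree (ℕ) :=
  (.node (.node (.node (.node (.node (.leaf 7475259402984830509142074577430744967807182469926384443003704036754626931325604344565484647684699323014426490967345539519458071337044650) (.leaf 35707081671637988977679866574433915119879088784170952377922643686097414717311962461782898394851531072116059404847214418497147658654209723)) (.leaf 2341863504049606801202140487306016600995674970914332387975943859384519421200697420784676481058236625873701471774503472906080620913443127)) (.node (.leaf 35768600478821814329360414518889108265498423954720691284261660332890739095781072742942887741883448107956727711704073518576579136354224447) (.leaf 12414476503546110282006941442230464237869805217411468136126005086379517791287320695551930196232886006150759324059090083105798522359106623)))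 (.node (.node (.leaf 43794217350022668234311417606822161922619429849302618600748467802166670400269263374180906073398133858068511292229194929592877509759504646) (.leaf 19790312622464139984878334854772972469917547796803699218774499796719863054152120204012708084221893467663060192790397623391284129660520487)) (.node (.leaf 37955824813909239427798795076446494657832400533567048617481086597308125249695261256173043422883767912635211682820324790903232738445525150) (.leaf 42470648491347792368641369251965764940849724126830767474207464561730746098395049521053612416534010512390128264201117095416234937356959780)))) (.node (.node (.node (.leaf 43839154439422172284747155476488919810776238417118411050524394715030003556981679387984712298808882137533003954735129611322158838712620702) (.leaf 3685937961630148622977131734931324877575158825089689756767626045484628747161530116726521136779916803775149232551660905570939204193029153)) (.node (.leaf 43134715073216648369629837427686086309927340203326082041084484691542818413016265018137875322651069613942488548793581761807966696236728505) (.leaf 42181275783157455412402147317719914234010763063947367006423348890881705844835446035327085998659137685064448797055183393808480931953545644)))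 (.node (.node (.leaf 16873378595862057285391700866297269424423281524854950532556278593036022285223286825739840420343210458561053101095512667424553731409938443) (.leaf 29120456331643307702010848085811927888797582371802048653426978706438503598703965610508683699700386704595121185623712754544129707038609051)) (.node (.leaf 19121445663753136138012860263635177985858459466249708599982765383346436208354523940461356598439596885594645997022711656793986078859517067) (.leaf 20630230954176761042850542749651759537104764976523737648856013299465875290689850427594715499537312372939275241117252757638305780534827283)))))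

def certSPerm97 : Janko.Tree (ℕ) :=
  (.node (.node (.node (.node (.node (.leaf 45850297515626441250361930151978804667414833751963922607638976408735737673642018504409264330421506342625231542385139236992925662129429908) (.leaf 37138177708590368431871904231899022590195335369618767741202149449402552119821742793273071146261271688332389994114811365851307221998930852)) (.leaf 5105320588323703850023624572865931824044505579312215534524728062469467877887079082812704836033107572024486251080514710971444017219340065)) (.node (.leaf 45344746244427636952818846723129469276305163695471970872955492842457064022411013351594299463725876567103660034273603312771307505674290103) (.leaf 33027175742358065396767744090393816975231884599580896464330008764450930904779058811157549786503108270998144798806944202809580264847482024))) (.node (.node (.leaf 40271594641629625536307527577935357904028310294081734151232138007348398953708911312677326412388602656949912997063058478604743901172059315) (.leaf 5854641816326131993315739450804983392806119030988956653834862070086138733723847910053099450562244193106787689309806275591463475876544695))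 (.node (.leaf 37349635648818726145740457655382431666710302551089728050981867535391051942437296884889756431185318940837037989364694707981883976798279231) (.leaf 22057693481850148028546284920981655502050866185005040124348385280988548892944340642297555038283330751312469152849307224600728212259637440)))) (.node (.node (.node (.leaf 44678315688786621788311272599234217409533829366500460131021461416356084540673991050055641497394306606899671100056581063525825935042743840) (.leaf 34309683802399011591777658868697998710009549455290944009156936022674818431576403142362863429929378293340543206853220662776420214061930760)) (.node (.leaf 32016232899762964656427692055017685188889390543427408793996775172846914786540440970607033420753548355185025938639145677075482410085604411) (.leaf 36671966872110576540413056704989404634836847570935984364549247045236546119778835128573841414891893663242732960685820919776554853359032092))) (.node (.node (.leaf 1058499980102142757454749726532056278124417331777576653069815222687609706644942962655335692021032510953887572634683890731567419731874078) (.leaf 24945467716212210827891672647635538071079059698125039243184410925188192240276491010548691914400164138597781344298621394530564741645934623))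 (.node (.leaf 17593688573727707935721397930974800387117111562198049929929301964172375139596021789261201021964520172466197482327571633031321978938332842) (.leaf 31475753609134049787665734068669980918014555858536911417697792933899379875348260629571272816539520095982983969473418260853879554081441066)))))

def certSPerm98 : Janko.Tree (ℕ) :=
  (.node (.node (.node (.node (.node (.leaf 17588134594457749058427996203953454267239672133582488495286132593030600418232823245646361619084164354378548301075892316634151035934559148) (.leaf 43788227056826167239639033201247119346809094424999401823862258671655272293446717278674783650840040159768025431260870036427508996689184262)) (.leaf 40306510905843528814680630667050988895444809457816015359513741942765775473354053827073653840255345449057231350774560760409237915399902654)) (.node (.leaf 5867876506001514219347163389359563921747847079426786448181319323996748319592468330839092821564541900296326919150916165533726443456503181) (.leaf 9729907330099842478287031754027932159317919831284927410424386518064365513106091381097487290963213894475659603861090978463907384576562449)))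 (.node (.node (.leaf 11214984872803587339868403629109578398288267182521472224974786563492988775207339888009870824822316251679195604800973951234323147366700590) (.leaf 30562783172353942330885264874396190808160831704800732390159773902867521461576105710889603757943111156136245414363161405026234441510373778)) (.node (.leaf 43843725437334713371638438431285914232356830386861089068331601440909568308754575845166023382141831412624106569676487800463121934035835832) (.leaf 33442808638731901107063790246048508410258066443125399051975460876329263582617307934613999567082674918523576282551409380768895774006286389)))) (.node (.node (.node (.leaf 27070803949195212896771985774593408381517202893565519046514933017903931076686400567219924853374971744553535351810242766326625931553709981) (.leaf 40244844300302489468009464109788861123755415628427365139088274703974474018752476971069143861630321681851802827151066378735644186840945700)) (.node (.leaf 9701073942613724821980397453528283766046196806716364785173716163498887509240599636557761386269682128038612169573718472111911913212413057) (.leaf 32947218909055508166370000707565845305520346063257937609766061247419673134785540271764392695733021593576384619925213004654671988500502811)))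 (.node (.node (.leaf 40709018976446671472588337649083314554011897915096593969952477317420240350751884013671424951583345053307815241390642714819346267887619631) (.leaf 19228576792608703094502305750713643843361857566132223387218034191261361262480385831774778027310422820284274276755960214224890796847220386)) (.node (.leaf 12569071619333611034805600294875188304890495137843828197314618171746216494728712833521616726442546794977223968723447395007682892578264577) (.leaf 24913493981507990929709620131333900723135380099988418622119713697446446669659148721647362942325468533372298804917262788229746741243107512)))))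

def certSPerm99 : Janko.Tree (ℕ) :=
  (.node (.node (.node (.node (.node (.leaf 19881331714002515605351276072944368480704485928607608431483962664990215920493941104322731499807411339701681908840923431689419310196676500) (.leaf 10188474691772042279801388726409880558413194348536773539363369575441868902144075711861237378428057699120010003825574009974146788491527313)) (.leaf 16049678374968742374685297080853974537696241140174063017028010562262878975854710409635786484527388418046099268879234271023150061457102484)) (.node (.leaf 43015867639085203098320582640034125849796502423505558520773118327610404137118659477842265158601333870092948608381406090625678251965958710) (.leaf 38002054973980592443313850348129004690862070818292914635813322400228566435311734062225384962116645843603646465183336199282424039990922123))) (.node (.node (.leaf 11693802761304193268128492337349812761929135080932829416266959116129518624588677749905678875380460009592181640974969383476754043705548424) (.leaf 17490361235012320926955128776892609662048155001354708305600774909682764698458892763206589608773346802321411542896700654603659491013610922))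 (.node (.leaf 34378057393138201512489256275186583437069813157290821951356812176961304491242147594547227206227640127389756250193316242964533650651122488) (.leaf 308027322686299742600892077043249890874579410163639742249798987711485689905148528672440375539071777998103596650598951506649485696342529)))) (.node (.node (.node (.leaf 33647189768259651947623802071713294408311432134653651609808781026647001919075784706009053169301141156458878747616886352165544307275825159) (.leaf 33674630193303926446652465278743177409686236850043768975930792745195512078813237582917719092381530087552398510659933217430542572724146703)) (.node (.leaf 19927026848030548580955027040286542176076456231346595839809613185218448356742810263699224030143114476207874182359379089222935449484809768) (.leaf 15378747425812866021006817831313182475718460996462390368318377822381567195779797497121047464423121888547084704176059211251464826631625101))) (.node (.node (.leaf 27020410641859733354881489210907978334036840032186187096251286252382992140428312105998467878854092644113339511279002827677821593515989005) (.leaf 32867781191150782774210891285143808276994663439866111023178778473045327108551012733494214784670853883840463198447021365283936471491926199))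 (.node (.leaf 40799965948282075794122055220865027235272555077035743529423480503835610775026110543565638202508344505469750897657822899061073984494851496) (.leaf 43077853449665950762125710549672945418219889538975003087275911946370795893057148449823343405167551989242819334189595421156257156416323897)))))

def certSPerm100 : Janko.Tree (ℕ) :=
  (.node (.node (.node (.node (.node (.leaf 6697679677383018411682017730180426692170271214958078627528932231567376080665207527599825929642824333649585270702468621744476887301345978) (.leaf 37415963236600235228844630783203091890403123434704954170180521796022086378177318501610326605315120134578020476138241124629144768684720642)) (.leaf 37343254763509772729127917407614376638063588203017207897546565674878384644781664503515972533361351162930234196268897578402758218327283469)) (.node (.leaf 44673351290845705580230664278355730981346800923555640559374524376940473018364147993907677270232347505188895899079917898303011475136125098) (.leaf 29977891007689084610141038326870682615737511265523361101828218362057533422470762622252336431570087639396250956190955881743463261026174490)))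 (.node (.node (.leaf 38716939365027506680131398552097749117818868189561559066586332745542058321144496960264356014439998597253117130827433596935424492063052575) (.leaf 16344289039612149027551145887149808768326572972150582247364418533063942607625886889911291202934235783745006234830904643692875246060881335)) (.node (.leaf 39518860891427895747080830308995807221529420186803534614274938247875211619198020265835227646884266090906428052088305350154889704386679835) (.leaf 45889326025574231720014106414975069676445022046619518651760755718026348832679245380662015955332634770611425305895410903610972811098544289)))) (.node (.node (.node (.leaf 45189462561502944377829369679770400353456149791363761378562966645951222627480987336841594908876756275646795768067963499147495345182736397) (.leaf 41634944324776104789919816969555560350823578869853028940351050932453235417565004848164736484961910526878862360409015101327799754184049840)) (.node (.leaf 16140501970960313773692926719578827241170319944244332791019702115354663731997512095349020086132421803597230517996881793401426060884823041) (.leaf 37330608351702580016317044409010736858820338160798284075403114243706532078814267028801526600912543165535427239639617239646834553071755296)))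 (.node (.node (.leaf 3003896163952195898388616369066932560676011993569649905852566332695171082095108759123354954684219805800216841404123483178527388902381461) (.leaf 22062205650415471544059868790187406745750111219235161287379089150242318456711235688936409710365868535526915862239583269071335276387795994)) (.node (.leaf 5848928456712365277129772526017039820415795644291519260158237778137592918388640279373003173766059053521344046999152975462251328197216921) (.leaf 30603508153065650817682957371341373144446317502360957887640702480974514852534760745751099011911572600451596751674098820258794268399131960)))))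

def certSPerm101 : Janko.Tree (ℕ) :=
  (.node (.node (.node (.node (.node (.leaf 44497846795781971734517764394183573342106844964207002793813613489887839841244441266665035592826162776310298336112966271158846879454595457) (.leaf 35685991689972704493771281770209740493635644355395702646956747186214840172114542994348563534541004576309101940963683861065755541849804308)) (.leaf 5417233133281756770138276098306599723571680651535176575995631337405079713049454055888462300540379615035976092750573126911289493029117847)) (.node (.leaf 30075009926063584509457524358356760501767080026132963183017192362776852006573017296365468395673630349769922270105801547813148041174277431) (.leaf 30829970466562756663328016675014299395418969260581522138873357182144153870648072713260709756430191787721667925774100908683663495904926887))) (.node (.node (.leaf 13385352825049540196987504245523242680567205682518534320535344065079172592595374803893416364218915995934531088509538427230885578669938496) (.leaf 23355377358487168398872628598166375478283645485477136678844807235076063574423611891622429006694979722626124070618081191593034192865580352))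 (.node (.leaf 21341053574142861401566148074797111777432166883540983654691445074257517507979277626261723642863942774511164461767055148705334069249265040) (.leaf 15446403255757135963616788511334257254735405798012661990468448998202658158529548881429209501644218306585955321217616107475420347869075749)))) (.node (.node (.node (.leaf 3262219537240465659644033910683853431364773760876099290565318483957083396221468493590095976990491918927777597602959226388349041859436060) (.leaf 841081849373483850108523090208162800363394304525698763076739362753178858327071498163167490547372688229883118158892521589827169018879798)) (.node (.leaf 13208601931555173258616793485732607135056031777906486376367872262255336348411061660547823662262752495045408279749506024286360168466923827) (.leaf 14811338213798239363210460577454843849218927404085535888161924050825239449691774202798791122852902012646785618905615131927464524703515541))) (.node (.node (.leaf 33702775581386342092220796763397415238039742169254901293396696917925931319277886898047590462943177763499707525361412888789797961355629215) (.leaf 35157814261747628925639956500294824991603795378920283170454823606762963225216924677821343736411698214137769868861206493785851474041886349))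 (.node (.leaf 43657277714755499739656593030804132262282064243198827413290378161799825105999942856667530517665390709323617028475636014620364951087650079) (.leaf 21430938042822093095353248308264838513361741057611978290751291862998278860566077672990744950805896752249691734167785796946347068018842779)))))

def certSPerm102 : Janko.Tree (ℕ) :=
  (.node (.node (.node (.node (.node (.leaf 41555057267340093299351733098331641374522637746903045751419412844533471728675454550852875449984795444413471927753520194448765846941516941) (.leaf 23471354979466391829980784554493340799558952858097075732436996687506152782414858790521686114129455490526602483115546821151274962565154479)) (.leaf 32202870695459950189649415345779123260596903837607890130773978108020499007150246683690657316204531491796438332420352792299673606672947863)) (.node (.leaf 15499201414451542582708352201436667603410936091394809949137820900593833867496072670398672706343634392192417054580909875949470081656279076) (.leaf 14884241450642969444260989097053173524640510527493858610082507789466243668249247089240261986598942856473945011512549759509463758914864147)))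 (.node (.node (.leaf 27791689708440866505293536238855848195896971759295362987511558463708737405851385619129943728889541157901479709789779857236762392363994546) (.leaf 21907653887465716726077603661540205295823386491347820108140711258438733659797736682231226097286546106778319979101068374002527354091195814)) (.node (.leaf 6907772212608344447010993393235544726781920684179830104271945430579222095385756519198404606839123564753090220013850481918481958172722833) (.leaf 37190883033732302448030860156344471577992386050917631138830096621856967448347797834089902760021720532496862900217123510428688758606024886)))) (.node (.node (.node (.leaf 13419342958870307655053972560338567154530014426912628236106757295468835266126697715015974253118910252284043776951331724046138165840136625) (.leaf 7360681817076382175793024314797457737066961832871706256612462758634265615304717899532433165406765681559965543302064390111629687023783314)) (.node (.leaf 26234973336760303353654616594038116751509121235800743065087563924614253720995177638361471627160861223692177342116230933378564028991930665) (.leaf 38028832082401319183027289991388482741003087731005436027335274750669651445465832914123604021631601712041882675452991695459755329724063783)))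 (.node (.node (.leaf 14008693689733398115151258526825594078050356118814031455427223921218675791251263109202914634497346344051687735262132325611580172357798811) (.leaf 39363319005491994839531690195625629874042523232390936774825009356345115132583198304982198690511037995041685565836182086271583903038232346)) (.node (.leaf 238950529327487352916491674770796791717500823745816024051312116418141907274063781418280650749609985853838122143280727576652260492332679) (.leaf 13289883439605125121451242375527486802786870621049230537873754450788322270381450527227815460161427709277384627124034162756571760106577549)))))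

def certSPerm103 : Janko.Tree (ℕ) :=
  (.node (.node (.node (.node (.node (.leaf 1500759818191120621628320965064654137443559022966752930834475115368050785184554740190399898363357909213475135465792468026013775495878710) (.leaf 45973451611154052169001270261081375123155958730345411983702489130817059749238501561733714979480772871908873511196853685028620045056657329)) (.leaf 24235843772235715729431538714560403210782610956576091571376925006285369949938154186395826478073981146943145659202801497718846027243002771)) (.node (.leaf 11152612371412032695809919969341691247299801883067618158539951505939015784877079821381670412877214592047313042933254622883312109024108219) (.leaf 20399189864017564730535572865096457758287559963573198550003940395032474660521997862850778026287450951540946288226141400927422412184835346))) (.node (.node (.leaf 4579579169918948564662815123415569651932215721887196106360242561273303828297751142010613142551980259675627471603287871276870453250163896) (.leaf 16163343491868714208431495681749944865828152587479221417367389692891411905108067313531840643531191007216567838582621119088746032569440522))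 (.node (.leaf 36650494939923284166660706728773327542882169098661098612954456471688809352163883326317251974727058962012489482215215469236759005558444816) (.leaf 17048243605115385662911766905257972989294423714724534025084449676504845479345334071532750083988864130189414427301901189921314800214343937)))) (.node (.node (.node (.leaf 22635250322426884204019466943844827630518491817939210551877479230494284874288368984135374597425396368275964079214681596077417254606701699) (.leaf 37302085430960231535873753011639027997397364851613957472615673263547101940637664987526585556520387612968441414000382655704386376181776702)) (.node (.leaf 41635300972832604903079213389238618215114284532393470186960592851106402294023619143984382039148916958608736388334187105727083123162454700) (.leaf 27042109260058941330758060251901608533107467993666426690090809212409364529721613644651777257090606717659466972887645532135415638275626654))) (.node (.node (.leaf 21915288514931893995856963311547609623177060812690959504189994462836319652970157520626496347222881081456413676078590001135138505006959745) (.leaf 24855114707094179591065615388446944447109049904135623487018481093084988547028906420471293135570301196683335635819715631205906630864060850))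 (.node (.leaf 6712125292262372333951961132272859289734556370861919015752362101431437677776884619369403434155452932816308534798060563801631786315072825) (.leaf 6646177710122921007694712723750402600635343505936666012422425396935886099250690025397516667083627664661119224230169309501128165137404825)))))

def certSPerm104 : Janko.Tree (ℕ) :=
  (.node (.node (.node (.node (.node (.leaf 32276868710655364801812751109047500034661099859085919234793079467411289123732869407773807417791610561473237091045581662250192062980262062) (.leaf 7281094556280048845112570203345229709497725594923985037324694511111770221415564724964156723208998752943624529383664365565208039809683763)) (.leaf 16026624906499231850445944995463247804930348330351434221062025844861511420650835875788506391470065261445738027817654411070877047191935800)) (.node (.leaf 40062864620044863005358687604676234447215844764237721401026878001158136885372378766539097510439124379644263563394554694272490946104171049) (.leaf 31334642482462743632549633427943967472604289575901018121397173470173002215959499853693007735906046180069608485565897084547815471055215140)))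 (.node (.node (.leaf 24737109927478795762980347659921058227382937705131568186945968576947106767006711300919508289282942713243954845568874358325238822251535144) (.leaf 33571583219802634404350717635911073445566179871391339261349081712752770640659925334526788321036659507257321969010861242100645408841176103)) (.node (.leaf 6099925783373118190539236553385115945793644064236577289107594108007455014190990567132384236675995239260046253493459715045678653811314729) (.leaf 34913027103682413755102370613925463950006449753826895313494980117727683908411133097845844661905483078207066367691156417411303922242820923)))) (.node (.node (.node (.leaf 3748804133696918667405797712215651441489758642087604909501910189273592796401417859456206123779640838321916367131223663744045754681301404) (.leaf 6832129304634424137161580759601820351834367890907844780202469053193314583246326335699183027158604785026288665751502386614153180082995588)) (.node (.leaf 15599501823006244137881159263285969103593849528347102941829869021050394211639170819457751772537949042963022822707877648675347225431737274) (.leaf 41045943389085557836184695163119849222392848558724993653084731055767207481819246261352961897440636245985292553171683640730468415676766748)))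 (.node (.node (.leaf 10421973256041588776884497193457592161364837374354405433817636775549243112348513396415735387452620829995222267691756671158528831153181959) (.leaf 1672085853436581440439714384346829755484066619485665428909201502625475060384238709145751839536580306882363984395992396699119086841300645)) (.node (.leaf 31260418504258819123753036725737241482956648509395150057282780854848465602449747260368068758127789215490034488111986655196190269248197424) (.leaf 17058005076950686198993204430899376765043934809484558046251063375058393967229378216155927404814304307813124304140299792833790561122785825)))))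

def certSPerm105 : Janko.Tree (ℕ) :=
  (.node (.node (.node (.node (.node (.leaf 3159874576790029985636403751029560118843044875266819275536855727536553891555294464399824889981365801525410949096222248010956632320220083) (.leaf 13277006820525427982426479008177898513985679249357162459359387934142044477092185297403789473155081981907310518429884627283261373755052060)) (.leaf 22833889786030594528445868320501984916728691844389837915414056990294739142462169531768551090952373387365009060468067521525893195750970158)) (.node (.leaf 37145272241723202322860361107873903143664987422206607145211477573134785215350280943534631669928935862644851920111120117566154354656281881) (.leaf 19144431033027880322702681952872357119891985923652031282063083027388575191629854288993872884534798787131877756888039934596375694971340969))) (.node (.node (.leaf 5287782677850915072384493223011790610122858680219764004446386630272444323252347416156959606854492361752402234382412299518249967157166776) (.leaf 15526828374313633270718390891529452534185652292769280432652529953031528996783320548248265942377711542100204592680587104384613812468244352))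 (.node (.leaf 24737317501740512760608303503497804827801946714043448345049970501155733480669811568619200511983930203403845723256774456461999603467110452) (.leaf 45103930964988904458935366086285765408732061182686169208424123789626785021058119171258981402863873464948202350180852835097777729547503661)))) (.node (.node (.node (.leaf 40731559399295849485421460048817378757714255580507550181000884282514038717075346861031937100759243862096843865998407350536716840925286918) (.leaf 39995000350584507115770906721704689285136191200324137792346741815696299699775420681237666546843411317713281825211792999397735171321485500)) (.node (.leaf 19018517921272383466286304763440535976535212257239589741896722622279157478288834752621078557967612065497495122783120397456903694134805258) (.leaf 39357283967958414571336703514622900530699931909344610950585510846961146167988179062274837773549325797064744640105336719077436905430402324))) (.node (.node (.leaf 13162700079421488490712748003450537843957564189366224059463502543052578520284252550419903667950422248341275656110743686068679222786972864) (.leaf 8081919775657248338084967096027356563469890151755126914065905986857139320086846557315728142034191513070546273606398648152279934824876988))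 (.node (.leaf 14781713328952271369768786305271389826054549246126981661842075522906106408914644090506107512389738438542346397764302504344802231027521071) (.leaf 9001837892737431085504155621135768474207716229378812770705266936323685903278822033633287144191389700740220957163670611996580273109751315)))))

def certSPerm106 : Janko.Tree (ℕ) :=
  (.node (.node (.node (.node (.node (.leaf 41714544290243173209721920300553990527800913537818556981506049642960505199818624116759528976479106946562058416036776078770084879580810528) (.leaf 8053399705434722368803656705081178237503182918268660344816885529290802591158483390354390726101571003974075245043000393475503337570094618)) (.leaf 23437269565070109789289755947114401966576683109269183293344270121820829512370766327108871218940323927527147593509986746663121452068260274)) (.node (.leaf 1772393559347118560998218433380384816688389492117217444463321202414050836861976110874678432872608396332812006904225855059891410614885140) (.leaf 34173797354325251146249034800222948523554288433469617525497475759586425509178094732507340718571201347781657331044238797282122615715086892)))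 (.node (.node (.leaf 18211004178248923755603014745163109135648407965361430838978471096230638502150112599910013983685024473286940695081010140767185340654704048) (.leaf 45150352609984710793432499163071668731447071151652536299301320593456766762262866363740961276705954301612931696783357767201085222541642519)) (.node (.leaf 1460837988171180332449760302477792332678575963327814893276102559905979666504656858347548283199762577802178987779777502956631430212966280) (.leaf 43037350600020708363546577409728637456724614773175909600085925438577217954494981675598857912288259505833310037194022782182863810830782608)))) (.node (.node (.node (.leaf 13272174565780434479288494291935247931606296720950037093135895063407805756978890009383394230633532718672538990680452668851020880538899743) (.leaf 26479751993727815935810007092280272128049774472031582731333059891863387038031597746565430099492003634866169377069553689250170541596934408)) (.node (.leaf 4640520953184547922400105577047650588302395300555923746491944311757881766009294164327851281981886545363931257045649800705692642860107943) (.leaf 38733767345511683713871476485750551537090228381495226891022085556014737927169055335122814813402860575769180810028789386011681952658718784)))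 (.node (.node (.leaf 6564989177540345380422753911670651371814913499275802825338467389343769701237817298313352436469177759288298010144609547900075101097775035) (.leaf 12534880799819436384963294298128564542418547210728363673808820482671341778892098141968872582330846939458560299740507962245383331841906606)) (.node (.leaf 3975983485203612820390169872592307740625093909344055737085606799320615222373769908168770787133274511737097591876016520972112540452800049) (.leaf 36668275003694734689297902444919949943784289059660121200091755220320638655630749455601626669282379868162760273332371496178996550728291746)))))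

def certSPerm107 : Janko.Tree (ℕ) :=
  (.node (.node (.node (.node (.node (.leaf 3960279698508484081483335125565542564952774628139413043241608033750763101327328514868813275042227268844905734332337035185399194937335298) (.leaf 6748377027539451927137269529208801014357613824056754283647312626630800919199848573677153796253548576394329725046782688637030309032025656)) (.leaf 4555310238049572035418157276439551954418895624413709827020304453576230959119526076302593750928802077684808946862552627907990036576895545)) (.node (.leaf 27087218624520499215809813016497329894966870821188429101665250939870986689249520847531924013588624957025022470727642930684805296262143125) (.leaf 8989406985511322963679786662249557284576902892621495753893040435573333813707329558091401752169255268827263141488261818164397239350236211))) (.node (.node (.leaf 15570427922942619107917819493023260036896028942556521417282406894924728081919677156070458541481703484143031921937990341169537972638845869) (.leaf 42521010184027922401767501443048703557781293341902212104720271276780270386010358154690999914132178330554204564722523235897549593885695617))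 (.node (.leaf 46529346804989775824020548910152955992617426852788289924603901521071032516509964668971034839474431225304296975932938287143380955783860519) (.leaf 7508273220798050813616006410871946697234282134282001276779734861100739303753072312883324540332545470984535973684422466678564089627775365)))) (.node (.node (.node (.leaf 4418410396058428705113546487649349519676980283270680953447162005661863752936920276536367597573170868249754858077903836175753427601182114) (.leaf 1675316446396191326811289094242415327650768861930277466184593756114434636921880209936485720862676613168819608267422865092426192810510859)) (.node (.leaf 36377880474467366363974941213516728865587980081779160018761955481760289716928691252925244954010458431324519310116406015998150050128253499) (.leaf 41588866386811973967781952385994930091919465270278327560710223858261466482145385246765815808759121789308093880389159138841749413459202321))) (.node (.node (.leaf 32163328305984734131717204435892584255263932929567210351002717016403570639854116392049663087687838156662495207339874919739820762563467456) (.leaf 26991483488068109699884482649378328141091652175268465153009199617049624215870532535134798020820480649051173507545295644350688435460202022))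 (.node (.leaf 34917807514633851350886075028356001905927238564001547944753458942357464879607571394929100109079658201105163582075627623316420712240963347) (.leaf 9607997148205314065846947249618207905932819533096894775554957023913648013614563592677336450497301131549336938310580663973161211085164168)))))

def certSPerm108 : Janko.Tree (ℕ) :=
  (.node (.node (.node (.node (.node (.leaf 2453456532569889574131310496661357433533938831487032413074645626628931819764341148739824070557587491483772282774126682939325625422581390) (.leaf 1500855845062216785282455012958477048681197605219287384310496145871051137967748150300586657508544665467026861340925010807513008816162066)) (.leaf 42385836755683702693505790320533095816764127451495089792225371325299322793902044299356724832298383683441084084509994219811009650922079898)) (.node (.leaf 30739687500317120374843184330126284222276091978915276598054443156662791107633367691804142529601686574064317739595361688907474885655043103) (.leaf 2460226563668407686978432334612658610503865110605253466394738192046781687403054297070326600638299862413631541950453890009718469843224473)))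 (.node (.node (.leaf 45184730337730797186463718540677416630614754315159890762990711672316224208618895429729985784655195159025177049881232433083921197382621198) (.leaf 30158983345178978899134550592578871510552845635973387978672809290912133495872428482450959722920721354683354677638833545281481010829368369)) (.node (.leaf 6894554551901628814323487572270892946545043718321359697885251490563041454776400266928782075734252051706510078823047774109651111028002565) (.leaf 3231876576443436335921714750070680173502149679869583852802792186533787385729717761932164317906085592250445329615017407845833902914245793)))) (.node (.node (.node (.leaf 35201110934810725041390800049196445053403682920573465802901205614622847821697322672002154276605535155089514840538420192907783039793598857) (.leaf 10187952657989881222093757949748630684911094745663480766381907370074899898972317041584903867283475900073364093077680305033095381153864323)) (.node (.leaf 15520173947629901102119122370664287665120397337799478088309655600672547425299461218836150708157620983559657157165823853580605248183552538) (.leaf 22067764504451755399415261330089443162679584339665173058650809013685917220336477254443731695980457139681634302644130246302889807052653244)))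 (.node (.node (.leaf 24963175390462502488082384387589390622435040835485451161295726519017283004612128103654693848552691847361187125461872872633512911790316445) (.leaf 45190579896742507801582231849244865065495222359494979711220211968962542163073818058174517178904803373109213238814440986063911771385498009)) (.node (.leaf 3755813043995171361118839828741029727697021893055479351424730808842888094784555315347942362547185659904222863552464291459083798743586352) (.leaf 32148168347133550725255254359840575733397026444614539874345755798130571948422030956209783188221236731074275366061786809144873292504370177)))))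

def certSPerm109 : Janko.Tree (ℕ) :=
  (.node (.node (.node (.node (.node (.leaf 31272807800053717390183899495493699813158534323691486339791838323054650866324714840247363158017128955247587494150535178975111746666830221) (.leaf 42522508451623900540082571741806972037382520712424801142330077493947946576086643084797063739393260353138595063915421924654679114268564627)) (.leaf 36458259156080820933606038479847060342241729200907117097467073837662050940843079633251063179999135420567847672595761960227894052294067497)) (.node (.leaf 6561265105767332816026905837880199957335514976339502175414018504019313965174559558959811703720302657045206324116257666322291149735412372) (.leaf 32220822290143461802718273993279141733686638030338489437098554832335085001344918763554679416422238489024302738541827808357946939767440431))) (.node (.node (.leaf 35248222840636397998342529836234418740402238184643855307136695675969706426228178037428132835632676804462996785016946582906994879967317007) (.leaf 27950605396421333762748690520941211250459897502597428649814348643915645529002692467437555788419309625250798786785849134036783842126454834))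 (.node (.leaf 32034026902512389566460068850465022835639477073136661604264331935362919422540289541171599061416571567344748787871937484931619835496813720) (.leaf 39274326609355214958542249675870350816979874928606759558296906672015353136512072763910818930099128325562253485131089283785212399058551426)))) (.node (.node (.node (.leaf 20626627786630931892475514025010283159587208051172872383865354169697052372735285757783954516482194452468278582356366585200245801077443205) (.leaf 46043270192287679917877101432452659509915392963393885674183918872019918438556584444049177627272364877492470072063480018344484703052585876)) (.node (.leaf 27740849738680825157469659556380156928133870038811279544345704363991004093425911558269254823697657903350360255729086368856932323027983494) (.leaf 28638840152104978747225211344229144366893953680488736772994249587541559094900322261223953100348133013992874968759888836830800269726288009))) (.node (.node (.leaf 4448521945877995494702967504871882004746660519259408657748060173245419224327692998491604249542645098460267906792625244262119359768119868) (.leaf 8155735488768054471695566442125890624806166881065343117819368156342883656501792005953884807548922332737377292706002417842765573121987112))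 (.node (.leaf 20380338825858239097924295810758244919213449344005197982549660329368736914486116939460184452556063591819795438511942337650329200296483390) (.leaf 45109577136813022456593228478048837367719241431851856583165865843540370746453888260786119081862383216591177634149172417389418371159872159)))))

def certSPerm110 : Janko.Tree (ℕ) :=
  (.node (.node (.node (.node (.node (.leaf 37347066881192781940989291258255253144210952678406671763251562542871715784824511903449315738527790687413760085342276823370901872697656192) (.leaf 8872202844137164662142023322861692574312882817660861633997506692378862804069732123543667398280985314677817500650764363335171958815408520)) (.leaf 21958936176286534273664036106533062724320809064153029139071714494740713189744971130996554542017210476418634292432979718474980503732180235)) (.node (.leaf 45842049582030069100282393570484050974661455694359845448473132900878811966756762800442018540290031334478536235703063119454383643329466910) (.leaf 32778689078385603615736174975790417348256619794453413951140983343887347184816376280863808638325072158275573634851445772820998062053671188)))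 (.node (.node (.leaf 8995882485271281505553648295053954565117127121237536210250052468881179970777191143093823118413048330308220956596904025368831688779909430) (.leaf 42515365057402805451536956491770671589508775583169885239613032676965934721221449994869803588450566974930496838202848535197009621471758728)) (.node (.leaf 5106151999284133088336528541273292829330606618032237936204968604023209197619564112590566642250991174390454501100462921189841948509460383) (.leaf 35226042437060698317973206417664080269141533535620192297783249120271430157338532767653263208126521584194934412827360448100822357606569120)))) (.node (.node (.node (.leaf 858374312851711464547590085868107862046402440676321490849049728154429333980614268839567320068809567325438092910394009374118902485505169) (.leaf 18274866006649171866430804542411191985493821426885045053830675581709437656340883383132969320501350275128528684898538158451572256501137459)) (.node (.leaf 29132385391741266960653300701972200452554959990213775463169780971058738882524453497968228560931950621424622118153133301506193860871019554) (.leaf 40199650453701226142592338090241479733610606228736915344797415189668257884134893598280246531926495853681582457040452189587263621209803272)))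 (.node (.node (.leaf 1489794658896983400307422860285598140938049976073807210179387712601375127662234711978664578087216810953195005366322979441389847127461555) (.leaf 43674620001307312470406277209532008696994975273500926270974290996536537115074322794610608016273541935482242538522172891767476058932085810)) (.node (.leaf 21391221273355224408790361001072111995224770136391506411110571586863645953519877126062161123022501671016867023242791622886267524592442801) (.leaf 23532335714823574349558240877994829876768197889899845516573506404098955497499657079015681783564207075080631845579128355291562215760680484)))))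

def certSPerm111 : Janko.Tree (ℕ) :=
  (.node (.node (.node (.node (.node (.leaf 25730469140645488693875810497340254469770506861457333767644946598396322730680111911149111869073507574044579417216740281120734052662451376) (.leaf 46712221444060721399104076952523347369666995155764660822189925606443014995968345094222479995853012452684966726987543345149633498685592619)) (.leaf 18978692284099262965659429250544747417799824951170909181190201822407374168445609492594014421194628962740777161615140071965809305127487406)) (.node (.leaf 16207359631626084520848980168836083961516731450905960085117824036871213792954505985349265438488295920388774137113906264080351884512744451) (.leaf 53413110786329745562900111574297207285082482845835164076422782501622245736349968412925150963499507428510087062758678758749232760820231))) (.node (.node (.leaf 11840991686215891201972203063294648727919689738037881929769853504463621825985486308936863144406952369225421335616923665613915979692612258) (.leaf 25043875059951740342254603533874902383184381361499177056680619558664906263626234956398954887092111389241787934768282045495637573720610331))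 (.node (.leaf 39490463224946099819041200672772090124352717523892503928476896461109767984569617702954596111096245748138785264286610048691562595674839065) (.leaf 40177008144865705996093033478066580313334443353886986327803412660022858450229006013960607391759832634708419750399793661018499174199578380)))) (.node (.node (.node (.leaf 24851560515188026930050443816084029052603040426805466301541266957477512130658597930094653877793446126010647006096329356752675541057068685) (.leaf 5089082104302297483207800611303729328588926770063065636410285866490934866941740112627647456706920963689301352061595280935535967881022994)) (.node (.leaf 17741680679483258806759569284145979656648404209405180448725403450850451248464415866181026407795888229720270551005070554994612592234616374) (.leaf 43089389814215005183698732155848678017865695190149342443632732638764382124952156488940659098009964935669023053383345429472020125754444422))) (.node (.node (.leaf 21311466922320677662937213365293575567386081133897004137404494931107830140846617576675881681166830241093412782316620632428639403091861176) (.leaf 8087203173161480953015864836546009809308501537121805977116460073625106699448956659382826477480279911913009685058532950248149849589092540))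 (.node (.leaf 5925448145946449126476773282845925077814647481370250581637448420901933407754228186082647309465844255649501946887550429797713248051123598) (.leaf 33618920546436372809474785757279221502273561989126366751880344207652080137199686624467945714336541010853567716495488822150211791173293239)))))

def certSPerm112 : Janko.Tree (ℕ) :=
  (.node (.node (.node (.node (.node (.leaf 7412053511126461422137155594778522037706311697911897148075755428448781101400561879283679093298389854796363834419618355440904244948311810) (.leaf 34945054915262176978406764142808634954300160076650126771338187258455343535783293584488111562728638233854804536310661311491350949631068840)) (.leaf 28496613370400199122523881289529726276953675134425705799868484318009497233807312148959041540918005949042553685107702125046071819875868212)) (.node (.leaf 8847670601692906402041119920342242551447728518571030656074838115037867165608648943875230742963525762642154017827536784473212276070615315) (.leaf 5322034609983395145077112934771387927322055763556060370836131033941105231761576386307952144996853944665223457106270524247782016213239220)))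 (.node (.node (.leaf 40794406103609943340697825799535813332632273360417779558126776996386235766697186139168369340661325139086073500481057326008678974832957191) (.leaf 7588168949851711805002571587949415802534604006429406059217985829099553695696704891648192482133863906057461114942031301989846309881776302)) (.node (.leaf 19932845154486680976592975397265254879361604403129437986554538292559485318700939762827207388714877291980498698267977950591863825941794104) (.leaf 42225682129855935355275241377937286716434464425558471234217779552864877279490019165447304987249377454579442894839661340756349928929615896)))) (.node (.node (.node (.leaf 37262199567733873631782869288451982989323514218235244092138355325468352465133625004985658622577369716849697025770602320347131623276057346) (.leaf 16274658577649026658335757460200766027115599280137061005357144073667333444945286555100985919274821451926194225036884897559053028404450222)) (.node (.leaf 17507708950241810886613386246358093354052664087382682956774449177319177406113602388923322067489131367110155397488696175091580646782699272) (.leaf 250701062829450527189434862107183712262642417132990991507551521954175703022893871821109916310051951897101708336240567830804858113892400)))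 (.node (.node (.leaf 8162710967598375652516858574222373798463485634961155988004983315656281535561892638294592732511272687357222471059460978438329276899557903) (.leaf 19942999705830348875637657779635209315537073680960288234262746188730251371024067648189716197684656660655232848754175735388006856358205208)) (.node (.leaf 7314145822311165219715090982814892982021520725676954252332075539613030013612329999983168454678999531027518618535053266051408389485824131) (.leaf 46666702154462961375285749125207656079649829261456768616037495378613773756159297751361104428196384630746021176908900949531896153572892094)))))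

def certSPerm113 : Janko.Tree (ℕ) :=
  (.node (.node (.node (.node (.node (.leaf 33491603143668614200708510482648406600578975941440113902885183974350784597998949388969971829376408885473365294161729038674967906113342508) (.leaf 7610163636388171927470780140932060902619822606290811148373551557629930157683394355211144251795350352099748711290667426524682044513361062)) (.leaf 39352974550952041506493485557915239221237246785402849282911631201752994796136483584938919798117168161425355863269791928866301651922045616)) (.node (.leaf 37372447580208694840907549849116678831573790315865444611529769584827987182216422560759570108176769747123252250407733829462130221294493069) (.leaf 29426726929537802215992321139476474259539799201946385615911590794348538342098608554314443004713002865336017569803878837518364754126684828))) (.node (.node (.leaf 32010730270556295426274697846612466430328214042398185863943444138322729162770046178092708688131953111291724898263217193023194837828261668) (.leaf 14594110932062591825014740900253234041752195122406632178348453342773992405035961923425466558706098599735598079907180525217901457936500355))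 (.node (.leaf 19189644183202870621771556845628087188396137685094006591647814718089770379647262039860295409989942549323436043641614832878710213356881081) (.leaf 34368394425050107340106485707566118705693737289670535021702905029271827759820160463068449262221140466191707577032332478950723563213275270)))) (.node (.node (.node (.leaf 46047269065072456608769270075105692849717880372734927809363691042554598222348356087943941970454040479931381046664546367772152672589416000) (.leaf 35928541946026922246123439944651042349167988945177930776284230790197883035221655530672873209215266713107422277743145287964050002901781530)) (.node (.leaf 34299079418817280594077972199611094672028524131077085264474480999336851387762178432765781320122049063940994952037057070208611197045396369) (.leaf 37796387005507551864343435092211972010562573317771105747907555999496394255020397981499917085227348840245942954342600192465685417747516168))) (.node (.node (.leaf 27099498305172491748457992753785343023959883254334725474573421642920013945666660329426722059645776338064278885289368734779866342675368095) (.leaf 27773958656089346824446345960417917682643475955149831371005285018306628078048445017118816570147470462894022115151135914963888520588517305))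 (.node (.leaf 893165786810783549972866969337160847109204719062362625566314245081897838206086616608187600090213246224460387650714895823650300552446504) (.leaf 36469137645210432240685127540799287986269838946221651775799382829136774470661612767270158408054614953379819918391902804979219072243211138)))))

def certSPerm114 : Janko.Tree (ℕ) :=
  (.node (.node (.node (.node (.node (.leaf 37432645326305126806452297932074621747731159403359674947191310395586282661647445383281518160622190974845618743668775884778638947014744324) (.leaf 35076108944522583056733066791110559015105734601826313936831376801105746947567289507420939868286191262058140755262242337128390777421809194)) (.leaf 9029202098356843458463063037489228739630783699203880502429509083739903055363603285042182228736100712720335779318118198116883564966533534)) (.node (.leaf 6122372928049258788006761451311937759108667425581981320789352715507922865494831481089553317786955521657943127009406052293271907843710739) (.leaf 30750742768352651761224416983405842492856745755023832195852852737476146031204743725989986897135725085815306409629592905136067839485969824)))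 (.node (.node (.leaf 34413625901035144726484888888581853209084683320175359151146348748493230779940315350785697492990989391931117565123382440856668239228000274) (.leaf 5895939098835566799896867418102847011215112911370773711391499189870514207486102203081271334135631315550002908616246341916837546847294244)) (.node (.leaf 13959756041034418557640436672028748480369974134458973692453933001201809841582470216701378024587694588965862617617000092113761174275981738) (.leaf 5367934374988109372573217394303717955067450246031009493723551831353708483114218915555682364234356279351979167669038595850250834881502368)))) (.node (.node (.node (.leaf 29432045825069956315333374315331174939330862689268904984295267168618307064490928016937929902528706288222348461972778549437616134445138945) (.leaf 38085576046587868319994912161986004747311066062554111544624540849919496312886272132164642741287695673756131524629726132065339656252986253)) (.node (.leaf 46717900905823616971952494455473756640818776084407295491949314852814488097462031685795560440941251550555702740677076852651928590389894069) (.leaf 6770826509016478728120988071121560214429115549713802088929923522699381875927395597646270157529060899940380211465987969502796597804140165)))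 (.node (.node (.leaf 46729478174635134517063224951931163659121476483492963990445908215190376779359157461200223384114531491107771677106247996301354210119292844) (.leaf 14846125815239587966519248095435309723032382251329960817954884705632364498558181550675275454236912922262067128507214774754653276934768412)) (.node (.leaf 42446866900261471938685630164456682273540513065218587904775982248309055863722720415513275661134937661247446751501489331833117217984419078) (.leaf 80836181312328203310560593368800365556687300728585445872564997735893811445822312296581109036450736235128737938453698803268263321900953)))))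

def certSPerm115 : Janko.Tree (ℕ) :=
  (.node (.node (.node (.node (.node (.leaf 22681387169470323835736055745301821572343849135154533779141914705282254401754865778834840393818978150544042673807131569861503021163549088) (.leaf 24793126926046637514373220938622414058325275377794167455259319069783367410995302253600608281380026435315233518057180339869710028485286147)) (.leaf 43180006294931943172054190621475789200701483265658098820994204956142515091673803956857847731332680594074100866760140816638689032394103594)) (.node (.leaf 22731066126590040430951865757497717000698423299444840009022576497070079742419157589281269174566973758427814295051581893656178672865591863) (.leaf 38528411963243973329102989583874790865893803180910753901507590156355407458107367834243569946519027842215660216306925553795390488139744314))) (.node (.node (.leaf 2188873170466520427585005465025177469216036363081878748552082581301435611137082564568688481809499994615870889258216378199459238297640735) (.leaf 18962241363586663655097809093605090812716482274574369701013984053749979437461080436703123603884594878830265933847515614405042925078317470))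 (.node (.leaf 26525488810188475255718559105912552397512936499374680383881961847254700161721243491180205620765352009088266439176687771543091433051263263) (.leaf 21397473584673928483959114361622339860805192183155153823081726020569818665681628542157514282000346334799776665216571066886075914750500666)))) (.node (.node (.node (.leaf 18404806816587071338734145002177895842670419803247448379530806373648795065802671659714035366546783516383961205100660649082782832620916540) (.leaf 41699444647627838306863814102339521703975357746823339378814812608325005709915077993273298140414586920164447755802565248899889319251266181)) (.node (.leaf 46156300068188075008227269303689286850464718990726552187092144246938372819010942614550411520808645517752114974498817590555829711176720054) (.leaf 27762465453529501877339159444744823859737515909445989694620129736767543233879916799003283163319054117867322058307805908237940670828122760))) (.node (.node (.leaf 29125862775605738594905408491922082270548760001923713198861812343757432308330979503080152087672045592086476399428587204168118053143511299) (.leaf 41601010081665547288867469730644602597104156612847530080255076028901568390538360908746956228733119541019031555502213985537155961919082374))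 (.node (.leaf 3983427066355669749968025659208911855603583320120833029183144385785482321572201783055920826302670206469733932483823964464557864148851588) (.leaf 44457664654997512957252491985687750758488239056321234722825701372936411697757357571183471230980522767970718493085175420658236262625894281)))))

def certSPerm116 : Janko.Tree (ℕ) :=
  (.node (.node (.node (.node (.node (.leaf 43788973265709606378262783270946665192943544486670471065968767347365797853990812028934124484491746580551312939370915541742931520732546845) (.leaf 39455448824926344498162333704311231397015450135227261865511320731229931115566322927965389683133058021076208904180299743028132727384408744)) (.leaf 33628182671141808822312186879030827174248783341295220759466165141392711633572871902394948865181541767092320655108015653835408883401284890)) (.node (.leaf 11080848019074154739997357181669167223720518162194416938494349166920330422785789885212722906539388608976121806817392159187994770713841085) (.leaf 8836833854296251231979747668852737885201950031501745144665540331756765119329806819620096522506012809809083058247281221648968942587943222)))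 (.node (.node (.leaf 26910701399240347571295959135857469993153148086055957840402944009688880302356750587411040219915815820764953546414369065405140308522009876) (.leaf 21879657580282158752156937547055708199739498602404551451539569806875186736635995507054887261152535690672536171248231419471736884819564555)) (.node (.leaf 931576570125697918677405050104041708103309603584399388631577098877260676073080596518778597130206505148031919739254046525917623145548680) (.leaf 19989504630699037890751332826394049115185652543353020581143027321355732971894396308750923163671273261938162878486562428735509989494525229)))) (.node (.node (.node (.leaf 31398342802789847508821224627120449158991602489478704597938045999618186488102211531722912014628530151061090181994653950709080516253483303) (.leaf 25009091103366863588240065543111345950467200314335106425997765141511172366424679396964447737204794672547754132609287370229533024331552785)) (.node (.leaf 21163651985634358540719655852453879759577795697885516053992158590562917340901946768311562672406578318876035939349334669849981293851219342) (.leaf 729109251886537807448006691729636334683795056614883789894604510842261567288975597340163364864384560041395355774698456488038650718995633)))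 (.node (.node (.leaf 26395604909919381996775799828004110733479451567301127780974546098065699696074622818179149477364726270744779134792385688669050209107677362) (.leaf 16315411974781408008990983610335170441703490508011451240393172807038137001532290312678215536118006074929652582570592551286181637575873569)) (.node (.leaf 2210519702980878220869769161367547236463854090795147627949669571787130876872215630466845381848678900777693305959298595291891742284635555) (.leaf 43669059736249822796795758271078912635715686978758597739305329533242420156741112241351041088733338090519602010717228942472624939750457759)))))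

def certSPerm117 : Janko.Tree (ℕ) :=
  (.node (.node (.node (.node (.node (.leaf 10522624353624569597199516962718706377588501365618658537954583364106964655102022780604750788208964251477968490303771687594276054768915992) (.leaf 27785966338399161772354581219148954048083862088404587651854820589631899725565982840915359720839938493384805464757018929913424194554387972)) (.leaf 20370226233180357738127372884966644985286100394655079272201865107578666977139560871528257309139828836731427637416690778837484762145707538)) (.node (.leaf 3726388704805218031562856582637894283249924046749669538008560402747620973209724822364903231158917556492794953989553354635192410355047484) (.leaf 42255942698498907130547106077624550143827430835083529080398179343289519052515353424584452389063093107337607198321719273673596448258049057))) (.node (.node (.leaf 41572404323167152892105782584306151416975980138064639605714283534543800193126799485084692487316061196887528456374741528543165424086241682) (.leaf 20501713218935447616513621196997496546536246170473224488212213229057489716960503713507465945772674525047033268047659662638646303673586621))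 (.node (.leaf 39461217424541821366248245438305550337559706114092421978584809468044393187679784532281274848739959321019653878974838350362909766569771291) (.leaf 28479143085260927351522545487599907275932067749486766609912467488447951748187859593324804345527861605377683827324540508360559188012452914)))) (.node (.node (.node (.leaf 1665877867754448812777273065292684625963906650945026976652364304369343096112032881437247546513773683810877810154698716220751592003208120) (.leaf 43634255123134593678735785509729051530310245835124301980757514961497336668093001365626109089760776761409635546487564186831379338564868664)) (.node (.leaf 17611166592526193525046283212257555841454184983758425169055308228431581188661678010467580021347361760266384502371223949136435373920770093) (.leaf 43617959439808238019643851465434404265898135381938241556325676989026082722326690224601025592742773361664062540795401780988036909076237081))) (.node (.node (.leaf 45259339680485780622647443230761042476022551228937361256933543290872358136502003087417382709153972347913710769054182648751387316488769540) (.leaf 25004483421993409122275426343997454282361422212906591290616737647540450574171130494695732617682562177159112309692418508090127001122619793))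 (.node (.leaf 28529628631184218326941305066603959593919772337003193324862409563510258254438365927145816091812903263500079134516937350369758834508586391) (.leaf 24742081757979815713932826082494011263546858825369083900421520024765947712502314905417285925321517405406906336625256492969901327774850445)))))

def certSPerm118 : Janko.Tree (ℕ) :=
  (.node (.node (.node (.node (.node (.leaf 40783449573967358551791088433107021235371023759550492940379341066379856244504100252274237047946348300856611686021395114227029182532902938) (.leaf 45230458237126017606837842961771932516825308995751247839698031667450677618870587451303711289529604300255072748620237422334746446652360452)) (.leaf 24042788071661214279468719951451272799994310568018623828199110260351098079479894691823393674644519749445228062346393283683254486433810446)) (.node (.leaf 33599756310539766844781442483501108744017864978865533710835333819579161835540481332364738550165374270152766126634581764548126272305696945) (.leaf 15593008823671560834714625362853603691923798769924197332502236087137382965253348952953466998666650751196047719500292818824787390874001447)))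 (.node (.node (.leaf 9774663163026479080750975220660469449066304355599988774203665466239593312831137634819279847965458730769569135407485905704516846143001510) (.leaf 10994206304959471056868205579125141448263859690082340157729315027383765657990178113491852931117153956055631326292618282614677353519456165)) (.node (.leaf 24294857423073832421127663813199864053108959939674799956571034525382529210167193075211643683011484289009608832787723278713178610196923290) (.leaf 9034664141266429098658821581520707316364080149014736444069052576701699147355390845353047230060849953517031880870534404873704793790731051)))) (.node (.node (.node (.leaf 42895510986220565128475774743234700037273449188709184895785760769926012587552260137565968044310063776825937383979441626903214138158014377) (.leaf 23276291915216962259038720037677607249153698683519765680994726008944365949741357521298077541895066253363710776356560035479005359023292433)) (.node (.leaf 13426436780275437274801759368596207856309948066775396735965549014322639403130697724434874112503691211737251262830650248413947429412117664) (.leaf 44633994531674485186511162421595560527543125364492774169143291601174475778365736779708738580451393092165348284801915561148421322725561354)))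 (.node (.node (.leaf 27974555354837522682141771206517253850613607483374413606614016490571138816861017710827270069916627090358576885736130647644400310225800206) (.leaf 43027197763708555935303781816806301695175856456425526997424398920350677942131962048767354923028335632578461831816634676455773660883621422)) (.node (.leaf 29297454944513819831678184413551499387800833356308317293006587212512438996086062464942014361036295593306724265046510398188282375731813661) (.leaf 31447539023266910525984444619540468613628540453893398132299753090837913101614219067794464006372066956937537979555528741002684563245076541)))))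

def certSPerm119 : Janko.Tree (ℕ) :=
  (.node (.node (.node (.node (.node (.leaf 32926162551583489293825359871074872167995736495165001260944904753771904717146139535589071168498870921901992708862827805429132064513540484) (.leaf 41068003460633922413061327486922995419481608792463070593729714034638694400839775918224913112483244712565605301027242971829210341683011357)) (.leaf 14000181810963188917770773242060033657698316522315639462514733770422519395393619925969058813136290585805344320707550017756751144361002135)) (.node (.leaf 9683149356522775739810803579575267645459104356511938874887328658742083781776779805068436438548033888931116676504762870694333934899680573) (.leaf 8262844186980287751331184083436194226921635783779764240653701818489372669988774479260164801973645860702605174304738176195460533507313565))) (.node (.node (.leaf 2182744157174640339650692672754538772687091509780580074841491682976185081402068629271779726455768550664224527611482780473171498658289829) (.leaf 995773914506632185415922264459471398678557890440955296199642887054405757154687418999964263877672935049129882710182990594690596313846167))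 (.node (.leaf 20700714294891685214534565606588463191290450800313537259504625666735917915255387709948730958369703871938324412123855583270951686691685401) (.leaf 11148894597500980737856890703157390326809792464140599453133194126133314206074602439930649328603439126250815687767912531188023493446926518)))) (.node (.node (.node (.leaf 13142210177193287203321068681608490593955082006502991193416447952149581235119396865807834829183721336507970354294319412765550175598988929) (.leaf 3817432211413547008567817071742186826062810286662219140910312206081867851013425534257649065131515064158768947258014524648663987060726073)) (.node (.leaf 19001770224691408171920561308553352201137760784940629875120314278998561263260950537157348089831237371648631491598683854541435941327028288) (.leaf 14883973103318314374978510449468130128395932756629177685756251932254100071884316299334585867113096365358110581767893756971651771302338364))) (.node (.node (.leaf 10534504468926410139191738674055084463832821047533462721283808129580839720973089314582288584684016543535476795488778992614620985568234923) (.leaf 26332213966044409624104906151310085116222760848728228315677585610775490624833927975137822213024538490382393559672095456746982170910185740))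 (.node (.leaf 44399640950785174672427682035064168964493339071162750714805554167597335578205671473979940005715868204197789727527544585444797601418449692) (.leaf 41720744632562563631758660315513575005212142589429904398379771627961028189577150106286990578891440201659609090260833245107006707738809615)))))

def certSPerm120 : Janko.Tree (ℕ) :=
  (.node (.node (.node (.node (.node (.leaf 24970328591071626725921957337969807019862865985558800119656097913651336871443502873134863897473675801399409852891995769229793725455206817) (.leaf 5360943150246259906026198687854140700437811055582474493111702222679668542317183979714597503471661458160968351765069070464288441992830614)) (.leaf 6832975225787196388539016724254825933878912932878316415927456257148005891190671262820389887577198084362533927342086133508934990688047381)) (.node (.leaf 34235911628487354519964867267967392561699452536972274532150908334370553002280033577403071319282690832454431642625587002717158984842480785) (.leaf 25439818205198364505348734407354821461530247818113294569533235034494699813479437404483287988978014863882754490725895752335319715062956434)))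 (.node (.node (.leaf 27780475345224959456983697214233074172181621748688501138391064519297162747162378824936554902457982030871131572546246104524811038213299742) (.leaf 18903804599393420704992260565434225835701874187710191239839825253800774425557459707276143963236974913905110626635920832584012859997751168)) (.node (.leaf 41596436559268317300893398574104794176394256130563905634932034802241648069783520779094200795043822702901739530222501303273624424835353220) (.leaf 40084297226861612778535448416665488680105450855460150875754811821888853466033594258773534448497939978187077405116689048326308988931856153)))) (.node (.node (.node (.leaf 9552908748226082981200876412177121915255461786456833317497019362035479770568267182490017523743704440854867761215848679659587865032721186) (.leaf 21192913351959985770947042515611537080882789346966023283142050260961733283067782184351404509012687264866958290659566192012338652867512614)) (.node (.leaf 4505445916010803987053929700614912803228535680596439677803555205047374681140455517036298132840919851469863493599787852418048026478773651) (.leaf 11765886237804207192060912105119235169885584626191804320440877870476667872585878514990390629577696815077037405429308382344885980908882565)))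 (.node (.node (.leaf 9553125436233774154648600684959519626192573591041084073508909011908921213279901777545574418066041184630686867482638213851948159947523105) (.leaf 205465030193553490810581224739290113920567192401734523570544153659363079112121628755416756714429774766480431896543242514210665225475598)) (.node (.leaf 27796711108319857325150757124714347167201952617098493244523816783249306858555480331987022480349687903520205059699966104759012189849226529) (.leaf 30846332713785597764618601328606294745802734714677729855288327473230956875431121965113637774473274342901878761758967686034442560835982254)))))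

def certSPerm121 : Janko.Tree (ℕ) :=
  (.node (.node (.node (.node (.node (.leaf 22624779901441492922282673199347925739222334612223732033222347268925422478482168128241773081214140509410192610135798635171450146725284028) (.leaf 34929738306341461988224161088225079649846480006904000610558306775045831811188563482576452377163226974797282793534975616888864680687852090)) (.leaf 8048461729138215573164686378973856505627395088226517911002483753760784075120614470557902016118808212270168254359949980255382996951712138)) (.node (.leaf 3960440283161775268409978921554566678191049482417675927077897796045683163375542421721343562823344968594216164279590665744648050488363948) (.leaf 4561260807783827418075656038296079247623807707698446517073865637365833184803897353299744335010072473560995389517494245632370938409851066))) (.node (.node (.leaf 5850201045024770011848271911457521334375578798951855385869092705715722790136135744384037350197962195735239038084368260509304895093948682) (.leaf 20518027147995619424364684632483847908670667829707517277604205655486435929951672531890485275400147655388810994723700492341460160466799016))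 (.node (.leaf 28505843247189615056150839733866814789074769489097233062668893460789860281922557054737904865726512435986644499291966777195997156560094398) (.leaf 36394170266417350291359387177021740608757984638934412418575528221403172505804335658327077373305814378287664414011117088393536165371811999)))) (.node (.node (.node (.leaf 8128450136549022251216653582770456277697983454811114762782304203290211596590415243350886594863822240521144676531004606020074632240579897) (.leaf 25473531684233244936462415921060657006186082804158266893631882666892906557257551840046974622806523379556693092144382686311665955655572511)) (.node (.leaf 29143073673635726670965594636580469957095177952576955092709545281157821133423635115682821644653422037364629236700898405656464118394429475) (.leaf 27109276937083916435525990134902935499700408894011806372390778821959558852091953741080649302890107597149841474027649462903913681427284748))) (.node (.node (.leaf 2983575679939801304078840285098541348357773401011871078660871876523280909831598188329942314009015942635707843398222108241833787472464702) (.leaf 14896218294895274015343784168097322985796813692401143598096479518479316495871098503632827989343749492772259824469709280629949136978549272))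 (.node (.leaf 38013572920137800266920174836335213541759231902524768249521267507584841401150631784992373260629602225588997548820886937174898791229870977) (.leaf 22605884541437653960047769991074104227067294449615379619995486916013257529384110650976358388142550673647814914701819178061276082273653900)))))

def certSPerm122 : Janko.Tree (ℕ) :=
  (.node (.node (.node (.node (.node (.leaf 13260196221624284126724227978729668702803908149008745476346583482795379386952965696599250307257994302798737968031405178646148028534135182) (.leaf 6678063700391569103591009875549937743901157352983817264967798487028752628870797677415117218877489615391900941360346970614467950539377422)) (.leaf 14613434369105174383192232497680426672147485758752192518903167157536703204508803660482703161077491606889947838375372058562658905283844882)) (.node (.leaf 24743091630356486139184006659738238144849041344046882714219705604960273405601194423420553930245876108775352838080540086829383750139987886) (.leaf 44423233296070559706383705129390188298043639424704291203686473184509462037780198784771445858114237178514003763577740865977027157045728942)))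 (.node (.node (.leaf 13129509516465374733403915403283075662986193152177471939508803624263616710038511473381646944970506379480002329100975593600156985153258937) (.leaf 12532656740750416731667965135818671735078747715112751395810725746640296582466873235297652388847879639421915568149620971216083485360559242)) (.node (.leaf 30625773744355710135174872092499343067920240067144324926538357046611337541716624814271440441772033707527215053568081949838241588362907189) (.leaf 23560597916169419770091625258324635631155776716196605654493771684170746601636333713448280858427666241055861540139896978092581261695631644)))) (.node (.node (.node (.leaf 10965056786861248412406693729458219746355431227408134355941347672544488587745241115902694781682669730923687466123698595467867491129328557) (.leaf 21845006519680252532395111926121287331313311630167930220046910658290247573646656800560839718249409467893860194022111307214829143666055334)) (.node (.leaf 3998208233476809209671508684063229538263456975177922590328160553308584764832397967611153560045893152453751815215251269723891508726629163) (.leaf 41049581423349724033971172698142983832579664660121756071188809845103919490847190699168386263485396090399608364842942413241241209047629954)))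 (.node (.node (.leaf 38086205823799104263681030133878737681326299575916761392277126761850569592682644488950787563351476697369569492520395465240596348231797264) (.leaf 37178363327905096851972273007111674766741534526419445660349445672912991578776817787184701154952232905221958034661469343332993898632992910)) (.node (.leaf 36405869986954259775053821419316467846089561329507129512548261198286852368079413883701747593159722337401224663907806546894954270363898918) (.leaf 19076290309409426611511359220459028582056519973491341775825488139917876711464660030822076439238417695095434195107861624553185569623824687)))))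

def certSPerm123 : Janko.Tree (ℕ) :=
  (.node (.node (.node (.node (.node (.leaf 29326123688726073120677087813207635209439059682669918167788376955083611756457476583594619557701146297188167008514657749675007388204506026) (.leaf 29914987436803913559631782171578431724322728148270268843794419768952567241229880981262151682554475943476190898683047376897763863715349053)) (.leaf 16105274878183542723788785875229289484077714565362316231793329584555764007856006932499604029610791570649833685594401668189617981709944728)) (.node (.leaf 17632809321341152114346621770364113152323300595023285730430827697099313484629623211146294242357486449706246073037775584862111901881797285) (.leaf 25753509050914597597587821851493193419837640242380421902196232736436508868992219340668216316709289120472492733147088161083577134295369608))) (.node (.node (.leaf 2987356911005828861957558891865257100524424894987060662751646660916567131103770338550614185712910913877574789521934085413583603043388314) (.leaf 34987414780737112558024466665363830299400902888405908368334058680478067471187368162425777250495147582161044107206566181205438394240714276))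 (.node (.leaf 39340821106485626275080383036115593804216188065860191126706887553215108193255276075827664966140724679736672914060561291163582830434197129) (.leaf 33618156478398573837094301529004209951319500935009078532107773218078868914506219326230510398293893620079055300066738668551271760135196967)))) (.node (.node (.node (.leaf 14658463978197665088923672770692712012536277041750003229029145342543723282704167022815942983823765000194429600698186649700362869921356568) (.leaf 24185186554967454468609544581787700931785577053756654254358967786312389814770476757821566473413462492590054708631984786908910443286465424)) (.node (.leaf 23373930433391659347568084340450408478964494958805930734135986023504453436804088371502271818337827636002317207051775720244060776686912786) (.leaf 38882025137382735758941811955973929717792771445696714119979176088942212117384553529530540973907294357552666272700149933839746692909534515))) (.node (.node (.leaf 31260991035911013397183413086173919621201356956918181009111454220407419796980093059278359824218645792529027216519264024637450667780244887) (.leaf 18460573481632382713515052383762012754282308747731673768106127304425364678247174580175535437493493944495746221630454155352353163837000366))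 (.node (.leaf 34946244648380063431705269113829464729079012614858679614471942155818566255187543892726517881274097638835955601361281694024852033682020902) (.leaf 16259264703900273925872736738053652928909885322281887357956871643379637702070966741321910556516355648597671882607628383321808927766053149)))))

def certSPerm124 : Janko.Tree (ℕ) :=
  (.node (.node (.node (.node (.node (.leaf 7498294271154402569503722011872249836866607736614754310684518759802458983842615413698716231669753568112937144125376392087473896918044832) (.leaf 6549144616788619886992686012366639185816586554768917040431468325719902998914079531841701482491974102366392568507839262490533406305650821)) (.leaf 18900435843407938159980949214116937757427088961768657322690438853363425646565074494185597136724155745047672015826832121862662196864402825)) (.node (.leaf 36478535977012826109440886742166519880515100754286284765017704743341532212107281997543135779076859198731475172062776384171017805551061180) (.leaf 19097191278169931949369618078233960137533393786961996497354872814812295719022271796674426568031849890113376751273313188667885869644945048)))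 (.node (.node (.leaf 22119445927598467977708858179175205487625680339159872372165714752857564603071819478600408283907622808689906974583091750037570330882442788) (.leaf 24317652780536034626656378921615591995348613273614767838363073313439821839769729730672819170525340326591650271413789608462508956006090640)) (.node (.leaf 3215680287017566153294752059067283478615688112043111451033517572860791063055867958320990663833407818223820115306868834297072595833308190) (.leaf 17666756444752649283316690866519741007199718312426322376301983702412664186409687871290445951955445784717129230242751338339676175645510806)))) (.node (.node (.node (.leaf 43725377837451732013071278809352953646733107056915624793543402769086775640546451135023822021762697106167105899441954180460797191206605230) (.leaf 39439121756208874909170719914479241904253021594700584672159323061351995216956559715882611160968276146793743620822869733697763064043345570)) (.node (.leaf 5406105415782921910526464291939862740102578950401094327765144258184587009413593082082874182435127913650131381330337447801498404856532410) (.leaf 6106440896379729736953006153436059828291959893784752770681198958147012260871218350513953603803018691573962505711830672372617639696878628)))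 (.node (.node (.leaf 23503866020673362980327344216611980282848681503167670803418292449337631783225331798109404194553025063226492476726002204196019206683001767) (.leaf 16877148943832053134908234354625555746455413595186396388478011846636899328424418874569324959509877418779051184691057407177668936405585691)) (.node (.leaf 21353118510670767775305783182899453601933749466230726707604747759100188008548048259818466235458607041329952560790755991184366020135406265) (.leaf 37921399658812244737702533961666903285724476053285247594314885978545413874497943183754421656045396004339375731947395820558163403172174866)))))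

def certSPerm125 : Janko.Tree (ℕ) :=
  (.node (.node (.node (.node (.node (.leaf 26354787737039313363561121786886144060811245174372490125629963943711856412913537146047381315414310234609571603504007408048051013993140140) (.leaf 27728711407743768596463319287389204416685964787559380583245923637285393744792363110829798541313736904274420747532785372294587900856800653)) (.leaf 13231093170086011080724090617011369869982370574719430089545226215927046235541794239259834163278167724462588702745900344470288067214319124)) (.node (.leaf 10274201101442071260586888804192143404099494721263599347896910316549910405638001592483315331319526984677673218856446389141866122664723105) (.leaf 22772911260242684694522208419809634416493953680265548868994872520050939903813601927204231267789168732682095869952823704632370953214760356))) (.node (.node (.leaf 25611530680035503994982993963203636699209464691169703378980236363018592673892088546561037841510553173686987156876650646463499105972590907) (.leaf 34349135814184644976852979096208459680416363833621556803641048844522959746867538095658269341737779355961700921448914476719994066851696023))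 (.node (.leaf 45197323784054656072400932692718534139398043146393695132965807869700949800311548959538664209839402027748200980809314756939410363248265372) (.leaf 20527581529209806170781675096382009025592050560039058312189004955792070005604658426070570767375444858507741735879010727308433163572183584)))) (.node (.node (.node (.leaf 25485020627549785918453116722464358969219407228130168150438465586726837835857082131256019951972668658189353262283229864360337454963673356) (.leaf 42278355183220312471319460065771625602973686436323791016101986195132861834477231810912176742338578425578148997298350083187914481563501446)) (.node (.leaf 10216755528158871279623897016539436878752391764100612659791484708688545574453026982618844146773190737678428058552473970343615013220733094) (.leaf 46660889596388891562332048843372244266910402224395164166085603492955080559944019929751753137489842322749371555256847159391460270330027069))) (.node (.node (.leaf 12704163698678289649633417147332043896705654410637365119022573314919682588240967783784999738391160942500317176808460591669301499353110179) (.leaf 6673146118752516000565613064256545453917227848987313530148088559329879764884641681597239794277129669798875598794211897065139947224519097))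 (.node (.leaf 45952320025455235736519610997194979606983791978962848647603868434748198234979191018372876790731208586711220775434051382142419603915572894) (.leaf 3118310767091783757011489421159963004328603291219660732385828617778395252896148162906371025739026109951168829529107001713562275218906040)))))

def certSPerm126 : Janko.Tree (ℕ) :=
  (.node (.node (.node (.node (.node (.leaf 35197655245507700015480851959064191250055201593703194719842688772714970844028677967521229274532323689624900813888815465908147967432317966) (.leaf 38852130807618249327240983994936001310862162541419227768678557655461350042026494049720182639992164795039141053969796219191979591743635729)) (.leaf 27631820121863186503000196072950096964316963199857859453401763319905417819634629903729525218095367992991938178021981667110499384854076842)) (.node (.leaf 16291720953164204125373388963333529287350005630339495898074638537193076197124392355216475965022494325975386040911362103622074047964695086) (.leaf 27247499727959269539217659666154267377750796063108887815795724745787507694515864487225373471035452617210658137071142426666547178527180352)))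 (.node (.node (.leaf 38659849379073075643497886443694282615718407529360576770030294877341414341804840645883560232439737869025652898284266266746183229440397329) (.leaf 12476130190336291157808236338072760569961984643713569602876745878812208651519512395879562252327469283795699498813391114470846590989500592)) (.node (.leaf 4583650502581418372416872849263010982308956820530392335847709915932197519718438491459981499451616127261149635964692984971433374726673932) (.leaf 41506257760758814613238367080404811898912411240218276652426377534047552373988884675002359798360369636072040763433577867123852600389731851)))) (.node (.node (.node (.leaf 12557860529729015452248723142274252423378913953688486593083112911498305279512083485807568775126488081474553920783435251765781022456055189) (.leaf 13346755898805534914778176549298979456557685949442922556077653957112314824512651112332903107572629646063442802809212033482881651503305755)) (.node (.leaf 32028463142931282812246638108348840022252834436314010339747127080126813301134661766430071659785934632787822861401947845908915177528647462) (.leaf 13849732301795481610869708554197879171962427328827542642530760271175750190820089620000645508321162327972826269594174635631945595020645044)))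 (.node (.node (.leaf 29433957637191585247591342274561817985789255871305859200905406362319080747144020536481755752362176322007540691045103241591285111182888884) (.leaf 45984490951177922834914907090237046550443386985081197929369665919741437105341591395124672817406458191023551042998404812082519146102135481)) (.node (.leaf 24345772839275176757229434452877256466278936805242091345821704203363484571244352947392540648141300165621393742021219958929307963878295447) (.leaf 9723042202944507802944196535642723241814208625427440328147866549561519462580782622043802162173888740720237733093224175968649627384288914)))))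

def certSPerm127 : Janko.Tree (ℕ) :=
  (.node (.node (.node (.node (.node (.leaf 3180719784197728167196017989324891872334932549713207107680121345972831641903927830776117229960714168373177059933499404911126980692298413) (.leaf 9756224757781339031678986976455429554155068754929125454336612339194215364797640342628977538655613920873080088538448501715273525903640069)) (.leaf 7479039093629004206740346455285350613754567732771251442392317610046588845837876840036553435946721364938056806118288531551672057113449252)) (.node (.leaf 46855298525119950488980440351661317256284337311311284122635630144895204580608087013476726966519439178694861665283612564535516821001962116) (.leaf 34996825220873998125691123992170636153814191269502977859557742648653334239828066319603089604842612760634455978811661512345850854481828409))) (.node (.node (.leaf 46092969495108737552087001952669267497238504919730516433043943753678625332850944119206228511524848410331173831130199661008729332687426692) (.leaf 2363394656090930372644486153404781138896100964954983806118083138735236292930755578348286984363325329104584870833496440711646445534989194))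 (.node (.leaf 11665532729787992600498219639808991136003388308908048372942274992142779017075186990227128763269492068276922018977610126636843163128908065) (.leaf 8139910846936748134900110373244045767783086100852318753822431271853819180665552493446139517673780913288541493051077323627999845249799096)))) (.node (.node (.node (.leaf 35043044184204772275628494053883421122139485397481981143997915048531977701997215677972957841703737617242662997036569361757073185037918125) (.leaf 28642231089167534223816901562058506560608443174675766048946811881370987422059999114394423236536143998198620837052871080131953042848829203)) (.node (.leaf 41680289350949269587944600480046148639833377726626096474702648266936107140292921850017557121086620038068149657551530687045425323445377933) (.leaf 30636468734602745186214252552574272215351171707936864515670616865857896669937602974451830931573103039511262546312236347090940316212889392))) (.node (.node (.leaf 16946252873362259691460014067791356576974972793870615153966897261544440571929419180441933559291130751659609978804761258966517817081333547) (.leaf 9080215722379680293496907106870944286342791137621635549863952701203931830152987447630277967637985500670262982407796481281303510402537242))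 (.node (.leaf 40233217088533034219883206065972752536571949831016616063049635154779866079710378899158023802381388598410660965583808309974201502171532992) (.leaf 27655586691757536710108378717162471858106188944093056312935348911803382376046037023040636828591622182055736854353100369769101694782101258)))))

def certSPerm : Janko.Tree (ℕ) :=
  (.node (.node (.node (.node (.node (.node (.node certSPerm0 certSPerm64) (.node certSPerm32 certSPerm96)) (.node (.node certSPerm16 certSPerm80) (.node certSPerm48 certSPerm112))) (.node (.node (.node certSPerm8 certSPerm72) (.node certSPerm40 certSPerm104)) (.node (.node certSPerm24 certSPerm88) (.node certSPerm56 certSPerm120)))) (.node (.node (.node (.node certSPerm4 certSPerm68) (.node certSPerm36 certSPerm100)) (.node (.node certSPerm20 certSPerm84) (.node certSPerm52 certSPerm116))) (.node (.node (.node certSPerm12 certSPerm76) (.node certSPerm44 certSPerm108)) (.node (.node certSPerm28 certSPerm92) (.node certSPerm60 certSPerm124))))) (.node (.node (.node (.node (.node certSPerm2 certSPerm66) (.node certSPerm34 certSPerm98)) (.node (.node certSPerm18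 certSPerm82) (.node certSPerm50 certSPerm114))) (.node (.node (.node certSPerm10 certSPerm74) (.node certSPerm42 certSPerm106)) (.node (.node certSPerm26 certSPerm90) (.node certSPerm58 certSPerm122)))) (.node (.node (.node (.node certSPerm6 certSPerm70) (.node certSPerm38 certSPerm102)) (.node (.node certSPerm22 certSPerm86) (.node certSPerm54 certSPerm118))) (.node (.node (.node certSPerm14 certSPerm78) (.node certSPerm46 certSPerm110)) (.node (.node certSPerm30 certSPerm94) (.node certSPerm62 certSPerm126)))))) (.node (.node (.node (.node (.node (.node certSPerm1 certSPerm65) (.node certSPerm33 certSPerm97)) (.node (.node certSPerm17 certSPerm81) (.node certSPerm49 certSPerm113))) (.node (.node (.node certSPerm9 certSPerm73) (.node certSPerm41 certSPerm105)) (.node (.node certSPerm25 certSPerm89) (.node certSPerm57 certSPerm121)))) (.node (.node (.node (.node certSPerm5 certSPerm69) (.node certSPerm37 certSPerm101)) (.node (.node certSPerm21 certSPerm85) (.node certSPerm53 certSPerm117))) (.node (.node (.node certSPerm13 certSPerm77) (.node certSPerm45 certSPerm109)) (.node (.node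 certSPerm29 certSPerm93) (.node certSPerm61 certSPerm125))))) (.node (.node (.node (.node (.node certSPerm3 certSPerm67) (.node certSPerm35 certSPerm99)) (.node (.node certSPerm19 certSPerm83) (.node certSPerm51 certSPerm115))) (.node (.node (.node certSPerm11 certSPerm75) (.node certSPerm43 certSPerm107)) (.node (.node certSPerm27 certSPerm91) (.node certSPerm59 certSPerm123)))) (.node (.node (.node (.node certSPerm7 certSPerm71) (.node certSPerm39 certSPerm103)) (.node (.node certSPerm23 certSPerm87) (.node certSPerm55 certSPerm119))) (.node (.node (.node certSPerm15 certSPerm79) (.node certSPerm47 certSPerm111)) (.node (.node certSPerm31 certSPerm95) (.node certSPerm63 certSPerm127)))))))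

def certSPar0 : Janko.Tree (ℕ × Bool) :=
  (.node (.node (.node (.node (.node (.leaf (0, false)) (.leaf (1736, true))) (.leaf (680, false))) (.node (.leaf (306, true)) (.leaf (1135, false)))) (.node (.node (.leaf (143, true)) (.leaf (891, true))) (.node (.leaf (485, false)) (.leaf (1408, true))))) (.node (.node (.node (.node (.leaf (69, false)) (.leaf (1977, false))) (.leaf (782, false))) (.node (.leaf (391, true)) (.leaf (1267, true)))) (.node (.node (.leaf (225, false)) (.leaf (1018, true))) (.node (.leaf (579, false)) (.leaf (1546, true))))))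

def certSPar1 : Janko.Tree (ℕ × Bool) :=
  (.node (.node (.node (.node (.node (.leaf (0, false)) (.leaf (1737, false))) (.leaf (682, false))) (.node (.leaf (307, false)) (.leaf (1137, true)))) (.node (.node (.leaf (144, true)) (.leaf (892, false))) (.node (.leaf (485, true)) (.leaf (1409, false))))) (.node (.node (.node (.node (.leaf (69, true)) (.leaf (1983, true))) (.leaf (782, true))) (.node (.leaf (392, false)) (.leaf (1268, true)))) (.node (.node (.leaf (225, true)) (.leaf (1019, true))) (.node (.leaf (579, true)) (.leaf (1547, true))))))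

def certSPar2 : Janko.Tree (ℕ × Bool) :=
  (.node (.node (.node (.node (.node (.leaf (0, true)) (.leaf (1739, true))) (.leaf (682, true))) (.node (.leaf (307, true)) (.leaf (1138, false)))) (.node (.node (.leaf (145, false)) (.leaf (892, true))) (.node (.leaf (486, false)) (.leaf (1409, true))))) (.node (.node (.node (.node (.leaf (70, true)) (.leaf (1984, true))) (.leaf (783, false))) (.node (.leaf (393, false)) (.leaf (1269, false)))) (.node (.node (.leaf (226, false)) (.leaf (1020, false))) (.node (.leaf (580, false)) (.leaf (1548, false))))))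

def certSPar3 : Janko.Tree (ℕ × Bool) :=
  (.node (.node (.node (.node (.node (.leaf (1, false)) (.leaf (1741, true))) (.leaf (683, true))) (.node (.leaf (308, false)) (.leaf (1139, true)))) (.node (.node (.leaf (145, true)) (.leaf (893, false))) (.node (.leaf (486, true)) (.leaf (1410, false))))) (.node (.node (.node (.node (.leaf (71, false)) (.leaf (1987, false))) (.leaf (784, false))) (.node (.leaf (393, true)) (.leaf (1269, true)))) (.node (.node (.leaf (226, true)) (.leaf (1020, true))) (.node (.leaf (580, true)) (.leaf (1550, true))))))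

def certSPar4 : Janko.Tree (ℕ × Bool) :=
  (.node (.node (.node (.node (.node (.leaf (1, true)) (.leaf (1744, false))) (.leaf (684, false))) (.node (.leaf (308, true)) (.leaf (1141, true)))) (.node (.node (.leaf (146, false)) (.leaf (893, true))) (.node (.leaf (487, false)) (.leaf (1410, true))))) (.node (.node (.node (.node (.leaf (72, false)) (.leaf (1989, false))) (.leaf (785, false))) (.node (.leaf (395, true)) (.leaf (1270, false)))) (.node (.node (.leaf (227, false)) (.leaf (1021, true))) (.node (.leaf (583, true)) (.leaf (1551, false))))))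

def certSPar5 : Janko.Tree (ℕ × Bool) :=
  (.node (.node (.node (.node (.node (.leaf (2, false)) (.leaf (1747, true))) (.leaf (684, true))) (.node (.leaf (309, false)) (.leaf (1143, false)))) (.node (.node (.leaf (146, true)) (.leaf (894, false))) (.node (.leaf (487, true)) (.leaf (1411, false))))) (.node (.node (.node (.node (.leaf (72, true)) (.leaf (1995, true))) (.leaf (785, true))) (.node (.leaf (396, false)) (.leaf (1270, true)))) (.node (.node (.leaf (227, true)) (.leaf (1022, false))) (.node (.leaf (584, false)) (.leaf (1552, false))))))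

def certSPar6 : Janko.Tree (ℕ × Bool) :=
  (.node (.node (.node (.node (.node (.leaf (2, true)) (.leaf (1750, true))) (.leaf (685, false))) (.node (.leaf (309, true)) (.leaf (1143, true)))) (.node (.node (.leaf (147, true)) (.leaf (894, true))) (.node (.leaf (488, false)) (.leaf (1411, true))))) (.node (.node (.node (.node (.leaf (73, false)) (.leaf (1996, true))) (.leaf (786, false))) (.node (.leaf (397, false)) (.leaf (1271, false)))) (.node (.node (.leaf (228, false)) (.leaf (1022, true))) (.node (.leaf (587, true)) (.leaf (1552, true))))))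

def certSPar7 : Janko.Tree (ℕ × Bool) :=
  (.node (.node (.node (.node (.node (.leaf (3, false)) (.leaf (1751, true))) (.leaf (686, false))) (.node (.leaf (310, true)) (.leaf (1144, false)))) (.node (.node (.leaf (148, false)) (.leaf (895, false))) (.node (.leaf (488, true)) (.leaf (1412, false))))) (.node (.node (.node (.node (.leaf (73, true)) (.leaf (2000, false))) (.leaf (787, false))) (.node (.leaf (397, true)) (.leaf (1271, true)))) (.node (.node (.leaf (228, true)) (.leaf (1023, false))) (.node (.leaf (588, false)) (.leaf (1553, true))))))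

def certSPar8 : Janko.Tree (ℕ × Bool) :=
  (.node (.node (.node (.node (.node (.leaf (3, true)) (.leaf (1752, false))) (.leaf (686, true))) (.node (.leaf (311, false)) (.leaf (1147, true)))) (.node (.node (.leaf (149, false)) (.leaf (895, true))) (.node (.leaf (489, false)) (.leaf (1412, true))))) (.node (.node (.node (.node (.leaf (74, false)) (.leaf (2003, false))) (.leaf (788, false))) (.node (.leaf (398, false)) (.leaf (1272, false)))) (.node (.node (.leaf (229, true)) (.leaf (1023, true))) (.node (.leaf (588, true)) (.leaf (1554, false))))))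

def certSPar9 : Janko.Tree (ℕ × Bool) :=
  (.node (.node (.node (.node (.node (.leaf (4, false)) (.leaf (1752, true))) (.leaf (687, false))) (.node (.leaf (311, true)) (.leaf (1149, true)))) (.node (.node (.leaf (149, true)) (.leaf (896, false))) (.node (.leaf (489, true)) (.leaf (1413, false))))) (.node (.node (.node (.node (.leaf (74, true)) (.leaf (2006, false))) (.leaf (788, true))) (.node (.leaf (399, false)) (.leaf (1273, false)))) (.node (.node (.leaf (230, false)) (.leaf (1024, true))) (.node (.leaf (589, false)) (.leaf (1555, false))))))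

def certSPar10 : Janko.Tree (ℕ × Bool) :=
  (.node (.node (.node (.node (.node (.leaf (4, true)) (.leaf (1753, false))) (.leaf (687, true))) (.node (.leaf (312, false)) (.leaf (1150, false)))) (.node (.node (.leaf (150, false)) (.leaf (898, false))) (.node (.leaf (490, false)) (.leaf (1413, true))))) (.node (.node (.node (.node (.leaf (75, false)) (.leaf (2011, true))) (.leaf (789, false))) (.node (.leaf (399, true)) (.leaf (1273, true)))) (.node (.node (.leaf (230, true)) (.leaf (1026, true))) (.node (.leaf (590, true)) (.leaf (1556, false))))))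

def certSPar11 : Janko.Tree (ℕ × Bool) :=
  (.node (.node (.node (.node (.node (.leaf (5, false)) (.leaf (1753, true))) (.leaf (688, false))) (.node (.leaf (313, false)) (.leaf (1150, true)))) (.node (.node (.leaf (150, true)) (.leaf (899, true))) (.node (.leaf (490, true)) (.leaf (1417, true))))) (.node (.node (.node (.node (.leaf (75, true)) (.leaf (2012, false))) (.leaf (789, true))) (.node (.leaf (400, false)) (.leaf (1274, false)))) (.node (.node (.leaf (231, false)) (.leaf (1027, false))) (.node (.leaf (591, false)) (.leaf (1557, false))))))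

def certSPar12 : Janko.Tree (ℕ × Bool) :=
  (.node (.node (.node (.node (.node (.leaf (5, true)) (.leaf (1758, true))) (.leaf (688, true))) (.node (.leaf (313, true)) (.leaf (1151, false)))) (.node (.node (.leaf (151, false)) (.leaf (901, true))) (.node (.leaf (491, false)) (.leaf (1420, false))))) (.node (.node (.node (.node (.leaf (76, false)) (.leaf (2016, false))) (.leaf (790, false))) (.node (.leaf (400, true)) (.leaf (1275, false)))) (.node (.node (.leaf (231, true)) (.leaf (1027, true))) (.node (.leaf (591, true)) (.leaf (1557, true))))))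

def certSPar13 : Janko.Tree (ℕ × Bool) :=
  (.node (.node (.node (.node (.node (.leaf (6, false)) (.leaf (1759, false))) (.leaf (689, false))) (.node (.leaf (314, false)) (.leaf (1152, false)))) (.node (.node (.leaf (151, true)) (.leaf (902, false))) (.node (.leaf (492, false)) (.leaf (1420, true))))) (.node (.node (.node (.node (.leaf (76, true)) (.leaf (2017, true))) (.leaf (790, true))) (.node (.leaf (402, false)) (.leaf (1277, true)))) (.node (.node (.leaf (232, true)) (.leaf (1028, true))) (.node (.leaf (592, false)) (.leaf (1558, false))))))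

def certSPar14 : Janko.Tree (ℕ × Bool) :=
  (.node (.node (.node (.node (.node (.leaf (6, true)) (.leaf (1760, true))) (.leaf (689, true))) (.node (.leaf (314, true)) (.leaf (1152, true)))) (.node (.node (.leaf (152, false)) (.leaf (904, true))) (.node (.leaf (492, true)) (.leaf (1421, false))))) (.node (.node (.node (.node (.leaf (77, false)) (.leaf (2021, false))) (.leaf (791, false))) (.node (.leaf (402, true)) (.leaf (1278, false)))) (.node (.node (.leaf (233, false)) (.leaf (1029, false))) (.node (.leaf (593, false)) (.leaf (1559, true))))))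

def certSPar15 : Janko.Tree (ℕ × Bool) :=
  (.node (.node (.node (.node (.node (.leaf (7, false)) (.leaf (1761, false))) (.leaf (690, true))) (.node (.leaf (315, false)) (.leaf (1154, false)))) (.node (.node (.leaf (153, false)) (.leaf (906, true))) (.node (.leaf (493, false)) (.leaf (1421, true))))) (.node (.node (.node (.node (.leaf (77, true)) (.leaf (2025, true))) (.leaf (791, true))) (.node (.leaf (403, false)) (.leaf (1279, false)))) (.node (.node (.leaf (233, true)) (.leaf (1030, false))) (.node (.leaf (593, true)) (.leaf (1563, false))))))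

def certSPar16 : Janko.Tree (ℕ × Bool) :=
  (.node (.node (.node (.node (.node (.leaf (7, true)) (.leaf (1761, true))) (.leaf (691, false))) (.node (.leaf (315, true)) (.leaf (1154, true)))) (.node (.node (.leaf (154, false)) (.leaf (908, true))) (.node (.leaf (494, false)) (.leaf (1422, false))))) (.node (.node (.node (.node (.leaf (78, false)) (.leaf (2028, false))) (.leaf (793, true))) (.node (.leaf (405, false)) (.leaf (1279, true)))) (.node (.node (.leaf (234, false)) (.leaf (1030, true))) (.node (.leaf (594, false)) (.leaf (1563, true))))))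

def certSPar17 : Janko.Tree (ℕ × Bool) :=
  (.node (.node (.node (.node (.node (.leaf (8, false)) (.leaf (1764, false))) (.leaf (692, false))) (.node (.leaf (316, false)) (.leaf (1155, false)))) (.node (.node (.leaf (154, true)) (.leaf (909, false))) (.node (.leaf (495, false)) (.leaf (1423, false))))) (.node (.node (.node (.node (.leaf (78, true)) (.leaf (2033, false))) (.leaf (794, true))) (.node (.leaf (405, true)) (.leaf (1280, false)))) (.node (.node (.leaf (234, true)) (.leaf (1032, false))) (.node (.leaf (595, false)) (.leaf (1564, false))))))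

def certSPar18 : Janko.Tree (ℕ × Bool) :=
  (.node (.node (.node (.node (.node (.leaf (8, true)) (.leaf (1765, false))) (.leaf (692, true))) (.node (.leaf (317, false)) (.leaf (1155, true)))) (.node (.node (.leaf (155, false)) (.leaf (912, false))) (.node (.leaf (495, true)) (.leaf (1423, true))))) (.node (.node (.node (.node (.leaf (79, false)) (.leaf (2033, true))) (.leaf (795, true))) (.node (.leaf (406, false)) (.leaf (1282, false)))) (.node (.node (.leaf (235, false)) (.leaf (1032, true))) (.node (.leaf (595, true)) (.leaf (1564, true))))))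

def certSPar19 : Janko.Tree (ℕ × Bool) :=
  (.node (.node (.node (.node (.node (.leaf (9, false)) (.leaf (1765, true))) (.leaf (693, false))) (.node (.leaf (318, true)) (.leaf (1156, false)))) (.node (.node (.leaf (156, false)) (.leaf (912, true))) (.node (.leaf (496, false)) (.leaf (1424, false))))) (.node (.node (.node (.node (.leaf (79, true)) (.leaf (2037, false))) (.leaf (796, false))) (.node (.leaf (406, true)) (.leaf (1284, false)))) (.node (.node (.leaf (235, true)) (.leaf (1033, false))) (.node (.leaf (596, false)) (.leaf (1567, false))))))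

def certSPar20 : Janko.Tree (ℕ × Bool) :=
  (.node (.node (.node (.node (.node (.leaf (9, true)) (.leaf (1768, true))) (.leaf (694, false))) (.node (.leaf (319, false)) (.leaf (1156, true)))) (.node (.node (.leaf (157, false)) (.leaf (915, false))) (.node (.leaf (496, true)) (.leaf (1425, false))))) (.node (.node (.node (.node (.leaf (80, false)) (.leaf (2040, false))) (.leaf (796, true))) (.node (.leaf (408, false)) (.leaf (1285, false)))) (.node (.node (.leaf (236, false)) (.leaf (1034, false))) (.node (.leaf (597, false)) (.leaf (1567, true))))))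

def certSPar21 : Janko.Tree (ℕ × Bool) :=
  (.node (.node (.node (.node (.node (.leaf (10, false)) (.leaf (1772, false))) (.leaf (694, true))) (.node (.leaf (319, true)) (.leaf (1157, false)))) (.node (.node (.leaf (157, true)) (.leaf (916, false))) (.node (.leaf (497, false)) (.leaf (1427, false))))) (.node (.node (.node (.node (.leaf (80, true)) (.leaf (2049, false))) (.leaf (797, false))) (.node (.leaf (410, false)) (.leaf (1288, true)))) (.node (.node (.leaf (236, true)) (.leaf (1034, true))) (.node (.leaf (597, true)) (.leaf (1568, false))))))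

def certSPar22 : Janko.Tree (ℕ × Bool) :=
  (.node (.node (.node (.node (.node (.leaf (10, true)) (.leaf (1773, false))) (.leaf (695, false))) (.node (.leaf (320, false)) (.leaf (1157, true)))) (.node (.node (.leaf (158, false)) (.leaf (917, false))) (.node (.leaf (497, true)) (.leaf (1429, false))))) (.node (.node (.node (.node (.leaf (81, false)) (.leaf (2052, true))) (.leaf (799, false))) (.node (.leaf (410, true)) (.leaf (1289, true)))) (.node (.node (.leaf (237, false)) (.leaf (1035, false))) (.node (.leaf (598, false)) (.leaf (1568, true))))))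

def certSPar23 : Janko.Tree (ℕ × Bool) :=
  (.node (.node (.node (.node (.node (.leaf (11, false)) (.leaf (1776, false))) (.leaf (696, false))) (.node (.leaf (320, true)) (.leaf (1158, false)))) (.node (.node (.leaf (158, true)) (.leaf (918, false))) (.node (.leaf (498, false)) (.leaf (1429, true))))) (.node (.node (.node (.node (.leaf (82, false)) (.leaf (2057, false))) (.leaf (799, true))) (.node (.leaf (411, false)) (.leaf (1290, false)))) (.node (.node (.leaf (237, true)) (.leaf (1035, true))) (.node (.leaf (598, true)) (.leaf (1569, true))))))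

def certSPar24 : Janko.Tree (ℕ × Bool) :=
  (.node (.node (.node (.node (.node (.leaf (11, true)) (.leaf (1777, false))) (.leaf (696, true))) (.node (.leaf (321, true)) (.leaf (1158, true)))) (.node (.node (.leaf (159, false)) (.leaf (918, true))) (.node (.leaf (498, true)) (.leaf (1431, false))))) (.node (.node (.node (.node (.leaf (83, false)) (.leaf (2058, false))) (.leaf (800, false))) (.node (.leaf (411, true)) (.leaf (1291, false)))) (.node (.node (.leaf (238, false)) (.leaf (1036, false))) (.node (.leaf (599, false)) (.leaf (1576, false))))))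

def certSPar25 : Janko.Tree (ℕ × Bool) :=
  (.node (.node (.node (.node (.node (.leaf (12, false)) (.leaf (1779, false))) (.leaf (697, false))) (.node (.leaf (323, false)) (.leaf (1159, false)))) (.node (.node (.leaf (159, true)) (.leaf (919, true))) (.node (.leaf (499, true)) (.leaf (1431, true))))) (.node (.node (.node (.node (.leaf (83, true)) (.leaf (2059, true))) (.leaf (800, true))) (.node (.leaf (412, false)) (.leaf (1292, false)))) (.node (.node (.leaf (238, true)) (.leaf (1036, true))) (.node (.leaf (600, false)) (.leaf (1577, false))))))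

def certSPar26 : Janko.Tree (ℕ × Bool) :=
  (.node (.node (.node (.node (.node (.leaf (12, true)) (.leaf (1782, false))) (.leaf (697, true))) (.node (.leaf (323, true)) (.leaf (1159, true)))) (.node (.node (.leaf (160, false)) (.leaf (920, true))) (.node (.leaf (500, false)) (.leaf (1432, false))))) (.node (.node (.node (.node (.leaf (84, false)) (.leaf (2060, true))) (.leaf (801, false))) (.node (.leaf (412, true)) (.leaf (1293, false)))) (.node (.node (.leaf (239, false)) (.leaf (1038, true))) (.node (.leaf (601, false)) (.leaf (1578, true))))))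

def certSPar27 : Janko.Tree (ℕ × Bool) :=
  (.node (.node (.node (.node (.node (.leaf (13, false)) (.leaf (1783, true))) (.leaf (698, false))) (.node (.leaf (324, false)) (.leaf (1160, false)))) (.node (.node (.leaf (160, true)) (.leaf (921, false))) (.node (.leaf (500, true)) (.leaf (1432, true))))) (.node (.node (.node (.node (.leaf (84, true)) (.leaf (2065, true))) (.leaf (801, true))) (.node (.leaf (413, false)) (.leaf (1295, false)))) (.node (.node (.leaf (240, false)) (.leaf (1039, true))) (.node (.leaf (602, false)) (.leaf (1581, true))))))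

def certSPar28 : Janko.Tree (ℕ × Bool) :=
  (.node (.node (.node (.node (.node (.leaf (13, true)) (.leaf (1785, true))) (.leaf (698, true))) (.node (.leaf (324, true)) (.leaf (1161, false)))) (.node (.node (.leaf (161, false)) (.leaf (922, true))) (.node (.leaf (501, true)) (.leaf (1433, false))))) (.node (.node (.node (.node (.leaf (85, false)) (.leaf (2067, true))) (.leaf (802, false))) (.node (.leaf (413, true)) (.leaf (1296, false)))) (.node (.node (.leaf (241, false)) (.leaf (1040, false))) (.node (.leaf (603, false)) (.leaf (1583, false))))))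

def certSPar29 : Janko.Tree (ℕ × Bool) :=
  (.node (.node (.node (.node (.node (.leaf (14, false)) (.leaf (1787, false))) (.leaf (699, false))) (.node (.leaf (325, false)) (.leaf (1162, false)))) (.node (.node (.leaf (162, true)) (.leaf (923, false))) (.node (.leaf (502, false)) (.leaf (1435, false))))) (.node (.node (.node (.node (.leaf (85, true)) (.leaf (2068, false))) (.leaf (803, false))) (.node (.leaf (414, false)) (.leaf (1296, true)))) (.node (.node (.leaf (242, false)) (.leaf (1041, false))) (.node (.leaf (605, true)) (.leaf (1584, false))))))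

def certSPar30 : Janko.Tree (ℕ × Bool) :=
  (.node (.node (.node (.node (.node (.leaf (14, true)) (.leaf (1787, true))) (.leaf (700, false))) (.node (.leaf (326, false)) (.leaf (1163, false)))) (.node (.node (.leaf (163, false)) (.leaf (924, false))) (.node (.leaf (502, true)) (.leaf (1435, true))))) (.node (.node (.node (.node (.leaf (86, false)) (.leaf (2071, true))) (.leaf (804, false))) (.node (.leaf (414, true)) (.leaf (1297, false)))) (.node (.node (.leaf (243, false)) (.leaf (1041, true))) (.node (.leaf (607, false)) (.leaf (1586, false))))))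

def certSPar31 : Janko.Tree (ℕ × Bool) :=
  (.node (.node (.node (.node (.node (.leaf (15, false)) (.leaf (1791, false))) (.leaf (701, false))) (.node (.leaf (326, true)) (.leaf (1164, false)))) (.node (.node (.leaf (163, true)) (.leaf (924, true))) (.node (.leaf (503, false)) (.leaf (1436, true))))) (.node (.node (.node (.node (.leaf (86, true)) (.leaf (2074, true))) (.leaf (805, false))) (.node (.leaf (416, false)) (.leaf (1297, true)))) (.node (.node (.leaf (244, false)) (.leaf (1042, false))) (.node (.leaf (609, true)) (.leaf (1587, true))))))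

def certSPar32 : Janko.Tree (ℕ × Bool) :=
  (.node (.node (.node (.node (.node (.leaf (15, true)) (.leaf (1793, false))) (.leaf (701, true))) (.node (.leaf (327, false)) (.leaf (1165, true)))) (.node (.node (.leaf (164, false)) (.leaf (925, false))) (.node (.leaf (504, true)) (.leaf (1437, false))))) (.node (.node (.node (.node (.leaf (87, false)) (.leaf (2080, false))) (.leaf (806, false))) (.node (.leaf (416, true)) (.leaf (1298, true)))) (.node (.node (.leaf (244, true)) (.leaf (1043, false))) (.node (.leaf (610, false)) (.leaf (1588, true))))))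

def certSPar33 : Janko.Tree (ℕ × Bool) :=
  (.node (.node (.node (.node (.node (.leaf (16, false)) (.leaf (1795, true))) (.leaf (702, false))) (.node (.leaf (327, true)) (.leaf (1166, false)))) (.node (.node (.leaf (164, true)) (.leaf (926, false))) (.node (.leaf (505, false)) (.leaf (1438, false))))) (.node (.node (.node (.node (.leaf (87, true)) (.leaf (2084, false))) (.leaf (806, true))) (.node (.leaf (417, false)) (.leaf (1299, true)))) (.node (.node (.leaf (245, false)) (.leaf (1045, false))) (.node (.leaf (610, true)) (.leaf (1589, true))))))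

def certSPar34 : Janko.Tree (ℕ × Bool) :=
  (.node (.node (.node (.node (.node (.leaf (16, true)) (.leaf (1799, false))) (.leaf (703, false))) (.node (.leaf (328, false)) (.leaf (1166, true)))) (.node (.node (.leaf (165, false)) (.leaf (927, false))) (.node (.leaf (505, true)) (.leaf (1439, true))))) (.node (.node (.node (.node (.leaf (88, false)) (.leaf (2085, false))) (.leaf (807, false))) (.node (.leaf (417, true)) (.leaf (1300, false)))) (.node (.node (.leaf (245, true)) (.leaf (1046, false))) (.node (.leaf (611, false)) (.leaf (1590, false))))))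

def certSPar35 : Janko.Tree (ℕ × Bool) :=
  (.node (.node (.node (.node (.node (.leaf (17, false)) (.leaf (1800, false))) (.leaf (703, true))) (.node (.leaf (330, false)) (.leaf (1167, false)))) (.node (.node (.leaf (165, true)) (.leaf (927, true))) (.node (.leaf (506, false)) (.leaf (1440, false))))) (.node (.node (.node (.node (.leaf (88, true)) (.leaf (2085, true))) (.leaf (807, true))) (.node (.leaf (418, false)) (.leaf (1300, true)))) (.node (.node (.leaf (246, false)) (.leaf (1046, true))) (.node (.leaf (611, true)) (.leaf (1592, false))))))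

def certSPar36 : Janko.Tree (ℕ × Bool) :=
  (.node (.node (.node (.node (.node (.leaf (17, true)) (.leaf (1803, true))) (.leaf (704, false))) (.node (.leaf (330, true)) (.leaf (1167, true)))) (.node (.node (.leaf (166, false)) (.leaf (928, true))) (.node (.leaf (507, false)) (.leaf (1440, true))))) (.node (.node (.node (.node (.leaf (89, false)) (.leaf (2093, false))) (.leaf (808, true))) (.node (.leaf (419, false)) (.leaf (1301, false)))) (.node (.node (.leaf (246, true)) (.leaf (1047, false))) (.node (.leaf (612, true)) (.leaf (1594, true))))))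

def certSPar37 : Janko.Tree (ℕ × Bool) :=
  (.node (.node (.node (.node (.node (.leaf (18, false)) (.leaf (1808, false))) (.leaf (704, true))) (.node (.leaf (331, false)) (.leaf (1169, true)))) (.node (.node (.leaf (166, true)) (.leaf (929, false))) (.node (.leaf (508, false)) (.leaf (1441, true))))) (.node (.node (.node (.node (.leaf (89, true)) (.leaf (2094, false))) (.leaf (809, true))) (.node (.leaf (420, true)) (.leaf (1301, true)))) (.node (.node (.leaf (247, false)) (.leaf (1048, false))) (.node (.leaf (613, true)) (.leaf (1596, true))))))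

def certSPar38 : Janko.Tree (ℕ × Bool) :=
  (.node (.node (.node (.node (.node (.leaf (18, true)) (.leaf (1810, true))) (.leaf (705, true))) (.node (.leaf (332, false)) (.leaf (1170, false)))) (.node (.node (.leaf (167, true)) (.leaf (929, true))) (.node (.leaf (509, false)) (.leaf (1443, false))))) (.node (.node (.node (.node (.leaf (90, false)) (.leaf (2096, false))) (.leaf (810, false))) (.node (.leaf (421, false)) (.leaf (1302, false)))) (.node (.node (.leaf (247, true)) (.leaf (1049, true))) (.node (.leaf (614, false)) (.leaf (1598, true))))))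

def certSPar39 : Janko.Tree (ℕ × Bool) :=
  (.node (.node (.node (.node (.node (.leaf (19, false)) (.leaf (1811, true))) (.leaf (706, true))) (.node (.leaf (332, true)) (.leaf (1171, false)))) (.node (.node (.leaf (168, true)) (.leaf (930, false))) (.node (.leaf (510, false)) (.leaf (1443, true))))) (.node (.node (.node (.node (.leaf (90, true)) (.leaf (2098, true))) (.leaf (811, false))) (.node (.leaf (421, true)) (.leaf (1303, false)))) (.node (.node (.leaf (249, true)) (.leaf (1050, false))) (.node (.leaf (614, true)) (.leaf (1599, false))))))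

def certSPar40 : Janko.Tree (ℕ × Bool) :=
  (.node (.node (.node (.node (.node (.leaf (19, true)) (.leaf (1812, false))) (.leaf (707, true))) (.node (.leaf (333, false)) (.leaf (1172, true)))) (.node (.node (.leaf (169, false)) (.leaf (930, true))) (.node (.leaf (510, true)) (.leaf (1444, false))))) (.node (.node (.node (.node (.leaf (91, false)) (.leaf (2101, false))) (.leaf (813, true))) (.node (.leaf (422, false)) (.leaf (1306, false)))) (.node (.node (.leaf (250, true)) (.leaf (1050, true))) (.node (.leaf (615, false)) (.leaf (1600, true))))))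

def certSPar41 : Janko.Tree (ℕ × Bool) :=
  (.node (.node (.node (.node (.node (.leaf (20, false)) (.leaf (1813, false))) (.leaf (708, false))) (.node (.leaf (333, true)) (.leaf (1173, false)))) (.node (.node (.leaf (169, true)) (.leaf (932, false))) (.node (.leaf (511, false)) (.leaf (1445, false))))) (.node (.node (.node (.node (.leaf (91, true)) (.leaf (2101, true))) (.leaf (814, true))) (.node (.leaf (422, true)) (.leaf (1307, false)))) (.node (.node (.leaf (251, false)) (.leaf (1051, true))) (.node (.leaf (616, false)) (.leaf (1605, false))))))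

def certSPar42 : Janko.Tree (ℕ × Bool) :=
  (.node (.node (.node (.node (.node (.leaf (21, false)) (.leaf (1816, false))) (.leaf (709, false))) (.node (.leaf (334, false)) (.leaf (1174, false)))) (.node (.node (.leaf (170, true)) (.leaf (933, false))) (.node (.leaf (512, false)) (.leaf (1446, false))))) (.node (.node (.node (.node (.leaf (92, false)) (.leaf (2103, false))) (.leaf (815, false))) (.node (.leaf (423, true)) (.leaf (1308, true)))) (.node (.node (.leaf (251, true)) (.leaf (1053, false))) (.node (.leaf (616, true)) (.leaf (1607, false))))))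

def certSPar43 : Janko.Tree (ℕ × Bool) :=
  (.node (.node (.node (.node (.node (.leaf (21, true)) (.leaf (1818, true))) (.leaf (709, true))) (.node (.leaf (334, true)) (.leaf (1174, true)))) (.node (.node (.leaf (171, true)) (.leaf (934, false))) (.node (.leaf (512, true)) (.leaf (1447, false))))) (.node (.node (.node (.node (.leaf (92, true)) (.leaf (2103, true))) (.leaf (815, true))) (.node (.leaf (424, false)) (.leaf (1309, false)))) (.node (.node (.leaf (252, false)) (.leaf (1055, false))) (.node (.leaf (617, false)) (.leaf (1610, false))))))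

def certSPar44 : Janko.Tree (ℕ × Bool) :=
  (.node (.node (.node (.node (.node (.leaf (22, false)) (.leaf (1821, false))) (.leaf (710, false))) (.node (.leaf (335, false)) (.leaf (1175, false)))) (.node (.node (.leaf (172, false)) (.leaf (934, true))) (.node (.leaf (513, false)) (.leaf (1448, true))))) (.node (.node (.node (.node (.leaf (93, true)) (.leaf (2114, false))) (.leaf (816, true))) (.node (.leaf (424, true)) (.leaf (1309, true)))) (.node (.node (.leaf (252, true)) (.leaf (1056, false))) (.node (.leaf (617, true)) (.leaf (1611, false))))))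

def certSPar45 : Janko.Tree (ℕ × Bool) :=
  (.node (.node (.node (.node (.node (.leaf (22, true)) (.leaf (1822, true))) (.leaf (711, false))) (.node (.leaf (335, true)) (.leaf (1175, true)))) (.node (.node (.leaf (172, true)) (.leaf (935, false))) (.node (.leaf (514, false)) (.leaf (1449, true))))) (.node (.node (.node (.node (.leaf (94, true)) (.leaf (2117, true))) (.leaf (818, false))) (.node (.leaf (425, false)) (.leaf (1310, false)))) (.node (.node (.leaf (253, false)) (.leaf (1056, true))) (.node (.leaf (619, false)) (.leaf (1612, true))))))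

def certSPar46 : Janko.Tree (ℕ × Bool) :=
  (.node (.node (.node (.node (.node (.leaf (23, false)) (.leaf (1824, false))) (.leaf (712, true))) (.node (.leaf (336, false)) (.leaf (1176, false)))) (.node (.node (.leaf (173, false)) (.leaf (935, true))) (.node (.leaf (515, true)) (.leaf (1450, true))))) (.node (.node (.node (.node (.leaf (95, false)) (.leaf (2118, true))) (.leaf (818, true))) (.node (.leaf (427, true)) (.leaf (1312, true)))) (.node (.node (.leaf (253, true)) (.leaf (1057, true))) (.node (.leaf (620, true)) (.leaf (1614, false))))))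

def certSPar47 : Janko.Tree (ℕ × Bool) :=
  (.node (.node (.node (.node (.node (.leaf (23, true)) (.leaf (1824, true))) (.leaf (713, true))) (.node (.leaf (336, true)) (.leaf (1177, false)))) (.node (.node (.leaf (173, true)) (.leaf (936, false))) (.node (.leaf (516, true)) (.leaf (1451, false))))) (.node (.node (.node (.node (.leaf (95, true)) (.leaf (2121, false))) (.leaf (819, false))) (.node (.leaf (428, false)) (.leaf (1313, false)))) (.node (.node (.leaf (254, true)) (.leaf (1058, false))) (.node (.leaf (621, false)) (.leaf (1616, false))))))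

def certSPar48 : Janko.Tree (ℕ × Bool) :=
  (.node (.node (.node (.node (.node (.leaf (24, false)) (.leaf (1826, false))) (.leaf (714, true))) (.node (.leaf (337, true)) (.leaf (1177, true)))) (.node (.node (.leaf (174, false)) (.leaf (937, false))) (.node (.leaf (518, true)) (.leaf (1452, false))))) (.node (.node (.node (.node (.leaf (97, true)) (.leaf (2122, false))) (.leaf (819, true))) (.node (.leaf (428, true)) (.leaf (1314, true)))) (.node (.node (.leaf (255, true)) (.leaf (1060, false))) (.node (.leaf (621, true)) (.leaf (1616, true))))))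

def certSPar49 : Janko.Tree (ℕ × Bool) :=
  (.node (.node (.node (.node (.node (.leaf (24, true)) (.leaf (1830, false))) (.leaf (715, false))) (.node (.leaf (338, false)) (.leaf (1178, false)))) (.node (.node (.leaf (175, true)) (.leaf (938, false))) (.node (.leaf (519, true)) (.leaf (1452, true))))) (.node (.node (.node (.node (.leaf (98, false)) (.leaf (2136, false))) (.leaf (822, true))) (.node (.leaf (429, false)) (.leaf (1315, false)))) (.node (.node (.leaf (256, false)) (.leaf (1060, true))) (.node (.leaf (622, false)) (.leaf (1618, true))))))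

def certSPar50 : Janko.Tree (ℕ × Bool) :=
  (.node (.node (.node (.node (.node (.leaf (25, false)) (.leaf (1833, false))) (.leaf (715, true))) (.node (.leaf (338, true)) (.leaf (1178, true)))) (.node (.node (.leaf (176, false)) (.leaf (939, true))) (.node (.leaf (520, false)) (.leaf (1453, true))))) (.node (.node (.node (.node (.leaf (98, true)) (.leaf (2137, false))) (.leaf (823, false))) (.node (.leaf (429, true)) (.leaf (1316, false)))) (.node (.node (.leaf (256, true)) (.leaf (1061, false))) (.node (.leaf (623, true)) (.leaf (1619, false))))))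

def certSPar51 : Janko.Tree (ℕ × Bool) :=
  (.node (.node (.node (.node (.node (.leaf (26, false)) (.leaf (1834, false))) (.leaf (716, true))) (.node (.leaf (339, true)) (.leaf (1179, true)))) (.node (.node (.leaf (176, true)) (.leaf (941, true))) (.node (.leaf (520, true)) (.leaf (1454, true))))) (.node (.node (.node (.node (.leaf (99, false)) (.leaf (2139, false))) (.leaf (825, false))) (.node (.leaf (431, false)) (.leaf (1316, true)))) (.node (.node (.leaf (257, false)) (.leaf (1061, true))) (.node (.leaf (624, true)) (.leaf (1621, false))))))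

def certSPar52 : Janko.Tree (ℕ × Bool) :=
  (.node (.node (.node (.node (.node (.leaf (26, true)) (.leaf (1835, false))) (.leaf (717, true))) (.node (.leaf (340, true)) (.leaf (1181, false)))) (.node (.node (.leaf (177, false)) (.leaf (942, false))) (.node (.leaf (521, false)) (.leaf (1455, false))))) (.node (.node (.node (.node (.leaf (99, true)) (.leaf (2140, true))) (.leaf (825, true))) (.node (.leaf (431, true)) (.leaf (1317, false)))) (.node (.node (.leaf (257, true)) (.leaf (1062, true))) (.node (.leaf (625, false)) (.leaf (1627, false))))))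

def certSPar53 : Janko.Tree (ℕ × Bool) :=
  (.node (.node (.node (.node (.node (.leaf (27, false)) (.leaf (1840, false))) (.leaf (718, true))) (.node (.leaf (341, false)) (.leaf (1182, true)))) (.node (.node (.leaf (177, true)) (.leaf (942, true))) (.node (.leaf (521, true)) (.leaf (1456, false))))) (.node (.node (.node (.node (.leaf (100, false)) (.leaf (2148, true))) (.leaf (826, true))) (.node (.leaf (432, false)) (.leaf (1317, true)))) (.node (.node (.leaf (258, false)) (.leaf (1063, true))) (.node (.leaf (625, true)) (.leaf (1629, true))))))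

def certSPar54 : Janko.Tree (ℕ × Bool) :=
  (.node (.node (.node (.node (.node (.leaf (27, true)) (.leaf (1840, true))) (.leaf (719, false))) (.node (.leaf (341, true)) (.leaf (1183, false)))) (.node (.node (.leaf (178, false)) (.leaf (943, false))) (.node (.leaf (522, true)) (.leaf (1456, true))))) (.node (.node (.node (.node (.leaf (100, true)) (.leaf (2150, false))) (.leaf (827, false))) (.node (.leaf (432, true)) (.leaf (1319, false)))) (.node (.node (.leaf (259, false)) (.leaf (1064, true))) (.node (.leaf (626, false)) (.leaf (1631, false))))))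

def certSPar55 : Janko.Tree (ℕ × Bool) :=
  (.node (.node (.node (.node (.node (.leaf (28, false)) (.leaf (1842, true))) (.leaf (719, true))) (.node (.leaf (342, false)) (.leaf (1184, true)))) (.node (.node (.leaf (179, false)) (.leaf (944, false))) (.node (.leaf (523, false)) (.leaf (1457, false))))) (.node (.node (.node (.node (.leaf (101, false)) (.leaf (2152, false))) (.leaf (827, true))) (.node (.leaf (433, false)) (.leaf (1320, true)))) (.node (.node (.leaf (259, true)) (.leaf (1065, false))) (.node (.leaf (626, true)) (.leaf (1631, true))))))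

def certSPar56 : Janko.Tree (ℕ × Bool) :=
  (.node (.node (.node (.node (.node (.leaf (28, true)) (.leaf (1843, true))) (.leaf (720, true))) (.node (.leaf (342, true)) (.leaf (1185, true)))) (.node (.node (.leaf (180, false)) (.leaf (944, true))) (.node (.leaf (524, false)) (.leaf (1458, false))))) (.node (.node (.node (.node (.leaf (101, true)) (.leaf (2152, true))) (.leaf (828, true))) (.node (.leaf (433, true)) (.leaf (1321, false)))) (.node (.node (.leaf (260, false)) (.leaf (1069, false))) (.node (.leaf (627, true)) (.leaf (1633, false))))))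

def certSPar57 : Janko.Tree (ℕ × Bool) :=
  (.node (.node (.node (.node (.node (.leaf (29, false)) (.leaf (1846, true))) (.leaf (721, false))) (.node (.leaf (343, false)) (.leaf (1186, true)))) (.node (.node (.leaf (180, true)) (.leaf (945, false))) (.node (.leaf (524, true)) (.leaf (1459, true))))) (.node (.node (.node (.node (.leaf (102, false)) (.leaf (2153, true))) (.leaf (829, false))) (.node (.leaf (434, false)) (.leaf (1323, false)))) (.node (.node (.leaf (260, true)) (.leaf (1070, true))) (.node (.leaf (628, false)) (.leaf (1634, true))))))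

def certSPar58 : Janko.Tree (ℕ × Bool) :=
  (.node (.node (.node (.node (.node (.leaf (29, true)) (.leaf (1847, false))) (.leaf (721, true))) (.node (.leaf (343, true)) (.leaf (1187, false)))) (.node (.node (.leaf (181, false)) (.leaf (946, false))) (.node (.leaf (525, false)) (.leaf (1461, false))))) (.node (.node (.node (.node (.leaf (102, true)) (.leaf (2158, false))) (.leaf (830, false))) (.node (.leaf (434, true)) (.leaf (1323, true)))) (.node (.node (.leaf (262, false)) (.leaf (1072, true))) (.node (.leaf (629, false)) (.leaf (1637, false))))))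

def certSPar59 : Janko.Tree (ℕ × Bool) :=
  (.node (.node (.node (.node (.node (.leaf (30, false)) (.leaf (1847, true))) (.leaf (722, false))) (.node (.leaf (344, false)) (.leaf (1189, false)))) (.node (.node (.leaf (181, true)) (.leaf (948, false))) (.node (.leaf (525, true)) (.leaf (1462, false))))) (.node (.node (.node (.node (.leaf (103, false)) (.leaf (2162, true))) (.leaf (831, false))) (.node (.leaf (435, false)) (.leaf (1324, false)))) (.node (.node (.leaf (262, true)) (.leaf (1074, false))) (.node (.leaf (629, true)) (.leaf (1637, true))))))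

def certSPar60 : Janko.Tree (ℕ × Bool) :=
  (.node (.node (.node (.node (.node (.leaf (30, true)) (.leaf (1848, false))) (.leaf (722, true))) (.node (.leaf (344, true)) (.leaf (1189, true)))) (.node (.node (.leaf (182, false)) (.leaf (948, true))) (.node (.leaf (526, false)) (.leaf (1462, true))))) (.node (.node (.node (.node (.leaf (103, true)) (.leaf (2163, true))) (.leaf (831, true))) (.node (.leaf (436, false)) (.leaf (1324, true)))) (.node (.node (.leaf (263, false)) (.leaf (1075, false))) (.node (.leaf (630, false)) (.leaf (1638, false))))))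

def certSPar61 : Janko.Tree (ℕ × Bool) :=
  (.node (.node (.node (.node (.node (.leaf (31, false)) (.leaf (1848, true))) (.leaf (723, false))) (.node (.leaf (345, false)) (.leaf (1192, true)))) (.node (.node (.leaf (182, true)) (.leaf (949, false))) (.node (.leaf (527, false)) (.leaf (1463, false))))) (.node (.node (.node (.node (.leaf (104, false)) (.leaf (2165, false))) (.leaf (832, false))) (.node (.leaf (437, false)) (.leaf (1325, false)))) (.node (.node (.leaf (263, true)) (.leaf (1075, true))) (.node (.leaf (630, true)) (.leaf (1639, false))))))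

def certSPar62 : Janko.Tree (ℕ × Bool) :=
  (.node (.node (.node (.node (.node (.leaf (31, true)) (.leaf (1849, true))) (.leaf (723, true))) (.node (.leaf (345, true)) (.leaf (1193, false)))) (.node (.node (.leaf (183, false)) (.leaf (950, false))) (.node (.leaf (528, true)) (.leaf (1463, true))))) (.node (.node (.node (.node (.leaf (105, false)) (.leaf (2172, false))) (.leaf (833, false))) (.node (.leaf (438, false)) (.leaf (1325, true)))) (.node (.node (.leaf (264, false)) (.leaf (1076, true))) (.node (.leaf (631, false)) (.leaf (1640, false))))))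

def certSPar63 : Janko.Tree (ℕ × Bool) :=
  (.node (.node (.node (.node (.node (.leaf (32, false)) (.leaf (1850, false))) (.leaf (724, false))) (.node (.leaf (346, false)) (.leaf (1193, true)))) (.node (.node (.leaf (183, true)) (.leaf (951, true))) (.node (.leaf (529, false)) (.leaf (1464, false))))) (.node (.node (.node (.node (.leaf (105, true)) (.leaf (2181, true))) (.leaf (833, true))) (.node (.leaf (438, true)) (.leaf (1326, false)))) (.node (.node (.leaf (266, false)) (.leaf (1077, true))) (.node (.leaf (632, false)) (.leaf (1640, true))))))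

def certSPar64 : Janko.Tree (ℕ × Bool) :=
  (.node (.node (.node (.node (.node (.leaf (32, true)) (.leaf (1852, false))) (.leaf (726, true))) (.node (.leaf (346, true)) (.leaf (1194, true)))) (.node (.node (.leaf (184, false)) (.leaf (953, true))) (.node (.leaf (529, true)) (.leaf (1466, false))))) (.node (.node (.node (.leaf (106, false)) (.leaf (834, false))) (.node (.leaf (439, false)) (.leaf (1327, true)))) (.node (.node (.leaf (266, true)) (.leaf (1078, false))) (.node (.leaf (632, true)) (.leaf (1641, false))))))

def certSPar65 : Janko.Tree (ℕ × Bool) :=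
  (.node (.node (.node (.node (.node (.leaf (33, false)) (.leaf (1854, true))) (.leaf (727, false))) (.node (.leaf (347, false)) (.leaf (1195, false)))) (.node (.node (.leaf (185, false)) (.leaf (954, false))) (.node (.leaf (531, true)) (.leaf (1466, true))))) (.node (.node (.node (.leaf (106, true)) (.leaf (835, false))) (.node (.leaf (440, false)) (.leaf (1328, false)))) (.node (.node (.leaf (267, true)) (.leaf (1078, true))) (.node (.leaf (633, false)) (.leaf (1643, true))))))

def certSPar66 : Janko.Tree (ℕ × Bool) :=
  (.node (.node (.node (.node (.node (.leaf (33, true)) (.leaf (1861, false))) (.leaf (727, true))) (.node (.leaf (347, true)) (.leaf (1195, true)))) (.node (.node (.leaf (185, true)) (.leaf (956, false))) (.node (.leaf (532, false)) (.leaf (1470, false))))) (.node (.node (.node (.leaf (107, false)) (.leaf (835, true))) (.node (.leaf (440, true)) (.leaf (1331, false)))) (.node (.node (.leaf (268, false)) (.leaf (1079, false))) (.node (.leaf (633, true)) (.leaf (1645, false))))))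

def certSPar67 : Janko.Tree (ℕ × Bool) :=
  (.node (.node (.node (.node (.node (.leaf (34, false)) (.leaf (1865, false))) (.leaf (728, false))) (.node (.leaf (348, false)) (.leaf (1196, false)))) (.node (.node (.leaf (186, true)) (.leaf (956, true))) (.node (.leaf (533, true)) (.leaf (1471, false))))) (.node (.node (.node (.leaf (108, false)) (.leaf (839, false))) (.node (.leaf (441, true)) (.leaf (1332, false)))) (.node (.node (.leaf (268, true)) (.leaf (1079, true))) (.node (.leaf (634, false)) (.leaf (1645, true))))))

def certSPar68 : Janko.Tree (ℕ × Bool) :=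
  (.node (.node (.node (.node (.node (.leaf (34, true)) (.leaf (1869, false))) (.leaf (728, true))) (.node (.leaf (349, true)) (.leaf (1196, true)))) (.node (.node (.leaf (187, false)) (.leaf (957, true))) (.node (.leaf (534, false)) (.leaf (1471, true))))) (.node (.node (.node (.leaf (109, false)) (.leaf (839, true))) (.node (.leaf (443, false)) (.leaf (1333, true)))) (.node (.node (.leaf (269, true)) (.leaf (1080, false))) (.node (.leaf (635, false)) (.leaf (1648, false))))))

def certSPar69 : Janko.Tree (ℕ × Bool) :=
  (.node (.node (.node (.node (.node (.leaf (35, false)) (.leaf (1869, true))) (.leaf (729, false))) (.node (.leaf (350, false)) (.leaf (1197, true)))) (.node (.node (.leaf (187, true)) (.leaf (958, false))) (.node (.leaf (535, true)) (.leaf (1473, true))))) (.node (.node (.node (.leaf (109, true)) (.leaf (840, false))) (.node (.leaf (443, true)) (.leaf (1334, false)))) (.node (.node (.leaf (270, true)) (.leaf (1080, true))) (.node (.leaf (636, true)) (.leaf (1649, true))))))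

def certSPar70 : Janko.Tree (ℕ × Bool) :=
  (.node (.node (.node (.node (.node (.leaf (35, true)) (.leaf (1870, true))) (.leaf (729, true))) (.node (.leaf (351, false)) (.leaf (1199, true)))) (.node (.node (.leaf (188, true)) (.leaf (958, true))) (.node (.leaf (536, false)) (.leaf (1474, true))))) (.node (.node (.node (.leaf (110, false)) (.leaf (842, false))) (.node (.leaf (444, true)) (.leaf (1337, false)))) (.node (.node (.leaf (271, false)) (.leaf (1081, false))) (.node (.leaf (637, false)) (.leaf (1655, true))))))

def certSPar71 : Janko.Tree (ℕ × Bool) :=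
  (.node (.node (.node (.node (.node (.leaf (36, false)) (.leaf (1872, false))) (.leaf (730, true))) (.node (.leaf (351, true)) (.leaf (1200, true)))) (.node (.node (.leaf (189, false)) (.leaf (959, false))) (.node (.leaf (536, true)) (.leaf (1475, true))))) (.node (.node (.node (.leaf (110, true)) (.leaf (842, true))) (.node (.leaf (445, false)) (.leaf (1337, true)))) (.node (.node (.leaf (271, true)) (.leaf (1082, true))) (.node (.leaf (637, true)) (.leaf (1657, true))))))

def certSPar72 : Janko.Tree (ℕ × Bool) :=
  (.node (.node (.node (.node (.node (.leaf (36, true)) (.leaf (1874, false))) (.leaf (731, true))) (.node (.leaf (352, false)) (.leaf (1202, false)))) (.node (.node (.leaf (189, true)) (.leaf (959, true))) (.node (.leaf (537, false)) (.leaf (1476, false))))) (.node (.node (.node (.leaf (111, false)) (.leaf (844, false))) (.node (.leaf (445, true)) (.leaf (1339, true)))) (.node (.node (.leaf (272, false)) (.leaf (1083, false))) (.node (.leaf (638, false)) (.leaf (1658, false))))))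

def certSPar73 : Janko.Tree (ℕ × Bool) :=
  (.node (.node (.node (.node (.node (.leaf (37, true)) (.leaf (1876, false))) (.leaf (732, true))) (.node (.leaf (354, false)) (.leaf (1202, true)))) (.node (.node (.leaf (190, false)) (.leaf (960, true))) (.node (.leaf (538, false)) (.leaf (1477, false))))) (.node (.node (.node (.leaf (111, true)) (.leaf (845, true))) (.node (.leaf (446, false)) (.leaf (1340, false)))) (.node (.node (.leaf (272, true)) (.leaf (1083, true))) (.node (.leaf (638, true)) (.leaf (1659, true))))))

def certSPar74 : Janko.Tree (ℕ × Bool) :=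
  (.node (.node (.node (.node (.node (.leaf (38, false)) (.leaf (1877, false))) (.leaf (733, true))) (.node (.leaf (354, true)) (.leaf (1203, false)))) (.node (.node (.leaf (190, true)) (.leaf (961, false))) (.node (.leaf (538, true)) (.leaf (1477, true))))) (.node (.node (.node (.leaf (112, false)) (.leaf (846, false))) (.node (.leaf (446, true)) (.leaf (1340, true)))) (.node (.node (.leaf (273, false)) (.leaf (1084, true))) (.node (.leaf (640, false)) (.leaf (1660, false))))))

def certSPar75 : Janko.Tree (ℕ × Bool) :=
  (.node (.node (.node (.node (.node (.leaf (38, true)) (.leaf (1879, false))) (.leaf (734, false))) (.node (.leaf (355, false)) (.leaf (1204, false)))) (.node (.node (.leaf (191, false)) (.leaf (961, true))) (.node (.leaf (539, true)) (.leaf (1478, false))))) (.node (.node (.node (.leaf (112, true)) (.leaf (847, true))) (.node (.leaf (447, true)) (.leaf (1341, true)))) (.node (.node (.leaf (273, true)) (.leaf (1085, true))) (.node (.leaf (640, true)) (.leaf (1661, true))))))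

def certSPar76 : Janko.Tree (ℕ × Bool) :=
  (.node (.node (.node (.node (.node (.leaf (39, false)) (.leaf (1880, false))) (.leaf (735, false))) (.node (.leaf (355, true)) (.leaf (1205, true)))) (.node (.node (.leaf (192, false)) (.leaf (962, false))) (.node (.leaf (540, false)) (.leaf (1479, false))))) (.node (.node (.node (.leaf (113, false)) (.leaf (848, false))) (.node (.leaf (448, true)) (.leaf (1342, false)))) (.node (.node (.leaf (274, false)) (.leaf (1087, false))) (.node (.leaf (642, false)) (.leaf (1663, true))))))

def certSPar77 : Janko.Tree (ℕ × Bool) :=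
  (.node (.node (.node (.node (.node (.leaf (39, true)) (.leaf (1880, true))) (.leaf (736, true))) (.node (.leaf (356, false)) (.leaf (1206, false)))) (.node (.node (.leaf (192, true)) (.leaf (963, false))) (.node (.leaf (540, true)) (.leaf (1483, true))))) (.node (.node (.node (.leaf (114, false)) (.leaf (849, false))) (.node (.leaf (449, true)) (.leaf (1344, true)))) (.node (.node (.leaf (274, true)) (.leaf (1087, true))) (.node (.leaf (642, true)) (.leaf (1664, false))))))

def certSPar78 : Janko.Tree (ℕ × Bool) :=
  (.node (.node (.node (.node (.node (.leaf (40, true)) (.leaf (1883, false))) (.leaf (737, false))) (.node (.leaf (357, true)) (.leaf (1212, false)))) (.node (.node (.leaf (193, false)) (.leaf (963, true))) (.node (.leaf (541, false)) (.leaf (1484, false))))) (.node (.node (.node (.leaf (114, true)) (.leaf (849, true))) (.node (.leaf (450, false)) (.leaf (1346, false)))) (.node (.node (.leaf (275, false)) (.leaf (1088, false))) (.node (.leaf (644, false)) (.leaf (1664, true))))))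

def certSPar79 : Janko.Tree (ℕ × Bool) :=
  (.node (.node (.node (.node (.node (.leaf (41, false)) (.leaf (1885, false))) (.leaf (737, true))) (.node (.leaf (358, false)) (.leaf (1212, true)))) (.node (.node (.leaf (193, true)) (.leaf (964, true))) (.node (.leaf (541, true)) (.leaf (1486, false))))) (.node (.node (.node (.leaf (115, false)) (.leaf (850, true))) (.node (.leaf (450, true)) (.leaf (1347, true)))) (.node (.node (.leaf (275, true)) (.leaf (1088, true))) (.node (.leaf (644, true)) (.leaf (1665, true))))))

def certSPar80 : Janko.Tree (ℕ × Bool) :=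
  (.node (.node (.node (.node (.node (.leaf (42, false)) (.leaf (1889, true))) (.leaf (738, false))) (.node (.leaf (359, false)) (.leaf (1215, false)))) (.node (.node (.leaf (194, false)) (.leaf (965, false))) (.node (.leaf (543, false)) (.leaf (1488, false))))) (.node (.node (.node (.leaf (115, true)) (.leaf (851, true))) (.node (.leaf (451, true)) (.leaf (1349, false)))) (.node (.node (.leaf (276, false)) (.leaf (1089, false))) (.node (.leaf (645, false)) (.leaf (1667, false))))))

def certSPar81 : Janko.Tree (ℕ × Bool) :=
  (.node (.node (.node (.node (.node (.leaf (42, true)) (.leaf (1890, false))) (.leaf (739, false))) (.node (.leaf (359, true)) (.leaf (1216, false)))) (.node (.node (.leaf (194, true)) (.leaf (965, true))) (.node (.leaf (543, true)) (.leaf (1489, false))))) (.node (.node (.node (.leaf (116, false)) (.leaf (852, true))) (.node (.leaf (452, true)) (.leaf (1349, true)))) (.node (.node (.leaf (277, false)) (.leaf (1090, true))) (.node (.leaf (646, false)) (.leaf (1668, false))))))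

def certSPar82 : Janko.Tree (ℕ × Bool) :=
  (.node (.node (.node (.node (.node (.leaf (43, false)) (.leaf (1890, true))) (.leaf (739, true))) (.node (.leaf (360, false)) (.leaf (1216, true)))) (.node (.node (.leaf (195, false)) (.leaf (968, false))) (.node (.leaf (544, false)) (.leaf (1489, true))))) (.node (.node (.node (.leaf (117, false)) (.leaf (853, false))) (.node (.leaf (453, false)) (.leaf (1350, false)))) (.node (.node (.leaf (277, true)) (.leaf (1091, false))) (.node (.leaf (647, false)) (.leaf (1669, false))))))

def certSPar83 : Janko.Tree (ℕ × Bool) :=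
  (.node (.node (.node (.node (.node (.leaf (43, true)) (.leaf (1895, true))) (.leaf (740, true))) (.node (.leaf (361, false)) (.leaf (1217, true)))) (.node (.node (.leaf (195, true)) (.leaf (969, true))) (.node (.leaf (544, true)) (.leaf (1490, false))))) (.node (.node (.node (.leaf (118, false)) (.leaf (853, true))) (.node (.leaf (454, false)) (.leaf (1355, false)))) (.node (.node (.leaf (278, false)) (.leaf (1092, true))) (.node (.leaf (647, true)) (.leaf (1669, true))))))

def certSPar84 : Janko.Tree (ℕ × Bool) :=
  (.node (.node (.node (.node (.node (.leaf (44, false)) (.leaf (1900, false))) (.leaf (741, false))) (.node (.leaf (362, false)) (.leaf (1219, true)))) (.node (.node (.leaf (196, false)) (.leaf (971, true))) (.node (.leaf (545, true)) (.leaf (1490, true))))) (.node (.node (.node (.leaf (118, true)) (.leaf (854, true))) (.node (.leaf (455, false)) (.leaf (1355, true)))) (.node (.node (.leaf (278, true)) (.leaf (1093, true))) (.node (.leaf (649, false)) (.leaf (1670, false))))))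

def certSPar85 : Janko.Tree (ℕ × Bool) :=
  (.node (.node (.node (.node (.node (.leaf (44, true)) (.leaf (1903, true))) (.leaf (743, false))) (.node (.leaf (362, true)) (.leaf (1220, true)))) (.node (.node (.leaf (197, true)) (.leaf (972, false))) (.node (.leaf (548, true)) (.leaf (1493, true))))) (.node (.node (.node (.leaf (119, true)) (.leaf (855, false))) (.node (.leaf (455, true)) (.leaf (1356, true)))) (.node (.node (.leaf (279, false)) (.leaf (1094, true))) (.node (.leaf (649, true)) (.leaf (1674, true))))))

def certSPar86 : Janko.Tree (ℕ × Bool) :=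
  (.node (.node (.node (.node (.node (.leaf (45, false)) (.leaf (1904, true))) (.leaf (744, false))) (.node (.leaf (363, false)) (.leaf (1221, false)))) (.node (.node (.leaf (198, false)) (.leaf (972, true))) (.node (.leaf (549, false)) (.leaf (1495, false))))) (.node (.node (.node (.leaf (120, false)) (.leaf (855, true))) (.node (.leaf (456, false)) (.leaf (1357, false)))) (.node (.node (.leaf (280, false)) (.leaf (1095, false))) (.node (.leaf (650, false)) (.leaf (1676, false))))))

def certSPar87 : Janko.Tree (ℕ × Bool) :=
  (.node (.node (.node (.node (.node (.leaf (45, true)) (.leaf (1907, false))) (.leaf (745, false))) (.node (.leaf (364, false)) (.leaf (1222, false)))) (.node (.node (.leaf (198, true)) (.leaf (974, false))) (.node (.leaf (550, true)) (.leaf (1496, false))))) (.node (.node (.node (.leaf (120, true)) (.leaf (856, false))) (.node (.leaf (456, true)) (.leaf (1357, true)))) (.node (.node (.leaf (282, false)) (.leaf (1095, true))) (.node (.leaf (651, false)) (.leaf (1677, true))))))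

def certSPar88 : Janko.Tree (ℕ × Bool) :=
  (.node (.node (.node (.node (.node (.leaf (46, false)) (.leaf (1909, false))) (.leaf (745, true))) (.node (.leaf (364, true)) (.leaf (1223, false)))) (.node (.node (.leaf (199, false)) (.leaf (976, true))) (.node (.leaf (551, false)) (.leaf (1497, true))))) (.node (.node (.node (.leaf (121, false)) (.leaf (856, true))) (.node (.leaf (457, false)) (.leaf (1359, true)))) (.node (.node (.leaf (282, true)) (.leaf (1096, true))) (.node (.leaf (651, true)) (.leaf (1678, false))))))

def certSPar89 : Janko.Tree (ℕ × Bool) :=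
  (.node (.node (.node (.node (.node (.leaf (46, true)) (.leaf (1910, false))) (.leaf (746, false))) (.node (.leaf (365, false)) (.leaf (1225, false)))) (.node (.node (.leaf (200, false)) (.leaf (978, false))) (.node (.leaf (551, true)) (.leaf (1498, false))))) (.node (.node (.node (.leaf (121, true)) (.leaf (857, false))) (.node (.leaf (458, false)) (.leaf (1360, true)))) (.node (.node (.leaf (283, false)) (.leaf (1097, false))) (.node (.leaf (652, true)) (.leaf (1679, true))))))

def certSPar90 : Janko.Tree (ℕ × Bool) :=
  (.node (.node (.node (.node (.node (.leaf (47, false)) (.leaf (1911, true))) (.leaf (746, true))) (.node (.leaf (365, true)) (.leaf (1226, true)))) (.node (.node (.leaf (201, true)) (.leaf (979, false))) (.node (.leaf (552, false)) (.leaf (1500, true))))) (.node (.node (.node (.leaf (122, true)) (.leaf (857, true))) (.node (.leaf (458, true)) (.leaf (1362, true)))) (.node (.node (.leaf (283, true)) (.leaf (1098, true))) (.node (.leaf (653, false)) (.leaf (1680, false))))))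

def certSPar91 : Janko.Tree (ℕ × Bool) :=
  (.node (.node (.node (.node (.node (.leaf (47, true)) (.leaf (1914, true))) (.leaf (747, true))) (.node (.leaf (366, false)) (.leaf (1228, false)))) (.node (.node (.leaf (202, false)) (.leaf (980, false))) (.node (.leaf (552, true)) (.leaf (1502, false))))) (.node (.node (.node (.leaf (123, false)) (.leaf (858, false))) (.node (.leaf (459, false)) (.leaf (1364, false)))) (.node (.node (.leaf (284, false)) (.leaf (1099, false))) (.node (.leaf (653, true)) (.leaf (1681, false))))))

def certSPar92 : Janko.Tree (ℕ × Bool) :=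
  (.node (.node (.node (.node (.node (.leaf (48, false)) (.leaf (1915, false))) (.leaf (748, false))) (.node (.leaf (366, true)) (.leaf (1229, true)))) (.node (.node (.leaf (202, true)) (.leaf (981, false))) (.node (.leaf (553, false)) (.leaf (1504, true))))) (.node (.node (.node (.leaf (124, false)) (.leaf (859, true))) (.node (.leaf (459, true)) (.leaf (1365, true)))) (.node (.node (.leaf (284, true)) (.leaf (1100, false))) (.node (.leaf (654, false)) (.leaf (1685, false))))))

def certSPar93 : Janko.Tree (ℕ × Bool) :=
  (.node (.node (.node (.node (.node (.leaf (48, true)) (.leaf (1915, true))) (.leaf (748, true))) (.node (.leaf (367, false)) (.leaf (1230, false)))) (.node (.node (.leaf (203, true)) (.leaf (982, false))) (.node (.leaf (553, true)) (.leaf (1506, false))))) (.node (.node (.node (.leaf (124, true)) (.leaf (860, true))) (.node (.leaf (460, true)) (.leaf (1366, true)))) (.node (.node (.leaf (285, false)) (.leaf (1100, true))) (.node (.leaf (654, true)) (.leaf (1687, false))))))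

def certSPar94 : Janko.Tree (ℕ × Bool) :=
  (.node (.node (.node (.node (.node (.leaf (49, false)) (.leaf (1916, true))) (.leaf (749, true))) (.node (.leaf (367, true)) (.leaf (1232, false)))) (.node (.node (.leaf (204, false)) (.leaf (983, true))) (.node (.leaf (554, true)) (.leaf (1507, true))))) (.node (.node (.node (.leaf (125, false)) (.leaf (861, false))) (.node (.leaf (461, true)) (.leaf (1367, false)))) (.node (.node (.leaf (285, true)) (.leaf (1101, false))) (.node (.leaf (655, false)) (.leaf (1688, false))))))

def certSPar95 : Janko.Tree (ℕ × Bool) :=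
  (.node (.node (.node (.node (.node (.leaf (49, true)) (.leaf (1920, false))) (.leaf (750, true))) (.node (.leaf (368, true)) (.leaf (1233, false)))) (.node (.node (.leaf (204, true)) (.leaf (985, true))) (.node (.leaf (555, true)) (.leaf (1509, false))))) (.node (.node (.node (.leaf (125, true)) (.leaf (861, true))) (.node (.leaf (462, true)) (.leaf (1370, false)))) (.node (.node (.leaf (286, false)) (.leaf (1101, true))) (.node (.leaf (655, true)) (.leaf (1690, false))))))

def certSPar96 : Janko.Tree (ℕ × Bool) :=
  (.node (.node (.node (.node (.node (.leaf (50, false)) (.leaf (1923, true))) (.leaf (751, false))) (.node (.leaf (369, false)) (.leaf (1233, true)))) (.node (.node (.leaf (205, false)) (.leaf (986, true))) (.node (.leaf (556, true)) (.leaf (1510, true))))) (.node (.node (.node (.leaf (126, false)) (.leaf (862, true))) (.node (.leaf (463, true)) (.leaf (1371, false)))) (.node (.node (.leaf (286, true)) (.leaf (1102, false))) (.node (.leaf (657, false)) (.leaf (1693, false))))))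

def certSPar97 : Janko.Tree (ℕ × Bool) :=
  (.node (.node (.node (.node (.node (.leaf (50, true)) (.leaf (1924, true))) (.leaf (751, true))) (.node (.leaf (369, true)) (.leaf (1234, false)))) (.node (.node (.leaf (206, false)) (.leaf (987, false))) (.node (.leaf (557, false)) (.leaf (1511, false))))) (.node (.node (.node (.leaf (126, true)) (.leaf (863, false))) (.node (.leaf (464, false)) (.leaf (1371, true)))) (.node (.node (.leaf (287, false)) (.leaf (1106, true))) (.node (.leaf (657, true)) (.leaf (1696, true))))))

def certSPar98 : Janko.Tree (ℕ × Bool) :=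
  (.node (.node (.node (.node (.node (.leaf (51, false)) (.leaf (1925, true))) (.leaf (752, true))) (.node (.leaf (370, true)) (.leaf (1236, true)))) (.node (.node (.leaf (206, true)) (.leaf (988, false))) (.node (.leaf (558, true)) (.leaf (1512, true))))) (.node (.node (.node (.leaf (127, false)) (.leaf (863, true))) (.node (.leaf (464, true)) (.leaf (1373, true)))) (.node (.node (.leaf (287, true)) (.leaf (1109, false))) (.node (.leaf (658, false)) (.leaf (1698, false))))))

def certSPar99 : Janko.Tree (ℕ × Bool) :=
  (.node (.node (.node (.node (.node (.leaf (52, false)) (.leaf (1927, false))) (.leaf (756, false))) (.node (.leaf (371, false)) (.leaf (1237, true)))) (.node (.node (.leaf (207, false)) (.leaf (990, true))) (.node (.leaf (560, false)) (.leaf (1513, true))))) (.node (.node (.node (.leaf (127, true)) (.leaf (864, true))) (.node (.leaf (465, true)) (.leaf (1376, true)))) (.node (.node (.leaf (288, false)) (.leaf (1110, false))) (.node (.leaf (658, true)) (.leaf (1698, true))))))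

def certSPar100 : Janko.Tree (ℕ × Bool) :=
  (.node (.node (.node (.node (.node (.leaf (52, true)) (.leaf (1928, true))) (.leaf (759, false))) (.node (.leaf (371, true)) (.leaf (1238, false)))) (.node (.node (.leaf (208, false)) (.leaf (991, true))) (.node (.leaf (560, true)) (.leaf (1516, false))))) (.node (.node (.node (.leaf (128, false)) (.leaf (865, true))) (.node (.leaf (466, false)) (.leaf (1377, false)))) (.node (.node (.leaf (289, true)) (.leaf (1110, true))) (.node (.leaf (659, false)) (.leaf (1700, true))))))

def certSPar101 : Janko.Tree (ℕ × Bool) :=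
  (.node (.node (.node (.node (.node (.leaf (53, false)) (.leaf (1930, false))) (.leaf (760, true))) (.node (.leaf (372, false)) (.leaf (1239, false)))) (.node (.node (.leaf (208, true)) (.leaf (992, false))) (.node (.leaf (561, true)) (.leaf (1517, false))))) (.node (.node (.node (.leaf (128, true)) (.leaf (866, true))) (.node (.leaf (466, true)) (.leaf (1378, false)))) (.node (.node (.leaf (290, true)) (.leaf (1111, true))) (.node (.leaf (659, true)) (.leaf (1701, false))))))

def certSPar102 : Janko.Tree (ℕ × Bool) :=
  (.node (.node (.node (.node (.node (.leaf (54, false)) (.leaf (1931, false))) (.leaf (761, false))) (.node (.leaf (372, true)) (.leaf (1240, true)))) (.node (.node (.leaf (210, false)) (.leaf (993, false))) (.node (.leaf (562, false)) (.leaf (1517, true))))) (.node (.node (.node (.leaf (129, false)) (.leaf (867, false))) (.node (.leaf (467, false)) (.leaf (1379, true)))) (.node (.node (.leaf (291, false)) (.leaf (1112, false))) (.node (.leaf (660, false)) (.leaf (1706, false))))))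

def certSPar103 : Janko.Tree (ℕ × Bool) :=
  (.node (.node (.node (.node (.node (.leaf (55, false)) (.leaf (1931, true))) (.leaf (761, true))) (.node (.leaf (374, false)) (.leaf (1241, true)))) (.node (.node (.leaf (210, true)) (.leaf (993, true))) (.node (.leaf (563, false)) (.leaf (1518, true))))) (.node (.node (.node (.leaf (129, true)) (.leaf (868, false))) (.node (.leaf (467, true)) (.leaf (1380, true)))) (.node (.node (.leaf (291, true)) (.leaf (1113, true))) (.node (.leaf (663, false)) (.leaf (1706, true))))))

def certSPar104 : Janko.Tree (ℕ × Bool) :=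
  (.node (.node (.node (.node (.node (.leaf (56, false)) (.leaf (1932, true))) (.leaf (763, false))) (.node (.leaf (374, true)) (.leaf (1242, false)))) (.node (.node (.leaf (211, false)) (.leaf (994, false))) (.node (.leaf (563, true)) (.leaf (1521, true))))) (.node (.node (.node (.leaf (130, false)) (.leaf (868, true))) (.node (.leaf (468, false)) (.leaf (1381, false)))) (.node (.node (.leaf (292, false)) (.leaf (1114, true))) (.node (.leaf (664, false)) (.leaf (1707, true))))))

def certSPar105 : Janko.Tree (ℕ × Bool) :=
  (.node (.node (.node (.node (.node (.leaf (56, true)) (.leaf (1933, true))) (.leaf (764, false))) (.node (.leaf (375, false)) (.leaf (1242, true)))) (.node (.node (.leaf (212, false)) (.leaf (994, true))) (.node (.leaf (564, false)) (.leaf (1522, false))))) (.node (.node (.node (.leaf (130, true)) (.leaf (869, false))) (.node (.leaf (468, true)) (.leaf (1382, false)))) (.node (.node (.leaf (292, true)) (.leaf (1115, true))) (.node (.leaf (664, true)) (.leaf (1708, true))))))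

def certSPar106 : Janko.Tree (ℕ × Bool) :=
  (.node (.node (.node (.node (.node (.leaf (57, false)) (.leaf (1934, true))) (.leaf (764, true))) (.node (.leaf (376, true)) (.leaf (1244, false)))) (.node (.node (.leaf (212, true)) (.leaf (995, false))) (.node (.leaf (565, false)) (.leaf (1523, false))))) (.node (.node (.node (.leaf (131, false)) (.leaf (869, true))) (.node (.leaf (469, false)) (.leaf (1383, true)))) (.node (.node (.leaf (293, true)) (.leaf (1116, false))) (.node (.leaf (666, false)) (.leaf (1711, true))))))

def certSPar107 : Janko.Tree (ℕ × Bool) :=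
  (.node (.node (.node (.node (.node (.leaf (57, true)) (.leaf (1935, true))) (.leaf (765, true))) (.node (.leaf (377, false)) (.leaf (1244, true)))) (.node (.node (.leaf (213, false)) (.leaf (997, true))) (.node (.leaf (565, true)) (.leaf (1524, true))))) (.node (.node (.node (.leaf (132, false)) (.leaf (870, false))) (.node (.leaf (469, true)) (.leaf (1385, false)))) (.node (.node (.leaf (294, false)) (.leaf (1116, true))) (.node (.leaf (666, true)) (.leaf (1712, true))))))

def certSPar108 : Janko.Tree (ℕ × Bool) :=
  (.node (.node (.node (.node (.node (.leaf (58, false)) (.leaf (1936, false))) (.leaf (766, false))) (.node (.leaf (377, true)) (.leaf (1245, false)))) (.node (.node (.leaf (213, true)) (.leaf (998, true))) (.node (.leaf (566, false)) (.leaf (1525, false))))) (.node (.node (.node (.leaf (133, false)) (.leaf (870, true))) (.node (.leaf (470, false)) (.leaf (1387, false)))) (.node (.node (.leaf (294, true)) (.leaf (1118, true))) (.node (.leaf (667, false)) (.leaf (1713, true))))))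

def certSPar109 : Janko.Tree (ℕ × Bool) :=
  (.node (.node (.node (.node (.node (.leaf (58, true)) (.leaf (1938, false))) (.leaf (767, true))) (.node (.leaf (378, false)) (.leaf (1247, true)))) (.node (.node (.leaf (214, false)) (.leaf (999, true))) (.node (.leaf (566, true)) (.leaf (1525, true))))) (.node (.node (.node (.leaf (133, true)) (.leaf (871, true))) (.node (.leaf (470, true)) (.leaf (1389, false)))) (.node (.node (.leaf (295, false)) (.leaf (1119, false))) (.node (.leaf (667, true)) (.leaf (1714, false))))))

def certSPar110 : Janko.Tree (ℕ × Bool) :=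
  (.node (.node (.node (.node (.node (.leaf (59, false)) (.leaf (1939, true))) (.leaf (768, false))) (.node (.leaf (378, true)) (.leaf (1248, false)))) (.node (.node (.leaf (214, true)) (.leaf (1002, false))) (.node (.leaf (567, true)) (.leaf (1527, true))))) (.node (.node (.node (.leaf (134, false)) (.leaf (872, true))) (.node (.leaf (471, false)) (.leaf (1389, true)))) (.node (.node (.leaf (295, true)) (.leaf (1119, true))) (.node (.leaf (668, true)) (.leaf (1715, false))))))

def certSPar111 : Janko.Tree (ℕ × Bool) :=
  (.node (.node (.node (.node (.node (.leaf (59, true)) (.leaf (1940, true))) (.leaf (769, false))) (.node (.leaf (379, false)) (.leaf (1249, false)))) (.node (.node (.leaf (215, false)) (.leaf (1002, true))) (.node (.leaf (568, false)) (.leaf (1529, true))))) (.node (.node (.node (.leaf (135, false)) (.leaf (873, false))) (.node (.leaf (472, false)) (.leaf (1392, true)))) (.node (.node (.leaf (296, false)) (.leaf (1120, false))) (.node (.leaf (669, false)) (.leaf (1715, true))))))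

def certSPar112 : Janko.Tree (ℕ × Bool) :=
  (.node (.node (.node (.node (.node (.leaf (60, false)) (.leaf (1942, false))) (.leaf (769, true))) (.node (.leaf (379, true)) (.leaf (1251, false)))) (.node (.node (.leaf (215, true)) (.leaf (1003, false))) (.node (.leaf (568, true)) (.leaf (1530, true))))) (.node (.node (.node (.leaf (135, true)) (.leaf (874, false))) (.node (.leaf (475, false)) (.leaf (1393, false)))) (.node (.node (.leaf (296, true)) (.leaf (1122, false))) (.node (.leaf (669, true)) (.leaf (1716, true))))))

def certSPar113 : Janko.Tree (ℕ × Bool) :=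
  (.node (.node (.node (.node (.node (.leaf (60, true)) (.leaf (1943, true))) (.leaf (770, false))) (.node (.leaf (380, false)) (.leaf (1252, true)))) (.node (.node (.leaf (216, false)) (.leaf (1003, true))) (.node (.leaf (569, false)) (.leaf (1531, false))))) (.node (.node (.node (.leaf (136, false)) (.leaf (876, false))) (.node (.leaf (475, true)) (.leaf (1393, true)))) (.node (.node (.leaf (297, false)) (.leaf (1122, true))) (.node (.leaf (670, true)) (.leaf (1717, true))))))

def certSPar114 : Janko.Tree (ℕ × Bool) :=
  (.node (.node (.node (.node (.node (.leaf (61, true)) (.leaf (1945, true))) (.leaf (770, true))) (.node (.leaf (381, false)) (.leaf (1253, true)))) (.node (.node (.leaf (216, true)) (.leaf (1004, true))) (.node (.leaf (569, true)) (.leaf (1532, false))))) (.node (.node (.node (.leaf (136, true)) (.leaf (878, false))) (.node (.leaf (476, false)) (.leaf (1394, false)))) (.node (.node (.leaf (297, true)) (.leaf (1124, false))) (.node (.leaf (671, false)) (.leaf (1721, false))))))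

def certSPar115 : Janko.Tree (ℕ × Bool) :=
  (.node (.node (.node (.node (.node (.leaf (62, false)) (.leaf (1946, false))) (.leaf (772, true))) (.node (.leaf (382, false)) (.leaf (1255, true)))) (.node (.node (.leaf (217, false)) (.leaf (1005, true))) (.node (.leaf (570, false)) (.leaf (1533, false))))) (.node (.node (.node (.leaf (137, false)) (.leaf (880, false))) (.node (.leaf (476, true)) (.leaf (1396, false)))) (.node (.node (.leaf (298, false)) (.leaf (1125, false))) (.node (.leaf (672, false)) (.leaf (1723, false))))))

def certSPar116 : Janko.Tree (ℕ × Bool) :=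
  (.node (.node (.node (.node (.node (.leaf (62, true)) (.leaf (1947, true))) (.leaf (773, true))) (.node (.leaf (382, true)) (.leaf (1256, false)))) (.node (.node (.leaf (217, true)) (.leaf (1007, true))) (.node (.leaf (570, true)) (.leaf (1534, false))))) (.node (.node (.node (.leaf (137, true)) (.leaf (881, true))) (.node (.leaf (477, false)) (.leaf (1397, false)))) (.node (.node (.leaf (298, true)) (.leaf (1125, true))) (.node (.leaf (672, true)) (.leaf (1724, false))))))

def certSPar117 : Janko.Tree (ℕ × Bool) :=
  (.node (.node (.node (.node (.node (.leaf (63, false)) (.leaf (1948, false))) (.leaf (774, true))) (.node (.leaf (383, false)) (.leaf (1257, false)))) (.node (.node (.leaf (218, false)) (.leaf (1008, false))) (.node (.leaf (571, false)) (.leaf (1535, false))))) (.node (.node (.node (.leaf (138, false)) (.leaf (883, true))) (.node (.leaf (477, true)) (.leaf (1397, true)))) (.node (.node (.leaf (299, false)) (.leaf (1127, true))) (.node (.leaf (673, false)) (.leaf (1725, false))))))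

def certSPar118 : Janko.Tree (ℕ × Bool) :=
  (.node (.node (.node (.node (.node (.leaf (63, true)) (.leaf (1950, true))) (.leaf (775, false))) (.node (.leaf (384, false)) (.leaf (1257, true)))) (.node (.node (.leaf (218, true)) (.leaf (1010, false))) (.node (.leaf (571, true)) (.leaf (1536, false))))) (.node (.node (.node (.leaf (138, true)) (.leaf (884, false))) (.node (.leaf (478, false)) (.leaf (1398, false)))) (.node (.node (.leaf (299, true)) (.leaf (1128, false))) (.node (.leaf (673, true)) (.leaf (1725, true))))))

def certSPar119 : Janko.Tree (ℕ × Bool) :=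
  (.node (.node (.node (.node (.node (.leaf (64, false)) (.leaf (1951, false))) (.leaf (775, true))) (.node (.leaf (385, false)) (.leaf (1258, false)))) (.node (.node (.leaf (219, false)) (.leaf (1011, false))) (.node (.leaf (572, true)) (.leaf (1537, false))))) (.node (.node (.node (.leaf (139, false)) (.leaf (884, true))) (.node (.leaf (478, true)) (.leaf (1398, true)))) (.node (.node (.leaf (300, false)) (.leaf (1129, false))) (.node (.leaf (674, true)) (.leaf (1726, true))))))

def certSPar120 : Janko.Tree (ℕ × Bool) :=
  (.node (.node (.node (.node (.node (.leaf (64, true)) (.leaf (1952, true))) (.leaf (776, false))) (.node (.leaf (385, true)) (.leaf (1259, false)))) (.node (.node (.leaf (220, false)) (.leaf (1011, true))) (.node (.leaf (573, true)) (.leaf (1538, false))))) (.node (.node (.node (.leaf (139, true)) (.leaf (885, true))) (.node (.leaf (479, false)) (.leaf (1400, false)))) (.node (.node (.leaf (301, false)) (.leaf (1129, true))) (.node (.leaf (675, false)) (.leaf (1727, false))))))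

def certSPar121 : Janko.Tree (ℕ × Bool) :=
  (.node (.node (.node (.node (.node (.leaf (65, false)) (.leaf (1953, true))) (.leaf (776, true))) (.node (.leaf (386, false)) (.leaf (1259, true)))) (.node (.node (.leaf (221, false)) (.leaf (1012, false))) (.node (.leaf (574, true)) (.leaf (1539, true))))) (.node (.node (.node (.leaf (140, false)) (.leaf (886, true))) (.node (.leaf (480, true)) (.leaf (1401, false)))) (.node (.node (.leaf (301, true)) (.leaf (1130, true))) (.node (.leaf (675, true)) (.leaf (1728, false))))))

def certSPar122 : Janko.Tree (ℕ × Bool) :=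
  (.node (.node (.node (.node (.node (.leaf (65, true)) (.leaf (1955, true))) (.leaf (777, false))) (.node (.leaf (386, true)) (.leaf (1260, true)))) (.node (.node (.leaf (221, true)) (.leaf (1014, false))) (.node (.leaf (575, true)) (.leaf (1540, false))))) (.node (.node (.node (.leaf (140, true)) (.leaf (887, false))) (.node (.leaf (481, true)) (.leaf (1402, true)))) (.node (.node (.leaf (302, false)) (.leaf (1131, false))) (.node (.leaf (676, true)) (.leaf (1728, true))))))

def certSPar123 : Janko.Tree (ℕ × Bool) :=
  (.node (.node (.node (.node (.node (.leaf (66, false)) (.leaf (1958, false))) (.leaf (777, true))) (.node (.leaf (387, false)) (.leaf (1262, false)))) (.node (.node (.leaf (222, false)) (.leaf (1014, true))) (.node (.leaf (576, false)) (.leaf (1540, true))))) (.node (.node (.node (.leaf (141, false)) (.leaf (888, false))) (.node (.leaf (482, true)) (.leaf (1403, true)))) (.node (.node (.leaf (303, false)) (.leaf (1131, true))) (.node (.leaf (677, false)) (.leaf (1729, false))))))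

def certSPar124 : Janko.Tree (ℕ × Bool) :=
  (.node (.node (.node (.node (.node (.leaf (66, true)) (.leaf (1959, false))) (.leaf (779, false))) (.node (.leaf (387, true)) (.leaf (1262, true)))) (.node (.node (.leaf (223, false)) (.leaf (1015, false))) (.node (.leaf (576, true)) (.leaf (1541, true))))) (.node (.node (.node (.leaf (141, true)) (.leaf (888, true))) (.node (.leaf (483, false)) (.leaf (1404, true)))) (.node (.node (.leaf (303, true)) (.leaf (1132, false))) (.node (.leaf (677, true)) (.leaf (1729, true))))))

def certSPar125 : Janko.Tree (ℕ × Bool) :=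
  (.node (.node (.node (.node (.node (.leaf (67, true)) (.leaf (1960, true))) (.leaf (779, true))) (.node (.leaf (388, true)) (.leaf (1263, false)))) (.node (.node (.leaf (223, true)) (.leaf (1015, true))) (.node (.leaf (577, true)) (.leaf (1542, true))))) (.node (.node (.node (.leaf (142, false)) (.leaf (889, false))) (.node (.leaf (483, true)) (.leaf (1405, false)))) (.node (.node (.leaf (304, false)) (.leaf (1132, true))) (.node (.leaf (678, false)) (.leaf (1730, false))))))

def certSPar126 : Janko.Tree (ℕ × Bool) :=
  (.node (.node (.node (.node (.node (.leaf (68, false)) (.leaf (1972, false))) (.leaf (780, false))) (.node (.leaf (389, false)) (.leaf (1264, true)))) (.node (.node (.leaf (224, false)) (.leaf (1016, false))) (.node (.leaf (578, false)) (.leaf (1543, true))))) (.node (.node (.node (.leaf (142, true)) (.leaf (890, false))) (.node (.leaf (484, false)) (.leaf (1407, false)))) (.node (.node (.leaf (305, false)) (.leaf (1133, false))) (.node (.leaf (678, true)) (.leaf (1731, false))))))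

def certSPar127 : Janko.Tree (ℕ × Bool) :=
  (.node (.node (.node (.node (.node (.leaf (68, true)) (.leaf (1976, false))) (.leaf (781, true))) (.node (.leaf (390, true)) (.leaf (1265, false)))) (.node (.node (.leaf (224, true)) (.leaf (1017, true))) (.node (.leaf (578, true)) (.leaf (1544, true))))) (.node (.node (.node (.leaf (143, false)) (.leaf (891, false))) (.node (.leaf (484, true)) (.leaf (1407, true)))) (.node (.node (.leaf (305, true)) (.leaf (1133, true))) (.node (.leaf (679, false)) (.leaf (1733, false))))))

def certSPar : Janko.Tree (ℕ × Bool) :=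
  (.node (.node (.node (.node (.node (.node (.node certSPar0 certSPar64) (.node certSPar32 certSPar96)) (.node (.node certSPar16 certSPar80) (.node certSPar48 certSPar112))) (.node (.node (.node certSPar8 certSPar72) (.node certSPar40 certSPar104)) (.node (.node certSPar24 certSPar88) (.node certSPar56 certSPar120)))) (.node (.node (.node (.node certSPar4 certSPar68) (.node certSPar36 certSPar100)) (.node (.node certSPar20 certSPar84) (.node certSPar52 certSPar116))) (.node (.node (.node certSPar12 certSPar76) (.node certSPar44 certSPar108)) (.node (.node certSPar28 certSPar92) (.node certSPar60 certSPar124))))) (.node (.node (.node (.node (.node certSPar2 certSPar66) (.node certSPar34 certSPar98)) (.node (.node certSPar18 certSPar82) (.node certSPar50 certSPar114))) (.node (.node (.node certSPar10 certSPar74) (.node certSPar42 certSPar106)) (.node (.node certSPar26 certSPar90) (.node certSPar58 certSPar122)))) (.node (.node (.node (.node certSPar6 certSPar70) (.node certSPar38 certSPar102)) (.node (.node certSPar22 certSPar86) (.node certSPar54 certSPar118))) (.node (.node (.node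 certSPar14 certSPar78) (.node certSPar46 certSPar110)) (.node (.node certSPar30 certSPar94) (.node certSPar62 certSPar126)))))) (.node (.node (.node (.node (.node (.node certSPar1 certSPar65) (.node certSPar33 certSPar97)) (.node (.node certSPar17 certSPar81) (.node certSPar49 certSPar113))) (.node (.node (.node certSPar9 certSPar73) (.node certSPar41 certSPar105)) (.node (.node certSPar25 certSPar89) (.node certSPar57 certSPar121)))) (.node (.node (.node (.node certSPar5 certSPar69) (.node certSPar37 certSPar101)) (.node (.node certSPar21 certSPar85) (.node certSPar53 certSPar117))) (.node (.node (.node certSPar13 certSPar77) (.node certSPar45 certSPar109)) (.node (.node certSPar29 certSPar93) (.node certSPar61 certSPar125))))) (.node (.node (.node (.node (.node certSPar3 certSPar67) (.node certSPar35 certSPar99)) (.node (.node certSPar19 certSPar83) (.node certSPar51 certSPar115))) (.node (.node (.node certSPar11 certSPar75) (.node certSPar43 certSPar107)) (.node (.node certSPar27 certSPar91) (.node certSPar59 certSPar123)))) (.node (.node (.node (.node certSPar7 certSPar71) (.node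 certSPar39 certSPar103)) (.node (.node certSPar23 certSPar87) (.node certSPar55 certSPar119))) (.node (.node (.node certSPar15 certSPar79) (.node certSPar47 certSPar111)) (.node (.node certSPar31 certSPar95) (.node certSPar63 certSPar127)))))))

def certSL0 : Janko.Tree (List ℤ) :=
  (.node (.node (.node (.node (.node (.leaf []) (.leaf [(-636), 67887979, (-67834176), (-166), 6583515, 221615552, (-348), (-186), (-31)])) (.leaf [0, 19758, (-19742), (-1), 404, 53925, (-1), (-1), 0])) (.node (.leaf []) (.leaf []))) (.node (.node (.leaf []) (.leaf [])) (.node (.leaf []) (.leaf [(-5896), 496466671, (-496064710), (-982), 49252036, 1629062623, (-2490), (-1151), (-880)])))) (.node (.node (.node (.node (.leaf []) (.leaf [(-5), 807583, (-806997), (-3), 74321, 2609051, (-3), (-2), (-1)])) (.leaf [])) (.node (.leaf []) (.leaf []))) (.node (.node (.leaf []) (.leaf [66, 16614194, (-16602487), (-57), 1448249, 53054225, 10, (-50), 53])) (.node (.leaf []) (.leaf [])))))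

def certSL1 : Janko.Tree (List ℤ) :=
  (.node (.node (.node (.node (.node (.leaf []) (.leaf [(-153425), 89567125404, (-89500352877), (-271191), 8085769669, 288113271627, (-119422), (-233267), 87657])) (.leaf [])) (.node (.leaf []) (.leaf [0, (-16918), 16918, 0, 927, (-35489), 0, 1, 0]))) (.node (.node (.leaf []) (.leaf [0, 3, (-4), 0, 0, 0, 0, 0, 0])) (.node (.leaf [0, (-9), 9, 0, 3, 14, 0, 0, 0]) (.leaf [(-5747), 713764394, (-713204645), (-1681), 68379569, 2324403925, (-2591), (-1749), (-493)])))) (.node (.node (.node (.node (.leaf []) (.leaf [(-6), (-6945796), 6941526, (-13), (-626776), (-22406762), (-25), 16, (-28)])) (.leaf [])) (.node (.leaf []) (.leaf []))) (.node (.node (.leaf [0, 13, (-13), 0, (-2), (-7), 0, 0, 0]) (.leaf [])) (.node (.leaf [0, (-1), 0, 0, 0, (-1), 0, 0, 0]) (.leaf [(-1), (-26514), 26592, 0, (-4414), (-100401), (-3), 2, (-2)])))))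

def certSL2 : Janko.Tree (List ℤ) :=
  (.node (.node (.node (.node (.node (.leaf []) (.leaf [])) (.leaf [0, 1, 0, 0, 0, 0, 0, 0, 0])) (.node (.leaf []) (.leaf []))) (.node (.node (.leaf []) (.leaf [(-4), 2038481, (-2036994), (-9), 188650, 6580302, (-10), (-8), 8])) (.node (.leaf []) (.leaf [])))) (.node (.node (.node (.node (.leaf []) (.leaf [(-233119), 236522579215, (-236347331372), (-748702), 21188563525, 759618113631, (-265794), (-628287), 287593])) (.leaf [0, (-9), 7, 1, 0, (-25), 0, 0, 0])) (.node (.leaf [0, 1, 0, 0, 0, 0, 0, 0, 0]) (.leaf [0, 27, (-30), 0, 3, 55, 1, 0, 0]))) (.node (.node (.leaf []) (.leaf [])) (.node (.leaf [0, (-5), 5, 0, 0, 11, 0, 0, 0]) (.leaf [0, (-1), 2, 0, 0, 0, 0, 0, 0])))))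

def certSL3 : Janko.Tree (List ℤ) :=
  (.node (.node (.node (.node (.node (.leaf []) (.leaf [2185, (-370401015), 370115591, 976, (-34788531), (-1201140604), 1090, 960, 2])) (.leaf [0, 13, (-14), 0, 9, 157, 0, 0, 0])) (.node (.leaf [0, (-2), 2, 0, (-1), (-17), 0, 0, 0]) (.leaf [(-96691), 10191718414, (-10183628011), (-20609), 988112790, 33279814202, (-41007), (-23094), (-12741)]))) (.node (.node (.leaf []) (.leaf [0, (-1), 1, 0, 0, (-3), 0, 0, 0])) (.node (.leaf []) (.leaf [0, 6, (-5), (-1), 0, 8, 0, 0, 0])))) (.node (.node (.node (.node (.leaf []) (.leaf [(-358178), 234404953817, (-234230467855), (-727557), 21108137798, 753614206339, (-310815), (-618156), 249463])) (.leaf [0, (-15), 14, 0, 0, (-16), 0, 0, 0])) (.node (.leaf [3, (-65), 63, 0, 42, 240, 1, 0, 0]) (.leaf []))) (.node (.node (.leaf []) (.leaf [])) (.node (.leaf [6169, (-18264025750), 18250574309, 58223, (-1626299238), (-58582752738), 13874, 48564, (-25020)]) (.leaf [(-1), 1411, (-1417), 0, (-613), (-1379), 0, 0, 0])))))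

def certSL4 : Janko.Tree (List ℤ) :=
  (.node (.node (.node (.node (.node (.leaf []) (.leaf [0, 0, 1, 0, 0, 0, 0, 0, 0])) (.leaf [0, (-106206), 106161, 1, (-5227), (-308898), 1, 0, 0])) (.node (.leaf []) (.leaf []))) (.node (.node (.leaf []) (.leaf [])) (.node (.leaf []) (.leaf [(-1), (-14083), 14084, (-1), 1282, (-25211), (-3), 2, (-2)])))) (.node (.node (.node (.node (.leaf []) (.leaf [0, (-6), 3, 0, 0, (-6), 0, 0, 0])) (.leaf [])) (.node (.leaf []) (.leaf [(-712), 78229303, (-78167795), (-172), 7595443, 255492039, (-362), (-209), (-35)]))) (.node (.node (.leaf []) (.leaf [])) (.node (.leaf []) (.leaf [668472, (-138026055617), 137920302822, 364900, (-12834524598), (-446748137239), 346650, 338826, (-5994)])))))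

def certSL5 : Janko.Tree (List ℤ) :=
  (.node (.node (.node (.node (.node (.leaf []) (.leaf [(-1417), 746153275, (-745595757), (-2092), 67769359, 2403131381, (-983), (-1884), 702])) (.leaf [])) (.node (.leaf [1, (-563), 563, 0, (-62), (-1843), (-1), 0, 0]) (.leaf [(-1814), 708431169, (-707898637), (-1935), 64701316, 2284334969, (-1076), (-1754), 490]))) (.node (.node (.leaf [0, 1, (-1), 0, 0, 2, 0, 0, 0]) (.leaf [])) (.node (.leaf []) (.leaf [0, (-8528), 8528, (-1), 729, (-15961), 0, 1, 0])))) (.node (.node (.node (.node (.leaf []) (.leaf [74209, 30914212280, (-30891977982), (-108709), 2680556333, 98634196672, 6223, (-85409), 66458])) (.leaf [])) (.node (.leaf []) (.leaf [0, (-2), 2, 0, 0, 3, 0, 0, 0]))) (.node (.node (.leaf []) (.leaf [])) (.node (.leaf [0, 1414, (-1412), 0, 460, 7567, 0, 0, 1]) (.leaf [0, 261, (-259), 0, (-743), (-5254), 1, 0, 0])))))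

def certSL6 : Janko.Tree (List ℤ) :=
  (.node (.node (.node (.node (.node (.leaf []) (.leaf [(-1141), (-348395041), 348146264, 1200, (-30067283), (-1110279622), (-253), 934, (-857)])) (.leaf [])) (.node (.leaf [0, 0, (-1), 0, 0, 0, 0, 0, 0]) (.leaf [0, 9463, (-9463), 0, (-323), 21612, 0, 1, 0]))) (.node (.node (.leaf []) (.leaf [44, 1472720, (-1472060), (-7), 149691, 4867661, 16, (-9), 23])) (.node (.leaf [0, (-1268), 1267, 0, (-671), (-8375), 0, 1, 0]) (.leaf [64268, (-53436768178), 53397117360, 165694, (-4799652934), (-171704620633), 60518, 140902, (-61358)])))) (.node (.node (.node (.node (.leaf []) (.leaf [(-31313), (-10336605044), 10329208205, 37039, (-890956060), (-32939240838), (-4957), 28616, (-23837)])) (.leaf [])) (.node (.leaf [0, 0, 0, 0, 0, 1, 0, 0, 0]) (.leaf []))) (.node (.node (.leaf []) (.leaf [])) (.node (.leaf [0, (-34905), 34880, 0, (-3952), (-116324), 0, 0, 1]) (.leaf [0, 1604, (-1605), 1, (-683), (-1353), 0, 0, 0])))))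

def certSL7 : Janko.Tree (List ℤ) :=
  (.node (.node (.node (.node (.node (.leaf []) (.leaf [561, 150261495, (-150156696), (-347), 12546294, 475936771, 521, (-290), 228])) (.leaf [])) (.node (.leaf []) (.leaf []))) (.node (.node (.leaf []) (.leaf [66, 16667310, (-16655579), (-57), 1451842, 53217810, 10, (-50), 53])) (.node (.leaf [0, (-1256), 1257, 0, (-670), (-8312), 0, 1, 0]) (.leaf [])))) (.node (.node (.node (.node (.leaf [0, 0, 0, 0, 0, (-9), 0, 0, 0]) (.leaf [10252, (-3827037889), 3824163041, 11197, (-348789427), (-12333894010), 6437, 9915, (-2902)])) (.leaf [])) (.node (.leaf [0, 13, (-14), 0, (-4), (-45), 1, 0, 0]) (.leaf [0, (-176), 180, 0, (-72), (-1102), (-1), 0, 0]))) (.node (.node (.leaf []) (.leaf [])) (.node (.leaf []) (.leaf [])))))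

def certSL8 : Janko.Tree (List ℤ) :=
  (.node (.node (.node (.node (.node (.leaf []) (.leaf [0, 7901, (-7902), 0, (-823), 13459, 0, (-1), 0])) (.leaf [1, (-497440), 497021, 1, (-49504), (-1629883), 3, (-2), 2])) (.node (.leaf [(-1), (-12), 11, 0, 2, (-40), 0, 0, 0]) (.leaf []))) (.node (.node (.leaf []) (.leaf [])) (.node (.leaf [0, 49, (-50), 0, (-1), 141, 0, 1, 0]) (.leaf [0, 4, (-2), (-1), 0, (-9), 0, 0, 0])))) (.node (.node (.node (.node (.leaf []) (.leaf [(-614), (-152394734), 152288813, 351, (-12693013), (-482509299), (-545), 292, (-239)])) (.leaf [])) (.node (.leaf []) (.leaf []))) (.node (.node (.leaf [0, (-1439), 1438, 0, 49, (-3198), (-1), 0, 0]) (.leaf [])) (.node (.leaf [0, (-290), 290, 0, 8, (-729), 0, 0, 0]) (.leaf [0, 1, (-1), 0, 0, 0, 0, 0, 0])))))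

def certSL9 : Janko.Tree (List ℤ) :=
  (.node (.node (.node (.node (.node (.leaf []) (.leaf [])) (.leaf [])) (.node (.leaf []) (.leaf []))) (.node (.node (.leaf []) (.leaf [1, (-38984), 38978, 0, (-857), (-103879), 1, 3, (-3)])) (.node (.leaf []) (.leaf [(-1), (-19900), 19901, (-1), 829, (-43555), (-3), 2, (-2)])))) (.node (.node (.node (.node (.leaf [0, 1, (-1), 0, 0, 0, 0, 0, 0]) (.leaf [(-62), (-111050742), 110969205, 426, (-9546645), (-353393535), (-64), 282, (-128)])) (.leaf [])) (.node (.leaf []) (.leaf [(-5101), 2501344884, (-2499459896), (-7374), 226549579, 8059702692, (-5130), (-6038), 1231]))) (.node (.node (.leaf []) (.leaf [])) (.node (.leaf [0, 465, (-468), 0, 151, 3244, 1, 0, 0]) (.leaf [])))))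

def certSL10 : Janko.Tree (List ℤ) :=
  (.node (.node (.node (.node (.node (.leaf []) (.leaf [99, 8910960, (-8904964), (-43), 713278, 27955447, 21, (-37), 53])) (.leaf [])) (.node (.leaf [(-1), 1, (-1), 0, 0, 27, 0, 0, 0]) (.leaf [0, 1, 0, 0, 0, 0, 0, 0, 0]))) (.node (.node (.leaf [0, 3, (-3), 0, 0, (-3), 0, 0, 0]) (.leaf [])) (.node (.leaf [0, (-18773), 18773, 0, 487, (-43722), 0, 1, 0]) (.leaf [4, (-3694572), 3691876, 6, (-371779), (-12152870), 19, 17, (-20)])))) (.node (.node (.node (.node (.leaf []) (.leaf [0, (-11), 11, 0, (-244), (-2321), 0, 0, 0])) (.leaf [])) (.node (.leaf []) (.leaf []))) (.node (.node (.leaf []) (.leaf [])) (.node (.leaf [3, 23, (-24), 0, (-4), 31, 0, 0, 0]) (.leaf [(-209), 136587667, (-136486261), (-432), 12219214, 438465145, (-161), (-369), 150])))))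

def certSL11 : Janko.Tree (List ℤ) :=
  (.node (.node (.node (.node (.node (.leaf []) (.leaf [(-14), (-745690), 745207, 5, (-52292), (-2284520), 2, 2, (-8)])) (.leaf [0, (-1), 0, 0, 0, 0, 0, 0, 0])) (.node (.leaf [0, 3, (-2), 0, 1, 31, 0, 0, 0]) (.leaf []))) (.node (.node (.leaf [0, 21, (-18), 0, (-13), (-93), (-1), 0, 0]) (.leaf [0, (-1), 0, 0, 0, (-3), 0, 0, 0])) (.node (.leaf []) (.leaf [0, (-1), 1, 0, 0, (-3), 0, 0, 0])))) (.node (.node (.node (.node (.leaf []) (.leaf [])) (.leaf [])) (.node (.leaf [(-1), 186411, (-186191), 0, 18235, 615492, (-1), 2, (-3)]) (.leaf []))) (.node (.node (.leaf []) (.leaf [])) (.node (.leaf []) (.leaf [])))))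

def certSL12 : Janko.Tree (List ℤ) :=
  (.node (.node (.node (.node (.node (.leaf []) (.leaf [0, (-817), 814, 1, 701, 3552, (-1), 0, 0])) (.leaf [])) (.node (.leaf [0, (-1), 2, 0, 0, 0, 0, 0, 0]) (.leaf [636, (-67887995), 67834195, 166, (-6583512), (-221615530), 348, 186, 31]))) (.node (.node (.leaf []) (.leaf [0, 61, (-61), 0, 35, 542, 0, 0, 0])) (.node (.leaf [0, 0, 0, 0, (-1), 0, 0, 0, 0]) (.leaf [(-6479), (-5230994143), 5227191169, 17503, (-459414134), (-16733302883), 1198, 14095, (-9376)])))) (.node (.node (.node (.node (.leaf []) (.leaf [(-3), (-12), 15, 0, 4, (-29), 0, 0, 0])) (.leaf [])) (.node (.leaf []) (.leaf []))) (.node (.node (.leaf []) (.leaf [0, (-1), 2, (-1), 0, 3, 0, 0, 0])) (.node (.leaf []) (.leaf [0, (-2), 3, 0, 0, 0, 0, 0, 0])))))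

def certSL13 : Janko.Tree (List ℤ) :=
  (.node (.node (.node (.node (.node (.leaf []) (.leaf [(-3582), 3469348804, (-3466778828), (-10595), 311382535, 11146548526, (-3499), (-9050), 4063])) (.leaf [])) (.node (.leaf []) (.leaf []))) (.node (.node (.leaf []) (.leaf [(-33), (-4728971), 4725767, 21, (-423834), (-15189463), (-13), 20, (-20)])) (.node (.leaf []) (.leaf [])))) (.node (.node (.node (.node (.leaf [0, 1, (-1), 0, 0, 2, 0, 0, 0]) (.leaf [(-215), 176851017, (-176719487), (-569), 15937239, 568608692, (-162), (-486), 189])) (.leaf [])) (.node (.leaf [0, 0, 0, 0, 1, 11, 0, 0, 0]) (.leaf [(-190), (-89370709), 89305882, 278, (-7842866), (-285864693), (-66), 218, (-155)]))) (.node (.node (.leaf []) (.leaf [(-8), 1639577, (-1638365), 0, 168492, 5444237, 6, (-1), (-3)])) (.node (.leaf [0, 1, 0, 1, 0, (-3), 0, 0, 0]) (.leaf [43711, (-44715901522), 44682782901, 139640, (-4007101922), (-143613862251), 45628, 118007, (-53563)])))))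

def certSL14 : Janko.Tree (List ℤ) :=
  (.node (.node (.node (.node (.node (.leaf []) (.leaf [(-18), (-3407094), 3404996, 13, (-271248), (-10697232), 3, 15, (-22)])) (.leaf [9336, (-3953785989), 3950823580, 11792, (-359169459), (-12733672453), 6242, 10330, (-3333)])) (.node (.leaf [0, 4, (-4), 0, 0, (-1), 0, 0, 0]) (.leaf [0, (-45286), 45259, 1, (-3818), (-145095), 0, 0, 0]))) (.node (.node (.leaf []) (.leaf [0, (-11), 12, 0, (-95), (-972), 0, 0, 0])) (.node (.leaf []) (.leaf [])))) (.node (.node (.node (.node (.leaf []) (.leaf [0, (-8216), 8227, 0, 770, (-14941), 0, 1, 0])) (.leaf [])) (.node (.leaf []) (.leaf [0, 7118, (-7132), 0, (-955), 9835, 0, (-1), 0]))) (.node (.node (.leaf [0, (-89), 88, 0, (-17), (-377), 1, 0, 0]) (.leaf [(-2087), 689430850, (-688910349), (-1963), 62915341, 2222504979, (-1271), (-1738), 405])) (.node (.leaf [(-3), (-619934), 619534, 3, (-45373), (-1914991), (-1), 1, (-2)]) (.leaf [])))))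

def certSL15 : Janko.Tree (List ℤ) :=
  (.node (.node (.node (.node (.node (.leaf []) (.leaf [(-36616), (-8214290775), 8208481839, 31041, (-697275413), (-26097760373), (-8342), 23091, (-21899)])) (.leaf [0, (-14), 14, 0, (-1), (-43), 0, 0, 0])) (.node (.leaf []) (.leaf []))) (.node (.node (.leaf []) (.leaf [76511, 33628870952, (-33604645402), (-118453), 2920166904, 107326905242, 3643, (-92911), 71248])) (.node (.leaf []) (.leaf [3, 9, (-12), 0, (-4), 31, 0, 0, 0])))) (.node (.node (.node (.node (.leaf []) (.leaf [(-35619), 8354789272, (-8348410922), (-22967), 773152158, 27018545340, (-20249), (-20707), 1422])) (.leaf [])) (.node (.leaf []) (.leaf [0, 26, (-30), 0, 3, 55, 1, 0, 0]))) (.node (.node (.leaf []) (.leaf [0, (-1), 0, 0, 0, (-1), 0, 0, 0])) (.node (.leaf [0, 5, (-5), 1, (-1), (-41), 0, 0, 0]) (.leaf [1, 4182, (-4224), (-1), (-2925), (-10926), 1, (-3), 2])))))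

def certSL16 : Janko.Tree (List ℤ) :=
  (.node (.node (.node (.node (.node (.leaf []) (.leaf [(-8), 2748073, (-2745690), (-14), 255817, 8874135, (-22), (-6), (-3)])) (.leaf [])) (.node (.leaf []) (.leaf [0, 7, (-7), 1, (-1), (-26), 0, 0, 0]))) (.node (.node (.leaf []) (.leaf [(-31), 26863274, (-26842831), (-133), 2295737, 85351203, (-66), (-80), 24])) (.node (.leaf []) (.leaf [])))) (.node (.node (.node (.node (.leaf []) (.leaf [0, 7202, (-7219), 0, (-815), 11274, 1, (-1), 0])) (.leaf [])) (.node (.leaf [(-3), (-351599), 351410, 3, (-30064), (-1118025), (-1), 1, (-2)]) (.leaf [0, 1, 0, 0, 0, 1, 0, 0, 0]))) (.node (.node (.leaf []) (.leaf [0, 90581, (-90529), 0, 7633, 290139, 0, (-1), 0])) (.node (.leaf [0, (-8), 8, 0, 0, (-3), 0, 0, 0]) (.leaf [(-56), 58630759, (-58587486), (-171), 5275944, 188473888, (-50), (-162), 77])))))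

def certSL17 : Janko.Tree (List ℤ) :=
  (.node (.node (.node (.node (.node (.leaf []) (.leaf [0, (-51), 48, 1, 122, 842, (-1), 0, 0])) (.leaf [])) (.node (.leaf []) (.leaf []))) (.node (.node (.leaf [1, 0, 1, 0, 0, 12, 0, 0, 0]) (.leaf [])) (.node (.leaf []) (.leaf [11578, (-2092710136), 2091099102, 5528, (-196125325), (-6783383631), 5782, 5253, 85])))) (.node (.node (.node (.node (.leaf []) (.leaf [403548, (-306760296341), 306532407151, 956509, (-27572925617), (-985856285789), 373388, 810511, (-344287)])) (.leaf [0, 1, (-1), 0, 0, 0, 0, 0, 0])) (.node (.leaf [0, 1, 0, 0, 0, (-3), 0, 0, 0]) (.leaf [1190, (-448015653), 447679217, 1237, (-40970053), (-1445023369), 717, 1126, (-324)]))) (.node (.node (.leaf [2, (-9), 6, 0, 44, 411, 1, 0, 0]) (.leaf [62, (-420151), 419420, (-2), (-106139), (-1820542), 27, 2, 11])) (.node (.leaf []) (.leaf [])))))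

def certSL18 : Janko.Tree (List ℤ) :=
  (.node (.node (.node (.node (.node (.leaf []) (.leaf [])) (.leaf [])) (.node (.leaf []) (.leaf [0, 8152, (-8165), 0, (-767), 14365, 0, (-1), 0]))) (.node (.node (.leaf [0, (-1), 2, 0, 0, 0, 0, 0, 0]) (.leaf [0, 0, 0, 0, 0, (-1), 0, 0, 0])) (.node (.leaf []) (.leaf [(-8947), (-874317041), 873732536, 3858, (-69522684), (-2743523289), (-2771), 2637, (-3763)])))) (.node (.node (.node (.node (.leaf []) (.leaf [366972, (-93594971526), 93523942749, 275528, (-8607950253), (-302157199416), 207690, 246547, (-48921)])) (.leaf [])) (.node (.leaf []) (.leaf [0, 2, 0, 0, 0, 0, 0, 0, 0]))) (.node (.node (.leaf []) (.leaf [0, 1257, (-1257), 0, 670, 8310, 0, (-1), 0])) (.node (.leaf [2, (-56), 53, 0, 3, (-84), 0, 0, 0]) (.leaf [])))))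

def certSL19 : Janko.Tree (List ℤ) :=
  (.node (.node (.node (.node (.node (.leaf []) (.leaf [1720713, 829371497416, (-828772860634), (-2945850), 72112708742, 2647782579642, (-35622), (-2301286), 1714462])) (.leaf [(-14467), 21149903121, (-21134278050), (-66677), 1889882419, 67887973057, (-19299), (-56011), 27054])) (.node (.leaf []) (.leaf [0, (-1), 0, 0, 0, 3, 0, 0, 0]))) (.node (.node (.leaf [(-2), (-7), 8, 0, 2, 6, 0, 0, 0]) (.leaf [])) (.node (.leaf []) (.leaf [0, (-1), 0, 0, 0, (-3), 0, 0, 0])))) (.node (.node (.node (.node (.leaf []) (.leaf [647388, (-109878433563), 109793532707, 287325, (-10303279574), (-356219204080), 316895, 270998, 20950])) (.leaf [(-36541), 8778903150, (-8772194401), (-26670), 809070396, 28366561718, (-23999), (-22652), 2186])) (.node (.leaf []) (.leaf [(-5), 141884, (-141745), 0, 13359, 469954, 0, 1, (-4)]))) (.node (.node (.leaf []) (.leaf [])) (.node (.leaf [0, 13, (-12), 0, 16, 190, 0, (-1), 0]) (.leaf [14, 745720, (-745239), (-5), 52273, 2284300, (-2), (-2), 8])))))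

def certSL20 : Janko.Tree (List ℤ) :=
  (.node (.node (.node (.node (.node (.leaf []) (.leaf [])) (.leaf [])) (.node (.leaf [0, (-2209), 2215, 1, (-2396), (-25218), 1, 0, 0]) (.leaf [0, (-336), 337, 0, (-769), (-6824), 1, 0, 0]))) (.node (.node (.leaf []) (.leaf [])) (.node (.leaf [0, 1, 0, 0, 0, 0, 0, 0, 0]) (.leaf [0, 45325, (-45299), 0, 3752, 144629, 0, (-1), 0])))) (.node (.node (.node (.node (.leaf []) (.leaf [1, 6302, (-6328), 0, 294, 17553, 1, (-1), 1])) (.leaf [])) (.node (.leaf []) (.leaf [(-60497), (-12116707847), 12108195029, 45476, (-1022494953), (-38453323099), (-15349), 34298, (-34658)]))) (.node (.node (.leaf [0, 3, (-3), 0, 0, 4, 0, 0, 0]) (.leaf [0, (-7590), 7599, 0, 889, (-11724), 1, 1, 0])) (.node (.leaf [3, 15, (-15), 0, (-4), 29, 0, 0, 0]) (.leaf [])))))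

def certSL21 : Janko.Tree (List ℤ) :=
  (.node (.node (.node (.node (.node (.leaf []) (.leaf [0, 5, (-5), 0, 0, (-6), 0, 0, 0])) (.leaf [])) (.node (.leaf []) (.leaf []))) (.node (.node (.leaf []) (.leaf [0, (-95), 93, 0, (-96), (-1232), 1, 0, 0])) (.node (.leaf [0, (-5), 4, 1, 0, (-10), 0, 0, 0]) (.leaf [(-19), 7398115, (-7392677), (-9), 726833, 24267292, (-4), (-13), 3])))) (.node (.node (.node (.node (.leaf []) (.leaf [(-45), 4782868, (-4779278), (-3), 479585, 15746433, (-16), (-12), (-2)])) (.leaf [5, 169590, (-169519), (-2), 16448, 544721, (-1), (-4), 7])) (.node (.leaf [0, (-1), 0, 0, 0, (-4), 0, 0, 0]) (.leaf []))) (.node (.node (.leaf [3, 1245, (-1243), 0, 158, 4212, 1, 0, 1]) (.leaf [0, 178, (-181), 0, 72, 1102, 1, 0, 0])) (.node (.leaf []) (.leaf [(-5372), 2208303587, (-2206648719), (-6527), 200777282, 7113401525, (-3384), (-5739), 1807])))))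

def certSL22 : Janko.Tree (List ℤ) :=
  (.node (.node (.node (.node (.node (.leaf []) (.leaf [0, 5, (-3), 0, 0, 0, 0, 0, 0])) (.leaf [])) (.node (.leaf []) (.leaf [0, 336, (-336), 0, (-121), (-44), 1, 0, 0]))) (.node (.node (.leaf [0, (-3), 3, 0, 0, 8, 0, 0, 0]) (.leaf [])) (.node (.leaf []) (.leaf [0, (-1), 1, (-1), 0, (-1), 0, 0, 0])))) (.node (.node (.node (.node (.leaf []) (.leaf [(-22542), 6298987786, (-6294221556), (-17825), 578608578, 20332951537, (-12655), (-16163), 3198])) (.leaf [])) (.node (.leaf []) (.leaf [0, (-7200), 7219, 0, 815, (-11279), (-1), 1, 0]))) (.node (.node (.leaf [0, (-13), 14, 0, 0, (-7), 0, 0, 0]) (.leaf [193, 25847930, (-25830494), (-72), 2145979, 81818479, 83, (-64), 86])) (.node (.leaf []) (.leaf [])))))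

def certSL23 : Janko.Tree (List ℤ) :=
  (.node (.node (.node (.node (.node (.leaf []) (.leaf [])) (.leaf [])) (.node (.leaf [0, 2, (-2), 0, 0, 0, 0, 0, 0]) (.leaf []))) (.node (.node (.leaf []) (.leaf [0, 19, (-23), 0, 57, 547, 1, 0, 0])) (.node (.leaf []) (.leaf [])))) (.node (.node (.node (.node (.leaf []) (.leaf [(-32656), 10678369075, (-10670323445), (-30813), 976410026, 34437216215, (-19422), (-27579), 6946])) (.leaf [0, 2, 0, 0, 0, 0, 0, 0, 0])) (.node (.leaf []) (.leaf [0, 1, 0, 0, 0, (-5), 0, 0, 0]))) (.node (.node (.leaf []) (.leaf [0, 3, (-3), 0, 0, (-11), 0, 0, 0])) (.node (.leaf [0, 7527, (-7525), 0, (-1226), 9257, 0, (-1), 0]) (.leaf [])))))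

def certSL24 : Janko.Tree (List ℤ) :=
  (.node (.node (.node (.node (.node (.leaf []) (.leaf [5, 254132, (-254003), (-1), 26116, 840197, 3, (-1), 3])) (.leaf [])) (.node (.leaf []) (.leaf []))) (.node (.node (.leaf []) (.leaf [])) (.node (.leaf []) (.leaf [100, 17322367, (-17310300), (-64), 1462088, 54935916, 9, (-56), 74])))) (.node (.node (.node (.node (.leaf []) (.leaf [0, 64097, (-64077), 0, 3880, 188992, (-4), (-2), 1])) (.leaf [])) (.node (.leaf [0, (-1), 1, 0, 0, (-11), 0, 0, 0]) (.leaf []))) (.node (.node (.leaf []) (.leaf [])) (.node (.leaf [0, (-1449), 1449, 0, (-543), (-8201), 0, 0, 0]) (.leaf [0, (-7), 7, 0, (-1), (-6), 0, 0, 0])))))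

def certSL25 : Janko.Tree (List ℤ) :=
  (.node (.node (.node (.node (.node (.leaf []) (.leaf [])) (.leaf [])) (.node (.leaf []) (.leaf [0, 736, (-735), 0, (-585), (-2826), 0, 0, 0]))) (.node (.node (.leaf []) (.leaf [1, 4, 0, (-1), (-41), (-304), 0, 0, 0])) (.node (.leaf [0, 1, 0, 0, (-1), 0, 0, 0, 0]) (.leaf [0, 13, (-13), 0, 7, 128, 0, 0, 0])))) (.node (.node (.node (.node (.leaf []) (.leaf [(-44), 16555822, (-16543256), (-56), 1440954, 52843204, (-47), (-46), 9])) (.leaf [0, (-6), 6, 0, 0, 2, 0, 0, 0])) (.node (.leaf []) (.leaf [0, (-3), 3, 0, 0, 1, 0, 0, 0]))) (.node (.node (.leaf [3, 34, (-36), 0, (-3), 78, 1, 0, 0]) (.leaf [])) (.node (.leaf []) (.leaf [])))))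

def certSL26 : Janko.Tree (List ℤ) :=
  (.node (.node (.node (.node (.node (.leaf []) (.leaf [(-1), 12215, (-12221), 0, 1133, 39748, 0, (-1), 0])) (.leaf [0, (-14), 14, 0, (-1), (-49), 0, 0, 0])) (.node (.leaf []) (.leaf [1, (-164), 161, 1, 128, 465, 1, 0, 0]))) (.node (.node (.leaf [0, 3, (-3), 0, 1, 24, 0, 0, 0]) (.leaf [])) (.node (.leaf [0, 1023, (-1021), 0, (-699), (-2803), 1, 0, 0]) (.leaf [114, 12004760, (-11996652), (-49), 979675, 37827272, 29, (-42), 62])))) (.node (.node (.node (.node (.leaf []) (.leaf [(-2), 1763226, (-1761963), 1, 170155, 5763760, 4, (-2), 0])) (.leaf [0, (-3), 3, 0, 0, 0, 0, 0, 0])) (.node (.leaf []) (.leaf [13315, (-21500378126), 21484503547, 67987, (-1919843096), (-69002708871), 19134, 57014, (-27961)]))) (.node (.node (.leaf []) (.leaf [])) (.node (.leaf []) (.leaf [(-9271), 2745159340, (-2743086235), (-7713), 252220544, 8862237601, (-5440), (-7084), 1683])))))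

def certSL27 : Janko.Tree (List ℤ) :=
  (.node (.node (.node (.node (.node (.leaf []) (.leaf [(-5768), 716349137, (-715787620), (-1679), 68616142, 2332746566, (-2600), (-1755), (-490)])) (.leaf [0, 424, (-423), 0, 666, 6267, 1, 0, 0])) (.node (.leaf []) (.leaf [0, 442, (-440), 0, (-587), (-3625), 1, 0, 0]))) (.node (.node (.leaf []) (.leaf [(-28), (-27258891), 27239104, 94, (-2394804), (-87187907), 22, 78, (-55)])) (.node (.leaf []) (.leaf [69107, 975920579, (-975640020), (-11752), 30006366, 2709011893, 24476, (-5655), 21810])))) (.node (.node (.node (.node (.leaf []) (.leaf [(-176), 546370066, (-545967913), (-1588), 48922074, 1754668197, (-278), (-1389), 703])) (.leaf [])) (.node (.leaf []) (.leaf []))) (.node (.node (.leaf []) (.leaf [])) (.node (.leaf [0, 2705, (-2704), 0, 1213, 16509, 0, (-1), 0]) (.leaf [])))))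

def certSL28 : Janko.Tree (List ℤ) :=
  (.node (.node (.node (.node (.node (.leaf []) (.leaf [331, (-184866721), 184728843, 518, (-16764095), (-595247868), 222, 466, (-180)])) (.leaf [0, 1, (-1), 0, 0, (-6), 0, 0, 0])) (.node (.leaf []) (.leaf [0, 16, (-18), 1, 0, 58, 0, 0, 0]))) (.node (.node (.leaf [0, 0, 0, 0, 0, 0, 0, 0, 1]) (.leaf [(-14), 2818085, (-2815957), 3, 290330, 9352338, 4, (-3), (-5)])) (.node (.leaf []) (.leaf [3, (-311281), 311037, 1, (-27428), (-987874), 7, 0, 1])))) (.node (.node (.node (.node (.leaf []) (.leaf [40148, 4705240805, (-4702035838), (-19737), 383102659, 14830659866, 11829, (-13943), 18090])) (.leaf [])) (.node (.leaf []) (.leaf []))) (.node (.node (.leaf []) (.leaf [])) (.node (.leaf [0, 1, 0, 0, 0, 0, 0, 0, 0]) (.leaf [0, 0, 0, 0, 0, (-2), 0, 0, 0])))))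

def certSL29 : Janko.Tree (List ℤ) :=
  (.node (.node (.node (.node (.node (.leaf []) (.leaf [(-2), 297921, (-297706), 0, 25970, 945019, (-4), (-2), 1])) (.leaf [])) (.node (.leaf [0, 1, 0, 0, 0, 0, 0, 0, 0]) (.leaf []))) (.node (.node (.leaf []) (.leaf [(-12), 1592779, (-1591556), 5, 176240, 5387433, 8, 1, (-8)])) (.node (.leaf []) (.leaf [0, (-38560), 38534, 0, (-3615), (-123805), 0, 0, 0])))) (.node (.node (.node (.node (.leaf []) (.leaf [38395, 5330110796, (-5326437089), (-21429), 440468838, 16847733721, 10792, (-15529), 18597])) (.leaf [])) (.node (.leaf []) (.leaf [(-8), (-199196), 199170, 0, (-15110), (-617941), (-4), 4, (-7)]))) (.node (.node (.leaf [0, 1, (-1), 0, 0, (-5), 0, 0, 0]) (.leaf [0, 112898, (-112811), 1, 10295, 368967, 1, 0, 0])) (.node (.leaf [(-3), (-428090), 427821, 3, (-34288), (-1342636), (-1), 1, (-2)]) (.leaf [])))))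

def certSL30 : Janko.Tree (List ℤ) :=
  (.node (.node (.node (.node (.node (.leaf []) (.leaf [4, (-12189), 12177, 0, (-2675), (-53928), 0, (-1), 2])) (.leaf [0, 2, (-2), 0, 1, 1, 0, 0, 0])) (.node (.leaf []) (.leaf []))) (.node (.node (.leaf []) (.leaf [])) (.node (.leaf []) (.leaf [0, 6, (-7), 0, 3, 22, 0, 0, 0])))) (.node (.node (.node (.node (.leaf []) (.leaf [(-10342), 2387364924, (-2385548831), (-6380), 220803887, 7717307289, (-5370), (-5994), 718])) (.leaf [])) (.node (.leaf []) (.leaf [13434, (-5823418493), 5819061791, 17081, (-528727626), (-18753122956), 8417, 15054, (-4884)]))) (.node (.node (.leaf []) (.leaf [])) (.node (.leaf [(-3), (-428444), 428178, 3, (-34548), (-1347182), (-2), 1, (-2)]) (.leaf [(-3299), 607703303, (-607237048), (-1581), 56815104, 1968879853, (-1581), (-1517), (-7)])))))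

def certSL31 : Janko.Tree (List ℤ) :=
  (.node (.node (.node (.node (.node (.leaf []) (.leaf [0, 64, (-62), 0, 66, 800, 0, 0, 0])) (.leaf [])) (.node (.leaf [0, 16, (-16), 0, 0, 44, 0, 0, 0]) (.leaf [(-110), 75348831, (-75292684), (-221), 6751797, 241982538, (-88), (-193), 79]))) (.node (.node (.leaf []) (.leaf [0, (-10), 9, 0, 2, 19, 0, 0, 0])) (.node (.leaf [(-306), (-128092366), 128000662, 379, (-11221102), (-409604245), (-105), 331, (-268)]) (.leaf [2384, (-617758101), 617288138, 1586, (-57136965), (-1997240513), 1196, 1467, (-142)])))) (.node (.node (.node (.node (.leaf []) (.leaf [9579, (-4129831368), 4126738183, 12348, (-375068534), (-13299945912), 6394, 10810, (-3511)])) (.leaf [])) (.node (.leaf []) (.leaf []))) (.node (.node (.leaf []) (.leaf [])) (.node (.leaf [(-3), (-428199), 427929, 3, (-34378), (-1344292), (-1), 1, (-2)]) (.leaf [])))))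

def certSL32 : Janko.Tree (List ℤ) :=
  (.node (.node (.node (.node (.node (.leaf []) (.leaf [3, (-852136), 851530, 3, (-78505), (-2758091), (-1), 3, (-1)])) (.leaf [])) (.node (.leaf [0, (-3), 3, 0, 0, 0, 0, 0, 0]) (.leaf []))) (.node (.node (.leaf []) (.leaf [])) (.node (.leaf []) (.leaf [])))) (.node (.node (.node (.node (.leaf [0, 1, 0, 0, 0, 0, 0, 0, 0]) (.leaf [34446, (-29645609245), 29623609832, 92404, (-2661679885), (-95251691551), 33922, 78127, (-34091)])) (.leaf [2, 20570, (-20570), 0, (-693), 45192, 0, (-2), 3])) (.node (.leaf [(-1), 7781, (-7789), 0, (-903), 12296, 1, (-1), 0]) (.leaf []))) (.node (.node (.leaf []) (.leaf [])) (.node (.leaf []) (.leaf [])))))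

def certSL33 : Janko.Tree (List ℤ) :=
  (.node (.node (.node (.node (.node (.leaf []) (.leaf [(-684718), 73853647197, (-73794946633), (-154557), 7153779164, 241163571598, (-312737), (-167501), (-91382)])) (.leaf [0, (-13), 14, 0, (-1), (-49), 0, 0, 0])) (.node (.leaf []) (.leaf []))) (.node (.node (.leaf []) (.leaf [])) (.node (.leaf [0, 1, (-1), 0, 0, 0, 0, 0, 0]) (.leaf [(-1), 343746, (-343510), 0, 30099, 1096906, (-1), (-3), 3])))) (.node (.node (.node (.node (.leaf []) (.leaf [2742, 222848540, (-222703762), (-967), 17597661, 698175813, 915, (-714), 1211])) (.leaf [0, (-74), 74, 0, (-3), (-170), (-1), 0, 0])) (.node (.leaf [0, (-4), 5, 0, (-1), (-11), 0, 0, 0]) (.leaf [0, (-2), 3, 0, 0, 0, 0, 0, 0]))) (.node (.node (.leaf []) (.leaf [(-74212), (-30914215866), 30891981564, 108709, (-2680557184), (-98634211224), (-6221), 85409, (-66460)])) (.node (.leaf []) (.leaf [0, 1, 0, 0, 0, 0, 0, 0, 0])))))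

def certSL34 : Janko.Tree (List ℤ) :=
  (.node (.node (.node (.node (.node (.leaf []) (.leaf [(-12051), 2278441348, (-2276691089), (-6020), 213089734, 7382339365, (-6030), (-5702), 36])) (.leaf [])) (.node (.leaf []) (.leaf [875, (-529994200), 529599664, 1503, (-48018829), (-1706141523), 628, 1354, (-529)]))) (.node (.node (.leaf []) (.leaf [])) (.node (.leaf []) (.leaf [])))) (.node (.node (.node (.node (.leaf []) (.leaf [20624, (-15201150400), 15189845924, 47904, (-1366137999), (-48853403757), 20046, 40197, (-16735)])) (.leaf [0, 9, (-8), 0, 0, 3, 0, 0, 0])) (.node (.leaf []) (.leaf []))) (.node (.node (.leaf [0, (-277), 275, 0, (-46), (-1360), 1, 0, 0]) (.leaf [])) (.node (.leaf [22476, (-8365616100), 8359286041, 24099, (-762640130), (-26988884792), 19065, 20349, (-3263)]) (.leaf [354893, (-462167691101), 461825916909, 1472514, (-41321571180), (-1483690122322), 475638, 1230979, (-590527)])))))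

def certSL35 : Janko.Tree (List ℤ) :=
  (.node (.node (.node (.node (.node (.leaf []) (.leaf [])) (.leaf [])) (.node (.leaf []) (.leaf []))) (.node (.node (.leaf []) (.leaf [])) (.node (.leaf []) (.leaf [(-90157), (-28270839300), 28250639069, 102471, (-2432184882), (-90060552392), (-13189), 78986, (-66974)])))) (.node (.node (.node (.node (.leaf []) (.leaf [(-11852), 2113522653, (-2111898728), (-5418), 197910538, 6849622644, (-5709), (-5283), (-62)])) (.leaf [])) (.node (.leaf []) (.leaf [0, 12, (-12), 0, 1, 49, 0, 0, 0]))) (.node (.node (.leaf [1, 0, 1, 0, 0, (-9), 0, 0, 0]) (.leaf [79288, (-119249070011), 119160965792, 383805, (-10648330182), (-382729049760), 123305, 319401, (-157992)])) (.node (.leaf [105140, (-23509790657), 23491789126, 62830, (-2178613937), (-76074754220), 61897, 56638, (-53)]) (.leaf [120445, (-254762288626), 254574352742, 819004, (-22718165052), (-817427947783), 232301, 679734, (-344102)])))))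

def certSL36 : Janko.Tree (List ℤ) :=
  (.node (.node (.node (.node (.node (.leaf []) (.leaf [0, 1, 1, (-1), (-2), 21, 0, 0, 0])) (.leaf [])) (.node (.leaf [(-306), (-128092367), 128000662, 379, (-11221102), (-409604261), (-105), 331, (-268)]) (.leaf []))) (.node (.node (.leaf []) (.leaf [0, (-35), 35, 0, (-8), (-148), (-1), 0, 0])) (.node (.leaf []) (.leaf [(-135614), 1859853484, (-1857628032), 9464, 281962355, 6813938205, (-51658), (-190), (-35094)])))) (.node (.node (.node (.node (.leaf []) (.leaf [8936, 881400566, (-880810828), (-3873), 70220166, 2766755352, 2757, (-2651), 3773])) (.leaf [])) (.node (.leaf []) (.leaf [(-5191556), 2346586684634, (-2344829409054), (-7123356), 212712548835, 7554670422233, (-3749351), (-6133639), 2030440]))) (.node (.node (.leaf []) (.leaf [(-2133), 548430338, (-548012751), (-1452), 50629583, 1772309421, (-1155), (-1335), 165])) (.node (.leaf [0, (-1379), 1379, 0, (-694), (-8956), (-1), 0, 0]) (.leaf [])))))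

def certSL37 : Janko.Tree (List ℤ) :=
  (.node (.node (.node (.node (.node (.leaf []) (.leaf [(-48), 2325471, (-2323477), 3, 269317, 7937757, (-4), 3, (-23)])) (.leaf [0, (-2), 1, 0, 0, (-18), 0, 0, 0])) (.node (.leaf [0, (-4), 4, 0, 0, 10, 0, 0, 0]) (.leaf [0, 2, 0, 0, 0, 0, 0, 0, 0]))) (.node (.node (.leaf []) (.leaf [])) (.node (.leaf [0, 1, 0, 0, 0, 0, 0, 0, 0]) (.leaf [])))) (.node (.node (.node (.node (.leaf []) (.leaf [(-42856), 31332560527, (-31309272278), (-97041), 2818483997, 100709682017, (-38217), (-82501), 34501])) (.leaf [0, (-1), 0, 0, 0, 4, 0, 0, 0])) (.node (.leaf []) (.leaf [0, (-1), 1, 0, 1, 8, 0, 0, 0]))) (.node (.node (.leaf []) (.leaf [0, (-3), 3, 0, 0, 0, 0, 0, 0])) (.node (.leaf [0, 1, 0, 0, 0, 0, 0, 0, 0]) (.leaf [(-11369), 22838298854, (-22821457853), (-72167), 2037326899, 73282318260, (-19054), (-60602), 30562])))))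

def certSL38 : Janko.Tree (List ℤ) :=
  (.node (.node (.node (.node (.node (.leaf []) (.leaf [215, 15400864, (-15391202), (-42), 1226860, 48400752, 116, (-32), 69])) (.leaf [])) (.node (.leaf [3, 427979, (-427710), (-3), 34398, 1343944, 1, (-1), 2]) (.leaf []))) (.node (.node (.leaf []) (.leaf [0, (-15), 15, 0, 0, (-18), 0, 0, 0])) (.node (.leaf []) (.leaf [320391, 430667412147, (-430353236192), (-1449234), 37962370627, 1378659408039, (-225144), (-1177893), 746188])))) (.node (.node (.node (.node (.leaf [0, 7, (-7), 0, 0, (-2), 0, 0, 0]) (.leaf [43202, 508747921379, (-508374718774), (-1663267), 45131948351, 1630656869059, (-375584), (-1377911), 791281])) (.leaf [])) (.node (.leaf []) (.leaf [0, 2, 0, 0, 0, 0, 0, 0, 0]))) (.node (.node (.leaf []) (.leaf [])) (.node (.leaf []) (.leaf [11369, (-22838302322), 22821461322, 72167, (-2037324198), (-73282305849), 19054, 60602, (-30562)])))))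

def certSL39 : Janko.Tree (List ℤ) :=
  (.node (.node (.node (.node (.node (.leaf []) (.leaf [])) (.leaf [0, 43, (-42), 0, 14, 282, 1, 0, 0])) (.node (.leaf []) (.leaf [320, 113797701, (-113716578), (-352), 9963896, 363801227, 85, (-307), 276]))) (.node (.node (.leaf []) (.leaf [])) (.node (.leaf [0, (-6), 6, 0, (-1), (-4), 0, 0, 0]) (.leaf [])))) (.node (.node (.node (.node (.leaf []) (.leaf [42934, (-82449041654), 82388136083, 271353, (-7347494496), (-264525557795), 85753, 221205, (-109453)])) (.leaf [0, (-14), 14, 0, 1, (-10), 0, 0, 0])) (.node (.leaf []) (.leaf [0, (-1), (-1), 0, 0, 0, 0, 0, 0]))) (.node (.node (.leaf [0, 1, 0, 0, 0, 0, 0, 0, 0]) (.leaf [(-57933), 49318636668, (-49282043311), (-153125), 4428393730, 158462068049, (-55074), (-129922), 56606])) (.node (.leaf [0, 3572, (-3571), 0, (-1183), (-334), 0, 0, 0]) (.leaf [])))))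

def certSL40 : Janko.Tree (List ℤ) :=
  (.node (.node (.node (.node (.node (.leaf []) (.leaf [])) (.leaf [0, 321, (-319), 1, 13, 951, 1, 0, 0])) (.node (.leaf []) (.leaf []))) (.node (.node (.leaf []) (.leaf [])) (.node (.leaf []) (.leaf [])))) (.node (.node (.node (.node (.leaf []) (.leaf [(-187541), 158288106896, (-158170633290), (-498234), 14212464567, 508580648647, (-187500), (-420525), 185282])) (.leaf [0, (-2), 2, 1, 0, 0, 0, 0, 0])) (.node (.leaf []) (.leaf [(-674490), 479161377528, (-478805065260), (-1500269), 43098876031, 1540143147224, (-616685), (-1268334), 527376]))) (.node (.node (.leaf [2, 8751, (-8760), 0, (-727), 16039, 1, (-1), 1]) (.leaf [45564, (-32453601129), 32429440923, 99249, (-2920709358), (-104328900024), 40248, 83933, (-33709)])) (.node (.leaf []) (.leaf [0, 0, 0, 0, 0, (-2), 0, 0, 0])))))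

def certSL41 : Janko.Tree (List ℤ) :=
  (.node (.node (.node (.node (.node (.leaf [0, (-265), 263, 0, (-6), (-786), 1, 0, 0]) (.leaf [22542, (-6298931247), 6294165043, 17825, (-578603793), (-20332773753), 12655, 16163, (-3199)])) (.leaf [0, 1, (-1), 0, 0, 0, 0, 0, 0])) (.node (.leaf [0, (-80), 83, 0, (-102), (-1702), (-1), 0, 0]) (.leaf [483507, (-451152673528), 450818182840, 1421816, (-40454221610), (-1449185231914), 514889, 1196918, (-538404)]))) (.node (.node (.leaf [0, 1, (-1), 0, 0, 0, 0, 0, 0]) (.leaf [])) (.node (.leaf []) (.leaf [17101, (-22833685427), 22816807630, 71769, (-2041882183), (-73303403602), 21420, 60437, (-28932)])))) (.node (.node (.node (.node (.leaf [1, 7, (-6), 0, 1, 25, 0, 0, 0]) (.leaf [106629, (-188274606650), 188135571008, 606742, (-16798793359), (-604180580008), 184685, 502253, (-248521)])) (.leaf [])) (.node (.leaf [(-1), 12, (-13), 0, 7, 26, 1, 0, 0]) (.leaf [19126, (-4500999564), 4497570884, 12501, (-416484915), (-14551746297), 10550, 11436, (-1446)]))) (.node (.node (.leaf [0, 8, (-7), 0, 2, 47, 0, 0, 0]) (.leaf [24419, (-1061149936), 1060178573, (-1171),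 (-116152007), (-3566260999), 9331, 85, 7439])) (.node (.leaf [0, (-77), 77, 0, (-3), (-171), (-1), 0, 0]) (.leaf [])))))

def certSL42 : Janko.Tree (List ℤ) :=
  (.node (.node (.node (.node (.node (.leaf []) (.leaf [(-862803), 326403833123, (-326158619554), (-970238), 29713705489, 1051742978522, (-569346), (-849023), 248172])) (.leaf [])) (.node (.leaf [0, (-173), 176, 0, (-72), (-1102), (-1), 0, 0]) (.leaf []))) (.node (.node (.leaf []) (.leaf [])) (.node (.leaf []) (.leaf [])))) (.node (.node (.node (.node (.leaf []) (.leaf [(-5630222), 642374541077, (-641866610102), (-1453561), 61862385263, 2094633021225, (-2553966), (-1514414), (-649905)])) (.leaf [])) (.node (.leaf [(-1), (-190808), 190681, (-1), (-16269), (-606419), (-3), 2, (-2)]) (.leaf []))) (.node (.node (.leaf []) (.leaf [])) (.node (.leaf []) (.leaf [16095, (-2094549076), 2092905892, 5452, (-199936821), (-6815405599), 7986, 5338, 1169])))))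

def certSL43 : Janko.Tree (List ℤ) :=
  (.node (.node (.node (.node (.node (.leaf []) (.leaf [6, 57838, (-57908), 0, 3008, 165745, 3, (-3), 6])) (.leaf [0, (-2), 2, 0, 0, 2, 0, 0, 0])) (.node (.leaf []) (.leaf []))) (.node (.node (.leaf []) (.leaf [])) (.node (.leaf []) (.leaf [41138, 78115639055, (-78058629898), (-261961), 6896131152, 250096010830, (-35160), (-215289), 134358])))) (.node (.node (.node (.node (.leaf []) (.leaf [(-918525), (-1323373075903), 1322406650226, 4444567, (-116656677874), (-4236335060132), 684285, 3597988, (-2237490)])) (.leaf [0, 1, 0, 0, 0, (-3), 0, 0, 0])) (.node (.leaf [0, (-6), 8, (-1), 0, (-1), 0, 0, 0]) (.leaf [0, (-2), 0, 0, 0, 0, 0, 0, 0]))) (.node (.node (.leaf []) (.leaf [])) (.node (.leaf [0, (-4), 3, 0, (-1), (-14), 0, 0, 0]) (.leaf [(-10051), (-110120596999), 110039872708, 363331, (-9764406414), (-352888686657), 70212, 300332, (-173284)])))))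

def certSL44 : Janko.Tree (List ℤ) :=
  (.node (.node (.node (.node (.node (.leaf []) (.leaf [(-9), (-317595), 317389, 2, (-17902), (-940420), 4, 1, (-6)])) (.leaf [])) (.node (.leaf []) (.leaf []))) (.node (.node (.leaf []) (.leaf [])) (.node (.leaf []) (.leaf [3697, (-14647307585), 14636504314, 49448, (-1304008107), (-46981863635), 15243, 39891, (-21123)])))) (.node (.node (.node (.node (.leaf []) (.leaf [2714, (-432561302), 432228344, 988, (-41151786), (-1406808483), 1351, 1103, (-54)])) (.leaf [])) (.node (.leaf [0, 6, (-4), (-1), 0, 10, 0, 0, 0]) (.leaf [0, 120, (-123), 0, (-86), (-547), 1, 0, 0]))) (.node (.node (.leaf []) (.leaf [(-785), 425266232, (-424949200), (-1195), 38607353, 1369576106, (-531), (-1082), 408])) (.node (.leaf []) (.leaf [])))))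

def certSL45 : Janko.Tree (List ℤ) :=
  (.node (.node (.node (.node (.node (.leaf []) (.leaf [(-16), 720454, (-719854), 2, 77407, 2416563, (-1), (-1), (-5)])) (.leaf [])) (.node (.leaf [0, 289, (-289), 0, 10, 1155, 0, 0, 0]) (.leaf [167, (-82261105), 82199709, 222, (-7497957), (-265170017), 89, 198, (-60)]))) (.node (.node (.leaf []) (.leaf [0, 206, (-206), 0, 6, 657, 0, 0, 0])) (.node (.leaf []) (.leaf [(-567860), 535793401319, (-535396354994), (-1700553), 48036042890, 1721057380834, (-650773), (-1435934), 664483])))) (.node (.node (.node (.node (.leaf []) (.leaf [3400, (-813651944), 813034688, 2162, (-75404864), (-2631505776), 1784, 2094, (-365)])) (.leaf [])) (.node (.leaf [0, 2, 0, 0, 0, 0, 0, 0, 0]) (.leaf [5501, (-2203219074), 2201567212, 6491, (-200428535), (-7097860178), 3421, 5719, (-1759)]))) (.node (.node (.leaf []) (.leaf [(-43592), (-41477743959), 41447553596, 139911, (-3646235699), (-132693617307), 11934, 112815, (-73991)])) (.node (.leaf []) (.leaf [1200, 339032484, (-338790709), (-1186), 29142947, 1079566754, 282, (-912), 851])))))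

def certSL46 : Janko.Tree (List ℤ) :=
  (.node (.node (.node (.node (.node (.leaf []) (.leaf [0, (-324), 321, (-1), (-13), (-949), (-1), 0, 0])) (.leaf [])) (.node (.leaf [0, 398, (-395), 0, 30, 1521, (-1), 0, 0]) (.leaf [49, (-1480109), 1478816, (-3), (-184240), (-5156590), 5, 0, 20]))) (.node (.node (.leaf []) (.leaf [])) (.node (.leaf []) (.leaf [326754, (-260287415083), 260094719805, 826667, (-23385057712), (-836340166748), 340085, 715938, (-351220)])))) (.node (.node (.node (.node (.leaf []) (.leaf [(-91831), 252741393431, (-252555124633), (-816493), 22505575633, 810696375550, (-219386), (-676263), 350980])) (.leaf [])) (.node (.leaf []) (.leaf []))) (.node (.node (.leaf [0, (-1233), 1232, 0, (-94), (-3354), 0, 0, (-1)]) (.leaf [])) (.node (.leaf [0, 0, 0, 0, 0, (-2), 0, 0, 0]) (.leaf [0, (-114124), 114063, (-1), (-3210), (-311985), (-1), 0, 0])))))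

def certSL47 : Janko.Tree (List ℤ) :=
  (.node (.node (.node (.node (.node (.leaf []) (.leaf [])) (.leaf [0, (-13), 13, 0, (-1), (-48), 0, 0, 0])) (.node (.leaf []) (.leaf []))) (.node (.node (.leaf [0, 1, 0, 0, 0, 0, 0, 0, 0]) (.leaf [30796, (-47395294126), 47360282910, 148936, (-4234154992), (-152133658710), 43937, 125062, (-60327)])) (.node (.leaf []) (.leaf [(-4199), (-335954395357), 335707757287, 1109523, (-29809161908), (-1076853338367), 277426, 916245, (-524556)])))) (.node (.node (.node (.node (.leaf []) (.leaf [(-13772), 7304239718, (-7298789402), (-21818), 660877354, 23505687461, (-9919), (-18983), 6992])) (.leaf [])) (.node (.leaf [0, 7, (-7), 0, 2, 12, 0, 0, 0]) (.leaf [(-13987), 2801977884, (-2799833851), (-7371), 260762548, 9069169139, (-6989), (-7010), 320]))) (.node (.node (.leaf [0, 13, (-14), 0, 0, 12, 0, 0, 0]) (.leaf [])) (.node (.leaf []) (.leaf [])))))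

def certSL48 : Janko.Tree (List ℤ) :=
  (.node (.node (.node (.node (.node (.leaf []) (.leaf [37213, (-7502995584), 7497238899, 20341, (-698406578), (-24294476511), 21031, 18775, (-242)])) (.leaf [])) (.node (.leaf []) (.leaf [0, (-7), 7, 0, 0, 0, 0, 0, 0]))) (.node (.node (.leaf []) (.leaf [13, 87968790, (-87904241), (-242), 7845386, 282337473, (-3), (-211), 109])) (.node (.leaf [0, 23934, (-23918), (-1), 2928, 84686, (-1), 0, 0]) (.leaf [])))) (.node (.node (.node (.node (.leaf []) (.leaf [5017436, (-1394055324509), 1392999006270, 4011505, (-128037421025), (-4500286113199), 2942486, 3571573, (-653856)])) (.leaf [])) (.node (.leaf []) (.leaf []))) (.node (.node (.leaf []) (.leaf [])) (.node (.leaf [(-42), (-1701358), 1700367, 12, (-113745), (-5176657), (-13), 8, (-17)]) (.leaf [0, 8214, (-8226), 0, (-770), 14941, 0, (-1), 0])))))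

def certSL49 : Janko.Tree (List ℤ) :=
  (.node (.node (.node (.node (.node (.leaf []) (.leaf [(-1167), 211949197, (-211782910), (-470), 19807736, 686726991, (-524), (-402), (-166)])) (.leaf [1, (-1334), 1340, 0, 616, 1550, 1, 0, 0])) (.node (.leaf []) (.leaf [135110, (-44736152365), 44702427076, 130690, (-4086268685), (-144250592839), 83123, 115186, (-27971)]))) (.node (.node (.leaf [0, 2, (-2), 0, 0, 11, 0, 0, 0]) (.leaf [(-2344), 96528763, (-96443798), (-100), 10613218, 324431170, (-1161), (-266), (-388)])) (.node (.leaf []) (.leaf [0, (-104018), 103966, 0, (-2867), (-284184), 0, 0, 0])))) (.node (.node (.node (.node (.leaf [0, (-243), 241, 0, 29, (-240), 1, 0, 0]) (.leaf [3154, (-227444840), 227259075, 440, (-22899161), (-748897977), 1466, 593, 438])) (.leaf [0, 6, (-5), 0, 0, 8, 0, 0, 0])) (.node (.leaf []) (.leaf [(-2416), 646243613, (-645752080), (-1723), 59572828, 2087762790, (-1259), (-1554), 172]))) (.node (.node (.leaf [1, (-21), 20, 0, 71, 541, 1, 0, 0]) (.leaf [])) (.node (.leaf []) (.leaf [(-59), (-15391822), 15380960, 50, (-1342000), (-49149835), (-17), 45, (-43)])))))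

def certSL50 : Janko.Tree (List ℤ) :=
  (.node (.node (.node (.node (.node (.leaf []) (.leaf [(-279), (-36706393), 36680778, 215, (-2964044), (-115411977), (-1), 140, (-156)])) (.leaf [(-136), (-12798980), 12790484, 57, (-1029994), (-40237070), (-31), 43, (-66)])) (.node (.leaf []) (.leaf [(-143), 9998152, (-9989834), 6, 1070907, 33435116, (-43), (-8), (-35)]))) (.node (.node (.leaf [0, (-3), 3, 0, 0, 0, 0, 0, 0]) (.leaf [0, 0, 1, 0, 0, 0, 0, 0, 0])) (.node (.leaf [0, (-11), 11, 0, 0, (-10), 0, 0, 0]) (.leaf [56476, 21232928063, (-21217684632), (-75127), 1836974524, 67711739302, 7455, (-58468), 46701])))) (.node (.node (.node (.node (.leaf []) (.leaf [0, (-34514), 34488, (-1), (-2803), (-109229), 0, 0, 0])) (.leaf [])) (.node (.leaf [0, 0, 0, (-1), 0, 0, 0, 0, 0]) (.leaf [19, (-7397173), 7391736, 9, (-726895), (-24266315), 4, 13, (-3)]))) (.node (.node (.leaf [0, 0, 0, 0, 0, (-2), 0, 0, 0]) (.leaf [])) (.node (.leaf []) (.leaf [0, (-1), 0, 1, 0, 2, 0, 0, 0])))))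

def certSL51 : Janko.Tree (List ℤ) :=
  (.node (.node (.node (.node (.node (.leaf [0, (-3), 3, 0, 0, 1, 0, 0, 0]) (.leaf [0, 1, 0, (-1), 0, (-1), 0, 0, 0])) (.leaf [])) (.node (.leaf [0, 20, (-18), 0, (-74), (-503), (-1), 0, 0]) (.leaf [(-134), 7576554, (-7570105), 16, 852072, 25644763, (-31), (-3), (-38)]))) (.node (.node (.leaf [1, 127238, (-127129), 0, 12980, 421042, 0, 1, 0]) (.leaf [0, 1270, (-1268), 0, 671, 8377, 0, (-1), 0])) (.node (.leaf []) (.leaf [47519, 261435487223, (-261243662531), (-838745), 23166116239, 837678093933, (-116048), (-687411), 380966])))) (.node (.node (.node (.node (.leaf [0, 4, (-4), 0, 0, 0, 0, 0, 0]) (.leaf [576330, (-438083679413), 437758195975, 1369529, (-39372267151), (-1407871986031), 543411, 1159032, (-493007)])) (.leaf [])) (.node (.leaf [(-13), 1527466, (-1526353), (-1), 132919, 4880979, 2, (-3), (-2)]) (.leaf [1, 539, (-536), (-1), (-1), 1320, 0, 0, 0]))) (.node (.node (.leaf [0, 165, (-166), 0, (-26), 115, 1, 0, 0]) (.leaf [])) (.node (.leaf [0, (-959), 959, 0, (-523), (-6553), (-1), 0, 0]) (.leaf [])))))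

def certSL52 : Janko.Tree (List ℤ) :=
  (.node (.node (.node (.node (.node (.leaf []) (.leaf [0, 817, (-814), (-1), (-701), (-3552), 1, 0, 0])) (.leaf [])) (.node (.leaf []) (.leaf [0, 0, 0, 0, 0, (-2), 0, 0, 0]))) (.node (.node (.leaf []) (.leaf [])) (.node (.leaf [0, 1, 0, 0, 0, 0, 0, 0, 0]) (.leaf [24906, (-5739428569), 5735061119, 15402, (-531188333), (-18555702797), 12808, 14478, (-1665)])))) (.node (.node (.node (.node (.leaf []) (.leaf [0, (-2), 3, 0, 0, (-2), 0, 0, 0])) (.leaf [])) (.node (.leaf []) (.leaf []))) (.node (.node (.leaf []) (.leaf [0, (-1), 1, 0, 1, 0, 0, 0, 0])) (.node (.leaf [3, 11, (-13), 0, (-3), 42, 0, 0, 0]) (.leaf [])))))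

def certSL53 : Janko.Tree (List ℤ) :=
  (.node (.node (.node (.node (.node (.leaf []) (.leaf [])) (.leaf [])) (.node (.leaf []) (.leaf [(-9700), 4248668763, (-4245488688), (-12519), 385735227, 13682053896, (-6380), (-11012), 3622]))) (.node (.node (.leaf []) (.leaf [0, 2, 0, 0, 0, 0, 0, 0, 0])) (.node (.leaf []) (.leaf [])))) (.node (.node (.node (.node (.leaf []) (.leaf [848, (-424888906), 424571443, 1187, (-38567364), (-1368313933), 558, 1071, (-378)])) (.leaf [])) (.node (.leaf []) (.leaf [0, (-276), 277, 0, 1, (-675), 0, 0, 0]))) (.node (.node (.leaf []) (.leaf [57818, (-48805584940), 48769369169, 151660, (-4382499326), (-156814838319), 54800, 128626, (-55889)])) (.node (.leaf []) (.leaf [(-2382), 617949474, (-617479369), (-1586), 57153163, 1997848169, (-1191), (-1469), 144])))))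

def certSL54 : Janko.Tree (List ℤ) :=
  (.node (.node (.node (.node (.node (.leaf []) (.leaf [(-48), 6970771, (-6965629), (-10), 666986, 22706571, (-13), (-18), 1])) (.leaf [(-61103), 325554538635, (-325314972763), (-1060700), 28945186700, 1043960938425, (-270753), (-874347), 468609])) (.node (.leaf [0, 0, (-1), 0, 0, 0, 0, 0, 0]) (.leaf []))) (.node (.node (.leaf []) (.leaf [])) (.node (.leaf [(-17), 2817681, (-2815549), 3, 290526, 9353848, 4, (-3), (-5)]) (.leaf [(-248), 175574572, (-175443921), (-554), 15855831, 564755021, (-158), (-476), 172])))) (.node (.node (.node (.node (.leaf []) (.leaf [0, (-23), 23, 0, 136, 1025, 0, 0, 0])) (.leaf [4189, (-1493362534), 1492237517, 4090, (-136446273), (-4815680604), 2410, 3688, (-919)])) (.node (.leaf []) (.leaf [3, (-510), 515, 0, (-211), (-3854), (-1), 0, 0]))) (.node (.node (.leaf []) (.leaf [])) (.node (.leaf []) (.leaf [2, 375658, (-375490), (-1), 33677, 1209461, 4, (-1), 1])))))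

def certSL55 : Janko.Tree (List ℤ) :=
  (.node (.node (.node (.node (.node (.leaf []) (.leaf [(-191092), (-134618361858), 134520615257, 451014, (-11794804595), (-430465972545), 28018, 360995, (-242573)])) (.leaf [])) (.node (.leaf []) (.leaf []))) (.node (.node (.leaf []) (.leaf [(-30667), 47400386827, (-47365372604), (-148972), 4234502889, 152149214096, (-43901), (-125083), 60375])) (.node (.leaf []) (.leaf [10770, (-2353462400), 2351663372, 6389, (-218498057), (-7613701492), 5697, 5886, (-438)])))) (.node (.node (.node (.node (.leaf [0, 1, 0, 0, 0, 0, 0, 0, 0]) (.leaf [(-18101), 234606538957, (-234434046503), (-767120), 20837737358, 752149883566, (-181533), (-629910), 343227])) (.leaf [])) (.node (.leaf []) (.leaf [0, (-539), 539, 0, (-9), (-1378), 0, 0, 0]))) (.node (.node (.leaf []) (.leaf [])) (.node (.leaf [44, 1701273, (-1700285), (-12), 113738, 5176357, 13, (-8), 17]) (.leaf [])))))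

def certSL56 : Janko.Tree (List ℤ) :=
  (.node (.node (.node (.node (.node (.leaf []) (.leaf [(-11310), (-446167603), 445912009, 2730, (-29868596), (-1359287810), (-3947), 1572, (-3762)])) (.leaf [549, 169640420, (-169520086), (-511), 14741508, 541612426, 206, (-442), 391])) (.node (.leaf []) (.leaf []))) (.node (.node (.leaf []) (.leaf [3, (-18762), 18763, 0, 479, (-43694), 0, 1, 0])) (.node (.leaf []) (.leaf [(-22), 2905880, (-2903246), (-20), 276122, 9449085, (-25), (-6), (-11)])))) (.node (.node (.node (.node (.leaf []) (.leaf [4, (-2045069), 2043617, 9, (-189805), (-6606764), 10, 9, (-10)])) (.leaf [(-50), (-22940657), 22924158, 90, (-1968354), (-73017553), 5, 71, (-55)])) (.node (.leaf [0, (-6), 6, 0, 0, (-5), 0, 0, 0]) (.leaf [(-1154), 577476210, (-577045278), (-1694), 52321381, 1858907925, (-806), (-1492), 541]))) (.node (.node (.leaf []) (.leaf [(-465479), 256079551431, (-255888397387), (-793309), 23121739819, 823769040058, (-377571), (-674439), 250906])) (.node (.leaf []) (.leaf [])))))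

def certSL57 : Janko.Tree (List ℤ) :=
  (.node (.node (.node (.node (.node (.leaf []) (.leaf [0, 1, 0, 0, 0, 0, 0, 0, 0])) (.leaf [])) (.node (.leaf []) (.leaf []))) (.node (.node (.leaf []) (.leaf [])) (.node (.leaf []) (.leaf [0, (-106265), 106222, 1, (-5227), (-309089), 1, 0, 0])))) (.node (.node (.node (.node (.leaf [0, (-1), 1, 0, (-2), (-21), 0, 0, 0]) (.leaf [49, (-15934864), 15922704, 53, (-1396111), (-50929718), 49, 45, (-7)])) (.leaf [0, 6, (-6), 0, 0, 4, 0, 0, 0])) (.node (.leaf []) (.leaf [(-880), 531272761, (-530877287), (-1505), 48136433, 1710269989, (-631), (-1358), 531]))) (.node (.node (.leaf []) (.leaf [])) (.node (.leaf []) (.leaf [49, (-2702046), 2699792, (-3), (-302551), (-9140036), 5, 0, 20])))))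

def certSL58 : Janko.Tree (List ℤ) :=
  (.node (.node (.node (.node (.node (.leaf []) (.leaf [53644, (-26525210844), 26505405853, 78074, (-2401323743), (-85367163893), 35468, 68622, (-24217)])) (.leaf [])) (.node (.leaf []) (.leaf [0, 23933, (-23918), (-1), 2928, 84686, (-1), 0, 0]))) (.node (.node (.leaf []) (.leaf [])) (.node (.leaf []) (.leaf [])))) (.node (.node (.node (.node (.leaf []) (.leaf [(-53793), 60272017394, (-60227385386), (-193370), 5393194948, 193531771653, (-68611), (-160857), 74601])) (.leaf [])) (.node (.leaf []) (.leaf []))) (.node (.node (.leaf []) (.leaf [])) (.node (.leaf []) (.leaf [(-503411), 286913815535, (-286699804474), (-887167), 25894091748, 922858645425, (-409539), (-755628), 287139])))))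

def certSL59 : Janko.Tree (List ℤ) :=
  (.node (.node (.node (.node (.node (.leaf []) (.leaf [73703, 10451808047, (-10444562483), (-46105), 861574263, 33028392988, 14228, (-31388), 35798])) (.leaf [0, 4, (-3), 0, 0, 5, 0, 0, 0])) (.node (.leaf []) (.leaf [1, (-460900), 460522, (-1), (-43985), (-1495290), 2, (-1), 2]))) (.node (.node (.leaf []) (.leaf [])) (.node (.leaf [0, (-17), 17, 0, 1, 0, 0, 0, 0]) (.leaf [414387, (-280326851148), 280118269165, 873521, (-25232954403), (-901178381638), 366684, 740521, (-302106)])))) (.node (.node (.node (.node (.leaf []) (.leaf [(-2), (-1088682), 1087952, 4, (-108625), (-3572046), 5, 5, (-7)])) (.leaf [0, (-77081), 77001, 0, (-5627), (-240476), 1, 0, (-1)])) (.node (.leaf []) (.leaf [2, (-59), 53, 0, 3, (-82), 0, 0, 0]))) (.node (.node (.leaf []) (.leaf [0, (-5), 6, 0, 0, 2, 0, 0, 0])) (.node (.leaf [0, 2, 0, 0, 0, 0, 0, 0, 0]) (.leaf [0, (-1), 1, 0, 0, (-1), 0, 0, 0])))))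

def certSL60 : Janko.Tree (List ℤ) :=
  (.node (.node (.node (.node (.node (.leaf []) (.leaf [30315, (-48478396756), 48442617000, 152752, (-4331006828), (-155595452988), 42247, 128746, (-64155)])) (.leaf [(-1), 231139, (-230893), 0, 21735, 752347, (-1), 2, (-3)])) (.node (.leaf [0, (-155), 157, 0, (-27), (-611), (-1), 0, 0]) (.leaf [64, (-8329975), 8323815, 13, (-803694), (-27171361), 27, 26, (-5)]))) (.node (.node (.leaf []) (.leaf [])) (.node (.leaf [0, 0, 0, 1, 0, 0, 0, 0, 0]) (.leaf [(-307386), 353737459616, (-353475783198), (-1112813), 31664886820, 1135837666538, (-365050), (-940989), 449109])))) (.node (.node (.node (.node (.leaf []) (.leaf [113236, (-25222004314), 25202739021, 70492, (-2336732940), (-81572710727), 63427, 63797, (-5150)])) (.leaf [146, 25535017, (-25517340), (-102), 2146480, 80990293, 31, (-80), 87])) (.node (.leaf [0, 0, 0, 0, 0, 5, 0, 0, 0]) (.leaf [13988, (-2802077054), 2799932844, 7370, (-260762464), (-9069423061), 6992, 7009, (-319)]))) (.node (.node (.leaf []) (.leaf [])) (.node (.leaf []) (.leaf [(-2333), 833770548, (-833144921), (-2331), 76204356, 2688826427,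 (-1358), (-2139), 618])))))

def certSL61 : Janko.Tree (List ℤ) :=
  (.node (.node (.node (.node (.node (.leaf []) (.leaf [0, 1264, (-1266), 0, 670, 8312, 0, (-1), 0])) (.leaf [0, 1, 0, 0, 0, (-1), 0, 0, 0])) (.node (.leaf [0, 15, (-11), 0, (-13), (-84), (-1), 0, 0]) (.leaf [9, 317594, (-317388), (-2), 17904, 940449, (-4), (-1), 6]))) (.node (.node (.leaf []) (.leaf [17, (-2818078), 2815949, (-3), (-290454), (-9353415), (-4), 3, 5])) (.node (.leaf [0, (-1), 0, 0, 0, (-1), 0, 0, 0]) (.leaf [])))) (.node (.node (.node (.node (.leaf []) (.leaf [121342, (-48021415519), 47985369839, 142164, (-4368507761), (-154715558426), 80843, 124361, (-37000)])) (.leaf [])) (.node (.leaf []) (.leaf [34662, (-9115880900), 9108967032, 25432, (-839897246), (-29444523423), 18996, 23193, (-3888)]))) (.node (.node (.leaf []) (.leaf [109040, 178702359509, (-178571801622), (-594934), 15774411455, 572226054627, (-97943), (-485149), 299441])) (.node (.leaf [0, (-28), 29, 0, (-1), (-51), (-1), 0, 0]) (.leaf [])))))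

def certSL62 : Janko.Tree (List ℤ) :=
  (.node (.node (.node (.node (.node (.leaf []) (.leaf [(-115479), 25456636923, (-25437186318), (-70931), 2359613874, 82339787335, (-64334), (-64352), 4905])) (.leaf [])) (.node (.leaf []) (.leaf []))) (.node (.node (.leaf []) (.leaf [0, 0, 0, 0, 0, (-2), 0, 0, 0])) (.node (.leaf []) (.leaf [6, 414204, (-414034), (-1), 31401, 1286092, 4, (-3), 5])))) (.node (.node (.node (.node (.leaf []) (.leaf [368725, (-238378213902), 238200743585, 739222, (-21470153450), (-766418559879), 317445, 628461, (-252486)])) (.leaf [])) (.node (.leaf []) (.leaf [0, (-3), 3, 0, 0, (-5), 0, 0, 0]))) (.node (.node (.leaf [0, 1, 0, (-1), 0, 0, 0, 0, 0]) (.leaf [(-110673), 58222095994, (-58178634597), (-181453), 5258538800, 187301292472, (-91222), (-154808), 59194])) (.node (.leaf []) (.leaf [])))))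

def certSL63 : Janko.Tree (List ℤ) :=
  (.node (.node (.node (.node (.node (.leaf []) (.leaf [(-2520), 177886845, (-177741088), (-250), 18018493, 586398801, (-1020), (-398), (-399)])) (.leaf [209, (-143685516), 143578578, 466, (-12923079), (-461775165), 106, 393, (-131)])) (.node (.leaf []) (.leaf []))) (.node (.node (.leaf []) (.leaf [(-4652), 320312772, (-320045948), (-750), 32774762, 1058191746, (-2283), (-844), (-683)])) (.node (.leaf []) (.leaf [1, (-313), 321, 0, (-83), (-1252), 2, 0, 0])))) (.node (.node (.node (.node (.leaf []) (.leaf [(-1297), 24629730702, (-24611623456), (-80423), 2187148832, 78959356106, (-18584), (-65987), 36003])) (.leaf [0, 1, (-1), 0, 0, (-5), 0, 0, 0])) (.node (.leaf [0, 416, (-412), (-1), (-464), (-2681), 1, 0, 0]) (.leaf [0, (-4600155), 4597113, 42, (-340205), (-14197372), (-1), 29, (-17)]))) (.node (.node (.leaf [0, 1, (-1), 0, 0, 0, 0, 0, 0]) (.leaf [])) (.node (.leaf []) (.leaf [(-121908), 29800195401, (-29777531904), (-82318), 2752168195, 96313703609, (-67255), (-75253), 9336])))))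

def certSL64 : Janko.Tree (List ℤ) :=
  (.node (.node (.node (.node (.node (.leaf []) (.leaf [])) (.leaf [])) (.node (.leaf []) (.leaf []))) (.node (.node (.leaf []) (.leaf [2, (-15), 11, 0, 2, 41, 0, 0, 0])) (.node (.leaf []) (.leaf [])))) (.node (.node (.node (.node (.leaf []) (.leaf [(-28574), 4279071069, (-4275750515), (-10272), 404985007, 13899764697, (-13226), (-10427), (-1576)])) (.leaf [0, 77, (-77), 0, 51, 714, 1, 0, 0])) (.node (.leaf []) (.leaf [0, (-6), 6, 0, 2, (-9), 0, 0, 0]))) (.node (.node (.leaf []) (.leaf [])) (.node (.leaf [0, 1, 0, 0, 0, 0, 0, 0, 0]) (.leaf [14015, (-2797660350), 2795519098, 7362, (-260366843), (-9055222417), 7004, 6999, (-304)])))))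

def certSL65 : Janko.Tree (List ℤ) :=
  (.node (.node (.node (.node (.node (.leaf []) (.leaf [0, 6, (-4), (-1), 0, 2, 0, 0, 0])) (.leaf [])) (.node (.leaf []) (.leaf []))) (.node (.node (.leaf [0, 0, 0, 0, 0, (-8), 0, 0, 0]) (.leaf [])) (.node (.leaf []) (.leaf [])))) (.node (.node (.node (.node (.leaf []) (.leaf [1, (-1065989), 1065207, 3, (-92052), (-3381915), 6, 5, (-5)])) (.leaf [])) (.node (.leaf []) (.leaf []))) (.node (.node (.leaf []) (.leaf [])) (.node (.leaf []) (.leaf [])))))

def certSL66 : Janko.Tree (List ℤ) :=
  (.node (.node (.node (.node (.node (.leaf []) (.leaf [1, (-47201), 47209, 1, (-67), (-119202), 2, 4, (-3)])) (.leaf [3, 1719940, (-1718867), (-4), 145955, 5457098, 2, (-8), 9])) (.node (.leaf [(-3), (-17), 18, 0, 4, (-29), 0, 0, 0]) (.leaf [0, 2207, (-2217), (-1), 2396, 25255, (-1), 0, 0]))) (.node (.node (.leaf [0, (-8), 8, 0, 0, 5, 0, 0, 0]) (.leaf [])) (.node (.leaf []) (.leaf [(-753), 2798118998, (-2796056638), (-8352), 250105703, 8982347574, (-1674), (-7152), 3727])))) (.node (.node (.node (.node (.leaf []) (.leaf [12194, (-1677352934), 1676046214, 3924,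 (-159769796), (-5455961306), 5511, 4074, 831])) (.leaf [0, 18, (-18), 0, (-52), (-324), 1, 0, 0])) (.node (.leaf []) (.leaf [0, (-10), 11, 0, 2, 8, 0, 0, 0]))) (.node (.node (.leaf []) (.leaf [32141, 9883810939, (-9876751906), (-35759), 849920729, 31481550591, 5540, (-27468), 23407])) (.node (.leaf []) (.leaf [0, 92, (-91), 0, 4, 219, 1, 0, 0])))))

def certSL67 : Janko.Tree (List ℤ) :=
  (.node (.node (.node (.node (.node (.leaf []) (.leaf [0, 5, (-4), 0, 0, 0, 0, 0, 0])) (.leaf [])) (.node (.leaf []) (.leaf []))) (.node (.node (.leaf []) (.leaf [3, 9, (-10), 0, (-4), 27, 0, 0, 0])) (.node (.leaf []) (.leaf [0, (-12), 12, 0, (-1), (-48), 0, 0, 0])))) (.node (.node (.node (.node (.leaf []) (.leaf [(-30683), 32706161494, (-32681936966), (-104098), 2929720251, 105034682214, (-36123), (-87247), 40476])) (.leaf [])) (.node (.leaf []) (.leaf [0, (-33), 29, 1, (-9), (-160), (-1), 0, 0]))) (.node (.node (.leaf []) (.leaf [])) (.node (.leaf []) (.leaf [])))))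

def certSL68 : Janko.Tree (List ℤ) :=
  (.node (.node (.node (.node (.node (.leaf []) (.leaf [(-8747), 1736936574, (-1735604322), (-4686), 162085055, 5625105076, (-4500), (-4378), 147])) (.leaf [])) (.node (.leaf [(-3), (-8), 10, 0, 4, (-27), 0, 0, 0]) (.leaf [0, 49970, (-49927), (-1), 3770, 154434, (-1), 0, 0]))) (.node (.node (.leaf [0, 1, 0, 0, 0, 0, 0, 0, 0]) (.leaf [20488, (-5559776897), 5555571208, 16111, (-511072725), (-17949912728), 11782, 14573, (-3001)])) (.node (.leaf []) (.leaf [])))) (.node (.node (.node (.node (.leaf []) (.leaf [0, 58733, (-58683), 0, 5822, 195687, 0, 0, 0])) (.leaf [0, (-7603), 7601, 0, 1193, (-9799), 0, 1, 0])) (.node (.leaf [4954, (-222027449), 221834390, 79, (-23727693), (-740999393), 1843, 397, 1031]) (.leaf []))) (.node (.node (.leaf []) (.leaf [(-264921), 391174924453, (-390885848497), (-1251020), 34949125051, 1255629919114, (-395803), (-1042599), 507427])) (.node (.leaf []) (.leaf [0, 5, (-6), 0, 0, 0, 0, 0, 0])))))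

def certSL69 : Janko.Tree (List ℤ) :=
  (.node (.node (.node (.node (.node (.leaf []) (.leaf [0, (-1), 0, 0, 0, 2, 0, 0, 0])) (.leaf [0, (-2), 2, 0, 0, (-6), 0, 0, 0])) (.node (.leaf [0, (-185), 183, 0, (-325), (-4030), 1, 0, 0]) (.leaf [0, 1, 0, 0, 0, 0, 0, 0, 0]))) (.node (.node (.leaf []) (.leaf [])) (.node (.leaf [0, 0, 0, 0, 0, 5, 0, 0, 0]) (.leaf [10866, (-24416006102), 24398000246, 78189, (-2176526375), (-78334774367), 21287, 64991, (-32957)])))) (.node (.node (.node (.node (.leaf []) (.leaf [(-9754), 3846790885, (-3843904148), (-11391), 350022745, 12393317214, (-6332), (-10018), 3053])) (.leaf [])) (.node (.leaf []) (.leaf []))) (.node (.node (.leaf [0, 2, 0, 0, 0, 0, 0, 0, 0]) (.leaf [(-13434), 5820938180, (-5816583200), (-17069), 528505308, 18745171787, (-8408), (-15043), 4873])) (.node (.leaf []) (.leaf [(-587), 249021854, (-248835542), (-628), 22701402, 802743538, (-386), (-592), 209])))))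

def certSL70 : Janko.Tree (List ℤ) :=
  (.node (.node (.node (.node (.node (.leaf []) (.leaf [127, (-2261043), 2258636, (-16), (-332381), (-8211188), 28, (-2), 38])) (.leaf [0, 4, (-4), 0, 0, 0, 0, 0, 0])) (.node (.leaf [(-2), 8, (-7), 0, 1, 10, 0, 0, 0]) (.leaf [1, (-115350), 115234, 0, (-12677), (-390040), 2, (-2), 2]))) (.node (.node (.leaf []) (.leaf [])) (.node (.leaf []) (.leaf [170321, (-9889603459), 9881286545, 11719, (-1025573719), (-32793418269), 74528, 21100, 31461])))) (.node (.node (.node (.node (.leaf []) (.leaf [(-724687), 142010813889, (-141901798923), (-370962), 13238983997, 459898245537, (-373110), (-348250), (-2065)])) (.leaf [])) (.node (.leaf []) (.leaf [(-109), (-33814690), 33790624, 95, (-2959207), (-108128257), (-41), 82, (-69)]))) (.node (.node (.leaf []) (.leaf [])) (.node (.leaf [0, 0, 0, 0, 0, 1, 0, 0, 0]) (.leaf [0, 2, 0, 0, 0, 4, 0, 0, 0])))))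

def certSL71 : Janko.Tree (List ℤ) :=
  (.node (.node (.node (.node (.node (.leaf []) (.leaf [265, (-10066094), 10057074, (-22), (-1180427), (-34398827), 67, 3, 75])) (.leaf [7, 311570, (-311417), 1, 24946, 973585, 1, (-3), 6])) (.node (.leaf [0, 1, (-1), 0, 1, 20, 0, 0, 0]) (.leaf [0, (-138410), 138306, 0, (-11551), (-441299), 0, 0, 0]))) (.node (.node (.leaf []) (.leaf [0, (-19), 13, 1, (-6), (-108), (-1), 0, 0])) (.node (.leaf [0, 4, (-3), 0, 0, (-2), 0, 0, 0]) (.leaf [(-84138), 33348697454, (-33323676779), (-98106), 3034266062, 107440526867, (-53674), (-86300), 25920])))) (.node (.node (.node (.node (.leaf []) (.leaf [4, (-807534), 806950, 3, (-74408), (-2609694), 2, 2, 1])) (.leaf [0, (-45), 46, 0, (-41), (-499), 0, 0, 0])) (.node (.leaf []) (.leaf [0, (-336), 337, 0, 121, 42, (-1), 0, 0]))) (.node (.node (.leaf [0, (-5), 5, 0, 0, (-3), 0, 0, 0]) (.leaf [])) (.node (.leaf [0, (-908), 907, 0, (-150), (-2725), 0, 0, (-1)]) (.leaf [])))))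

def certSL72 : Janko.Tree (List ℤ) :=
  (.node (.node (.node (.node (.node (.leaf []) (.leaf [])) (.leaf [])) (.node (.leaf [0, 4, (-3), 0, 0, 0, 0, 0, 0]) (.leaf [0, (-2), 2, 0, 0, 0, 0, 0, 0]))) (.node (.node (.leaf []) (.leaf [])) (.node (.leaf []) (.leaf [(-13543), 21502097588, (-21486219477), (-68055), 1920053597, 69008472991, (-19290), (-57031), 27901])))) (.node (.node (.node (.node (.leaf []) (.leaf [(-12765), 23566507544, (-23549125883), (-74411), 2103005029, 75623796966, (-20112), (-62602), 31430])) (.leaf [0, (-2), 2, 0, 0, 0, 0, 0, 0])) (.node (.leaf [0, (-3), 3, (-1), 3, 68, 0, 0, 0]) (.leaf [(-60920), (-18832145091), 18818689491, 68233, (-1619221752), (-59981956666), (-10493), 52279, (-44316)]))) (.node (.node (.leaf [0, 4, (-4), 0, 0, 0, 0, 0, 0]) (.leaf [])) (.node (.leaf []) (.leaf [0, 5090, (-5089), 0, (-606), 8047, 1, 0, 0])))))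

def certSL73 : Janko.Tree (List ℤ) :=
  (.node (.node (.node (.node (.node (.leaf []) (.leaf [(-79459), 3577644977, (-3574541850), 155, 387432461, 11973863526, (-27898), (-6235), (-16747)])) (.leaf [])) (.node (.leaf []) (.leaf [32107, 9891986988, (-9884921634), (-35769), 850725051, 31508378410, 5522, (-27478), 23402]))) (.node (.node (.leaf []) (.leaf [])) (.node (.leaf [0, 1, 0, 0, 0, (-1), 0, 0, 0]) (.leaf [1040, (-96637235), 96559996, 162, (-9550297), (-317065503), 463, 223, 160])))) (.node (.node (.node (.node (.leaf []) (.leaf [74467, (-10276917539), 10268896681, 25017, (-977714633), (-33420883955), 35090, 24968, 5579])) (.leaf [(-680), 859750612, (-859114850), (-2533), 77175866, 2762258043, (-727), (-2206), 1071])) (.node (.leaf []) (.leaf []))) (.node (.node (.leaf []) (.leaf [(-838), 421874211, (-421558925), (-1185), 38263596, 1358367414, (-560), (-1066), 378])) (.node (.leaf [(-3065), 461286836, (-460928969), (-1221), 43473983, 1496877310, (-1453), (-1167), (-145)]) (.leaf [24432, (-7324322241), 7318756279, 20835, (-671575641), (-23650935325), 17089, 17875, (-1956)])))))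

def certSL74 : Janko.Tree (List ℤ) :=
  (.node (.node (.node (.node (.node (.leaf [0, 1, 0, 0, 0, 0, 0, 0, 0]) (.leaf [])) (.leaf [])) (.node (.leaf []) (.leaf [130, (-1682491), 1680260, (-20), (-281928), (-6388467), 27, (-11), 51]))) (.node (.node (.leaf [0, (-3), 3, 0, (-1), (-14), 0, 0, 0]) (.leaf [])) (.node (.leaf []) (.leaf [(-23313), 6724989541, (-6719906146), (-19022), 617273041, 21704818844, (-13176), (-17251), 3618])))) (.node (.node (.node (.node (.leaf []) (.leaf [0, (-13), 12, 0, (-1), (-46), 0, 0, 0])) (.leaf [])) (.node (.leaf []) (.leaf []))) (.node (.node (.leaf []) (.leaf [])) (.node (.leaf []) (.leaf [0, (-3), 3, 0, 1, 6, 0, 0, 0])))))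

def certSL75 : Janko.Tree (List ℤ) :=
  (.node (.node (.node (.node (.node (.leaf []) (.leaf [])) (.leaf [])) (.node (.leaf [(-2), 39, (-38), 0, (-5), 24, 0, 0, 0]) (.leaf [0, 10, (-10), 1, 0, 0, 0, 0, 0]))) (.node (.node (.leaf []) (.leaf [])) (.node (.leaf [301, 119660821, (-119575428), (-338), 10394291, 382019479, 137, (-291), 235]) (.leaf [(-13230), 2372394128, (-2370569907), (-6167), 221759490, 7685646350, (-6473), (-5917), (-104)])))) (.node (.node (.node (.node (.leaf []) (.leaf [11724, (-28711567336), 28690397058, 92404, (-2558769422), (-92111554605), 25213, 76572, (-39231)])) (.leaf [])) (.node (.leaf []) (.leaf [32, (-26867288), 26846807, 132, (-2297355), (-85373109), 66, 77, (-22)]))) (.node (.node (.leaf []) (.leaf [0, 1, (-1), 0, 0, 0, 0, 0, 0])) (.node (.leaf [2133, (-688415592), 687895542, 1953, (-62855187), (-2219470553), 1279, 1728, (-384)]) (.leaf [(-25964), 6000466822, (-5995882046), (-16932), 555438393, 19408323995, (-16051), (-15179), 1081])))))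

def certSL76 : Janko.Tree (List ℤ) :=
  (.node (.node (.node (.node (.node (.leaf []) (.leaf [(-453844), (-913848648363), 913180015695, 3052683, (-80705689224), (-2926508606144), 540880, 2476470, (-1487286)])) (.leaf [0, 2, (-2), 0, 0, (-13), 0, 0, 0])) (.node (.leaf []) (.leaf [10, (-2319426), 2317718, (-1), (-236670), (-7692523), (-11), 0, 7]))) (.node (.node (.leaf []) (.leaf [14107, (-3433886404), 3431277846, 9286, (-317322120), (-11098399106), 7359, 8696, (-1226)])) (.node (.leaf []) (.leaf [])))) (.node (.node (.node (.node (.leaf []) (.leaf [86012, (-133694771146), 133595984321, 428812, (-11939665931), (-429096255471), 129489, 355613, (-172861)])) (.leaf [0, 9, (-9), 1, 0, 6, 0, 0, 0])) (.node (.leaf []) (.leaf [116, 90012465, (-89946653), (-269), 7970921, 288439830, 47, (-214), 128]))) (.node (.node (.leaf []) (.leaf [])) (.node (.leaf []) (.leaf [])))))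

def certSL77 : Janko.Tree (List ℤ) :=
  (.node (.node (.node (.node (.node (.leaf []) (.leaf [314081, (-89841243181), 89773238208, 256004, (-8250463479), (-290030932332), 187478, 229599, (-44417)])) (.leaf [])) (.node (.leaf []) (.leaf [(-3), 2194468, (-2192875), (-5), 202637, 7086935, (-13), (-7), 6]))) (.node (.node (.leaf []) (.leaf [(-1), 8059, (-8065), 0, (-858), 13747, 0, (-1), 0])) (.node (.leaf []) (.leaf [0, 78, (-77), 0, 3, 169, 1, 0, 0])))) (.node (.node (.node (.node (.leaf []) (.leaf [103225, (-59823309649), 59778719444, 181880, (-5399986350), (-192420868243), 79159, 156484, (-59711)])) (.leaf [0, 15, (-14), 0, 0, 16, 0, 0, 0])) (.node (.leaf []) (.leaf [0, (-77), 77, 0, (-3), (-169), (-1), 0, 0]))) (.node (.node (.leaf []) (.leaf [0, (-362), 363, 0, (-9), (-1046), 1, 0, 0])) (.node (.leaf []) (.leaf [(-148894), (-112366248232), 112284599462, 385439, (-9841022670), (-359231652811), 24854, 305809, (-204479)])))))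

def certSL78 : Janko.Tree (List ℤ) :=
  (.node (.node (.node (.node (.node (.leaf []) (.leaf [678607, 162382899381, (-162267957639), (-618645), 13837997359, 516413584220, 104092, (-466775), 436216])) (.leaf [3, 428583, (-428313), (-3), 34427, 1345842, 1, (-1), 2])) (.node (.leaf []) (.leaf [0, 21, (-16), 0, (-12), (-60), (-1), 0, 0]))) (.node (.node (.leaf []) (.leaf [])) (.node (.leaf []) (.leaf [(-11294), 1347223510, (-1346164296), (-3010), 129072913, 4387359240, (-4960), (-3218), (-1082)])))) (.node (.node (.node (.node (.leaf [0, (-8), 8, 0, 1, 4, 0, 0, 0]) (.leaf [76797, 67815949846, (-67766610934), (-228680), 5952940837, 216896118317, (-15616), (-183569), 120262])) (.leaf [12, (-1592690), 1591468, (-5), (-176164), (-5386522), (-8), (-1), 8])) (.node (.leaf []) (.leaf [0, 1, (-1), 0, 0, 0, 0, 0, 0]))) (.node (.node (.leaf [0, 2, (-2), 0, 0, 15, 0, 0, 0]) (.leaf [])) (.node (.leaf []) (.leaf [])))))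

def certSL79 : Janko.Tree (List ℤ) :=
  (.node (.node (.node (.node (.node (.leaf []) (.leaf [217360, 791293232738, (-790713392364), (-2621512), 70051198538, 2535251393285, (-527769), (-2141946), 1247899])) (.leaf [])) (.node (.leaf []) (.leaf [0, 1, 0, 0, 0, (-5), 0, 0, 0]))) (.node (.node (.leaf []) (.leaf [1, (-9263), 9269, 0, 733, (-17409), 0, 1, (-1)])) (.node (.leaf []) (.leaf [(-5), 4320691, (-4317521), (-8), 429756, 14187949, (-17), (-18), 19])))) (.node (.node (.node (.node (.leaf []) (.leaf [115928, 301677961718, (-301456907631), (-1011682), 26667988917, 966329772069, (-201113), (-815334), 473435])) (.leaf [0, 10, (-9), 0, (-2), (-19), 0, 0, 0])) (.node (.leaf [0, (-6), 7, 0, 0, 0, 0, 0, 0]) (.leaf [(-41104), 33308079721, (-33283317743), (-102129), 2993262798, 107062889022, (-41615), (-86198), 34746]))) (.node (.node (.leaf []) (.leaf [0, 24, (-24), 0, 3, 78, 0, 0, 0])) (.node (.leaf []) (.leaf [(-4794), 1244549657, (-1243602520), (-3256), 114959671, 4022475577, (-2443), (-2977), 295])))))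

def certSL80 : Janko.Tree (List ℤ) :=
  (.node (.node (.node (.node (.node (.leaf [0, 0, 0, 0, 0, (-2), 0, 0, 0]) (.leaf [(-688529), (-169714186073), 169593852186, 633744, (-14475553199), (-539773452667), (-117035), 481159, (-446585)])) (.leaf [3, (-967265), 966539, 1, (-86316), (-3099603), 7, 3, (-2)])) (.node (.leaf []) (.leaf []))) (.node (.node (.leaf []) (.leaf [0, (-3), 3, 0, 0, (-5), 0, 0, 0])) (.node (.leaf [0, 95, (-94), 0, (-2), 148, 1, 0, 0]) (.leaf [(-12), 3893753, (-3890858), (-8), 357986, 12570481, (-7), (-10), 6])))) (.node (.node (.node (.node (.leaf [0, 1, 0, 0, 0, 0, 0, 0, 0]) (.leaf [73717, (-35058198373), 35031994471, 104195, (-3176252263), (-112847869884), 49469, 91092, (-31189)])) (.leaf [1, (-540), 539, 0, (-198), (-2879), (-1), 0, 0])) (.node (.leaf []) (.leaf [1, (-32050), 32010, 0, (-3032), (-106133), 1, (-1), 1]))) (.node (.node (.leaf []) (.leaf [0, 4, (-4), 0, 0, 0, 0, 0, 0])) (.node (.leaf []) (.leaf [(-784), 287936944, (-287717462), (-804), 26156894, 927305965, (-463), (-642), 63])))))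

def certSL81 : Janko.Tree (List ℤ) :=
  (.node (.node (.node (.node (.node (.leaf []) (.leaf [9755, (-3849885854), 3846996983, 11404, (-350299777), (-12403230477), 6342, 10029, (-3064)])) (.leaf [])) (.node (.leaf []) (.leaf [0, 0, 0, 0, 1, 5, 0, 0, 0]))) (.node (.node (.leaf []) (.leaf [])) (.node (.leaf []) (.leaf [0, 73, (-73), 0, 0, 128, 1, 0, 0])))) (.node (.node (.node (.node (.leaf []) (.leaf [(-9329), 3954045951, (-3951083607), (-11793), 359195181, 12734520766, (-6236), (-10334), 3339])) (.leaf [])) (.node (.leaf [0, (-8), 8, 0, 0, (-30), 0, 0, 0]) (.leaf [0, (-45), 46, 0, (-41), (-498), (-1), 0, 0]))) (.node (.node (.leaf []) (.leaf [])) (.node (.leaf [0, 1, 0, 0, 0, 4, 0, 0, 0]) (.leaf [])))))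

def certSL82 : Janko.Tree (List ℤ) :=
  (.node (.node (.node (.node (.node (.leaf []) (.leaf [115467, 55212953445, (-55173167625), (-194500), 4803239643, 176256873355, 6618, (-154130), 116987])) (.leaf [])) (.node (.leaf []) (.leaf []))) (.node (.node (.leaf []) (.leaf [])) (.node (.leaf [0, (-1), (-2), 1, 0, 0, 0, 0, 0]) (.leaf [])))) (.node (.node (.node (.node (.leaf []) (.leaf [30845, (-77889829885), 77832467536, 252776, (-6940503015), (-249862775258), 67351, 210646, (-111219)])) (.leaf [])) (.node (.leaf [0, 5, (-5), 0, 0, 0, 0, 0, 0]) (.leaf [39755, (-8840065262), 8833305051, 24049, (-819993244), (-28601702295), 22347, 21934, (-1145)]))) (.node (.node (.leaf []) (.leaf [306, 128092369, (-128000664), (-379), 11221103, 409604257, 105, (-331), 268])) (.node (.leaf []) (.leaf [31681, (-4789907014), 4786192188, 11567, (-452998249), (-15556781119), 14473, 11658, 1764])))))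

def certSL83 : Janko.Tree (List ℤ) :=
  (.node (.node (.node (.node (.node (.leaf [0, 4, (-4), 0, 0, 8, 0, 0, 0]) (.leaf [3155, (-4355056600), 4351844381, 13446, (-389808801), (-13984121868), 4237, 11588, (-5907)])) (.leaf [0, 8, (-7), 0, 0, 4, 0, 0, 0])) (.node (.leaf []) (.leaf [1, (-57309), 57288, 2, (-3311), (-170493), 2, 3, (-3)]))) (.node (.node (.leaf []) (.leaf [0, 1, (-1), 0, 0, 0, 0, 0, 0])) (.node (.leaf []) (.leaf [(-6381), 2031567178, (-2030031631), (-5494), 186251515, 6555813873, (-3570), (-4986), 1043])))) (.node (.node (.node (.node (.leaf []) (.leaf [(-11295), 1298969405, (-1297946137), (-2912), 125218047, 4235795770, (-5019), (-3149), (-1103)])) (.leaf [])) (.node (.leaf [0, 6, (-6), (-1), 1, 17, 0, 0, 0]) (.leaf [21034, (-5779812679), 5775418459, 16161, (-531771151), (-18671818900), 13153, 14269, (-1647)]))) (.node (.node (.leaf [0, 7, (-7), 0, 0, 20, 0, 0, 0]) (.leaf [])) (.node (.leaf [(-3), (-544481), 544162, 3, (-40040), (-1681148), (-2), 1, (-2)]) (.leaf [(-126200), (-4036248073), 4034073526, 28300, (-249419011), (-12145993202), (-42373), 15432, (-41317)])))))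

def certSL84 : Janko.Tree (List ℤ) :=
  (.node (.node (.node (.node (.node (.leaf []) (.leaf [(-64268), 53437184649, (-53397533430), (-165693), 4799703774, 171706058783, (-60518), (-140896), 61353])) (.leaf [0, (-6684), 6683, 0, 802, (-10551), 0, 1, 0])) (.node (.leaf [3, 427265, (-426996), (-3), 34340, 1340509, 1, (-1), 2]) (.leaf [(-68683), (-40903264541), 40873632381, 141645, (-3570750490), (-130677892089), 3076, 111679, (-78788)]))) (.node (.node (.leaf []) (.leaf [(-5611), 900801646, (-900106235), (-2292), 84785342, 2922438505, (-2670), (-2260), (-160)])) (.node (.leaf []) (.leaf [])))) (.node (.node (.node (.node (.leaf [0, 0, 0, 0, 0, (-1), 0, 0, 0]) (.leaf [18486, (-3689675507), 3686848652, 10673, (-343485634), (-11942938412), 10680, 9837, (-988)])) (.leaf [0, 55, (-53), 0, (-8), 86, 0, 0, 0])) (.node (.leaf []) (.leaf []))) (.node (.node (.leaf [0, (-1), 1, 0, 0, (-4), 0, 0, 0]) (.leaf [3, 40, (-43), 0, (-6), 50, 1, 0, 0])) (.node (.leaf []) (.leaf [7, 8033903, (-8028823), 9, 733706, 25964918, 19, (-20), 32])))))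

def certSL85 : Janko.Tree (List ℤ) :=
  (.node (.node (.node (.node (.node (.leaf []) (.leaf [10255, (-5107317052), 5103502430, 15141, (-462818533), (-16440482417), 7276, 13289, (-4850)])) (.leaf [0, 10, (-10), 0, (-3), (-14), 0, 0, 0])) (.node (.leaf []) (.leaf []))) (.node (.node (.leaf []) (.leaf [0, 0, 0, 0, 0, 5, 0, 0, 0])) (.node (.leaf [0, (-2), 3, 0, 0, 6, 0, 0, 0]) (.leaf [60, 15391372, (-15380506), (-51), 1341907, 49147862, 17, (-45), 43])))) (.node (.node (.node (.node (.leaf []) (.leaf [53, (-12355139), 12346175, 26, (-1205852), (-40407213), 33, 33, (-20)])) (.leaf [])) (.node (.leaf []) (.leaf []))) (.node (.node (.leaf [(-2189), 560441988, (-560015201), (-1490), 51708615, 1810905673, (-1181), (-1361), 157]) (.leaf [])) (.node (.leaf [0, (-1), 0, 0, 0, 3, 0, 0, 0]) (.leaf [2329, (-1668600297), 1667363583, 4978, (-150695272), (-5367377353), 1890, 4413, (-1965)])))))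

def certSL86 : Janko.Tree (List ℤ) :=
  (.node (.node (.node (.node (.node (.leaf []) (.leaf [6, (-876519), 875877, 1, (-80051), (-2825143), 3, 4, (-2)])) (.leaf [0, 23946, (-23929), (-1), 2928, 84689, (-1), 0, 0])) (.node (.leaf [0, (-3), 3, 0, 0, 1, 0, 0, 0]) (.leaf [31, (-26863260), 26842818, 133, (-2295737), (-85351168), 66, 80, (-24)]))) (.node (.node (.leaf []) (.leaf [])) (.node (.leaf []) (.leaf [])))) (.node (.node (.node (.node (.leaf [0, 0, 0, 0, 0, 5, 0, 0, 0]) (.leaf [(-174268), 108948356251, (-108867258191), (-338512), 9819092576, 350316489065, (-145511), (-289064), 116965])) (.leaf [])) (.node (.leaf [0, 1, 0, 0, 0, 0, 0, 0, 0]) (.leaf [0, 1, 0, 0, 0, (-1), 0, 0, 0]))) (.node (.node (.leaf [0, (-6), 7, 0, 0, 0, 0, 0, 0]) (.leaf [])) (.node (.leaf [0, (-54756), 54730, 0, (-3493), (-166669), 0, (-1), 0]) (.leaf [43, (-5013141), 5009359, 3, (-499273), (-16479833), 16, 12, 2])))))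

def certSL87 : Janko.Tree (List ℤ) :=
  (.node (.node (.node (.node (.node (.leaf []) (.leaf [(-78397), (-27005124331), 26985803201, 95678, (-2332053433), (-86077373405), (-14382), 75261, (-62944)])) (.leaf [0, 11, (-11), 0, (-3), (-10), 0, 0, 0])) (.node (.leaf []) (.leaf [8691, (-3886368666), 3883459914, 11623, (-352634369), (-12513604783), 5890, 10147, (-3372)]))) (.node (.node (.leaf []) (.leaf [])) (.node (.leaf [0, 6, (-6), 0, (-2), (-15), 0, 0, 0]) (.leaf [37675, (-8118802658), 8112586310, 22083, (-753925581), (-26274609416), 21122, 20139, (-698)])))) (.node (.node (.node (.node (.leaf []) (.leaf [(-810), 515424650, (-515040811), (-1473), 46597619, 1658495839, (-582), (-1319), 510])) (.leaf [])) (.node (.leaf []) (.leaf []))) (.node (.node (.leaf []) (.leaf [(-36), (-475295), 475036, 9, (-16138), (-1335675), (-4), 4, (-12)])) (.node (.leaf []) (.leaf [0, (-34224), 34198, 0, (-3274), (-113084), 0, 0, 0])))))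

def certSL88 : Janko.Tree (List ℤ) :=
  (.node (.node (.node (.node (.node (.leaf []) (.leaf [(-177587), 116631692508, (-116544899263), (-355968), 10510172832, 375028798467, (-146409), (-305166), 121485])) (.leaf [0, (-135830), 135713, 1, (-12256), (-437132), 0, 0, 0])) (.node (.leaf [0, 1, 0, 0, 0, 0, 0, 0, 0]) (.leaf [202006, (-328917418993), 328674486032, 1055709, (-29367400174), (-1055654173639), 328950, 878356, (-434174)]))) (.node (.node (.leaf []) (.leaf [])) (.node (.leaf [0, 7508, (-7516), 0, (-855), 12430, (-1), (-1), 0]) (.leaf [(-79), 87388163, (-87324849), (-243), 7868183, 281008138, (-34), (-242), 135])))) (.node (.node (.node (.node (.leaf []) (.leaf [16889, (-2897842144), 2895603949, 7830, (-272235218), (-9397804609), 8877, 7449, 98])) (.leaf [])) (.node (.leaf []) (.leaf [0, 0, 0, 0, 0, 5, 0, 0, 0]))) (.node (.node (.leaf []) (.leaf [])) (.node (.leaf [0, 6, (-6), 0, 0, 3, 0, 0, 0]) (.leaf [34059, 8427390971, (-8421410218), (-31418), 718405403, 26796884687, 7259, (-23588), 21554])))))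

def certSL89 : Janko.Tree (List ℤ) :=
  (.node (.node (.node (.node (.node (.leaf []) (.leaf [638925, (-400234600261), 399936438886, 1252565, (-36061248110), (-1286925918456), 565823, 1059850, (-421834)])) (.leaf [(-2), 13, (-9), 0, 3, 23, 0, 0, 0])) (.node (.leaf []) (.leaf [0, 0, 1, 0, 0, 5, 0, 0, 0]))) (.node (.node (.leaf [0, 1, (-1), 0, 0, 0, 0, 0, 0]) (.leaf [])) (.node (.leaf [0, 1, 0, 0, 0, (-3), 0, 0, 0]) (.leaf [(-130), 90286278, (-90220444), (-236), 8154831, 290518538, (-53), (-240), 122])))) (.node (.node (.node (.node (.leaf []) (.leaf [0, 64703, (-64643), 1, 4030, 193074, 1, 0, 0])) (.leaf [])) (.node (.leaf []) (.leaf []))) (.node (.node (.leaf []) (.leaf [])) (.node (.leaf [3, (-1783731), 1782458, 5, (-157066), (-5705476), 1, 6, (-4)]) (.leaf [0, (-110007), 109916, 1, (-9565), (-346951), 0, 0, 0])))))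

def certSL90 : Janko.Tree (List ℤ) :=
  (.node (.node (.node (.node (.node (.leaf []) (.leaf [])) (.leaf [])) (.node (.leaf []) (.leaf [0, 0, 1, 0, 0, 2, 0, 0, 0]))) (.node (.node (.leaf []) (.leaf [])) (.node (.leaf [1, (-532), 535, (-1), (-48), (-1661), 0, 0, 0]) (.leaf [0, 5, (-5), 0, 0, 0, 0, 0, 0])))) (.node (.node (.node (.node (.leaf []) (.leaf [2, (-64046), 64019, 0, (-3888), (-188890), 4, 2, (-1)])) (.leaf [])) (.node (.leaf []) (.leaf [(-14854), 2629939269, (-2627914244), (-6904), 246534228, 8525255784, (-7551), (-6638), (-47)]))) (.node (.node (.leaf []) (.leaf [0, 0, 1, 0, 0, (-3), 0, 0, 0])) (.node (.leaf [3167, (-495743164), 495359442, 1298, (-46666311), (-1608338706), 1496, 1251, 127]) (.leaf [(-9796), 3835395024, (-3832516627), (-11354), 349006099, 12356720096, (-6346), (-9988), 3030])))))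

def certSL91 : Janko.Tree (List ℤ) :=
  (.node (.node (.node (.node (.node (.leaf []) (.leaf [0, (-1), 0, 0, 1, 0, 0, 0, 0])) (.leaf [0, 70, (-70), 0, (-7), 123, 0, 0, 0])) (.node (.leaf [(-798), 145718723, (-145606490), (-395), 13653425, 472278514, (-329), (-362), (-36)]) (.leaf []))) (.node (.node (.leaf []) (.leaf [])) (.node (.leaf []) (.leaf [(-353997), 350967301747, (-350707371843), (-1098655), 31458302521, 1127245872745, (-380897), (-932080), 432312])))) (.node (.node (.node (.node (.leaf []) (.leaf [0, 2, (-3), 0, 0, 0, 0, 0, 0])) (.leaf [])) (.node (.leaf [69972, 31163909138, (-31141460923), (-109100), 2706158044, 99459718359, 4399, (-85872), 65503]) (.leaf [14507, (-2565942154), 2563965030, 6795, (-240472383), (-8316971066), 7063, 6419, 221]))) (.node (.node (.leaf []) (.leaf [])) (.node (.leaf []) (.leaf [(-1266304), (-249229118169), 249053942680, 962310, (-21031992677), (-791047096379), (-275115), 710962, (-713710)])))))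

def certSL92 : Janko.Tree (List ℤ) :=
  (.node (.node (.node (.node (.node (.leaf []) (.leaf [])) (.leaf [(-2), 55, (-52), 0, (-3), 80, 0, 0, 0])) (.node (.leaf [0, 96, (-93), 0, 96, 1228, (-1), 0, 0]) (.leaf [(-132), 4796753, (-4792431), 10, 511596, 16031043, (-42), 2, (-40)]))) (.node (.node (.leaf []) (.leaf [])) (.node (.leaf [(-1), (-6), 5, 0, 3, 25, 0, 0, 0]) (.leaf [5796, (-713113099), 712553562, 1667, (-68333780), (-2322407862), 2593, 1737, 517])))) (.node (.node (.node (.node (.leaf []) (.leaf [37960, (-84734605147), 84672162692, 274657, (-7553881809), (-271845582321), 75219, 228776, (-119128)])) (.leaf [7, (-842072), 841413, 1, (-83760), (-2766306), 5, 2, 0])) (.node (.leaf []) (.leaf [3, 10, (-11), 0, (-3), 42, 0, 0, 0]))) (.node (.node (.leaf [0, 0, 0, 0, 0, (-4), 0, 0, 0]) (.leaf [9, 903696, (-903266), (-3), 65893, 2785045, 5, (-4), 7])) (.node (.leaf []) (.leaf [(-45), (-14059935), 14049979, 46, (-1239479), (-45000434), (-18), 43, (-35)])))))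

def certSL93 : Janko.Tree (List ℤ) :=
  (.node (.node (.node (.node (.node (.leaf []) (.leaf [14914, (-29197260398), 29175711137, 93550, (-2604746580), (-93689515423), 26632, 77645, (-38895)])) (.leaf [])) (.node (.leaf []) (.leaf [(-360800), (-545110965948), 544712980707, 1825019, (-48084706418), (-1745244499174), 285637, 1485082, (-925177)]))) (.node (.node (.leaf [0, (-15), 15, 0, 3, 16, 0, 0, 0]) (.leaf [(-20490), 5559880422, (-5555674598), (-16111), 511081936, 17950247565, (-11783), (-14572), 2998])) (.node (.leaf []) (.leaf [0, 2, 0, 0, 0, 2, 0, 0, 0])))) (.node (.node (.node (.node (.leaf [0, 1, (-1), 0, 0, 2, 0, 0, 0]) (.leaf [(-2945), (-23950960402), 23933329524, 77112, (-2123637808), (-76767737733), 16464, 62148, (-32970)])) (.leaf [(-3), (-2047223), 2045735, 17, (-164347), (-6421760), 2, 12, (-5)])) (.node (.leaf []) (.leaf [(-685), 148864319, (-148750536), (-416), 13827265, 481606530, (-294), (-374), (-1)]))) (.node (.node (.leaf [243, 41548072, (-41519443), (-132), 3520406, 132008176, 101, (-111), 123]) (.leaf [])) (.node (.leaf []) (.leaf [0, (-1), 0, 0, 0, 4, 0, 0,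 0])))))

def certSL94 : Janko.Tree (List ℤ) :=
  (.node (.node (.node (.node (.node (.leaf []) (.leaf [(-3396), (-31577603103), 31554462174, 105236, (-2799508387), (-101194408722), 22059, 86742, (-49987)])) (.leaf [0, 4, (-4), 0, 4, 93, 0, 0, 0])) (.node (.leaf [0, 0, 0, 0, 0, (-2), 0, 0, 0]) (.leaf []))) (.node (.node (.leaf []) (.leaf [48, 22688075, (-22671854), (-93), 1950110, 72241954, (-1), (-72), 54])) (.node (.leaf []) (.leaf [])))) (.node (.node (.node (.node (.leaf [0, (-1), 1, 0, (-4), (-59), 1, 0, 0]) (.leaf [(-36064), (-3933681623), 3931005698, 18727, (-316622012), (-12371402966), (-9254), 12397, (-15687)])) (.leaf [(-3), 1783734, (-1782462), (-5), 156996, 5704858, 0, (-6), 4])) (.node (.leaf []) (.leaf [0, 2, (-3), 0, 0, 4, 0, 0, 0]))) (.node (.node (.leaf []) (.leaf [])) (.node (.leaf []) (.leaf [(-2), 78, (-81), 0, 237, 1981, (-1), 0, 0])))))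

def certSL95 : Janko.Tree (List ℤ) :=
  (.node (.node (.node (.node (.node (.leaf []) (.leaf [(-155694), (-27788335547), 27768953712, 109957, (-2333703480), (-88089697362), (-40535), 82144, (-87836)])) (.leaf [8, 1409445, (-1408544), (-7), 107670, 4386081, 7, (-7), 6])) (.node (.leaf [3, 235279, (-235140), (-3), 24462, 780925, 1, (-1), 2]) (.leaf [0, (-1), 1, 0, (-1), (-5), 0, 0, 0]))) (.node (.node (.leaf []) (.leaf [])) (.node (.leaf []) (.leaf [(-36), (-452484), 452236, 10, (-14722), (-1267246), (-3), 5, (-12)])))) (.node (.node (.node (.node (.leaf []) (.leaf [0, 2, 0, 0, 0, 1, 0, 0, 0])) (.leaf [])) (.node (.leaf []) (.leaf []))) (.node (.node (.leaf []) (.leaf [28, 4476531, (-4473578), (-9), 405143, 14428483, 15, (-11), 15])) (.node (.leaf [0, 11591, (-11590), 0, (-1583), 16895, 0, (-1), 0]) (.leaf [(-58), 6978980, (-6973574), (-3), 711446, 23073648, (-16), (-11), (-7)])))))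

def certSL96 : Janko.Tree (List ℤ) :=
  (.node (.node (.node (.node (.node (.leaf []) (.leaf [])) (.leaf [1, 14, (-13), 0, 0, 82, 0, 0, 0])) (.node (.leaf []) (.leaf []))) (.node (.node (.leaf []) (.leaf [])) (.node (.leaf [(-3), (-43), 46, 0, 6, (-54), (-1), 0, 0]) (.leaf [])))) (.node (.node (.node (.node (.leaf []) (.leaf [(-1), (-40268), 40296, 0, 690, (-93823), 0, 3, (-5)])) (.leaf [1, 25, (-24), 0, (-1), 64, 0, 0, 0])) (.node (.leaf []) (.leaf [2, (-1218498), 1217626, 4, (-117011), (-3971033), 7, 3, (-3)]))) (.node (.node (.leaf []) (.leaf [])) (.node (.leaf []) (.leaf [0, 305, (-301), 0, (-92), 99, (-1), 0, 0])))))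

def certSL97 : Janko.Tree (List ℤ) :=
  (.node (.node (.node (.node (.node (.leaf []) (.leaf [0, (-12), 12, 0, 0, (-35), 0, 0, 0])) (.leaf [])) (.node (.leaf []) (.leaf [5307, (-3053821207), 3051548593, 9356, (-275768749), (-9823213589), 4021, 8117, (-3207)]))) (.node (.node (.leaf [0, 1, 0, 0, 0, 4, 0, 0, 0]) (.leaf [0, 1, 0, 0, 0, 1, 0, 0, 0])) (.node (.leaf []) (.leaf [])))) (.node (.node (.node (.node (.leaf []) (.leaf [0, 2, (-1), 0, (-2), (-27), 0, 0, 0])) (.leaf [])) (.node (.leaf []) (.leaf []))) (.node (.node (.leaf []) (.leaf [])) (.node (.leaf []) (.leaf [(-18), 2110084, (-2108424), 2, 222577, 7037428, (-2), (-1), (-5)])))))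

def certSL98 : Janko.Tree (List ℤ) :=
  (.node (.node (.node (.node (.node (.leaf []) (.leaf [(-37377), (-1258204761), 1257514603, 8354, (-79597799), (-3799423513), (-13038), 4597, (-12174)])) (.leaf [0, (-16), 17, 0, (-1), (-67), 0, 0, 0])) (.node (.leaf [(-3), (-27), 27, 0, 3, (-74), 0, 0, 0]) (.leaf [1, (-539), 542, (-1), (-7), (-1438), 0, 0, 0]))) (.node (.node (.leaf []) (.leaf [(-28), (-23783849), 23766531, 77, (-2106535), (-76211734), 21, 62, (-45)])) (.node (.leaf [0, 0, 1, 0, 0, 0, 0, 0, 0]) (.leaf [0, 0, 1, 0, 1, 8, 0, 0, 0])))) (.node (.node (.node (.node (.leaf []) (.leaf [(-1), 29254, (-29204), 0, 5080, 114017, (-3), 2, (-2)])) (.leaf [0, (-11), 12, 0, (-2), (-51), 0, 0, 0])) (.node (.leaf []) (.leaf [113, (-512148920), 511772024, 1461, (-45802184), (-1644249767), 267, 1293, (-716)]))) (.node (.node (.leaf []) (.leaf [])) (.node (.leaf []) (.leaf [3, 620301, (-619901), (-3), 45573, 1918255, 1, (-1), 2])))))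

def certSL99 : Janko.Tree (List ℤ) :=
  (.node (.node (.node (.node (.node (.leaf []) (.leaf [(-38402), (-5326852605), 5323181341, 21426, (-440129703), (-16836930415), (-10813), 15514, (-18579)])) (.leaf [0, (-9), 10, 0, 3, 33, 0, 0, 0])) (.node (.leaf []) (.leaf [68445, 16832078507, (-16820134992), (-62838), 1434533413, 53518950510, 14562, (-47157), 43217]))) (.node (.node (.leaf []) (.leaf [(-9), (-843422), 842991, 3, (-65904), (-2631959), (-5), 4, (-7)])) (.node (.leaf [(-3), (-20), 22, 0, (-16), (-186), (-1), 0, 0]) (.leaf [(-45), (-21685775), 21670352, 70, (-1897026), (-69293722), 14, 64, (-60)])))) (.node (.node (.node (.node (.leaf []) (.leaf [2382, (-617949461), 617479357, 1586, (-57153162), (-1997848121), 1191, 1469, (-144)])) (.leaf [(-4), 1784495, (-1783219), (-5), 157232, 5708723, (-1), (-6), 4])) (.node (.leaf []) (.leaf []))) (.node (.node (.leaf []) (.leaf [0, 1, 0, 0, 0, 0, 0, 0, 0])) (.node (.leaf [(-64), (-126664369), 126572171, 458, (-11070572), (-404660209), 99, 363, (-229)]) (.leaf [50, 773861, (-773741), (-13), 53025, 2362292, 13, (-14), 27])))))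

def certSL100 : Janko.Tree (List ℤ) :=
  (.node (.node (.node (.node (.node (.leaf []) (.leaf [90295, 46199461267, (-46166079920), (-160504), 4022216556, 147516698067, 3551, (-126242), 92075])) (.leaf [])) (.node (.leaf []) (.leaf []))) (.node (.node (.leaf [0, 1, 0, 0, 0, 0, 0, 0, 0]) (.leaf [0, 3, (-2), (-1), 0, 30, 0, 0, 0])) (.node (.leaf []) (.leaf [9358, (-3972249862), 3969274571, 11786, (-361075913), (-12794945414), 6257, 10372, (-3384)])))) (.node (.node (.node (.node (.leaf []) (.leaf [0, 2, (-2), 0, 0, 0, 0, 0, 0])) (.leaf [])) (.node (.leaf [0, 0, 0, 0, 1, 0, 0, 0, 0]) (.leaf []))) (.node (.node (.leaf []) (.leaf [])) (.node (.leaf []) (.leaf [0, (-558056), 557688, (-3), (-56928), (-1854871), (-6), 0, 2])))))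

def certSL101 : Janko.Tree (List ℤ) :=
  (.node (.node (.node (.node (.node (.leaf []) (.leaf [])) (.leaf [(-2072), (-285067077), 284873011, 1084, (-23643827), (-901616140), (-646), 855, (-1087)])) (.node (.leaf [0, (-82), 86, 0, (-140), (-1439), (-1), 0, 0]) (.leaf [81952, 90409827566, (-90343920193), (-303612), 7953387890, 289285409952, (-30608), (-244556), 155226]))) (.node (.node (.leaf []) (.leaf [66, 16613378, (-16601671), (-57), 1448955, 53057499, 10, (-50), 53])) (.node (.leaf []) (.leaf [])))) (.node (.node (.node (.node (.leaf [0, 1, 0, 0, 0, 0, 0, 0, 0]) (.leaf [(-11636), 28781340696, (-28760119355), (-92680), 2564924893, 92334895873, (-25165), (-76775), 39343])) (.leaf [])) (.node (.leaf []) (.leaf [0, 0, 0, 0, (-1), (-8), 0, 0, 0]))) (.node (.node (.leaf []) (.leaf [0, (-8), 8, 0, (-1), (-45), 0, 0, 0])) (.node (.leaf [(-1), 8100, (-8105), 0, (-860), 13697, 0, (-1), 0]) (.leaf [0, (-169), 172, 0, (-44), (-1353), (-1), 0, 0])))))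

def certSL102 : Janko.Tree (List ℤ) :=
  (.node (.node (.node (.node (.node (.leaf []) (.leaf [38606, 5433624971, (-5429877626), (-21827), 449097644, 17175597002, 10530, (-15892), 18888])) (.leaf [])) (.node (.leaf []) (.leaf [0, 4, (-4), 0, 0, 0, 0, 0, 0]))) (.node (.node (.leaf []) (.leaf [])) (.node (.leaf []) (.leaf [6, 221724, (-221692), 0, 19865, 704602, 4, (-3), 5])))) (.node (.node (.node (.node (.leaf []) (.leaf [1331, (-382920699), 382631303, 1050, (-35192192), (-1236305699), 800, 970, (-241)])) (.leaf [])) (.node (.leaf []) (.leaf []))) (.node (.node (.leaf []) (.leaf [0, 5, (-5), 0, 0, 0, 0, 0, 0])) (.node (.leaf [0, 0, 1, 0, 0, 0, 0, 0, 0]) (.leaf [84, 2939992, (-2938483), (-19), 245809, 9317680, 26, (-16), 38])))))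

def certSL103 : Janko.Tree (List ℤ) :=
  (.node (.node (.node (.node (.node (.leaf [0, 1, (-1), 0, 0, 0, 0, 0, 0]) (.leaf [59, 15391226, (-15380363), (-50), 1341958, 49147283, 17, (-45), 43])) (.leaf [])) (.node (.leaf []) (.leaf []))) (.node (.node (.leaf []) (.leaf [0, 32972290, (-32947930), (-101), 2996446, 106218782, (-48), (-89), 55])) (.node (.leaf []) (.leaf [])))) (.node (.node (.node (.node (.leaf [0, 1, (-1), 0, 0, (-12), 0, 0, 0]) (.leaf [1311, (-342710393), 342450928, 933, (-31615924), (-1107342114), 795, 875, (-215)])) (.leaf [0, (-75), 75, 0, 9, (-132), 0, 0, 0])) (.node (.leaf [0, 1, (-1), 0, 0, 0, 0, 0, 0]) (.leaf []))) (.node (.node (.leaf [0, (-3), 3, 0, 0, (-1), 0, 0, 0]) (.leaf [])) (.node (.leaf [(-1), 8564, (-8569), 0, (-735), 15491, 0, (-1), 0]) (.leaf [2925, (-392591358), 392285187, 933, (-37470535), (-1277513158), 1346, 967, 198])))))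

def certSL104 : Janko.Tree (List ℤ) :=
  (.node (.node (.node (.node (.node (.leaf []) (.leaf [(-56), 2817930, (-2815641), 4, 313653, 9524971, (-7), 0, (-24)])) (.leaf [(-1), (-27), 27, 0, 0, (-56), 0, 0, 0])) (.node (.leaf []) (.leaf [0, 14, (-14), 0, 1, 43, 0, 0, 0]))) (.node (.node (.leaf []) (.leaf [])) (.node (.leaf [7, (-841668), 841004, 1, (-83231), (-2760806), 5, 2, 0]) (.leaf [21, 101778, (-101844), (-10), (-28658), 20704, (-4), (-5), 11])))) (.node (.node (.node (.node (.leaf []) (.leaf [(-254888), 136463990241, (-136362111661), (-419720), 12327717599, 439019579477, (-203047), (-359312), 133516])) (.leaf [])) (.node (.leaf []) (.leaf [3180, 1694407354, (-1693184868), (-5811), 147499856, 5410000444, 189, (-4623), 3380]))) (.node (.node (.leaf []) (.leaf [0, 2, (-1), 0, 0, (-5), 0, 0, 0])) (.node (.leaf []) (.leaf [])))))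

def certSL105 : Janko.Tree (List ℤ) :=
  (.node (.node (.node (.node (.node (.leaf []) (.leaf [(-599740), 371148511370, (-370871970944), (-1154840), 33456113190, 1193525793568, (-519001), (-979277), 384569])) (.leaf [])) (.node (.leaf [0, 1, 0, 0, 0, 0, 0, 0, 0]) (.leaf []))) (.node (.node (.leaf []) (.leaf [0, 2, (-2), 0, 0, 0, 0, 0, 0])) (.node (.leaf [1, 22, (-21), 0, (-5), (-29), 0, 0, 0]) (.leaf [37, (-3713436), 3710553, 3, (-381207), (-12294378), 14, 7, 3])))) (.node (.node (.node (.node (.leaf []) (.leaf [5437008, (-615590147552), 615103041981, 1393853, (-59326326139), (-2007676321449), 2484350, 1449924, 638799])) (.leaf [0, 18, (-18), 0, 1, 34, 0, 0, 0])) (.node (.leaf []) (.leaf []))) (.node (.node (.leaf [0, 31, (-32), 0, (-2), 39, 1, 0, 0]) (.leaf [41, 88903077, (-88838214), (-283), 7935580, 285285227, (-53), (-246), 161])) (.node (.leaf []) (.leaf [(-17016), 22868449095, (-22851546943), (-71846), 2044814862, 73413752725, (-21351), (-60506), 28981])))))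

def certSL106 : Janko.Tree (List ℤ) :=
  (.node (.node (.node (.node (.node (.leaf []) (.leaf [])) (.leaf [0, (-477), 477, 0, 19, (-1198), 0, 0, 0])) (.node (.leaf []) (.leaf [0, 298, (-296), 1, 10, 873, 1, 0, 0]))) (.node (.node (.leaf []) (.leaf [(-270), 157336842, (-157219718), (-442), 14268632, 506602230, (-176), (-396), 155])) (.node (.leaf [1, 8, (-7), 0, (-2), 4, 0, 0, 0]) (.leaf [0, 6, (-7), 0, 0, 0, 0, 0, 0])))) (.node (.node (.node (.node (.leaf []) (.leaf [0, 0, 1, 0, 0, 0, 0, 0, 0])) (.leaf [(-243), (-41548052), 41519424, 132, (-3520406), (-132008165), (-101), 111, (-123)])) (.node (.leaf []) (.leaf [2994, 1605234094, (-1604076210), (-5536), 139689503, 5124881714, 124, (-4410), 3229]))) (.node (.node (.leaf []) (.leaf [])) (.node (.leaf []) (.leaf [9, (-2162351), 2160781, 4, (-175179), (-6817807), (-3), 4, 1])))))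

def certSL107 : Janko.Tree (List ℤ) :=
  (.node (.node (.node (.node (.node (.leaf [0, 257, (-255), 0, 66, 1212, (-1), 0, 0]) (.leaf [])) (.leaf [])) (.node (.leaf []) (.leaf []))) (.node (.node (.leaf []) (.leaf [])) (.node (.leaf [23, 4122833, (-4120221), (-11), 339961, 13035936, 3, (-15), 23]) (.leaf [31871, (-10252998832), 10245270284, 29618, (-937799807), (-33067355978), 18891, 26497, (-6538)])))) (.node (.node (.node (.node (.leaf []) (.leaf [(-26020), 43350166981, (-43318170532), (-136486), 3871182358, 139127445741, (-36893), (-114787), 56527])) (.leaf [])) (.node (.leaf [0, 0, 0, 0, 0, (-2), 0, 0, 0]) (.leaf []))) (.node (.node (.leaf [0, 1, 0, 0, 0, (-3), 0, 0, 0]) (.leaf [0, 277, (-280), 0, 7, 815, 1, 0, 0])) (.node (.leaf [0, 2, 0, 0, 0, 0, 0, 0, 0]) (.leaf [0, (-7914), 7916, 0, 768, (-14030), 0, 1, 0])))))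

def certSL108 : Janko.Tree (List ℤ) :=
  (.node (.node (.node (.node (.node (.leaf []) (.leaf [0, 1, 0, 0, 0, (-5), 0, 0, 0])) (.leaf [])) (.node (.leaf []) (.leaf []))) (.node (.node (.leaf [(-1), 2, (-1), 0, (-1), (-32), 0, 0, 0]) (.leaf [])) (.node (.leaf [0, 5, (-5), 0, (-3), (-45), 0, 0, 0]) (.leaf [(-124423), 27825257428, (-27804019125), (-77154), 2576109619, 89977508827, (-68929), (-70358), 6422])))) (.node (.node (.node (.node (.leaf []) (.leaf [(-93197), (-18830480593), 18817249146, 70725, (-1592905266), (-59779467129), (-25039), 53226, (-54008)])) (.leaf [])) (.node (.leaf []) (.leaf [0, 3, (-3), 0, 0, 5, 0, 0, 0]))) (.node (.node (.leaf []) (.leaf [])) (.node (.leaf []) (.leaf [0, 445189, (-444843), (-1), 50023, 1506488, 0, 0, 0])))))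

def certSL109 : Janko.Tree (List ℤ) :=
  (.node (.node (.node (.node (.node (.leaf [0, 1, 0, 0, 0, 0, 0, 0, 0]) (.leaf [5267, (-1006912536), 1006138663, 2573, (-94088596), (-3262053026), 2553, 2439, 58])) (.leaf [])) (.node (.leaf []) (.leaf [1266828, 2434424909132, (-2432643901768), (-8057546), 214987705593, 7795711788728, (-1202087), (-6532244), 3887917]))) (.node (.node (.leaf []) (.leaf [0, 8131, (-8131), 1, (-259), 18751, 0, (-1), 0])) (.node (.leaf []) (.leaf [])))) (.node (.node (.node (.node (.leaf []) (.leaf [3583, (-3469351019), 3466781038, 10596, (-311382002), (-11146549763), 3499, 9050, (-4063)])) (.leaf [(-215), (-14289182), 14280338, 38, (-1125610), (-44820379), (-124), 33, (-68)])) (.node (.leaf []) (.leaf [(-97), (-18624396), 18611624, 65, (-1616027), (-59422974), (-8), 62, (-76)]))) (.node (.node (.leaf []) (.leaf [])) (.node (.leaf [0, 18779, (-18779), 0, (-487), 43722, 0, (-1), 0]) (.leaf [(-3), 550496, (-550096), (-1), 55399, 1815376, 1, 1, (-2)])))))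

def certSL110 : Janko.Tree (List ℤ) :=
  (.node (.node (.node (.node (.node (.leaf []) (.leaf [])) (.leaf [])) (.node (.leaf [0, (-4), 3, 0, 0, 0, 0, 0, 0]) (.leaf [0, 79, (-79), 0, 51, 722, 1, 0, 0]))) (.node (.node (.leaf []) (.leaf [(-114), (-11866046), 11858016, 49, (-967991), (-37382359), (-29), 42, (-62)])) (.node (.leaf []) (.leaf [])))) (.node (.node (.node (.node (.leaf []) (.leaf [(-587836), 439057915979, (-438731642544), (-1371453), 39469089632, 1411069635005, (-548493), (-1161301), 491333])) (.leaf [(-280), (-29495468), 29475885, 93, (-2446667), (-93344225), (-133), 75, (-112)])) (.node (.leaf []) (.leaf [0, (-1), 1, 0, 0, 1, 0, 0, 0]))) (.node (.node (.leaf []) (.leaf [])) (.node (.leaf [0, 2, (-1), (-1), 0, 8, 0, 0, 0]) (.leaf [0, (-16), 15, 0, (-121), (-1295), 1, 0, 0])))))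

def certSL111 : Janko.Tree (List ℤ) :=
  (.node (.node (.node (.node (.node (.leaf [0, (-6), 6, 0, 0, 2, 0, 0, 0]) (.leaf [])) (.leaf [])) (.node (.leaf []) (.leaf [113, (-79518980), 79459924, 227, (-7191144), (-255888673), 82, 202, (-86)]))) (.node (.node (.leaf []) (.leaf [0, 2707, (-2706), 0, 1213, 16510, 0, (-1), 0])) (.node (.leaf [0, 15, (-15), 0, 1, 78, 0, 0, 0]) (.leaf [])))) (.node (.node (.node (.node (.leaf []) (.leaf [(-188308), 121249046583, (-121158756874), (-378824), 10918313452, 389818236144, (-168816), (-321072), 129448])) (.leaf [(-212), (-14783957), 14774677, 40, (-1182988), (-46503676), (-112), 31, (-69)])) (.node (.leaf [0, 7, (-6), 0, 16, 266, 1, 0, 0]) (.leaf [142, (-9611566), 9603604, (-7), (-1041902), (-32226989), 43, 10, 32]))) (.node (.node (.leaf [0, 6, (-7), 0, 0, (-2), 0, 0, 0]) (.leaf [])) (.node (.leaf []) (.leaf [(-3), (-161396), 161294, 2, (-16309), (-523693), 2, 3, (-5)])))))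

def certSL112 : Janko.Tree (List ℤ) :=
  (.node (.node (.node (.node (.node (.leaf []) (.leaf [6, 413875, (-413713), 0, 31787, 1287624, 4, (-3), 5])) (.leaf [])) (.node (.leaf []) (.leaf []))) (.node (.node (.leaf []) (.leaf [(-10), (-556139), 555800, 5, (-37798), (-1687959), 3, 2, (-6)])) (.node (.leaf [0, 10121, (-10112), 1, 376, 28248, 1, 0, 0]) (.leaf [])))) (.node (.node (.node (.node (.leaf []) (.leaf [(-693485), (-251655396513), 251474945182, 902360, (-21735768515), (-802302515266), (-67498), 702802, (-572944)])) (.leaf [0, 5, (-5), 0, 0, 15, 0, 0, 0])) (.node (.leaf []) (.leaf [(-9), (-843421), 842990, 3, (-65904), (-2631956), (-5), 4, (-7)]))) (.node (.node (.leaf []) (.leaf [])) (.node (.leaf [2, (-4), 0, 1, 171, 1351, 0, 0, 0]) (.leaf [])))))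

def certSL113 : Janko.Tree (List ℤ) :=
  (.node (.node (.node (.node (.node (.leaf []) (.leaf [(-34), 323304, (-322930), 8, 35133, 1079572, (-4), 5, (-12)])) (.leaf [])) (.node (.leaf []) (.leaf [5239, (-100844116), 100734483, (-195), (-13487417), (-356434764), 2040, 66, 1384]))) (.node (.node (.leaf [0, 5, (-5), 0, 0, 1, 0, 0, 0]) (.leaf [0, 9918, (-9916), 0, (-774), 19091, 1, (-1), 0])) (.node (.leaf [0, 5, (-5), 0, 2, 30, 0, 0, 0]) (.leaf [])))) (.node (.node (.node (.node (.leaf [0, 261, (-258), 0, 9, 801, (-1), 0, 0]) (.leaf [(-601819), (-449498312511), 449171938980, 1543073, (-39366527197), (-1437009730947), 114756, 1233467, (-844576)])) (.leaf [(-1771), (-520728272), 520360163, 1728, (-44972980), (-1660114837), (-435), 1457, (-1377)])) (.node (.leaf []) (.leaf [0, 4, (-3), 0, 0, 5, 0, 0, 0]))) (.node (.node (.leaf []) (.leaf [(-76834), (-67815415588), 67766077122, 228686, (-5952861085), (-216894174617), 15609, 183566, (-120266)])) (.node (.leaf [140, (-10056006), 10047769, (-5), (-1079976), (-33647433), 39, 10, 32]) (.leaf [20362, (-40307247462), 40277490888, 128081, (-3593229958),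 (-129321659512), 34169, 105995, (-51825)])))))

def certSL114 : Janko.Tree (List ℤ) :=
  (.node (.node (.node (.node (.node (.leaf []) (.leaf [80802, (-12266974070), 12257450131, 32420, (-1157659920), (-39827219380), 41812, 31190, 3312])) (.leaf [])) (.node (.leaf []) (.leaf [129, 5039643, (-5036663), (-36), 345471, 15401243, 37, (-21), 48]))) (.node (.node (.leaf []) (.leaf [])) (.node (.leaf []) (.leaf [(-55), 11863026, (-11854342), (-24), 1173377, 38913558, (-34), (-31), 18])))) (.node (.node (.node (.node (.leaf []) (.leaf [(-365094), 311619216784, (-311388002691), (-976605), 27970873732, 1001188807263, (-362620), (-824933), 362303])) (.leaf [(-4053381), (-5919225053248), 5914901235441, 19872822, (-521867772422), (-18949233334381), 2979533, 16044681, (-9885623)])) (.node (.leaf []) (.leaf []))) (.node (.node (.leaf [0, 6, (-6), 0, 0, (-11), 0, 0, 0]) (.leaf [(-2), 54, (-50), 0, (-3), 82, 0, 0, 0])) (.node (.leaf [(-1), 1, (-4), 1, 11, 65, 0, 0, 0]) (.leaf [])))))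

def certSL115 : Janko.Tree (List ℤ) :=
  (.node (.node (.node (.node (.node (.leaf []) (.leaf [91175, (-69805965115), 69754100237, 219777, (-6271960947), (-224328929857), 88825, 185140, (-78544)])) (.leaf [0, (-6), 6, 0, 0, (-26), 0, 0, 0])) (.node (.leaf []) (.leaf [19614, (-4892346894), 4888613345, 13661, (-451448799), (-15815497298), 12131, 12022, (-771)]))) (.node (.node (.leaf []) (.leaf [])) (.node (.leaf []) (.leaf [])))) (.node (.node (.node (.node (.leaf []) (.leaf [(-102151), 42074081115, (-42042518358), (-126038), 3821640606, 135511361389, (-69641), (-109321), 33388])) (.leaf [(-2056854), (-2923099837601), 2920964935616, 9822551, (-257666248117), (-9357379902249), 1454714, 7926107, (-4897513)])) (.node (.leaf []) (.leaf [(-66), (-16666902), 16655170, 57, (-1451665), (-53215055), (-10), 50, (-53)]))) (.node (.node (.leaf []) (.leaf [0, (-1), 0, 0, 0, 0, 0, 0, 0])) (.node (.leaf []) (.leaf [(-7), 842422, (-841752), (-1), 83058, 2761470, (-6), (-2), 0])))))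

def certSL116 : Janko.Tree (List ℤ) :=
  (.node (.node (.node (.node (.node (.leaf []) (.leaf [336071, (-70452133051), 70398239359, 194701, (-6540870603), (-227945265980), 182061, 179270, (-12206)])) (.leaf [8, 453708, (-453404), (-2), 30931, 1385106, (-4), (-1), 6])) (.node (.leaf []) (.leaf [0, 532, (-532), 0, 181, 2748, 1, 0, 0]))) (.node (.node (.leaf []) (.leaf [0, 550, (-555), 1, (-174), 14, (-1), 0, 0])) (.node (.leaf [(-301), (-119660801), 119575409, 338, (-10394291), (-382019448), (-137), 291, (-235)]) (.leaf [])))) (.node (.node (.node (.node (.leaf [0, (-3), 3, 0, 0, 15, 0, 0, 0]) (.leaf [14315, (-21854484574), 21838343862, 68814, (-1952449946), (-70146797538), 19573, 57844, (-28105)])) (.leaf [2402, (-623406019), 622931302, 1660, (-57518369), (-2014354644), 1235, 1499, (-142)])) (.node (.leaf []) (.leaf [(-66), (-16613367), 16601661, 57, (-1448956), (-53057473), (-10), 50, (-53)]))) (.node (.node (.leaf [0, 22, (-22), 0, (-2), (-3), 1, 0, 0]) (.leaf [])) (.node (.leaf []) (.leaf [73705, (-15322373055), 15310635521, 43098, (-1421689327), (-49572949219), 41478, 38824, (-1791)])))))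

def certSL117 : Janko.Tree (List ℤ) :=
  (.node (.node (.node (.node (.node (.leaf []) (.leaf [(-7199), 4393548764, (-4390279192), (-13248), 396698022, 14132288766, (-5670), (-11549), 4713])) (.leaf [])) (.node (.leaf []) (.leaf []))) (.node (.node (.leaf []) (.leaf [(-1), 8018, (-8022), 0, (-850), 13602, 0, (-1), 0])) (.node (.leaf []) (.leaf [0, 3, (-3), 0, 0, (-3), 0, 0, 0])))) (.node (.node (.node (.node (.leaf []) (.leaf [272, (-507468720), 507094431, 1470, (-45537296), (-1630432178), 315, 1290, (-633)])) (.leaf [0, (-11), 11, 0, (-7), (-128), 0, 0, 0])) (.node (.leaf []) (.leaf [0, 1, 0, 0, 0, 0, 0, 0, 0]))) (.node (.node (.leaf [0, 12, (-12), 0, (-2), (-11), 0, 0, 0]) (.leaf [])) (.node (.leaf [(-1), 538, (-541), 1, 50, 1683, 0, 0, 0]) (.leaf [72736, (-15463400057), 15451562779, 43709, (-1433159161), (-50017136810), 41046, 39189, (-2132)])))))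

def certSL118 : Janko.Tree (List ℤ) :=
  (.node (.node (.node (.node (.node (.leaf []) (.leaf [9305, (-3926922730), 3923980763, 11659, (-356873724), (-12648321357), 6176, 10250, (-3309)])) (.leaf [])) (.node (.leaf []) (.leaf [0, (-1), 0, 0, 0, (-2), 0, 0, 0]))) (.node (.node (.leaf []) (.leaf [0, (-3), 3, (-1), 0, 0, 0, 0, 0])) (.node (.leaf []) (.leaf [0, (-114117), 114059, (-1), (-3213), (-312076), (-1), 0, 0])))) (.node (.node (.node (.node (.leaf []) (.leaf [22333, 11296257113, (-11288106878), (-38849), 983548876, 36070698943, 815, (-31066), 23135])) (.leaf [0, (-1), 0, 0, 0, 0, 0, 0, 0])) (.node (.leaf []) (.leaf []))) (.node (.node (.leaf []) (.leaf [0, (-31), 32, 0, 1, (-65), 0, 0, 0])) (.node (.leaf [0, 15, (-15), 0, 0, 23, 0, 0, 0]) (.leaf [(-4), (-1112910), 1112292, 2, (-103735), (-3612328), (-8), 8, (-9)])))))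

def certSL119 : Janko.Tree (List ℤ) :=
  (.node (.node (.node (.node (.node (.leaf []) (.leaf [37990, 20577688690, (-20562803727), (-71926), 1792632254, 65717426926, (-1230), (-56395), 40691])) (.leaf [])) (.node (.leaf []) (.leaf [0, 4389, (-4388), 0, (-777), 4912, 1, 0, 0]))) (.node (.node (.leaf []) (.leaf [])) (.node (.leaf []) (.leaf [6, (-2430954), 2429180, 6, (-197558), (-7657148), (-2), 6, 0])))) (.node (.node (.node (.node (.leaf []) (.leaf [73031, 8178395090, (-8172853995), (-34473), 662679189, 25754310213, 22006, (-24474), 32681])) (.leaf [(-72), (-109491570), 109411930, 305, (-9741832), (-351209441), (-2), 273, (-177)])) (.node (.leaf [0, 1, 0, 0, 0, 2, 0, 0, 0]) (.leaf [0, 1, (-1), 0, (-1), (-6), 0, 0, 0]))) (.node (.node (.leaf []) (.leaf [(-194), (-25676505), 25659149, 72, (-2139457), (-81336017), (-84), 61, (-83)])) (.node (.leaf [(-1), (-127545), 127427, 1, (-13020), (-422099), 0, (-1), 0]) (.leaf [(-491), 182456472, (-182319022), (-483), 16756144, 589095239, (-248), (-434), 88])))))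

def certSL120 : Janko.Tree (List ℤ) :=
  (.node (.node (.node (.node (.node (.leaf []) (.leaf [535, (-249584825), 249398585, 640, (-22736866), (-804435093), 373, 606, (-236)])) (.leaf [0, (-303), 301, 0, (-41), (-1361), 1, 0, 0])) (.node (.leaf [0, (-2), 2, 0, 0, 3, 0, 0, 0]) (.leaf [0, (-1), 1, 0, 0, 0, 0, 0, 0]))) (.node (.node (.leaf []) (.leaf [])) (.node (.leaf [(-300), (-129925307), 129832112, 382, (-11399316), (-415593849), (-100), 329, (-263)]) (.leaf [])))) (.node (.node (.node (.node (.leaf [0, 0, 0, 0, 0, (-2), 0, 0, 0]) (.leaf [0, 13, (-12), 0, 1, 46, 0, 0, 0])) (.leaf [])) (.node (.leaf []) (.leaf []))) (.node (.node (.leaf []) (.leaf [(-5), 1287325, (-1286195), (-9), 102704, 4021299, (-9), (-5), 1])) (.node (.leaf []) (.leaf [(-258529), 93427409507, (-93357104827), (-274191), 8518850694, 301155952565, (-166153), (-240332), 63431])))))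

def certSL121 : Janko.Tree (List ℤ) :=
  (.node (.node (.node (.node (.node (.leaf []) (.leaf [(-25159), 27225459159, (-27205260327), (-84243), 2438958212, 87440994335, (-28681), (-70252), 31138])) (.leaf [])) (.node (.leaf []) (.leaf []))) (.node (.node (.leaf [0, (-1), 1, 0, 0, 4, 0, 0, 0]) (.leaf [])) (.node (.leaf []) (.leaf [0, 5, (-5), 0, 0, (-11), 0, 0, 0])))) (.node (.node (.node (.node (.leaf []) (.leaf [(-17422), (-52090554197), 52052387532, 171351, (-4607479483), (-166860285309), 29757, 139815, (-81219)])) (.leaf [])) (.node (.leaf [0, 1, (-1), 0, 0, (-2), 0, 0, 0]) (.leaf [983, 567785028, (-567373278), (-2235), 49341494, 1812680103, (-542), (-1655), 1223]))) (.node (.node (.leaf []) (.leaf [8, 1409359, (-1408466), (-7), 107580, 4385132, 7, (-7), 6])) (.node (.leaf []) (.leaf [0, 1, (-1), 0, 0, 0, 0, 0, 0])))))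

def certSL122 : Janko.Tree (List ℤ) :=
  (.node (.node (.node (.node (.node (.leaf []) (.leaf [(-7906), 3461102421, (-3458510700), (-10428), 314027016, 11144028647, (-5359), (-9065), 2964])) (.leaf [0, 4, (-5), 0, 0, 0, 0, 0, 0])) (.node (.leaf [2, 1088162, (-1087431), (-4), 108829, 3572362, (-5), (-5), 7]) (.leaf [0, 4, (-3), 0, 0, (-2), 0, 0, 0]))) (.node (.node (.leaf []) (.leaf [(-1511), 485594169, (-485227865), (-1400), 44412252, 1566138376, (-885), (-1245), 285])) (.node (.leaf []) (.leaf [0, 49982, (-49940), (-1), 3773, 154447, (-1), 0, 0])))) (.node (.node (.node (.node (.leaf []) (.leaf [0, (-2), 1, 0, 0, 1, 0, 0, 0])) (.leaf [(-59), (-15274927), 15264115, 50, (-1335920), (-48805754), (-17), 45, (-43)])) (.node (.leaf []) (.leaf []))) (.node (.node (.leaf []) (.leaf [7, 245755, (-245608), (-3), 24141, 799482, (-1), (-2), 4])) (.node (.leaf [0, 0, 0, 0, 0, (-2), 0, 0, 0]) (.leaf [(-2), (-4284215), 4281208, 9, (-387027), (-13776077), 4, 18, (-20)])))))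

def certSL123 : Janko.Tree (List ℤ) :=
  (.node (.node (.node (.node (.node (.leaf []) (.leaf [22186, (-7074141542), 7068808653, 20222, (-647410589), (-22817547121), 12931, 18186, (-4470)])) (.leaf [])) (.node (.leaf []) (.leaf [(-127), 2261044, (-2258636), 16, 332381, 8211188, (-28), 2, (-38)]))) (.node (.node (.leaf []) (.leaf [])) (.node (.leaf [2056919, 2923082734718, (-2920947846166), (-9822508), 257664720619, 9357325000602, (-1454697), (-7926081), 4897535]) (.leaf [9, 317605, (-317399), (-2), 17902, 940417, (-4), (-1), 6])))) (.node (.node (.node (.node (.leaf []) (.leaf [(-160313), 647330472176, (-646853811004), (-2111094), 57580042236, 2075997519578, (-567816), (-1739550), 923020])) (.leaf [(-136), (-12607232), 12598869, 57, (-1019374), (-39672176), (-31), 43, (-66)])) (.node (.leaf []) (.leaf []))) (.node (.node (.leaf []) (.leaf [122636, 3610680623, (-3608793338), (-26619), 214415697, 10802048682, 41341, (-14139), 39544])) (.node (.leaf []) (.leaf [0, 0, 0, 0, 0, 7, 0, 0, 0])))))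

def certSL124 : Janko.Tree (List ℤ) :=
  (.node (.node (.node (.node (.node (.leaf []) (.leaf [(-17192), 2184959057, (-2183242820), (-5589), 208926192, 7112607320, (-8691), (-5576), (-1222)])) (.leaf [(-6), (-297607), 297495, 0, (-25908), (-947798), (-3), 3, (-5)])) (.node (.leaf [0, 0, 0, 0, 0, 5, 0, 0, 0]) (.leaf [0, 1, 0, 0, 0, 0, 0, 0, 0]))) (.node (.node (.leaf []) (.leaf [])) (.node (.leaf []) (.leaf [0, 7, (-7), 0, 0, (-2), 0, 0, 0])))) (.node (.node (.node (.node (.leaf []) (.leaf [(-116123), (-987058575453), 986334228838, 3191311, (-87526242807), (-3163279671461), 558361, 2623978, (-1463576)])) (.leaf [0, (-177), 181, 0, (-72), (-1102), (-1), 0, 0])) (.node (.leaf []) (.leaf [231691, (-139885632766), 139781386219, 432219, (-12612570555), (-449861489718), 195196, 367975, (-143499)]))) (.node (.node (.leaf []) (.leaf [])) (.node (.leaf []) (.leaf [(-345340), 458051912250, (-457713203672), (-1465099), 40944973673, 1470443137915, (-481430), (-1222246), 588722])))))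

def certSL125 : Janko.Tree (List ℤ) :=
  (.node (.node (.node (.node (.node (.leaf []) (.leaf [1809, (-10682880), 10664105, (-68), (-2422878), (-44695998), 754, 37, 422])) (.leaf [3, 544483, (-544163), (-3), 40040, 1681133, 2, (-1), 2])) (.node (.leaf []) (.leaf []))) (.node (.node (.leaf []) (.leaf [0, (-40935), 40927, (-1), (-30), (-103853), (-1), (-1), 0])) (.node (.leaf [(-1), (-2052371), 2050910, 13, (-172547), (-6492236), 8, 13, (-10)]) (.leaf [])))) (.node (.node (.node (.node (.leaf []) (.leaf [(-3188), 485853521, (-485474412), (-1146), 45991545, 1578477234, (-1415), (-1072), (-337)])) (.leaf [0, 0, (-1), 0, 0, 0, 0, 0, 0])) (.node (.leaf [6, 222838, (-222804), 0, 20144, 710399, 3, (-3), 5]) (.leaf []))) (.node (.node (.leaf []) (.leaf [0, 27, (-27), 0, (-1), 64, 0, 0, 0])) (.node (.leaf []) (.leaf [(-24791), 3737756942, (-3734857341), (-9061), 353218345, 12137138928, (-11203), (-9072), (-1486)])))))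

def certSL126 : Janko.Tree (List ℤ) :=
  (.node (.node (.node (.node (.node (.leaf []) (.leaf [0, 7557, (-7575), 0, (-784), 13243, 1, (-1), 0])) (.leaf [])) (.node (.leaf [(-3), (-14), 17, 0, 101, 909, (-1), 0, (-1)]) (.leaf []))) (.node (.node (.leaf []) (.leaf [0, 4, (-3), 0, 0, 0, 0, 0, 0])) (.node (.leaf []) (.leaf [(-2), 36, (-33), 0, 49, 404, (-1), 0, 0])))) (.node (.node (.node (.node (.leaf []) (.leaf [(-456), (-112404775), 112325357, 389, (-9518801), (-356974352), (-138), 304, (-270)])) (.leaf [])) (.node (.leaf []) (.leaf []))) (.node (.node (.leaf [0, (-7), 7, 0, 0, (-15), 0, 0, 0]) (.leaf [])) (.node (.leaf []) (.leaf [(-135011), 44748122592, (-44714389253), (-130741), 4087256897, 144288406820, (-83098), (-115232), 28032])))))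

def certSL127 : Janko.Tree (List ℤ) :=
  (.node (.node (.node (.node (.node (.leaf []) (.leaf [0, 3, (-2), 0, 0, (-6), 0, 0, 0])) (.leaf [])) (.node (.leaf []) (.leaf [10799, (-4924770533), 4921086700, 14471, (-446588579), (-15855478209), 7265, 12760, (-4344)]))) (.node (.node (.leaf []) (.leaf [0, 7443, (-7443), 0, (-620), 13685, 0, (-1), 0])) (.node (.leaf []) (.leaf [2, (-281039), 280858, 0, (-17431), (-846660), 0, 0, 2])))) (.node (.node (.node (.node (.leaf [0, 100, (-99), 0, (-14), 140, (-1), 0, 0]) (.leaf [92546, 12410784178, (-12402260416), (-50726), 1020003096, 39179656679, 28568, (-36511), 44517])) (.leaf [(-3), (-3), 3, 0, 4, (-27), 0, 0, 0])) (.node (.leaf []) (.leaf [(-6667), 21015949438, (-21000475201), (-68183), 1872433837, 67415598491, (-17729), (-56723), 30175]))) (.node (.node (.leaf []) (.leaf [])) (.node (.leaf []) (.leaf [])))))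

def certSL128 : Janko.Tree (List ℤ) :=
  (.node (.node (.node (.node (.node (.leaf []) (.leaf [(-5), 1908247, (-1906688), (-8), 168991, 6105146, (-4), (-5), (-1)])) (.leaf [])) (.node (.leaf []) (.leaf [(-1), (-1), 1, 0, (-3), (-10), 0, 0, 0]))) (.node (.node (.leaf []) (.leaf [0, 12, (-12), 0, (-2), (-9), 0, 0, 0])) (.node (.leaf []) (.leaf [(-137410), 3615015844, (-3611524738), 7277, 442671084, 12471104659, (-49681), (-4416), (-32168)])))) (.node (.node (.node (.node (.leaf []) (.leaf [])) (.leaf [])) (.node (.leaf []) (.leaf []))) (.node (.node (.leaf [0, (-3), 3, 0, (-1), (-21), 0, 0, 0]) (.leaf [0, (-21358), 21340, 1, (-947), (-62292), 1, 0, 0])) (.node (.leaf [0, 8025, (-8026), 0, (-855), 13623, 0, (-1), 0]) (.leaf [(-9), 804070, (-803436), 0, 72588, 2592694, (-4), 1, (-3)])))))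

def certSL129 : Janko.Tree (List ℤ) :=
  (.node (.node (.node (.node (.node (.leaf []) (.leaf [0, 1, (-1), 0, 0, (-8), 0, 0, 0])) (.leaf [])) (.node (.leaf []) (.leaf []))) (.node (.node (.leaf []) (.leaf [])) (.node (.leaf [0, 1, 0, 0, 0, 0, 0, 0, 0]) (.leaf [1, 13, (-12), 0, (-2), 40, 0, 0, 0])))) (.node (.node (.node (.node (.leaf []) (.leaf [])) (.leaf [])) (.node (.leaf []) (.leaf []))) (.node (.node (.leaf []) (.leaf [0, (-55282), 55230, 0, (-3670), (-169717), 0, 0, 0])) (.node (.leaf []) (.leaf [])))))

def certSL130 : Janko.Tree (List ℤ) :=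
  (.node (.node (.node (.node (.node (.leaf []) (.leaf [0, 9, (-8), 0, 1, 5, 0, 0, 0])) (.leaf [])) (.node (.leaf [0, (-1), 0, 0, 0, 0, 0, 0, 0]) (.leaf [(-1), (-170099), 169956, 1, (-15534), (-550424), 0, 0, 0]))) (.node (.node (.leaf [0, 3, (-3), 0, 1, 25, 0, 0, 0]) (.leaf [5, (-564658), 564298, (-2), (-44071), (-1766151), (-8), 1, 1])) (.node (.leaf []) (.leaf [39, (-1153045), 1152027, (-7), (-115936), (-3789199), 10, (-2), 10])))) (.node (.node (.node (.node (.leaf []) (.leaf [0, 1, 0, 0, 0, 0, 0, 0, 0])) (.leaf [0, 135825, (-135711), (-1), 12261, 437195, 0, 0, 0])) (.node (.leaf []) (.leaf []))) (.node (.node (.leaf [0, 0, 1, 0, 0, 0, 0, 0, 0]) (.leaf [0, (-8), 9, 0, (-5), (-113), 0, 0, 0])) (.node (.leaf []) (.leaf [(-133), 87805203, (-87740832), (-215), 7988129, 282997197, (-46), (-217), 100])))))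

def certSL131 : Janko.Tree (List ℤ) :=
  (.node (.node (.node (.node (.node (.leaf []) (.leaf [(-13846), 4900757729, (-4897073553), (-14157), 447533898, 15800903548, (-8430), (-12693), 3603])) (.leaf [(-1), 662419, (-661920), 0, 61216, 2139607, (-1), (-3), 3])) (.node (.leaf []) (.leaf [2402, (-724444369), 723898240, 2029, (-66479447), (-2338164842), 1358, 1866, (-442)]))) (.node (.node (.leaf []) (.leaf [98, (-79350221), 79291853, 210, (-7089438), (-254742560), 48, 201, (-94)])) (.node (.leaf []) (.leaf [(-10810), (-31512717665), 31489636575, 103275, (-2786972538), (-100939600439), 17029, 84626, (-49368)])))) (.node (.node (.node (.node (.leaf []) (.leaf [0, 1, 0, 0, 1, 11, 0, 0, 0])) (.leaf [])) (.node (.leaf []) (.leaf []))) (.node (.node (.leaf []) (.leaf [])) (.node (.leaf []) (.leaf [2606, (-944875043), 944164220, 2677, (-86357963), (-3047111606), 1601, 2409, (-670)])))))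

def certSL132 : Janko.Tree (List ℤ) :=
  (.node (.node (.node (.node (.node (.leaf []) (.leaf [])) (.leaf [(-1), 38986, (-38981), 0, 857, 103879, (-1), (-3), 3])) (.node (.leaf []) (.leaf [11404, (-1595678625), 1594437653, 3674, (-151402248), (-5185991502), 5061, 3835, 751]))) (.node (.node (.leaf [0, 0, 0, 0, 0, 12, 0, 0, 0]) (.leaf [])) (.node (.leaf []) (.leaf [(-14257), 21303174881, (-21287439416), (-67201), 1903148310, 68376743443, (-19322), (-56436), 27352])))) (.node (.node (.node (.node (.leaf []) (.leaf [0, 1, 0, 0, 0, (-2), 0, 0, 0])) (.leaf [(-173), 87018936, (-86954273), (-232), 7914916, 280367345, (-102), (-220), 87])) (.node (.leaf [0, 2, (-2), 0, 0, (-5), 0, 0, 0]) (.leaf []))) (.node (.node (.leaf []) (.leaf [0, 1, 0, 0, 0, 0, 0, 0, 0])) (.node (.leaf []) (.leaf [(-1221), (-659561483), 659088460, 2094, (-57865733), (-2109355980), (-175), 1812, (-1435)])))))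

def certSL133 : Janko.Tree (List ℤ) :=
  (.node (.node (.node (.node (.node (.leaf []) (.leaf [0, 83, (-83), 0, (-73), (-449), 0, 0, 0])) (.leaf [])) (.node (.leaf []) (.leaf [153, (-85798634), 85735009, 228, (-7824287), (-276609298), 84, 214, (-82)]))) (.node (.node (.leaf [0, (-277), 280, 0, (-7), (-805), (-1), 0, 0]) (.leaf [2194, 129836867, (-129752968), (-468), 10121294, 405886596, 1304, (-191), 527])) (.node (.leaf [0, 0, 0, 0, 0, 4, 0, 0, 0]) (.leaf [(-1), (-4502440), 4499315, 16, (-381434), (-14291405), (-2), 18, (-12)])))) (.node (.node (.node (.node (.leaf []) (.leaf [0, 2, (-1), 0, 0, 0, 0, 0, 0])) (.leaf [0, (-1), 0, 0, 0, 0, 0, 0, 0])) (.node (.leaf []) (.leaf [0, (-37812), 37788, 0, (-1725), (-109901), 0, 0, 0]))) (.node (.node (.leaf []) (.leaf [])) (.node (.leaf [(-64), (-14543486), 14533230, 52, (-1268695), (-46452039), (-10), 44, (-47)]) (.leaf [2, (-1763936), 1762670, 0, (-170689), (-5769779), (-5), 2, 0])))))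

def certSL134 : Janko.Tree (List ℤ) :=
  (.node (.node (.node (.node (.node (.leaf [0, 1, 0, 0, 0, 0, 0, 0, 0]) (.leaf [(-1), (-15428), 15445, 1, 1744, (-23965), (-1), 3, (-2)])) (.leaf [])) (.node (.leaf []) (.leaf [(-343), 138766688, (-138662291), (-421), 12620458, 446999191, (-225), (-361), 100]))) (.node (.node (.leaf []) (.leaf [555, 26868583, (-26852701), (-142), 1929079, 82857758, 183, (-103), 208])) (.node (.leaf []) (.leaf [0, (-101), 102, 0, 99, 96, 0, 0, 0])))) (.node (.node (.node (.node (.leaf []) (.leaf [0, 1, 0, 0, 0, (-4), 0, 0, 0])) (.leaf [0, 1, 0, 0, 0, (-7), 0, 0, 0])) (.node (.leaf [0, 3, (-2), 0, 0, (-3), 0, 0, 0]) (.leaf []))) (.node (.node (.leaf [0, (-2208), 2217, 1, (-2396), (-25255), 1, 0, 0]) (.leaf [0, (-54271), 54233, 1, (-3283), (-162859), 1, 0, 0])) (.node (.leaf []) (.leaf [])))))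

def certSL135 : Janko.Tree (List ℤ) :=
  (.node (.node (.node (.node (.node (.leaf []) (.leaf [0, 104014, (-103960), 0, 2867, 284184, 0, 0, 0])) (.leaf [0, (-55), 55, 0, 5, (-88), 0, 0, 0])) (.node (.leaf []) (.leaf [(-3), (-104), 106, 0, (-60), (-828), (-1), 0, 0]))) (.node (.node (.leaf []) (.leaf [])) (.node (.leaf []) (.leaf [0, 83, (-87), 0, 140, 1439, 1, 0, 0])))) (.node (.node (.node (.node (.leaf []) (.leaf [0, 3, (-2), 0, 0, 0, 0, 0, 0])) (.leaf [])) (.node (.leaf []) (.leaf [0, 1334, (-1333), 0, 703, 8851, 0, (-1), 0]))) (.node (.node (.leaf []) (.leaf [])) (.node (.leaf []) (.leaf [])))))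

def certSL136 : Janko.Tree (List ℤ) :=
  (.node (.node (.node (.node (.node (.leaf []) (.leaf [2, (-224502), 224317, 1, (-20200), (-720573), 4, 1, (-1)])) (.leaf [0, (-12706), 12706, 0, (-2756), (-54331), 0, 0, 0])) (.node (.leaf []) (.leaf [(-3), (-498300), 497906, 2, (-45909), (-1604348), 1, 1, (-2)]))) (.node (.node (.leaf []) (.leaf [0, 2, (-1), 0, 0, 1, 0, 0, 0])) (.node (.leaf [0, 341, (-339), 0, 357, 4658, (-1), 0, 0]) (.leaf [0, (-9494), 9508, 0, 761, (-18456), 0, 1, 0])))) (.node (.node (.node (.node (.leaf []) (.leaf [0, 1, 0, 0, 0, 1, 0, 0, 0])) (.leaf [22422, (-17582703008), 17569641543, 54958, (-1579698910), (-56512433000), 24911, 46576, (-20190)])) (.node (.leaf []) (.leaf [2, (-56), 51, 0, 3, (-82), 0, 0, 0]))) (.node (.node (.leaf [0, 0, 1, 0, 0, 0, 0, 0, 0]) (.leaf [])) (.node (.leaf [0, (-533), 531, 0, (-181), (-2749), (-1), 0, 0]) (.leaf [0, 106383, (-106343), (-1), 5299, 309997, 0, 0, 0])))))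

def certSL137 : Janko.Tree (List ℤ) :=
  (.node (.node (.node (.node (.node (.leaf []) (.leaf [(-194), (-24677991), 24661405, 69, (-2039218), (-78045476), (-81), 61, (-83)])) (.leaf [])) (.node (.leaf []) (.leaf [(-1), (-8), 7, 0, 2, 9, 0, 0, 0]))) (.node (.node (.leaf []) (.leaf [1690, (-689129494), 688611837, 1889, (-62870089), (-2221585124), 1019, 1709, (-499)])) (.node (.leaf [0, 1004, (-1000), 0, 643, 8443, (-1), 0, 1]) (.leaf [(-44), 1269646, (-1268477), 6, 124089, 4146704, (-10), 5, (-15)])))) (.node (.node (.node (.node (.leaf [0, 1, (-1), 0, 0, 0, 0, 0, 0]) (.leaf [0, 4, (-3), 0, 0, 0, 0, 0, 0])) (.leaf [])) (.node (.leaf [0, 8, (-8), 0, 0, 0, 0, 0, 0]) (.leaf [606, (-148566591), 148453605, 420, (-13711357), (-480030123), 260, 372, (-16)]))) (.node (.node (.leaf []) (.leaf [(-3), (-1615926), 1614907, 4, (-143088), (-5172916), (-2), 8, (-9)])) (.node (.leaf []) (.leaf [1091, (-148952686), 148835999, 351, (-14224204), (-484754993), 401, 339, 144])))))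

def certSL138 : Janko.Tree (List ℤ) :=
  (.node (.node (.node (.node (.node (.leaf []) (.leaf [3, 498283, (-497889), (-2), 45911, 1604337, (-1), (-1), 2])) (.leaf [0, (-137056), 136935, 1, (-12413), (-444587), 1, 0, 0])) (.node (.leaf [0, (-1), 0, 0, 0, (-1), 0, 0, 0]) (.leaf []))) (.node (.node (.leaf []) (.leaf [])) (.node (.leaf [0, 247, (-244), 0, 49, 1295, (-1), 0, 0]) (.leaf [])))) (.node (.node (.node (.node (.leaf [(-3), 164, (-162), 0, 57, 865, (-1), 0, 0]) (.leaf [0, 1, 0, 0, 0, (-1), 0, 0, 0])) (.leaf [])) (.node (.leaf []) (.leaf []))) (.node (.node (.leaf []) (.leaf [])) (.node (.leaf []) (.leaf [])))))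

def certSL139 : Janko.Tree (List ℤ) :=
  (.node (.node (.node (.node (.node (.leaf []) (.leaf [])) (.leaf [])) (.node (.leaf [0, (-102), 100, 0, 1, (-220), 1, 0, 0]) (.leaf [(-42909), 6297362973, (-6292473141), (-14998), 596359515, 20458421002, (-19412), (-15274), (-2593)]))) (.node (.node (.leaf [0, (-7909), 7910, 0, 820, (-13511), 0, 1, 0]) (.leaf [])) (.node (.leaf [2, (-240058), 239820, 0, (-21111), (-770401), 0, (-1), 3]) (.leaf [0, 57565, (-57505), 1, 5007, 183073, 1, 1, 0])))) (.node (.node (.node (.node (.leaf []) (.leaf [0, 5, (-4), 0, 0, 0, 0, 0, 0])) (.leaf [3, 3, (-2), 0, (-4), 15, 0, 0, 0])) (.node (.leaf []) (.leaf [(-1), (-45888), 45865, 0, (-4195), (-152687), (-3), 1, (-2)]))) (.node (.node (.leaf [0, 1, 0, 0, 0, 0, 0, 0, 0]) (.leaf [])) (.node (.leaf []) (.leaf [11608, (-28871121718), 28849834783, 93001, (-2572847594), (-92622303300), 25176, 77039, (-39468)])))))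

def certSL140 : Janko.Tree (List ℤ) :=
  (.node (.node (.node (.node (.node (.leaf [0, 0, 0, 0, 0, (-2), 0, 0, 0]) (.leaf [(-37197), 81490616839, (-81430565916), (-264259), 7265073810, 261440365130, (-72686), (-220198), 114722])) (.leaf [0, 56, (-56), 0, (-7), 61, 0, 0, 0])) (.node (.leaf [0, (-1), 0, 0, 0, 5, 0, 0, 0]) (.leaf [(-10), 180148, (-179958), 2, 30747, 685726, (-7), 1, (-2)]))) (.node (.node (.leaf []) (.leaf [])) (.node (.leaf [0, 1, 0, 0, 0, 8, 0, 0, 0]) (.leaf [0, 10123, (-10115), 1, 383, 28386, 1, 0, 0])))) (.node (.node (.node (.node (.leaf []) (.leaf [0, (-2), 3, 0, 0, (-4), 0, 0, 0])) (.leaf [])) (.node (.leaf []) (.leaf [1623, 4191117962, (-4188050705), (-13454), 371015224, 13427398357, (-1978), (-11220), 6702]))) (.node (.node (.leaf []) (.leaf [])) (.node (.leaf [32, (-26867247), 26846764, 132, (-2298094), (-85378905), 66, 77, (-22)]) (.leaf [(-1), (-7224), 7250, 0, 42, (-18184), (-1), 1, (-1)])))))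

def certSL141 : Janko.Tree (List ℤ) :=
  (.node (.node (.node (.node (.node (.leaf []) (.leaf [])) (.leaf [])) (.node (.leaf [0, (-4), 4, 0, 0, 13, 0, 0, 0]) (.leaf [7, (-845723), 845057, 0, (-81666), (-2758749), 4, 2, 0]))) (.node (.node (.leaf []) (.leaf [0, (-1028), 1027, 0, 697, 2793, (-1), 0, 0])) (.node (.leaf [0, (-25), 29, 0, (-4), (-56), (-1), 0, 0]) (.leaf [5712, (-716425666), 715864394, 1696, (-68547392), (-2332406088), 2598, 1764, 465])))) (.node (.node (.node (.node (.leaf []) (.leaf [0, 3, (-2), 0, 0, (-1), 0, 0, 0])) (.leaf [0, 1165458, (-1164699), (-4), 83216, 3588344, 6, (-5), 2])) (.node (.leaf [1, (-7985), 7989, 0, 849, (-13514), 0, 1, 0]) (.leaf [104, 15935197, (-15924260), (-62), 1379271, 50808351, 26, (-55), 63]))) (.node (.node (.leaf [0, (-200), 198, 0, (-8), (-199), 1, 0, 0]) (.leaf [0, 4, (-3), 0, 1, 16, 0, 0, 0])) (.node (.leaf [0, (-3674), 3674, 0, 1312, 1119, 0, 0, 0]) (.leaf [(-14341), 2561166879, (-2559194402), (-6803), 239856366, 8300283728, (-7007), (-6414), (-182)])))))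

def certSL142 : Janko.Tree (List ℤ) :=
  (.node (.node (.node (.node (.node (.leaf []) (.leaf [(-19896), 3584328368, (-3581573246), (-9099), 334758401, 11610286448, (-9241), (-8769), (-348)])) (.leaf [])) (.node (.leaf [0, (-1), 1, 0, 0, 0, 0, 0, 0]) (.leaf []))) (.node (.node (.leaf []) (.leaf [64, 14530812, (-14520564), (-53), 1268159, 46415642, 8, (-44), 47])) (.node (.leaf []) (.leaf [(-2829), 355778891, (-355500145), (-842), 34040904, 1158295055, (-1280), (-876), (-230)])))) (.node (.node (.node (.node (.leaf []) (.leaf [0, 1, 2, 0, 0, 0, 0, 0, 0])) (.leaf [])) (.node (.leaf []) (.leaf [3, (-12345), 12330, 0, (-2886), (-56119), 0, (-1), 2]))) (.node (.node (.leaf []) (.leaf [])) (.node (.leaf [0, (-2), 2, 0, 0, 0, 0, 0, 0]) (.leaf [0, (-386), 387, 0, (-48), (-1531), 0, 0, 0])))))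

def certSL143 : Janko.Tree (List ℤ) :=
  (.node (.node (.node (.node (.node (.leaf [0, (-3), 3, 0, 0, (-6), 0, 0, 0]) (.leaf [(-52), 189250, (-188580), 11, 38459, 770840, (-17), 11, (-24)])) (.leaf [])) (.node (.leaf []) (.leaf [(-4743), 6738017219, (-6733039482), (-20934), 602748329, 21633633514, (-6144), (-17710), 8549]))) (.node (.node (.leaf []) (.leaf [0, 1, (-1), 0, 0, 2, 0, 0, 0])) (.node (.leaf []) (.leaf [0, 82, (-86), 0, 140, 1439, 1, 0, 0])))) (.node (.node (.node (.node (.leaf [0, 1, 0, 0, 0, 0, 0, 0, 0]) (.leaf [0, 3, 0, 0, 0, (-3), 0, 0, 0])) (.leaf [0, 0, 0, 0, 0, 12, 0, 0, 0])) (.node (.leaf [1, 29, (-27), 0, (-2), 56, 0, 0, 0]) (.leaf [(-1814), 708490312, (-707957753), (-1935), 64704656, 2284511319, (-1076), (-1755), 490]))) (.node (.node (.leaf []) (.leaf [0, 4, (-5), 0, 4, 46, 0, 0, 0])) (.node (.leaf [0, (-14468), 14465, 0, 1561, (-24396), (-1), 1, 0]) (.leaf [1, 6757, (-6782), 0, (-17), 17095, 1, (-1), 1])))))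

def certSL144 : Janko.Tree (List ℤ) :=
  (.node (.node (.node (.node (.node (.leaf []) (.leaf [(-104789), (-25046744619), 25028990901, 93807, (-2132090418), (-79619781049), (-22865), 70224, (-65035)])) (.leaf [0, 10327, (-10317), 1, 380, 28900, 1, 0, 0])) (.node (.leaf []) (.leaf [0, 4, (-5), 0, 2, 32, 0, 0, 0]))) (.node (.node (.leaf []) (.leaf [1089, (-267283887), 267081333, 720, (-24735675), (-864257520), 580, 685, (-116)])) (.node (.leaf []) (.leaf [1814, (-708539248), 708006664, 1935, (-64707040), (-2284654628), 1076, 1755, (-490)])))) (.node (.node (.node (.node (.leaf []) (.leaf [0, 1, 2, 0, 0, 6, 0, 0, 0])) (.leaf [2840, (-359547539), 359266060, 847, (-34407964), (-1170628944), 1287, 884, 227])) (.node (.leaf [1, 65, (-63), 0, (-7), 111, 0, 0, 0]) (.leaf [(-39755), 8840065266, (-8833305056), (-24049), 819993244, 28601702295, (-22347), (-21934), 1145]))) (.node (.node (.leaf []) (.leaf [0, 9497, (-9488), 1, 213, 25281, 1, 0, 0])) (.node (.leaf []) (.leaf [0, (-7766), 7780, 0, 816, (-12825), 0, 1, 0])))))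

def certSL145 : Janko.Tree (List ℤ) :=
  (.node (.node (.node (.node (.node (.leaf []) (.leaf [(-8), (-10491752), 10484892, 9, (-933499), (-33698314), (-21), 31, (-37)])) (.leaf [])) (.node (.leaf [0, 3, (-3), 0, 0, 5, 0, 0, 0]) (.leaf [(-49), 2207231, (-2205364), 3, 252295, 7508501, (-5), 0, (-20)]))) (.node (.node (.leaf [0, 1, 0, 0, 0, 0, 0, 0, 0]) (.leaf [0, 7951, (-7934), (-1), (-1013), 12493, (-1), (-1), 0])) (.node (.leaf [0, 1, 0, 0, 0, 9, 0, 0, 0]) (.leaf [5009, (-1194406711), 1193494985, 3079, (-110702913), (-3863206587), 2487, 2825, (-149)])))) (.node (.node (.node (.node (.leaf [0, (-5), 5, 0, 0, 11, 0, 0, 0]) (.leaf [0, 3, 0, 0, 0, 3, 0, 0, 0])) (.leaf [(-3), (-8), 10, 0, 4, (-28), 0, 0, 0])) (.node (.leaf []) (.leaf []))) (.node (.node (.leaf []) (.leaf [0, (-8501), 8510, 0, 740, (-15314), 1, 1, 0])) (.node (.leaf [0, (-6), 6, 0, (-16), (-266), (-1), 0, 0]) (.leaf [0, 1, (-1), 0, 0, 0, 0, 0, 0])))))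

def certSL146 : Janko.Tree (List ℤ) :=
  (.node (.node (.node (.node (.node (.leaf []) (.leaf [])) (.leaf [])) (.node (.leaf [1, (-51), 52, 0, 57, 285, (-1), 0, 0]) (.leaf [3117, (-499788878), 499399935, 1197, (-47195155), (-1622892320), 1406, 1110, 293]))) (.node (.node (.leaf [(-1), 0, 0, 0, 0, 0, 0, 0, 0]) (.leaf [3, 1489946, (-1489033), (-2), 130973, 4761209, 2, (-8), 9])) (.node (.leaf [(-7), (-1409417), 1408517, 7, (-107640), (-4385687), (-7), 7, (-6)]) (.leaf [])))) (.node (.node (.node (.node (.leaf [0, (-3), 3, 0, 0, 0, 0, 0, 0]) (.leaf [0, 5, (-2), 0, 0, 0, 0, 0, 0])) (.leaf [])) (.node (.leaf [(-1), (-6), 5, 0, 2, 20, 0, 0, 0]) (.leaf []))) (.node (.node (.leaf []) (.leaf [0, (-487), 485, 0, (-29), (-1512), 1, 0, 0])) (.node (.leaf [0, (-31), 31, 0, (-10), (-215), (-1), 0, 0]) (.leaf [3, 429180, (-428909), (-3), 33459, 1338291, 1, (-1), 2])))))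

def certSL147 : Janko.Tree (List ℤ) :=
  (.node (.node (.node (.node (.node (.leaf []) (.leaf [(-6), 627849, (-627376), (-4), 50942, 1966378, (-9), (-5), 4])) (.leaf [1, (-26537), 26484, 1, (-3100), (-91460), 3, (-2), 2])) (.node (.leaf [2, (-22), 22, 0, 1, (-23), 0, 0, 0]) (.leaf [2190, (-534799223), 534391193, 1403, (-49437709), (-1728747949), 1172, 1290, (-122)]))) (.node (.node (.leaf [0, (-2), 2, 0, (-1), (-31), 0, 0, 0]) (.leaf [0, 1, (-1), 0, 0, 1, 0, 0, 0])) (.node (.leaf [0, (-407), 409, 0, (-108), (-2095), (-1), 0, 0]) (.leaf [(-2849), 360813270, (-360530848), (-850), 34529764, 1174760317, (-1292), (-885), (-227)])))) (.node (.node (.node (.node (.leaf []) (.leaf [0, 11, (-8), 0, (-1), (-15), 0, 0, 0])) (.leaf [(-557), (-31127128), 31108251, 151, (-2317242), (-96579257), (-177), 118, (-224)])) (.node (.leaf []) (.leaf [0, 0, 1, 0, 0, (-2), 0, 0, 0]))) (.node (.node (.leaf [1, 13276, (-13277), 1, (-1300), 22776, 3, (-2), 2]) (.leaf [1, (-8004), 8011, 0, 562, (-15411), 0, 1, 0])) (.node (.leaf []) (.leaf [(-2), 227176, (-226987), (-1), 20303, 729295, (-5), (-1), 1])))))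

def certSL148 : Janko.Tree (List ℤ) :=
  (.node (.node (.node (.node (.node (.leaf []) (.leaf [])) (.leaf [0, (-103013), 102919, 1, (-9110), (-331754), 1, 0, 0])) (.node (.leaf [1, (-11), 10, 0, 0, (-17), 0, 0, 0]) (.leaf []))) (.node (.node (.leaf []) (.leaf [0, (-95), 94, 0, 2, (-148), (-1), 0, 0])) (.node (.leaf []) (.leaf [26423, (-8988699853), 8981927411, 26144, (-821713992), (-28987410863), 16284, 23163, (-5965)])))) (.node (.node (.node (.node (.leaf []) (.leaf [0, 9, (-6), 0, 0, 6, 0, 0, 0])) (.leaf [0, (-10127), 10119, (-1), (-382), (-28380), (-1), 0, 0])) (.node (.leaf [0, 3, (-3), 0, 1, 24, 0, 0, 0]) (.leaf [0, (-1), 2, 0, 0, 0, 0, 0, 0]))) (.node (.node (.leaf []) (.leaf [0, 0, 1, 0, 0, 0, 0, 0, 0])) (.node (.leaf [3, 43, (-44), 0, (-26), (-128), 1, 0, 0]) (.leaf [(-64861), (-9942643626), 9935755982, 39248, (-825733231), (-31456420053), (-18063), 28851, (-32874)])))))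

def certSL149 : Janko.Tree (List ℤ) :=
  (.node (.node (.node (.node (.node (.leaf []) (.leaf [2, 4533, (-4597), (-1), (-10421), (-69348), (-1), (-2), 2])) (.leaf [])) (.node (.leaf [0, (-1), 0, 0, 0, 0, 0, 0, 0]) (.leaf [0, 4, (-4), 0, 4, 56, 0, 0, 0]))) (.node (.node (.leaf []) (.leaf [(-1808), (-267458150), 267275121, 1017, (-22199545), (-845982029), (-512), 812, (-1006)])) (.node (.leaf []) (.leaf [0, 40935, (-40927), 1, 30, 103853, 1, 1, 0])))) (.node (.node (.node (.node (.leaf []) (.leaf [0, 7, (-3), 0, 0, 8, 0, 0, 0])) (.leaf [])) (.node (.leaf []) (.leaf [(-852), 379560790, (-379277483), (-1074), 34555758, 1223127905, (-654), (-990), 409]))) (.node (.node (.leaf []) (.leaf [(-3), (-121389), 121286, 2, (-9555), (-374269), 3, 1, (-2)])) (.node (.leaf [1, (-68), 67, 0, 37, 197, 0, 0, 0]) (.leaf [(-59596), (-10056220409), 10049213775, 39541, (-841018075), (-31857579908), (-15400), 29318, (-31914)])))))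

def certSL150 : Janko.Tree (List ℤ) :=
  (.node (.node (.node (.node (.node (.leaf []) (.leaf [133865, (-50296334182), 50258563326, 146461, (-4582291776), (-162086171097), 83154, 129916, (-37383)])) (.leaf [])) (.node (.leaf [0, (-319), 319, 0, (-13), (-954), (-1), 0, 0]) (.leaf []))) (.node (.node (.leaf []) (.leaf [])) (.node (.leaf [0, (-2), 2, 0, 0, 2, 0, 0, 0]) (.leaf [2292, (-211289406), 211119729, 441, (-20734475), (-691566783), 1040, 510, 277])))) (.node (.node (.node (.node (.leaf [0, (-105), 102, 0, (-43), (-749), 1, 0, 0]) (.leaf [0, 7, (-3), 0, 0, 15, 0, 0, 0])) (.leaf [0, (-8023), 8025, 0, 855, (-13623), 0, 1, 0])) (.node (.leaf []) (.leaf [0, (-4), 5, (-1), 3, 49, 0, 0, 0]))) (.node (.node (.leaf []) (.leaf [(-44), 7306279, (-7300647), (-19), 698732, 23777285, (-27), (-21), 4])) (.node (.leaf [1, (-323), 322, 0, (-94), (-1616), 0, 0, 0]) (.leaf [(-3), 187, (-186), 0, (-98), (-337), 0, 0, 0])))))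

def certSL151 : Janko.Tree (List ℤ) :=
  (.node (.node (.node (.node (.node (.leaf []) (.leaf [0, (-49974), 49932, 1, (-3773), (-154450), 1, 0, 0])) (.leaf [0, 1, (-1), 0, 0, 0, 0, 0, 0])) (.node (.leaf []) (.leaf [0, (-9), 9, 0, 4, (-4), 0, 0, 0]))) (.node (.node (.leaf [1, 21, (-21), 0, (-3), 18, 0, 0, 0]) (.leaf [])) (.node (.leaf [(-1), (-21), 19, 0, 2, (-33), 0, 0, 0]) (.leaf [6, (-841913), 841253, 1, (-82952), (-2759360), 6, 2, 0])))) (.node (.node (.node (.node (.leaf []) (.leaf [0, 8, (-5), 0, (-2), (-8), 0, 0, 0])) (.leaf [3, 11240, (-11399), 2, 6977, 83519, 8, (-3), 5])) (.node (.leaf []) (.leaf []))) (.node (.node (.leaf []) (.leaf [])) (.node (.leaf []) (.leaf [])))))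

def certSL152 : Janko.Tree (List ℤ) :=
  (.node (.node (.node (.node (.node (.leaf []) (.leaf [3737, (-908029834), 907339756, 2405, (-84074978), (-2936099063), 1932, 2281, (-308)])) (.leaf [])) (.node (.leaf []) (.leaf [(-4489), 1438183362, (-1437096529), (-3909), 131733992, 4640110952, (-2528), (-3532), 753]))) (.node (.node (.leaf []) (.leaf [479110, (-440525357893), 440198745652, 1386709, (-39508531725), (-1415099611826), 506822, 1169562, (-527124)])) (.node (.leaf []) (.leaf [0, 701683, (-701198), 1, 67884, 2300869, 6, (-1), (-1)])))) (.node (.node (.node (.node (.leaf []) (.leaf [0, 28, (-21), 0, 2, 57, 0, 0, 0])) (.leaf [])) (.node (.leaf [0, (-2), 3, 0, 0, 0, 0, 0, 0]) (.leaf [0, (-2), 3, (-1), 0, (-1), 0, 0, 0]))) (.node (.node (.leaf [1, 9, (-8), 0, (-3), 13, 0, 0, 0]) (.leaf [])) (.node (.leaf []) (.leaf [42, 1287347, (-1286660), (-12), 81377, 3883800, 8, (-8), 18])))))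

def certSL153 : Janko.Tree (List ℤ) :=
  (.node (.node (.node (.node (.node (.leaf []) (.leaf [0, (-46766), 46724, 1, (-2536), (-136512), 1, 0, 0])) (.leaf [])) (.node (.leaf []) (.leaf []))) (.node (.node (.leaf []) (.leaf [])) (.node (.leaf [0, (-7879), 7881, 0, 954, (-12355), 0, 1, 0]) (.leaf [0, (-447951), 447612, 2, (-52332), (-1532521), 1, 0, 0])))) (.node (.node (.node (.node (.leaf []) (.leaf [0, 52, (-45), 0, (-4), 62, 0, 0, 0])) (.leaf [0, (-19), 23, 0, (-57), (-547), (-1), 0, 0])) (.node (.leaf []) (.leaf [(-2994), (-1605276092), 1604118200, 5535, (-139689628), (-5124989220), (-125), 4409, (-3229)]))) (.node (.node (.leaf []) (.leaf [2, (-103476), 103342, 0, (-9216), (-334687), 1, (-1), 3])) (.node (.leaf []) (.leaf [])))))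

def certSL154 : Janko.Tree (List ℤ) :=
  (.node (.node (.node (.node (.node (.leaf []) (.leaf [1, (-29262), 29211, 0, (-5080), (-114010), 3, (-2), 2])) (.leaf [])) (.node (.leaf []) (.leaf [(-136826), 17697146571, (-17683294673), (-40596), 1689142508, 57589537056, (-60679), (-42306), (-12161)]))) (.node (.node (.leaf []) (.leaf [])) (.node (.leaf [0, (-8019), 8021, 0, 908, (-13092), 0, 1, 0]) (.leaf [])))) (.node (.node (.node (.node (.leaf []) (.leaf [0, (-4), 4, 0, 1, 19, 0, 0, 0])) (.leaf [45, (-285035), 284322, (-2), (-25224), (-901036), 24, (-7), 21])) (.node (.leaf [(-3), 17, (-14), 0, (-44), (-409), (-1), 0, 0]) (.leaf [(-5), (-254142), 254014, 1, (-26117), (-840242), (-3), 1, (-3)]))) (.node (.node (.leaf [0, (-2), 2, 0, (-1), (-17), 0, 0, 0]) (.leaf [(-2), (-6146), 6180, 0, (-276), (-17067), (-1), 1, (-1)])) (.node (.leaf [0, 14, (-14), 0, 1, 49, 0, 0, 0]) (.leaf [(-37084), 7496771957, (-7491020750), (-20361), 697677643, 24273187931, (-21004), (-18777), 282])))))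

def certSL155 : Janko.Tree (List ℤ) :=
  (.node (.node (.node (.node (.node (.leaf []) (.leaf [(-3132), 1010776366, (-1010013986), (-2290), 92985510, 3263615601, (-1265), (-2306), 493])) (.leaf [])) (.node (.leaf [0, 0, 0, 0, 0, (-2), 0, 0, 0]) (.leaf [(-14), 53295345, (-53256160), (-178), 4609777, 169912370, (-27), (-140), 73]))) (.node (.node (.leaf []) (.leaf [])) (.node (.leaf []) (.leaf [])))) (.node (.node (.node (.node (.leaf [0, 90, (-88), 0, 17, 374, (-1), 0, 0]) (.leaf [0, 211, (-211), 0, (-2), 592, 0, 0, 0])) (.leaf [])) (.node (.leaf []) (.leaf []))) (.node (.node (.leaf []) (.leaf [(-13755), 2629014156, (-2626998270), (-6831), 245161449, 8512957899, (-6847), (-6538), 136])) (.node (.leaf [(-9471), 23157005982, (-23139945671), (-73258), 2064100267, 74292926060, (-18440), (-61517), 31658]) (.leaf [0, 28, (-31), 0, 3, 55, 1, 0, 0])))))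

def certSL156 : Janko.Tree (List ℤ) :=
  (.node (.node (.node (.node (.node (.leaf []) (.leaf [152761, (-89066220857), 88999820572, 269705, (-8040539234), (-286501982328), 118868, 231972, (-87101)])) (.leaf [])) (.node (.leaf [3, 27, (-28), 0, (-3), 74, 0, 0, 0]) (.leaf []))) (.node (.node (.leaf []) (.leaf [0, 543, (-543), 0, 37, 1616, 0, 0, 0])) (.node (.leaf []) (.leaf [0, 3, (-3), 0, 0, 2, 0, 0, 0])))) (.node (.node (.node (.node (.leaf []) (.leaf [(-5), 1278942, (-1278004), (-3), 117657, 4130080, (-3), (-4), 2])) (.leaf [])) (.node (.leaf [0, 1, (-1), 0, 0, 0, 0, 0, 0]) (.leaf [0, (-7), 7, (-1), 1, 26, 0, 0, 0]))) (.node (.node (.leaf [1, (-8028), 8033, 0, 854, (-13591), 0, 1, 0]) (.leaf [])) (.node (.leaf []) (.leaf [0, (-17), 14, 0, 12, 55, 1, 0, 0])))))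

def certSL157 : Janko.Tree (List ℤ) :=
  (.node (.node (.node (.node (.node (.leaf []) (.leaf [28221, (-11191344500), 11182955667, 32107, (-1018507771), (-36057853823), 17279, 28706, (-8811)])) (.leaf [4, 1711927, (-1710852), (-4), 146808, 5443527, 2, (-7), 9])) (.node (.leaf []) (.leaf [9, 453744, (-453436), (-2), 30931, 1385202, (-4), (-1), 6]))) (.node (.node (.leaf []) (.leaf [(-27), (-3012078), 3010707, (-4), (-241380), (-9509054), (-27), 11, (-26)])) (.node (.leaf [(-3), (-8), 10, 0, 4, (-26), 0, 0, 0]) (.leaf [])))) (.node (.node (.node (.node (.leaf []) (.leaf [0, 7, (-3), 0, 0, (-2), 0, 0, 0])) (.leaf [0, (-4), 3, 0, (-1), (-14), 0, 0, 0])) (.node (.leaf []) (.leaf [363203, (-311386493167), 311155460622, 976094, (-27948462936), (-1000429702955), 361681, 824341, (-362431)]))) (.node (.node (.leaf []) (.leaf [(-74), 72295595, (-72241886), (-215), 6507430, 232400201, (-80), (-184), 84])) (.node (.leaf [0, 0, 0, 0, 0, (-2), 0, 0, 0]) (.leaf [38767, 5359329653, (-5355637176), (-21519), 442737446, 16939133774, 10985, (-15590), 18702])))))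

def certSL158 : Janko.Tree (List ℤ) :=
  (.node (.node (.node (.node (.node (.leaf []) (.leaf [3697, (-857227315), 856574583, 2245, (-79649174), (-2774002583), 2135, 2195, (-361)])) (.leaf [1, 127830, (-127721), 0, 13089, 423622, 0, 1, 0])) (.node (.leaf []) (.leaf [2087, 379744246, (-379480992), (-1337), 32091960, 1205500745, 632, (-1085), 1224]))) (.node (.node (.leaf []) (.leaf [0, (-1628), 1627, 0, 672, 1196, (-1), 0, 0])) (.node (.leaf [0, (-3), 4, 0, 0, (-3), 0, 0, 0]) (.leaf [(-10), 1089138, (-1088315), 0, 96857, 3493974, (-5), (-2), 0])))) (.node (.node (.node (.node (.leaf []) (.leaf [(-2), (-11585), 11587, 1, (-13), (-28235), 1, 1, (-2)])) (.leaf [(-2), (-38), 38, 0, 6, (-40), 0, 0, 0])) (.node (.leaf []) (.leaf [267, 8675652, (-8670813), (-73), 558874, 26277759, 51, (-44), 106]))) (.node (.node (.leaf [0, 63, (-63), 0, (-7), 96, 0, 0, 0]) (.leaf [1, 197429, (-197299), 1, 16740, 627194, 3, (-2), 2])) (.node (.leaf [1, 24758, (-24725), 0, 4288, 93590, 0, 1, (-1)]) (.leaf [1571901, (-882636787726), 881978498252, 2710331, (-79687615081), (-2839172686402), 1251711, 2323197,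 (-886483)])))))

def certSL159 : Janko.Tree (List ℤ) :=
  (.node (.node (.node (.node (.node (.leaf []) (.leaf [439, (-89247195), 89179050, 271, (-8294679), (-288731370), 306, 262, (-71)])) (.leaf [(-1), 497439, (-497019), (-1), 49504, 1629883, (-3), 2, (-2)])) (.node (.leaf []) (.leaf [1223, 620581752, (-620137182), (-1994), 54351925, 1983920150, 134, (-1725), 1419]))) (.node (.node (.leaf []) (.leaf [])) (.node (.leaf []) (.leaf [0, 0, 0, 0, 0, (-5), 0, 0, 0])))) (.node (.node (.node (.node (.leaf [0, 0, 0, 0, 0, (-3), 0, 0, 0]) (.leaf [0, 9, (-5), 0, (-1), (-4), 0, 0, 0])) (.leaf [(-9), 841643, (-840978), (-1), 83035, 2759138, (-6), (-2), 0])) (.node (.leaf []) (.leaf [6973, 33367977293, (-33343514355), (-108607), 2955682526, 106915872093, (-19658), (-89506), 51294]))) (.node (.node (.leaf []) (.leaf [(-29030), 4944984100, (-4941173903), (-12300), 464527304, 16037549485, (-13481), (-12164), (-767)])) (.node (.leaf [(-5637), 908104285, (-907403671), (-2267), 85442089, 2946001794, (-2628), (-2251), (-177)]) (.leaf [499723, (-301859231674), 301634275186, 935172, (-27217153798), (-970740706885),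 416930, 795503, (-310056)])))))

def certSL160 : Janko.Tree (List ℤ) :=
  (.node (.node (.node (.node (.node (.leaf []) (.leaf [(-2), (-53), 58, 0, 8, (-102), 0, 0, 0])) (.leaf [1, (-8032), 8038, 0, 853, (-13599), 0, 1, 0])) (.node (.leaf []) (.leaf []))) (.node (.node (.leaf []) (.leaf [3022, (-1062430449), 1061631643, 3032, (-97052241), (-3425812279), 1805, 2729, (-745)])) (.node (.leaf []) (.leaf [])))) (.node (.node (.node (.node (.leaf []) (.leaf [0, 7, 0, 0, 0, 0, 0, 0, 0])) (.leaf [])) (.node (.leaf [0, (-2), 3, 0, 0, 0, 0, 0, 0]) (.leaf []))) (.node (.node (.leaf []) (.leaf [])) (.node (.leaf [5, 274836, (-274680), (-1), 26272, 894144, 3, (-1), 3]) (.leaf [])))))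

def certSL161 : Janko.Tree (List ℤ) :=
  (.node (.node (.node (.node (.node (.leaf []) (.leaf [(-4651), 1839345424, (-1837966422), (-5204), 167295709, 5925352896, (-2861), (-4685), 1410])) (.leaf [0, (-9), 9, 0, 0, 2, 0, 0, 0])) (.node (.leaf [(-3), (-235347), 235208, 3, (-24528), (-781678), (-1), 1, (-2)]) (.leaf []))) (.node (.node (.leaf []) (.leaf [])) (.node (.leaf [0, 1, (-1), 0, 0, (-5), 0, 0, 0]) (.leaf [2, (-2831184), 2829380, 8, (-295836), (-9424271), (-12), 11, (-1)])))) (.node (.node (.node (.node (.leaf []) (.leaf [0, 7, 0, 0, 0, 0, 0, 0, 0])) (.leaf [(-2), (-13), 13, 0, (-177), (-1461), (-1), 0, 0])) (.node (.leaf []) (.leaf [(-83047), 15829456884, (-15817282521), (-43556), 1474625764, 51256227313, (-45134), (-39653), (-335)]))) (.node (.node (.leaf []) (.leaf [0, 0, 0, 0, 0, (-3), 0, 0, 0])) (.node (.leaf []) (.leaf [(-367085), 311886594533, (-311655171390), (-977259), 27996404280, 1002058817512, (-363722), (-825643), 362284])))))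

def certSL162 : Janko.Tree (List ℤ) :=
  (.node (.node (.node (.node (.node (.leaf []) (.leaf [(-88), 25523943, (-25504908), (-23), 2486814, 83522694, (-24), (-49), 17])) (.leaf [0, (-96583), 96487, (-1), (-7003), (-294430), 1, 0, 0])) (.node (.leaf []) (.leaf [1, (-175557), 175470, 1, (-23525), (-623918), (-3), 0, 2]))) (.node (.node (.leaf [0, (-6), 6, 0, 0, 9, 0, 0, 0]) (.leaf [71, 109477883, (-109398249), (-304), 9742326, 351179755, 1, (-272), 175])) (.node (.leaf []) (.leaf [45672, 14815344373, (-14804762583), (-52205), 1275083405, 47198587016, 8420, (-41002), 34736])))) (.node (.node (.node (.leaf [0, 1, 0, 0, 0, 0, 0, 0, 0]) (.leaf [])) (.node (.leaf []) (.leaf [(-1596), 365947101, (-365667423), (-950), 34038873, 1184523168, (-840), (-902), 81]))) (.node (.node (.leaf [1, 128235, (-128120), (-1), 13271, 426096, 1, 1, 0]) (.leaf [])) (.node (.leaf [(-3), (-545440), 545121, 3, (-39336), (-1678091), (-2), 1, (-2)]) (.leaf [0, 7200, (-7219), 0, (-815), 11279, 1, (-1), 0])))))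

def certSL163 : Janko.Tree (List ℤ) :=
  (.node (.node (.node (.node (.node (.leaf [0, 1, 0, 0, 0, 0, 0, 0, 0]) (.leaf [(-38879), (-5329125983), 5325455465, 21521, (-439750946), (-16839904554), (-11030), 15531, (-18668)])) (.leaf [0, 658, (-658), 0, 73, 2865, 0, 0, 0])) (.node (.leaf []) (.leaf [(-7), (-259939), 260007, 1, (-25690), (-847809), (-7), 4, (-6)]))) (.node (.node (.leaf []) (.leaf [72, 104457794, (-104381485), (-293), 9295116, 335079005, (-4), (-255), 158])) (.node (.leaf []) (.leaf [(-6751), 1763393416, (-1762060447), (-4678), 162436113, 5695525004, (-3400), (-4452), 863])))) (.node (.node (.node (.leaf [0, (-9), 10, 0, 5, 56, (-1), 0, 0]) (.leaf [])) (.node (.leaf []) (.leaf [(-130), (-5060650), 5057685, 36, (-344867), (-15449291), (-37), 22, (-49)]))) (.node (.node (.leaf []) (.leaf [])) (.node (.leaf [0, 4, (-3), 0, 1, 14, 0, 0, 0]) (.leaf [(-27953), 7785191414, (-7779266162), (-21935), 715692441, 25151874685, (-18915), (-19071), 1800])))))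

def certSL164 : Janko.Tree (List ℤ) :=
  (.node (.node (.node (.node (.node (.leaf []) (.leaf [(-4), 90131945, (-90065929), (-244), 8100215, 289730958, 3, (-217), 110])) (.leaf [0, 91, (-90), 0, (-69), (-338), 0, 0, 0])) (.node (.leaf []) (.leaf [2, 82941, (-82893), 0, 5793, 255630, 0, (-1), 2]))) (.node (.node (.leaf []) (.leaf [(-3), (-350316), 350123, 3, (-30151), (-1112143), (-1), 1, (-2)])) (.node (.leaf [0, 1, (-2), 0, 0, 0, 0, 0, 0]) (.leaf [])))) (.node (.node (.node (.leaf []) (.leaf [])) (.node (.leaf []) (.leaf [2319, (-96828874), 96744169, 101, (-10639048), (-325375895), 1154, 276, 366]))) (.node (.node (.leaf []) (.leaf [])) (.node (.leaf []) (.leaf [1, 7498, (-7522), 0, 162, 21033, 1, (-1), 1])))))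

def certSL165 : Janko.Tree (List ℤ) :=
  (.node (.node (.node (.node (.node (.leaf [0, 1, (-1), 0, 0, 9, 0, 0, 0]) (.leaf [0, (-2), 1, 0, 2, 30, 0, 0, 0])) (.leaf [])) (.node (.leaf [0, (-10), 11, 0, 0, (-22), 0, 0, 0]) (.leaf []))) (.node (.node (.leaf []) (.leaf [])) (.node (.leaf []) (.leaf [0, (-1), 0, 0, 0, 0, 0, 0, 0])))) (.node (.node (.node (.leaf []) (.leaf [0, (-1), 1, 0, 0, (-1), 0, 0, 0])) (.node (.leaf []) (.leaf [0, (-535), 535, 0, (-181), (-2742), (-1), 0, 0]))) (.node (.node (.leaf []) (.leaf [])) (.node (.leaf [0, 1, (-1), 0, 0, (-2), 0, 0, 0]) (.leaf [0, (-357), 357, 0, (-31), (-1971), 0, 0, 0])))))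

def certSL166 : Janko.Tree (List ℤ) :=
  (.node (.node (.node (.node (.node (.leaf []) (.leaf [56, (-6335161), 6330427, 5, (-614239), (-20700848), 15, 15, 2])) (.leaf [0, (-8045), 8054, 0, 845, (-13814), 1, 1, 0])) (.node (.leaf []) (.leaf []))) (.node (.node (.leaf [0, 0, 0, 0, 0, (-2), 0, 0, 0]) (.leaf [0, (-1), 1, 0, 0, 0, 0, 0, 0])) (.node (.leaf [(-3), 118, (-116), 0, (-6), 190, (-1), 0, 0]) (.leaf [1263579, (-16418465070), 16398745476, (-118870), (-2553037301), (-60459692929), 421940, (-4125), 317510])))) (.node (.node (.node (.leaf []) (.leaf [7, (-3093313), 3091092, 9, (-274342), (-9910935), 4, 11, (-6)])) (.node (.leaf []) (.leaf [(-1), 312, (-319), 0, 83, 1252, (-2), 0, 0]))) (.node (.node (.leaf []) (.leaf [(-1), 33162, (-33157), 0, 404, 85514, (-1), (-3), 3])) (.node (.leaf []) (.leaf [])))))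

def certSL167 : Janko.Tree (List ℤ) :=
  (.node (.node (.node (.node (.node (.leaf []) (.leaf [0, (-2), 0, 0, 0, 0, 0, 0, 0])) (.leaf [0, 175, (-178), 0, 72, 1102, 1, 0, 0])) (.node (.leaf []) (.leaf [0, (-8210), 8221, 0, 770, (-14934), 0, 1, 0]))) (.node (.node (.leaf []) (.leaf [827, (-157666878), 157546311, 399, (-14785965), (-511174090), 444, 409, (-49)])) (.node (.leaf []) (.leaf [264445, (-437787934504), 437464780656, 1391460, (-39086442293), (-1404977649738), 406251, 1167240, (-584306)])))) (.node (.node (.node (.leaf [0, (-24), 24, 0, 0, (-41), 0, 0, 0]) (.leaf [(-1), (-13), 12, 0, 3, (-13), 0, 0, 0])) (.node (.leaf []) (.leaf []))) (.node (.node (.leaf []) (.leaf [(-2), 458128, (-457831), (-2), 39224, 1464217, 1, (-4), 2])) (.node (.leaf [0, (-14), 14, 0, 1, (-2), 0, 0, 0]) (.leaf [(-38577), (-5432075817), 5428328809, 21831, (-449011976), (-17170996929), (-10505), 15881, (-18862)])))))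

def certSL168 : Janko.Tree (List ℤ) :=
  (.node (.node (.node (.node (.node (.leaf []) (.leaf [224349, (-131164779183), 131066980223, 406443, (-11830486866), (-421837319270), 188701, 346243, (-134137)])) (.leaf [0, (-29654), 29637, 1, 346, (-72883), 1, 1, 0])) (.node (.leaf []) (.leaf [0, 6, (-5), 0, (-1), (-2), 0, 0, 0]))) (.node (.node (.leaf [0, 1527, (-1525), 0, 204, 5255, 0, 0, 1]) (.leaf [])) (.node (.leaf [0, (-1), 2, 0, 0, 0, 0, 0, 0]) (.leaf [])))) (.node (.node (.node (.leaf []) (.leaf [(-1), 551, (-550), 0, (-11), 1456, (-1), 0, 0])) (.node (.leaf []) (.leaf [29, 4766330, (-4763179), (-29), 383503, 14973568, (-11), (-26), 29]))) (.node (.node (.leaf []) (.leaf [0, (-202739), 202570, 1, (-18697), (-655484), 0, 0, 0])) (.node (.leaf []) (.leaf [1180, (-291415374), 291195264, 751, (-27005561), (-942753937), 879, 795, (-254)])))))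

def certSL169 : Janko.Tree (List ℤ) :=
  (.node (.node (.node (.node (.node (.leaf []) (.leaf [(-4924), 1220322395, (-1219395266), (-3379), 112753643, 3944071316, (-2714), (-3138), 511])) (.leaf [0, 7, (-7), 0, 5, 113, 0, 0, 0])) (.node (.leaf [0, (-91), 91, 0, (-4), (-217), (-1), 0, 0]) (.leaf [84138, (-33348697224), 33323676553, 98106, (-3034266049), (-107440526068), 53673, 86300, (-25920)]))) (.node (.node (.leaf []) (.leaf [0, (-1), 0, 0, 0, 0, 0, 0, 0])) (.node (.leaf []) (.leaf [137424, (-3615723753), 3612231926, (-7270), (-442730606), (-12473326689), 49686, 4420, 32173])))) (.node (.node (.node (.leaf []) (.leaf [])) (.node (.leaf [0, (-648), 646, 0, (-224), (-4388), 1, 0, 0]) (.leaf [1838, (-689066269), 688547716, 1881, (-62960390), (-2222090438), 1068, 1702, (-446)]))) (.node (.node (.leaf []) (.leaf [(-106692), 52499971455, (-52460707224), (-157167), 4753046518, 168984555273, (-77393), (-135513), 45193])) (.node (.leaf [(-7), 352208, (-351994), (-1), 15800, 1015547, 0, (-2), (-2)]) (.leaf [40, (-4867966), 4864222, 5, (-488606), (-16030870), 14, 10, 2])))))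

def certSL170 : Janko.Tree (List ℤ) :=
  (.node (.node (.node (.node (.node (.leaf []) (.leaf [(-76663), (-67820053179), 67770710429, 228671, (-5953383302), (-216909858856), 15664, 183567, (-120224)])) (.leaf [])) (.node (.leaf []) (.leaf []))) (.node (.node (.leaf []) (.leaf [0, 3, (-3), 0, 0, 5, 0, 0, 0])) (.node (.leaf []) (.leaf [])))) (.node (.node (.node (.leaf []) (.leaf [(-1040), 96637485, (-96560245), (-162), 9550171, 317065228, (-463), (-223), (-160)])) (.node (.leaf [0, 4, (-3), 0, 0, 0, 0, 0, 0]) (.leaf [14, (-4371064), 4367643, 19, (-379887), (-13930366), 16, 13, (-3)]))) (.node (.node (.leaf []) (.leaf [1, (-629448), 628929, 0, (-62025), (-2061581), 3, (-2), 2])) (.node (.leaf []) (.leaf [11426, (-1458509230), 1457367955, 3290, (-139163412), (-4745754473), 5044, 3477, 967])))))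

def certSL171 : Janko.Tree (List ℤ) :=
  (.node (.node (.node (.node (.node (.leaf []) (.leaf [(-11724), 28711567334, (-28690397058), (-92403), 2558769422, 92111554604, (-25213), (-76572), 39231])) (.leaf [0, (-1298), 1294, 0, (-126), (-3919), 0, 0, (-1)])) (.node (.leaf []) (.leaf [0, (-1), 0, 0, 0, 11, 0, 0, 0]))) (.node (.node (.leaf []) (.leaf [])) (.node (.leaf []) (.leaf [7, 282443, (-282311), (-4), 15766, 828673, 0, (-4), 6])))) (.node (.node (.node (.leaf []) (.leaf [])) (.node (.leaf [0, 278, (-280), 0, 5, 820, 1, 0, 0]) (.leaf [(-8), (-453707), 453405, 2, (-30931), (-1385106), 4, 1, (-6)]))) (.node (.node (.leaf []) (.leaf [])) (.node (.leaf [(-139), 37480988, (-37452768), (-118), 3422204, 120808286, (-71), (-103), 18]) (.leaf [10760, (-997549655), 996751665, 2074, (-97246142), (-3260633460), 4535, 2357, 1441])))))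

def certSL172 : Janko.Tree (List ℤ) :=
  (.node (.node (.node (.node (.node (.leaf []) (.leaf [(-1), 27085, (-27033), 0, 3115, 93097, (-3), 2, (-2)])) (.leaf [])) (.node (.leaf []) (.leaf [3, (-1783775), 1782499, 5, (-156990), (-5704851), 0, 6, (-4)]))) (.node (.node (.leaf []) (.leaf [0, 0, (-1), 0, 0, (-1), 0, 0, 0])) (.node (.leaf [(-7), 842103, (-841442), (-1), 83686, 2765771, (-6), (-2), 0]) (.leaf [(-9483), 4226016768, (-4222854486), (-12506), 383438110, 13607290780, (-6298), (-10976), 3651])))) (.node (.node (.node (.leaf []) (.leaf [])) (.node (.leaf []) (.leaf [(-1), 532, (-535), 1, 48, 1663, 0, 0, 0]))) (.node (.node (.leaf []) (.leaf [0, (-23933), 23918, 1, (-2928), (-84686), 1, 0, 0])) (.node (.leaf []) (.leaf [])))))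

def certSL173 : Janko.Tree (List ℤ) :=
  (.node (.node (.node (.node (.node (.leaf []) (.leaf [12538, (-23592576094), 23575176914, 74486, (-2105196466), (-75706513229), 20026, 62669, (-31530)])) (.leaf [])) (.node (.leaf []) (.leaf [1, (-232), 235, (-1), (-143), (-1523), (-1), 0, 0]))) (.node (.node (.leaf []) (.leaf [])) (.node (.leaf []) (.leaf [1, (-484770), 484379, 0, (-46846), (-1579165), 3, (-1), 2])))) (.node (.node (.node (.leaf []) (.leaf [(-4), 1065847, (-1065047), (-4), 103887, 3485926, (-8), (-2), 1])) (.node (.leaf []) (.leaf []))) (.node (.node (.leaf []) (.leaf [1, (-29259), 29206, 1, (-5080), (-114009), 3, (-2), 2])) (.node (.leaf [3, 1033, (-1032), 0, 333, 4755, 1, 0, 1]) (.leaf [(-616939), (-2699938119082), 2697958168327, 8921488, (-239099456127), (-8650994132086), 1807692, 7277703, (-4173629)])))))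

def certSL174 : Janko.Tree (List ℤ) :=
  (.node (.node (.node (.node (.node (.leaf []) (.leaf [0, (-1), 1, 0, 0, (-3), 0, 0, 0])) (.leaf [1, (-12219), 12225, 0, (-1133), (-39748), 0, 1, 0])) (.node (.leaf []) (.leaf [(-8375), 1070565428, (-1069728500), (-2422), 102173189, 3483671174, (-3672), (-2573), (-695)]))) (.node (.node (.leaf []) (.leaf [])) (.node (.leaf []) (.leaf [])))) (.node (.node (.node (.leaf []) (.leaf [])) (.node (.leaf []) (.leaf [0, 1964, (-1964), 0, 97, 5628, 0, 0, 0]))) (.node (.node (.leaf []) (.leaf [])) (.node (.leaf []) (.leaf [(-14365), 21892142007, (-21875972969), (-68980), 1955707520, 70266771105, (-19659), (-57952), 28147])))))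

def certSL175 : Janko.Tree (List ℤ) :=
  (.node (.node (.node (.node (.node (.leaf []) (.leaf [28577, (-4281384361), 4278062204, 10283, (-405187563), (-13907143703), 13225, 10440, 1565])) (.leaf [])) (.node (.leaf [0, 1, (-1), 0, 0, 0, 0, 0, 0]) (.leaf [0, 2035198, (-2033711), (-16), 164301, 6392186, (-1), (-11), 3]))) (.node (.node (.leaf []) (.leaf [1, (-30206), 30079, (-1), 6084, (-33147), 4, (-1), 0])) (.node (.leaf []) (.leaf [0, (-26042), 26016, 0, (-845), (-69772), 0, 0, 0])))) (.node (.node (.node (.leaf []) (.leaf [0, 0, 0, 0, 0, (-3), 0, 0, 0])) (.node (.leaf []) (.leaf []))) (.node (.node (.leaf [3, (-1152302), 1151562, 3, (-83312), (-3557403), (-9), 4, 0]) (.leaf [43, (-5700270), 5696071, 7, (-548097), (-18587840), 10, 15, 1])) (.node (.leaf []) (.leaf [15, (-2123502), 2121809, (-1), (-221015), (-7057623), 2, 2, 4])))))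

def certSL176 : Janko.Tree (List ℤ) :=
  (.node (.node (.node (.node (.node (.leaf []) (.leaf [])) (.leaf [])) (.node (.leaf []) (.leaf [10, (-1089139), 1088315, 0, (-96857), (-3493967), 5, 2, 0]))) (.node (.node (.leaf []) (.leaf [1, 254169, (-254034), (-1), 26853, 848434, 3, (-1), 0])) (.node (.leaf []) (.leaf [])))) (.node (.node (.node (.leaf []) (.leaf [0, (-1), 1, 0, 1, 18, 0, 0, 0])) (.node (.leaf []) (.leaf []))) (.node (.node (.leaf []) (.leaf [])) (.node (.leaf [0, 1, (-1), 0, 2, 19, 0, 0, 0]) (.leaf [(-1), (-189), 187, 0, 36, (-233), 0, 0, 0])))))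

def certSL177 : Janko.Tree (List ℤ) :=
  (.node (.node (.node (.node (.node (.leaf []) (.leaf [0, (-178333), 178168, (-1), (-15326), (-567599), (-1), 0, 0])) (.leaf [(-2886), 359749383, (-359467456), (-841), 34463483, 1171547865, (-1299), (-876), (-248)])) (.node (.leaf [0, 4, (-4), 0, 0, 0, 0, 0, 0]) (.leaf [0, (-405), 408, 0, (-108), (-2090), (-1), 0, 0]))) (.node (.node (.leaf []) (.leaf [0, 1, 0, 0, 0, 0, 0, 0, 0])) (.node (.leaf []) (.leaf [])))) (.node (.node (.node (.leaf []) (.leaf [])) (.node (.leaf []) (.leaf []))) (.node (.node (.leaf [0, 1, 0, 0, 0, 0, 0, 0, 0]) (.leaf [0, (-16), 17, 0, (-9), (-157), 0, 0, 0])) (.node (.leaf [(-2), 5, 0, 0, 3, (-23), 0, 0, 0]) (.leaf [(-4), 12093, (-12081), 0, 2856, 55110, 0, 1, (-2)])))))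

def certSL178 : Janko.Tree (List ℤ) :=
  (.node (.node (.node (.node (.node (.leaf []) (.leaf [])) (.leaf [0, (-1), 1, 0, 2, 30, 0, 0, 0])) (.node (.leaf []) (.leaf [0, (-701683), 701199, (-1), (-67882), (-2300866), (-6), 1, 1]))) (.node (.node (.leaf []) (.leaf [(-41), (-88849598), 88784762, 283, (-7932905), (-285128171), 53, 246, (-161)])) (.node (.leaf []) (.leaf [(-73887), (-172297153856), 172170899047, 587898, (-15222478360), (-551879462259), 132008, 469482, (-274123)])))) (.node (.node (.node (.leaf []) (.leaf [(-3), (-11239), 11399, (-2), (-6977), (-83519), (-8), 3, (-5)])) (.node (.leaf []) (.leaf []))) (.node (.node (.leaf [(-1), (-24685), 24652, 0, (-4294), (-93412), 0, (-1), 1]) (.leaf [(-983), (-567872471), 567460705, 2236, (-49343730), (-1812923006), 543, 1656, (-1223)])) (.node (.leaf [0, (-2), 3, 0, 0, (-2), 0, 0, 0]) (.leaf [0, 631529, (-631003), (-1), 61668, 2063754, 0, 1, 0])))))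

def certSL179 : Janko.Tree (List ℤ) :=
  (.node (.node (.node (.node (.node (.leaf []) (.leaf [(-56384), 22069174195, (-22052604347), (-65684), 2007132257, 71096846148, (-37416), (-57364), 17109])) (.leaf [])) (.node (.leaf [(-224), 159011026, (-158892901), (-454), 14384733, 511729335, (-163), (-403), 171]) (.leaf [(-1), (-135586), 135469, 1, (-12029), (-434595), 0, 0, 0]))) (.node (.node (.leaf []) (.leaf [0, 4, (-3), 0, 1, 11, 0, 0, 0])) (.node (.leaf []) (.leaf [(-291237), (-150418190105), 150309432458, 532694, (-13098849578), (-480396064965), 19611, 415517, (-300686)])))) (.node (.node (.node (.leaf []) (.leaf [])) (.node (.leaf []) (.leaf []))) (.node (.node (.leaf [0, 0, 0, 0, (-2), (-19), 0, 0, 0]) (.leaf [])) (.node (.leaf []) (.leaf [(-381), 186301009, (-186161858), (-515), 16944206, 600252579, (-230), (-465), 158])))))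

def certSL180 : Janko.Tree (List ℤ) :=
  (.node (.node (.node (.node (.node (.leaf []) (.leaf [0, (-2706), 2706, 0, (-1213), (-16512), 0, 1, 0])) (.leaf [0, (-70), 70, 0, 7, (-65), 0, 0, 0])) (.node (.leaf []) (.leaf [0, (-3), 3, 0, 0, (-5), 0, 0, 0]))) (.node (.node (.leaf []) (.leaf [])) (.node (.leaf []) (.leaf [0, 11, (-11), 0, (-1), (-44), 0, 0, 0])))) (.node (.node (.node (.leaf []) (.leaf [])) (.node (.leaf [0, (-2), 2, 0, (-2), (-30), 0, 0, 0]) (.leaf [0, (-20), 19, 0, (-11), (-201), (-1), 0, 0]))) (.node (.node (.leaf [0, (-2), 2, 0, 0, 0, 0, 0, 0]) (.leaf [])) (.node (.leaf [0, 0, (-1), 0, 0, 0, 0, 0, 0]) (.leaf [(-6), 2038470, (-2036986), (-9), 188534, 6579451, (-11), (-8), 8])))))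

def certSL181 : Janko.Tree (List ℤ) :=
  (.node (.node (.node (.node (.node (.leaf []) (.leaf [4, (-14862), 14849, 0, (-4135), (-72396), 0, 0, 2])) (.leaf [])) (.node (.leaf [0, 1, 0, 0, 0, 0, 0, 0, 0]) (.leaf [(-40), (-2512256), 2510664, 14, (-195509), (-7847262), (-4), 12, (-21)]))) (.node (.node (.leaf []) (.leaf [(-2), 108107, (-107972), 0, 11005, 360414, (-1), 1, (-3)])) (.node (.leaf [0, 0, 0, 0, 0, (-1), 0, 0, 0]) (.leaf [1, (-8059), 8065, 0, 858, (-13747), 0, 1, 0])))) (.node (.node (.node (.leaf []) (.leaf [])) (.node (.leaf []) (.leaf [9027, (-1983382783), 1981874992, 5060, (-184033668), (-6415774163), 4324, 4963, (-591)]))) (.node (.node (.leaf [58, 14819513, (-14809035), (-51), 1293638, 47336854, 14, (-43), 41]) (.leaf [(-12311), 748933884883, (-748383614800), (-2444923), 66487394049, 2400865646464, (-557828), (-2012016), 1109782])) (.node (.leaf []) (.leaf [35, (-4864370), 4860662, 5, (-486112), (-16001529), 13, 12, (-1)])))))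

def certSL182 : Janko.Tree (List ℤ) :=
  (.node (.node (.node (.node (.node (.leaf []) (.leaf [])) (.leaf [1, (-8099), 8104, 0, 860, (-13697), 0, 1, 0])) (.node (.leaf []) (.leaf []))) (.node (.node (.leaf []) (.leaf [])) (.node (.leaf [0, 0, 0, 0, 0, 7, 0, 0, 0]) (.leaf [])))) (.node (.node (.node (.leaf []) (.leaf [7, 376699, (-376423), (-3), 33082, 1199915, 1, (-2), 4])) (.node (.leaf [0, 1, 0, 0, 0, 0, 0, 0, 0]) (.leaf [(-39), 29423287, (-29400903), (-134), 2557250, 93815451, (-69), (-86), 28]))) (.node (.node (.leaf []) (.leaf [0, 114117, (-114057), 1, 3209, 312029, 1, 0, 0])) (.node (.leaf []) (.leaf [465, (-191107474), 190964255, 509, (-17487786), (-616529973), 252, 470, (-137)])))))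

def certSL183 : Janko.Tree (List ℤ) :=
  (.node (.node (.node (.node (.node (.leaf []) (.leaf [2163894, (-711293072290), 710756637234, 2090180, (-64990960531), (-2293725644886), 1356108, 1836483, (-445914)])) (.leaf [])) (.node (.leaf [0, 1, (-1), 0, 1, 15, 0, 0, 0]) (.leaf [0, (-400), 404, 0, (-108), (-2115), (-1), 0, 0]))) (.node (.node (.leaf []) (.leaf [])) (.node (.leaf []) (.leaf [0, 8, (-7), 0, 0, 39, 0, 0, 0])))) (.node (.node (.node (.leaf [0, 0, 0, 0, 0, (-2), 0, 0, 0]) (.leaf [67, 127826728, (-127733765), (-462), 11153631, 408234845, (-94), (-368), 231])) (.node (.leaf []) (.leaf [(-6), (-245573), 245423, 3, (-24144), (-799016), 1, 2, (-4)]))) (.node (.node (.leaf []) (.leaf [0, (-4), 5, 0, (-4), (-46), 0, 0, 0])) (.node (.leaf [(-1), 1, 1, 0, 189, 1505, 1, 0, 0]) (.leaf [])))))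

def certSL184 : Janko.Tree (List ℤ) :=
  (.node (.node (.node (.node (.node (.leaf []) (.leaf [(-48873), (-61504732236), 61459838701, 208559, (-5421232126), (-196899669733), 36544, 167623, (-105135)])) (.leaf [])) (.node (.leaf [117, (-79490572), 79431505, 227, (-7193425), (-255835784), 82, 201, (-84)]) (.leaf [(-103949), 308071488452, (-307844662902), (-1005727), 27426826575, 988148137522, (-296381), (-837590), 453260]))) (.node (.node (.leaf []) (.leaf [15, (-2561638), 2559686, 0, (-264358), (-8493812), 3, 4, 0])) (.node (.leaf [0, 2, 0, 0, 0, 0, 0, 0, 0]) (.leaf [(-5), 2309608, (-2308084), (-3), 194431, 7339103, 12, (-7), 4])))) (.node (.node (.node (.leaf []) (.leaf [])) (.node (.leaf [0, (-18506), 18490, 1, (-2446), (-67093), 1, 0, 0]) (.leaf [0, 8, (-8), 0, 1, 47, 0, 0, 0]))) (.node (.node (.leaf []) (.leaf [(-2), (-27), 31, 0, 5, (-86), 0, 0, 0])) (.node (.leaf []) (.leaf [])))))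

def certSL185 : Janko.Tree (List ℤ) :=
  (.node (.node (.node (.node (.node (.leaf []) (.leaf [])) (.leaf [])) (.node (.leaf [(-28), (-88305477), 88240752, 247, (-7855028), (-283246707), 8, 213, (-118)]) (.leaf [(-3569), 17895189765, (-17882028424), (-57173), 1591038182, 57382197439, (-12500), (-47615), 25223]))) (.node (.node (.leaf [0, 1, 0, 0, 0, 0, 0, 0, 0]) (.leaf [0, 63, (-63), 0, 66, 772, 0, 0, 0])) (.node (.leaf []) (.leaf [8, (-2744114), 2741732, 14, (-257251), (-8875348), 22, 6, 3])))) (.node (.node (.node (.leaf [0, 1, (-1), 0, 0, 0, 0, 0, 0]) (.leaf [])) (.node (.leaf []) (.leaf [7, 395632, (-395457), (-1), 32119, 1244852, 4, (-2), 5]))) (.node (.node (.leaf []) (.leaf [])) (.node (.leaf [0, (-6), 7, 0, (-2), (-12), 0, 0, 0]) (.leaf [(-19407), 5288345821, (-5284341895), (-15534), 485628740, 17069719666, (-11383), (-13858), 2707])))))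

def certSL186 : Janko.Tree (List ℤ) :=
  (.node (.node (.node (.node (.node (.leaf [0, (-7), 7, 0, 0, 0, 0, 0, 0]) (.leaf [(-3432292), 1740913510056, (-1739612501105), (-5325141), 157457098102, 5602164445562, (-2613057), (-4562613), 1621491])) (.leaf [2531883, 2478174865242, (-2476369885540), (-8407237), 217780620087, 7928251159881, (-931583), (-6741420), 4365008])) (.node (.leaf [3, 8, (-10), 0, (-4), 29, 0, 0, 0]) (.leaf [684359, (-73715543325), 73656946569, 154115, (-7141290618), (-240719265102), 312531, 167130, 91473]))) (.node (.node (.leaf [0, (-2), 2, 0, 0, 0, 0, 0, 0]) (.leaf [2, (-15), 10, 0, (-53), (-431), 1, 0, 0])) (.node (.leaf []) (.leaf [])))) (.node (.node (.node (.leaf []) (.leaf [])) (.node (.leaf [0, (-63), 63, 0, 7, (-100), 0, 0, 0]) (.leaf [0, 13, (-13), 0, 1, 49, 0, 0, 0]))) (.node (.node (.leaf []) (.leaf [0, 3, (-2), 0, (-5), (-63), 0, 0, 0])) (.node (.leaf [0, (-1), 2, 0, 0, 0, 0, 0, 0]) (.leaf [(-2424), 645866915, (-645375489), (-1723), 59539461, 2086563911, (-1263), (-1550), 164])))))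

def certSL187 : Janko.Tree (List ℤ) :=
  (.node (.node (.node (.node (.node (.leaf []) (.leaf [0, (-1), 0, 0, 0, 0, 0, 0, 0])) (.leaf [(-51), (-700908), 700847, 13, (-48647), (-2140893), (-12), 11, (-24)])) (.node (.leaf []) (.leaf []))) (.node (.node (.leaf []) (.leaf [])) (.node (.leaf []) (.leaf [51, (-486348), 485465, (-10), (-63853), (-1709000), 20, (-10), 22])))) (.node (.node (.node (.leaf []) (.leaf [(-3), (-1481982), 1481068, 2, (-131994), (-4749224), (-2), 7, (-9)])) (.node (.leaf []) (.leaf [213750, (-272792308320), 272590560288, 867792, (-24390204163), (-875735317961), 279645, 726503, (-347983)]))) (.node (.node (.leaf []) (.leaf [(-4), (-283069), 282918, 1, (-25652), (-910292), (-3), 2, (-3)])) (.node (.leaf [0, 24, (-20), (-1), 9, 142, 1, 0, 0]) (.leaf [8750, (-1736943421), 1735611176, 4686, (-162084073), (-5625114637), 4501, 4379, (-147)])))))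

def certSL188 : Janko.Tree (List ℤ) :=
  (.node (.node (.node (.node (.node (.leaf [0, 1, 0, 0, 0, 0, 0, 0, 0]) (.leaf [(-1581), 116802850, (-116707425), (-258), 11692034, 383944102, (-804), (-325), (-169)])) (.leaf [(-2), 47, (-42), 0, (-2), (-16), 0, 0, 0])) (.node (.leaf [2, (-54), 51, 0, 3, (-80), 0, 0, 0]) (.leaf [0, (-5), 7, 0, 0, 0, 0, 0, 0]))) (.node (.node (.leaf []) (.leaf [0, (-5), 5, 0, 0, (-13), 0, 0, 0])) (.node (.leaf [0, 0, 0, 0, 0, 5, 0, 0, 0]) (.leaf [3, (-934406), 933721, 2, (-86796), (-3027476), 2, 2, 0])))) (.node (.node (.node (.leaf []) (.leaf [(-6), (-195842), 195742, 0, (-8463), (-566137), 1, 0, (-4)])) (.node (.leaf []) (.leaf [4, 247902, (-247803), (-1), 26164, 825250, 4, (-1), 2]))) (.node (.node (.leaf []) (.leaf [])) (.node (.leaf [0, (-1), 1, 0, 0, (-10), 0, 0, 0]) (.leaf [(-14463), 1372837711, (-1371738009), (-3081), 133657736, 4486073719, (-6362), (-3272), (-2024)])))))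

def certSL189 : Janko.Tree (List ℤ) :=
  (.node (.node (.node (.node (.node (.leaf []) (.leaf [0, 55832, (-55806), 1, 3943, 172538, 0, 0, 0])) (.leaf [])) (.node (.leaf [3, 1271, (-1268), 0, 129, 3937, 0, 0, 1]) (.leaf [(-2), 379, (-375), (-1), (-277), (-1238), 0, 0, 0]))) (.node (.node (.leaf [0, (-14), 11, 0, 13, 84, 1, 0, 0]) (.leaf [3, (-1152166), 1151426, 3, (-83293), (-3556947), (-9), 4, 0])) (.node (.leaf []) (.leaf [(-39364), (-5092521387), 5089027472, 20927, (-417989349), (-16075727972), (-11222), 14970, (-18464)])))) (.node (.node (.node (.leaf [0, 15, (-15), 0, 0, 16, 0, 0, 0]) (.leaf [0, 811474, (-810892), 0, 77437, 2647017, 5, (-1), (-1)])) (.node (.leaf [0, (-24209), 24192, 1, (-2930), (-85496), 1, 0, 0]) (.leaf []))) (.node (.node (.leaf []) (.leaf [1, 33039, (-33012), 0, 3117, 105830, 0, 0, 0])) (.node (.leaf []) (.leaf [(-2418), 646090999, (-645599538), (-1723), 59559699, 2087277667, (-1260), (-1553), 170])))))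

def certSL190 : Janko.Tree (List ℤ) :=
  (.node (.node (.node (.node (.node (.leaf []) (.leaf [137602, 117137784897, (-117052560853), (-399380), 10274548544, 374599865957, (-32241), (-318149), 208468])) (.leaf [])) (.node (.leaf []) (.leaf []))) (.node (.node (.leaf []) (.leaf [0, (-11413), 11397, 1, (-155), (-30630), 1, 0, 0])) (.node (.leaf []) (.leaf [(-45032), 76891314301, (-76834532064), (-248173), 6861446230, 246752716571, (-76287), (-205603), 101636])))) (.node (.node (.node (.leaf []) (.leaf [(-1), 2199, (-2205), (-1), 2400, 25225, (-1), 0, 0])) (.node (.leaf []) (.leaf []))) (.node (.node (.leaf []) (.leaf [0, 96094, (-96002), 1, 7008, 290329, 0, 0, 0])) (.node (.leaf [0, (-2), 3, 0, 0, (-8), 0, 0, 0]) (.leaf [(-4), (-415706), 415445, 3, (-31523), (-1288178), (-1), 2, (-4)])))))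

def certSL191 : Janko.Tree (List ℤ) :=
  (.node (.node (.node (.node (.node (.leaf []) (.leaf [256969, 104003814724, (-103928998070), (-370783), 9003680727, 331724062221, 23174, (-287360), 222816])) (.leaf [])) (.node (.leaf []) (.leaf []))) (.node (.node (.leaf []) (.leaf [1, 26811, (-26811), 1, 1470, 79547, 3, (-2), 2])) (.node (.leaf []) (.leaf [116, (-79552596), 79493490, 227, (-7195138), (-256002837), 83, 200, (-84)])))) (.node (.node (.node (.leaf []) (.leaf [])) (.node (.leaf [1, 19, (-16), 0, (-3), 14, 0, 0, 0]) (.leaf [0, 1, (-1), 0, 0, 0, 0, 0, 0]))) (.node (.node (.leaf [0, 0, 0, 0, 0, (-10), 0, 0, 0]) (.leaf [1, 224236, (-224024), 0, 19937, 716653, 0, 1, 0])) (.node (.leaf []) (.leaf [1566, 4188628065, (-4185562233), (-13431), 370822871, 13419627919, (-1993), (-11199), 6671])))))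

def certSL192 : Janko.Tree (List ℤ) :=
  (.node (.node (.node (.node (.node (.leaf [1, 0, 0, 0, 0, 0, 0, 0, 0]) (.leaf [(-10429), 4082120708, (-4079057464), (-11981), 371647742, 13153117558, (-6633), (-10586), 3229])) (.leaf [])) (.node (.leaf []) (.leaf [(-4), (-1075763), 1074967, 4, (-104044), (-3502043), 6, 5, (-6)]))) (.node (.node (.leaf []) (.leaf [(-4), (-283671), 283546, 1, (-29485), (-942585), (-4), 1, (-2)])) (.node (.leaf [1, 478628, (-478300), (-3), 32636, 1462714, 0, 0, 0]) (.leaf [1, (-7973), 7980, 0, 850, (-13579), 0, 1, 0])))) (.node (.node (.node (.leaf []) (.leaf [])) (.node (.leaf [0, 4, (-3), 0, (-4), (-19), 0, 0, 0]) (.leaf [0, (-2), 0, 0, 0, (-4), 0, 0, 0]))) (.node (.node (.leaf [0, (-10), 10, 0, 3, 12, 0, 0, 0]) (.leaf [0, 173, (-176), 0, 72, 1102, 1, 0, 0])) (.node (.leaf []) (.leaf [])))))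

def certSL193 : Janko.Tree (List ℤ) :=
  (.node (.node (.node (.node (.node (.leaf [0, 76, (-74), 0, 16, 334, (-1), 0, 0]) (.leaf [(-4), 807547, (-806965), (-2), 74408, 2609752, (-2), (-2), (-1)])) (.leaf [(-6), 539896, (-539569), 2, 39784, 1672583, 8, (-2), 0])) (.node (.leaf [(-1), 8008, (-8013), 0, (-852), 13609, 0, (-1), 0]) (.leaf [(-2), (-18), 18, 0, (-177), (-1461), (-1), 0, 0]))) (.node (.node (.leaf [0, 0, 0, 0, 0, (-5), 0, 0, 0]) (.leaf [])) (.node (.leaf []) (.leaf [1554, (-118325307), 118228103, 216, (-11890543), (-389336771), 552, 246, 315])))) (.node (.node (.node (.leaf []) (.leaf [10, 557193, (-556854), (-5), 38576, 1696798, (-3), (-2), 6])) (.node (.leaf []) (.leaf []))) (.node (.node (.leaf []) (.leaf [])) (.node (.leaf [0, 2, (-2), 0, 0, 0, 0, 0, 0]) (.leaf [(-314), 259287271, (-259094990), (-757), 23385920, 833917009, (-263), (-671), 301])))))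

def certSL194 : Janko.Tree (List ℤ) :=
  (.node (.node (.node (.node (.node (.leaf [0, 0, 0, 0, 0, 5, 0, 0, 0]) (.leaf [33508, (-5159364827), 5155349177, 13541, (-486297494), (-16752152293), 18142, 12663, 2401])) (.leaf [0, (-79), 79, 0, 8, (-152), 0, 0, 0])) (.node (.leaf [0, 4, (-4), 0, 2, 19, 0, 0, 0]) (.leaf []))) (.node (.node (.leaf [0, 1, 0, 0, 0, 0, 0, 0, 0]) (.leaf [])) (.node (.leaf [20, (-3020708), 3018427, (-3), (-298396), (-9931773), (-7), 4, 9]) (.leaf [1, (-187005), 186825, 1, (-20445), (-630981), 3, (-2), 2])))) (.node (.node (.node (.leaf []) (.leaf [])) (.node (.leaf []) (.leaf []))) (.node (.node (.leaf [0, 1, 0, 0, 0, 0, 0, 0, 0]) (.leaf [0, 463, (-466), 0, 151, 3243, 1, 0, 0])) (.node (.leaf []) (.leaf [0, (-41), 43, 0, 131, 966, 0, 0, 0])))))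

def certSL195 : Janko.Tree (List ℤ) :=
  (.node (.node (.node (.node (.node (.leaf []) (.leaf [23944, (-7554148441), 7548415116, 24066, (-690078259), (-24366244955), 18717, 19739, (-3809)])) (.leaf [2719, (-265751089), 265539589, 510, (-25852975), (-868318121), 1115, 614, 341])) (.node (.leaf []) (.leaf [1, 8, (-7), 0, (-2), (-9), 0, 0, 0]))) (.node (.node (.leaf [0, 7, (-8), 0, 0, (-7), 0, 0, 0]) (.leaf [0, 18, (-13), (-1), 6, 108, 1, 0, 0])) (.node (.leaf []) (.leaf [])))) (.node (.node (.node (.leaf []) (.leaf [0, 1, (-1), 0, 0, 0, 0, 0, 0])) (.node (.leaf []) (.leaf []))) (.node (.node (.leaf []) (.leaf [(-6), (-221991), 221957, 0, (-20148), (-708181), (-3), 3, (-5)])) (.node (.leaf []) (.leaf [])))))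

def certSL196 : Janko.Tree (List ℤ) :=
  (.node (.node (.node (.node (.node (.leaf []) (.leaf [0, 0, 1, 0, 0, 2, 0, 0, 0])) (.leaf [])) (.node (.leaf []) (.leaf [(-2), 146, (-143), 0, (-10), 361, (-1), 0, 0]))) (.node (.node (.leaf []) (.leaf [])) (.node (.leaf [0, 268, (-265), 0, 283, 3579, (-1), 0, 0]) (.leaf [])))) (.node (.node (.node (.leaf []) (.leaf [0, (-64712), 64654, (-1), (-4037), (-193219), (-1), 0, 0])) (.node (.leaf []) (.leaf [228, 27332550, (-27314138), (-79), 2295741, 86717962, 90, (-70), 100]))) (.node (.node (.leaf [0, 2205, (-2213), (-1), 2396, 25203, (-1), 0, 0]) (.leaf [])) (.node (.leaf []) (.leaf [0, (-92), 91, 0, (-4), (-219), (-1), 0, 0])))))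

def certSL197 : Janko.Tree (List ℤ) :=
  (.node (.node (.node (.node (.node (.leaf []) (.leaf [510589, (-305434605969), 305206950628, 945693, (-27544482266), (-982274505050), 423939, 804747, (-312379)])) (.leaf [])) (.node (.leaf []) (.leaf []))) (.node (.node (.leaf []) (.leaf [(-5), (-253026), 252902, 0, (-26103), (-837281), (-2), 1, (-3)])) (.node (.leaf []) (.leaf [])))) (.node (.node (.node (.leaf []) (.leaf [46, (-6978205), 6972835, 17, (-663106), (-22681972), 26, 19, 0])) (.node (.leaf [0, 1, 0, 0, 0, 0, 0, 0, 0]) (.leaf [156, 34813546, (-34789013), (-103), 3005051, 111006720, 48, (-91), 90]))) (.node (.node (.leaf []) (.leaf [0, 0, 0, 0, 0, (-1), 0, 0, 0])) (.node (.leaf []) (.leaf [127, 101962318, (-101888319), (-301), 9035602, 326771012, 32, (-259), 178])))))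

def certSL198 : Janko.Tree (List ℤ) :=
  (.node (.node (.node (.node (.node (.leaf []) (.leaf [(-291801), 533499225972, (-533105432904), (-1711405), 47598561109, 1711944802183, (-500104), (-1423463), 712089])) (.leaf [29332, (-4818593066), 4814873499, 11939, (-453425219), (-15633154304), 13580, 11849, 1026])) (.node (.leaf []) (.leaf [0, (-1), 1, 0, 0, 5, 0, 0, 0]))) (.node (.node (.leaf []) (.leaf [0, 9, (-8), 0, 0, (-2), 0, 0, 0])) (.node (.leaf []) (.leaf [(-32136), (-9883725133), 9876666005, 35758, (-849909427), (-31481251435), (-5535), 27465, (-23402)])))) (.node (.node (.node (.leaf []) (.leaf [])) (.node (.leaf []) (.leaf [0, (-550), 555, (-1), 174, (-18), 1, 0, 0]))) (.node (.node (.leaf []) (.leaf [(-137232), 3640603245, (-3637094714), 7201, 444786798, 12552020185, (-49596), (-4481), (-32092)])) (.node (.leaf []) (.leaf [401, (-203514966), 203362736, 559, (-18550897), (-656012922), 252, 501, (-171)])))))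

def certSL199 : Janko.Tree (List ℤ) :=
  (.node (.node (.node (.node (.node (.leaf []) (.leaf [(-101359), 245771244060, (-245590029246), (-792463), 21903027146, 788482453186, (-219410), (-656420), 336040])) (.leaf [0, (-120), 123, 0, 86, 540, (-1), 0, 0])) (.node (.leaf []) (.leaf [0, 404, (-408), 0, 108, 2104, 1, 0, 0]))) (.node (.node (.leaf []) (.leaf [])) (.node (.leaf [0, 1, (-1), 0, 0, 0, 0, 0, 0]) (.leaf [6438, 1666959179, (-1665758463), (-7861), 141144794, 5295252840, (-979), (-5028), 4235])))) (.node (.node (.node (.leaf []) (.leaf [0, 43148, (-43147), 0, 2426, 129108, 0, 1, 0])) (.node (.leaf []) (.leaf [3, (-664748), 664276, (-1), (-69433), (-2221772), (-6), (-1), 4]))) (.node (.node (.leaf []) (.leaf [])) (.node (.leaf [0, 1, 0, 0, 0, 0, 0, 0, 0]) (.leaf [(-41), (-2191860), 2190476, 14, (-143190), (-6620999), 8, 11, (-31)])))))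

def certSL200 : Janko.Tree (List ℤ) :=
  (.node (.node (.node (.node (.node (.leaf []) (.leaf [0, 1, 0, 0, 0, 11, 0, 0, 0])) (.leaf [])) (.node (.leaf [0, 0, 0, 0, (-1), (-8), 0, 0, 0]) (.leaf [0, 1, 0, 0, 0, 0, 0, 0, 0]))) (.node (.node (.leaf []) (.leaf [0, 0, 1, 0, 0, 0, 0, 0, 0])) (.node (.leaf []) (.leaf [2, (-458138), 457842, 2, (-39223), (-1464313), (-1), 4, (-2)])))) (.node (.node (.node (.leaf []) (.leaf [(-3), 54781, (-54750), 0, 3494, 166710, 0, 0, 0])) (.node (.leaf [746, (-256561998), 256369101, 684, (-23536143), (-828037966), 444, 650, (-197)]) (.leaf []))) (.node (.node (.leaf []) (.leaf [0, 81, (-81), 0, (-8), 161, 0, 0, 0])) (.node (.leaf [0, (-1096), 1095, 0, (-408), (-5836), 0, 0, (-1)]) (.leaf [(-5044), 1940133612, (-1938681883), (-5471), 177091382, 6254514974, (-2987), (-5038), 1650])))))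

def certSL201 : Janko.Tree (List ℤ) :=
  (.node (.node (.node (.node (.node (.leaf []) (.leaf [])) (.leaf [(-3), (-7), 8, 0, 3, (-42), 0, 0, 0])) (.node (.leaf []) (.leaf [43578, (-27721621691), 27700980153, 84976, (-2499000390), (-89142295248), 35477, 72685, (-28805)]))) (.node (.node (.leaf [0, 24, (-22), 0, 3, 88, (-1), 0, 0]) (.leaf [])) (.node (.leaf []) (.leaf [212, (-137233086), 137131205, 434, (-12278935), (-440561617), 163, 371, (-150)])))) (.node (.node (.node (.leaf []) (.leaf [])) (.node (.leaf []) (.leaf [(-1), (-116301), 116191, 0, (-12863), (-394056), 0, (-1), 1]))) (.node (.node (.leaf []) (.leaf [(-129), (-8431606), 8426166, 15, (-650489), (-26370783), (-79), 10, (-26)])) (.node (.leaf [0, (-3), 4, 0, (-2), (-22), 0, 0, 0]) (.leaf [31558, 10030164493, (-10022994217), (-36181), 863391787, 31954146769, 5285, (-27841), 23429])))))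

def certSL202 : Janko.Tree (List ℤ) :=
  (.node (.node (.node (.node (.node (.leaf []) (.leaf [897204, (-371012941538), 370734639049, 1115875, (-33700362154), (-1194953504741), 619807, 966637, (-299353)])) (.leaf [])) (.node (.leaf [0, 5, (-4), 0, (-1), (-12), 0, 0, 0]) (.leaf []))) (.node (.node (.leaf [0, 38, (-37), 0, (-1), 100, (-1), 0, 0]) (.leaf [])) (.node (.leaf []) (.leaf [(-1), 539, (-542), 1, 7, 1438, 0, 0, 0])))) (.node (.node (.node (.leaf [0, (-94), 93, 0, (-15), (-366), 1, 0, 0]) (.leaf [3, 545063, (-544741), (-3), 40331, 1685880, 1, (-1), 2])) (.node (.leaf []) (.leaf []))) (.node (.node (.leaf []) (.leaf [])) (.node (.leaf [0, 4, (-4), 0, 0, 0, 0, 0, 0]) (.leaf [])))))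

def certSL203 : Janko.Tree (List ℤ) :=
  (.node (.node (.node (.node (.node (.leaf []) (.leaf [4420, (-1920311900), 1918875518, 5471, (-174242829), (-6183139458), 2826, 4913, (-1611)])) (.leaf [])) (.node (.leaf []) (.leaf []))) (.node (.node (.leaf []) (.leaf [0, 15, (-14), 0, (-4), (-10), 0, 0, 0])) (.node (.leaf []) (.leaf [0, (-1), 0, 0, 0, (-5), 0, 0, 0])))) (.node (.node (.node (.leaf []) (.leaf [])) (.node (.leaf [0, (-5), 5, 0, (-2), (-30), 0, 0, 0]) (.leaf []))) (.node (.node (.leaf []) (.leaf [(-2), 60, (-54), 0, (-3), 80, 0, 0, 0])) (.node (.leaf []) (.leaf [(-56747), 7013014645, (-7007507074), (-16058), 672688143, 22846878475, (-25947), (-16727), (-5498)])))))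

def certSL204 : Janko.Tree (List ℤ) :=
  (.node (.node (.node (.node (.node (.leaf []) (.leaf [])) (.leaf [0, 11409, (-11391), (-1), 150, 30520, (-1), 0, 0])) (.node (.leaf []) (.leaf []))) (.node (.node (.leaf []) (.leaf [])) (.node (.leaf []) (.leaf [(-48), 3028913, (-3026201), 7, 318920, 10077029, (-30), 2, (-10)])))) (.node (.node (.node (.leaf []) (.leaf [5, (-3135161), 3132738, 12, (-285221), (-10091060), 10, 9, (-3)])) (.node (.leaf [0, (-4), 3, 0, 0, 0, 0, 0, 0]) (.leaf [0, (-69), 74, (-1), (-408), (-3332), 1, 0, 0]))) (.node (.node (.leaf []) (.leaf [(-52174), (-17796312929), 17783558997, 64690, (-1533370264), (-56711854624), (-5829), 49476, (-40481)])) (.node (.leaf [0, 1, (-1), 0, 0, 0, 0, 0, 0]) (.leaf [0, 2, 0, 0, 0, 0, 0, 0, 0])))))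

def certSL205 : Janko.Tree (List ℤ) :=
  (.node (.node (.node (.node (.node (.leaf []) (.leaf [3579, (-3468901241), 3466331627, 10597, (-311338332), (-11145085270), 3497, 9052, (-4067)])) (.leaf [0, 1, (-1), 0, 0, 0, 0, 0, 0])) (.node (.leaf []) (.leaf [(-19118), 8977184084, (-8970472980), (-26485), 813929394, 28901229256, (-12900), (-23269), 8031]))) (.node (.node (.leaf [(-3), (-503411), 503064, 3, (-38535), (-1564458), (-1), 1, (-2)]) (.leaf [0, (-1), 1, 0, 0, (-1), 0, 0, 0])) (.node (.leaf []) (.leaf [0, 26, (-28), 0, (-131), (-984), 0, 0, 0])))) (.node (.node (.node (.leaf []) (.leaf [0, 4, (-3), 0, 1, 14, 0, 0, 0])) (.node (.leaf [(-3), (-1344), 1342, 0, (-385), (-6460), (-1), 0, (-1)]) (.leaf [1, (-6291), 6320, 0, (-225), (-16995), 0, 1, (-1)]))) (.node (.node (.leaf []) (.leaf [])) (.node (.leaf []) (.leaf [2, 54, (-58), 0, (-8), 105, 0, 0, 0])))))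

def certSL206 : Janko.Tree (List ℤ) :=
  (.node (.node (.node (.node (.node (.leaf []) (.leaf [0, 0, 0, 0, 0, 5, 0, 0, 0])) (.leaf [0, (-7901), 7902, 0, 823, (-13459), 0, 1, 0])) (.node (.leaf []) (.leaf []))) (.node (.node (.leaf []) (.leaf [(-1), (-24), 21, 1, 180, 1368, 0, 0, 0])) (.node (.leaf [0, 1, 0, 0, 0, 0, 0, 0, 0]) (.leaf [(-640), 67595717, (-67542159), (-169), 6561239, 220716405, (-345), (-186), (-35)])))) (.node (.node (.node (.leaf []) (.leaf [10731, (-2121667296), 2120040937, 5693, (-197898217), (-6870471181), 5575, 5359, (-246)])) (.node (.leaf []) (.leaf [0, 2, (-1), 0, 0, 15, 0, 0, 0]))) (.node (.node (.leaf []) (.leaf [])) (.node (.leaf [3, 365, (-368), 0, 974, 9856, 1, 0, 1]) (.leaf [(-499732), 301859192413, (-301634235812), (-935172), 27217162628, 970740686674, (-416931), (-795499), 310046])))))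

def certSL207 : Janko.Tree (List ℤ) :=
  (.node (.node (.node (.node (.node (.leaf []) (.leaf [192, (-12325486), 12315210, (-5), (-1398185), (-41780576), 93, 18, 21])) (.leaf [])) (.node (.leaf [0, (-6), 6, 0, 0, (-12), 0, 0, 0]) (.leaf [95485, 15973812245, (-15962692224), (-61846), 1337224973, 50606631956, 27700, (-45719), 50463]))) (.node (.node (.leaf []) (.leaf [])) (.node (.leaf []) (.leaf [])))) (.node (.node (.node (.leaf []) (.leaf [])) (.node (.leaf [40, 1672652, (-1671653), (-12), 115920, 5121875, 12, (-7), 15]) (.leaf [(-1), 28450, (-28395), (-1), 5061, 111535, (-3), 2, (-2)]))) (.node (.node (.leaf []) (.leaf [(-1), (-4270025), 4267023, 10, (-388318), (-13750731), 7, 16, (-18)])) (.node (.leaf []) (.leaf [2, (-169913), 169762, 1, (-15547), (-549982), 1, 0, 0])))))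

def certSL208 : Janko.Tree (List ℤ) :=
  (.node (.node (.node (.node (.node (.leaf []) (.leaf [])) (.leaf [])) (.node (.leaf []) (.leaf []))) (.node (.node (.leaf []) (.leaf [42, 21065832, (-21050807), (-67), 1851324, 67375400, (-15), (-63), 58])) (.node (.leaf [3, 619867, (-619467), (-3), 45493, 1916341, 1, (-1), 2]) (.leaf [25, (-97543417), 97471031, 290, (-8700670), (-313041446), 49, 230, (-102)])))) (.node (.node (.node (.leaf [0, 1, 0, 0, 0, 0, 0, 0, 0]) (.leaf [])) (.node (.leaf []) (.leaf [(-5), (-253552), 253448, 1, (-19128), (-787421), (-3), 1, (-3)]))) (.node (.node (.leaf []) (.leaf [(-373), 244603684, (-244421876), (-690), 22176621, 787557873, (-254), (-619), 261])) (.node (.leaf [281, 29500582, (-29480974), (-92), 2446606, 93356280, 131, (-75), 113]) (.leaf [3, 10, (-12), 0, (-4), 27, 0, 0, 0])))))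

def certSL209 : Janko.Tree (List ℤ) :=
  (.node (.node (.node (.node (.node (.leaf [0, 1, (-1), 0, 0, 0, 0, 0, 0]) (.leaf [])) (.leaf [0, 93873, (-93830), (-1), 2448, 255309, (-1), 0, 0])) (.node (.leaf []) (.leaf []))) (.node (.node (.leaf [0, (-3), 3, 0, (-1), (-14), 0, 0, 0]) (.leaf [1, 2062551, (-2061082), (-12), 172891, 6520259, (-7), (-13), 10])) (.node (.leaf []) (.leaf [50, 21675131, (-21659783), (-60), 1930152, 69537182, (-1), (-60), 60])))) (.node (.node (.node (.leaf []) (.leaf [(-2), (-20616), 20616, 0, 696, (-45213), 0, 2, (-3)])) (.node (.leaf [(-2), 58, (-53), 0, (-3), 82, 0, 0, 0]) (.leaf []))) (.node (.node (.leaf []) (.leaf [])) (.node (.leaf [0, 5, (-5), 0, 0, 8, 0, 0, 0]) (.leaf [(-471), 190946852, (-190803592), (-508), 17468844, 615985974, (-257), (-468), 133])))))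

def certSL210 : Janko.Tree (List ℤ) :=
  (.node (.node (.node (.node (.node (.leaf []) (.leaf [(-4541), 1082194407, (-1081373503), (-2882), 100309465, 3500240477, (-2370), (-2782), 462])) (.leaf [])) (.node (.leaf []) (.leaf []))) (.node (.node (.leaf []) (.leaf [])) (.node (.leaf []) (.leaf [(-98), 879862, (-877605), 8, 165429, 3423599, (-69), 19, (-48)])))) (.node (.node (.node (.leaf []) (.leaf [])) (.node (.leaf []) (.leaf [(-72), (-109366430), 109286871, 305, (-9732452), (-350823704), (-1), 272, (-175)]))) (.node (.node (.leaf []) (.leaf [1, (-8004), 8010, 0, 851, (-13561), 0, 1, 0])) (.node (.leaf [0, 4, (-3), 0, 0, 0, 0, 0, 0]) (.leaf [2, (-57), 53, 0, 3, (-82), 0, 0, 0])))))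

def certSL211 : Janko.Tree (List ℤ) :=
  (.node (.node (.node (.node (.node (.leaf []) (.leaf [])) (.leaf [])) (.node (.leaf []) (.leaf [0, (-1), 0, 0, 0, 0, 0, 0, 0]))) (.node (.node (.leaf [0, 1, (-1), 0, 0, 0, 0, 0, 0]) (.leaf [(-1), (-127237), 127129, 0, (-12980), (-421042), 0, (-1), 0])) (.node (.leaf [0, (-544), 542, 0, (-292), (-4706), 1, 0, 0]) (.leaf [(-1), (-136062), 135948, 1, (-12321), (-438344), (-1), 0, 0])))) (.node (.node (.node (.leaf []) (.leaf [])) (.node (.leaf []) (.leaf [0, (-4), 4, 0, (-2), (-29), 0, 0, 0]))) (.node (.node (.leaf []) (.leaf [])) (.node (.leaf [(-1), 21117, (-21123), 0, (-510), 49022, 0, (-1), 1]) (.leaf [])))))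

def certSL212 : Janko.Tree (List ℤ) :=
  (.node (.node (.node (.node (.node (.leaf []) (.leaf [(-2608), 792950188, (-792353606), (-2120), 72922832, 2560525338, (-1451), (-2041), 552])) (.leaf [0, (-1), (-1), 1, 0, (-1), 0, 0, 0])) (.node (.leaf [0, (-7), 8, (-1), 1, 33, 0, 0, 0]) (.leaf [4, (-3142050), 3139674, 11, (-278285), (-10060614), 8, 10, (-3)]))) (.node (.node (.leaf []) (.leaf [0, (-100813), 100733, 0, (-8156), (-319577), 0, 0, (-1)])) (.node (.leaf []) (.leaf [0, (-6), 4, 1, 0, (-4), 0, 0, 0])))) (.node (.node (.node (.leaf []) (.leaf [])) (.node (.leaf []) (.leaf [354, (-111565543), 111481325, 281, (-10290891), (-360542374), 173, 268, (-51)]))) (.node (.node (.leaf []) (.leaf [0, 0, (-1), 0, 0, 0, 0, 0, 0])) (.node (.leaf []) (.leaf [1, (-179), 178, 0, (-38), (-632), (-1), 0, 0])))))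

def certSL213 : Janko.Tree (List ℤ) :=
  (.node (.node (.node (.node (.node (.leaf []) (.leaf [279, (-911082), 908614, (-46), (-451809), (-5670967), 108, (-10), 64])) (.leaf [])) (.node (.leaf [0, 1, 0, 0, 0, 0, 0, 0, 0]) (.leaf [0, 1, (-1), 0, 0, 0, 0, 0, 0]))) (.node (.node (.leaf []) (.leaf [(-1), (-127226), 127117, 0, (-12980), (-421034), 0, (-1), 0])) (.node (.leaf [(-3), (-88), 90, 0, (-48), (-761), (-1), 0, 0]) (.leaf [0, 137005, (-136884), (-1), 12424, 444608, (-1), 0, 0])))) (.node (.node (.node (.leaf []) (.leaf [(-2), (-67), 65, 0, 3, (-100), (-1), 0, 0])) (.node (.leaf []) (.leaf [342, (-138887815), 138783338, 421, (-12634337), (-447411740), 225, 360, (-98)]))) (.node (.node (.leaf []) (.leaf [246, 40305808, (-40278021), (-126), 3421690, 128110472, 97, (-106), 121])) (.node (.leaf []) (.leaf [0, (-1035), 1038, 0, (-576), (-7511), (-1), 0, (-1)])))))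

def certSL214 : Janko.Tree (List ℤ) :=
  (.node (.node (.node (.node (.node (.leaf []) (.leaf [(-2925), 392593527, (-392287356), (-933), 37472500, 1277534093, (-1346), (-967), (-198)])) (.leaf [])) (.node (.leaf []) (.leaf [7, (-1878466), 1876970, 7, (-163506), (-5995482), 2, 4, 4]))) (.node (.node (.leaf []) (.leaf [])) (.node (.leaf [(-3), (-9), 11, 0, 3, (-44), 0, 0, 0]) (.leaf [56, (-58630758), 58587485, 171, (-5275944), (-188473883), 50, 162, (-77)])))) (.node (.node (.node (.leaf []) (.leaf [])) (.node (.leaf [0, (-57), 57, 0, 5, (-77), 0, 0, 0]) (.leaf [10, 173372, (-173378), 0, 9813, 513199, 5, (-5), 9]))) (.node (.node (.leaf []) (.leaf [44133, (-5663296684), 5658861160, 12970, (-540816965), (-18431337742), 19506, 13515, 4050])) (.node (.leaf []) (.leaf [(-7), (-406213), 406038, 1, (-32253), (-1272575), (-4), 2, (-5)])))))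

def certSL215 : Janko.Tree (List ℤ) :=
  (.node (.node (.node (.node (.node (.leaf [0, 1, 0, 0, 0, 0, 0, 0, 0]) (.leaf [0, (-3), 4, 0, 0, 0, 0, 0, 0])) (.leaf [])) (.node (.leaf [0, 98801, (-98748), 0, 6656, 303662, 0, 0, 0]) (.leaf []))) (.node (.node (.leaf [0, 1, (-1), 0, 0, 2, 0, 0, 0]) (.leaf [(-1), 18721, (-18726), 0, (-480), 43611, 0, (-1), 0])) (.node (.leaf [0, (-15), 14, 0, 1, (-44), 0, 0, 0]) (.leaf [(-829), 452904471, (-452566591), (-1279), 41042915, 1458030194, (-582), (-1149), 431])))) (.node (.node (.node (.leaf []) (.leaf [])) (.node (.leaf []) (.leaf [(-5), 3044388, (-3042195), (-14), 246062, 9572700, 1, (-15), 6]))) (.node (.node (.leaf [0, 1, (-1), 0, 0, 0, 0, 0, 0]) (.leaf [(-44), (-1279805), 1279326, 7, (-130321), (-4230815), (-16), 9, (-23)])) (.node (.leaf []) (.leaf [21489, (-30844560232), 30821763714, 98143, (-2756355873), (-99008659919), 30197, 81951, (-39718)])))))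

def certSL216 : Janko.Tree (List ℤ) :=
  (.node (.node (.node (.node (.node (.leaf []) (.leaf [(-18260), 21737682675, (-21721608758), (-67795), 1945887874, 69800120782, (-20869), (-57501), 27155])) (.leaf [])) (.node (.leaf [0, 8033, (-8032), 0, (-851), 13602, 0, (-1), 0]) (.leaf [15, (-2434463), 2432553, 14, (-192316), (-7623087), 4, 10, 4]))) (.node (.node (.leaf []) (.leaf [0, 4, (-4), 0, 2, 12, 0, 0, 0])) (.node (.leaf []) (.leaf [])))) (.node (.node (.node (.leaf []) (.leaf [0, 1, 0, 0, (-1), (-8), 0, 0, 0])) (.node (.leaf []) (.leaf []))) (.node (.node (.leaf []) (.leaf [])) (.node (.leaf [0, (-42), 40, 0, 22, 14, 1, 0, 0]) (.leaf [])))))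

def certSL217 : Janko.Tree (List ℤ) :=
  (.node (.node (.node (.node (.node (.leaf [0, (-2), 2, 0, 0, 3, 0, 0, 0]) (.leaf [0, 2, (-2), 0, (-1), (-10), 0, 0, 0])) (.leaf [])) (.node (.leaf []) (.leaf [0, (-3), 3, 0, 0, 1, 0, 0, 0]))) (.node (.node (.leaf []) (.leaf [2, 66, (-65), 0, (-3), 100, 1, 0, 0])) (.node (.leaf [0, (-1), 1, 0, 0, (-3), 0, 0, 0]) (.leaf [211, (-132303455), 132205056, 423, (-11832187), (-424689073), 157, 351, (-130)])))) (.node (.node (.node (.leaf []) (.leaf [])) (.node (.leaf []) (.leaf [(-1), 18818, (-18823), 0, (-486), 43871, 0, (-1), 0]))) (.node (.node (.leaf []) (.leaf [1, (-424713), 424427, 1, (-38781), (-1377714), (-3), 1, 1])) (.node (.leaf []) (.leaf [(-7), (-406458), 406283, 1, (-32475), (-1275120), (-4), 2, (-5)])))))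

def certSL218 : Janko.Tree (List ℤ) :=
  (.node (.node (.node (.node (.node (.leaf []) (.leaf [(-76115), (-5042913253), 5039692981, 24670, (-380690120), (-15666224844), (-28261), 16023, (-28520)])) (.leaf [])) (.node (.leaf []) (.leaf []))) (.node (.node (.leaf []) (.leaf [])) (.node (.leaf [565, 27227127, (-27211087), (-144), 1942890, 83856505, 184, (-109), 219]) (.leaf [13554, (-4686179166), 4682653751, 13520, (-428262064), (-15111381049), 8243, 12138, (-3374)])))) (.node (.node (.node (.leaf []) (.leaf [3, 427813, (-427543), (-3), 34327, 1342755, 1, (-1), 2])) (.node (.leaf [0, 70, (-70), 0, (-7), 68, 0, 0, 0]) (.leaf []))) (.node (.node (.leaf []) (.leaf [])) (.node (.leaf [0, 0, 0, 0, 0, (-2), 0, 0, 0]) (.leaf [(-2), 603195, (-602724), (-4), 51423, 1905883, (-9), (-3), 3])))))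

def certSL219 : Janko.Tree (List ℤ) :=
  (.node (.node (.node (.node (.node (.leaf []) (.leaf [0, 2, (-2), 0, (-1), (-11), 0, 0, 0])) (.leaf [])) (.node (.leaf []) (.leaf []))) (.node (.node (.leaf []) (.leaf [])) (.node (.leaf []) (.leaf [0, 20, (-17), 0, (-13), (-89), (-1), 0, 0])))) (.node (.node (.node (.leaf []) (.leaf [0, (-464), 467, 0, (-151), (-3244), (-1), 0, 0])) (.node (.leaf []) (.leaf [2, (-352), 355, 0, 291, 1428, 1, 0, 0]))) (.node (.node (.leaf [0, (-7), 7, 0, 0, 0, 0, 0, 0]) (.leaf [])) (.node (.leaf []) (.leaf [(-27901), 4134498713, (-4131288866), (-9870), 391533756, 13431845086, (-12939), (-10074), (-1559)])))))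

def certSL220 : Janko.Tree (List ℤ) :=
  (.node (.node (.node (.node (.node (.leaf []) (.leaf [])) (.leaf [(-14397), (-879030329763), 878384582507, 2856491, (-78011944706), (-2817662627828), 595757, 2348174, (-1292144)])) (.node (.leaf []) (.leaf [(-7), 3495315, (-3492651), (-12), 298852, 11110202, (-11), (-8), 1]))) (.node (.node (.leaf []) (.leaf [48, 1891993, (-1891211), (-15), 130569, 5784924, 23, (-20), 29])) (.node (.leaf []) (.leaf [0, (-226), 226, 0, 757, 5431, 0, 0, 0])))) (.node (.node (.node (.leaf []) (.leaf [])) (.node (.leaf [0, (-1), 0, 0, 0, 0, 0, 0, 0]) (.leaf [2, 125602, (-125551), (-1), 15297, 434520, 2, (-1), 2]))) (.node (.node (.leaf []) (.leaf [11406, (-1592807863), 1591568939, 3656, (-151175628), (-5177006105), 5065, 3822, 755])) (.node (.leaf [2, (-89), 89, 0, (-48), (-595), 1, 0, 0]) (.leaf [(-87), 445397485, (-445070282), (-1301), 39887703, 1430576842, (-242), (-1164), 628])))))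

def certSL221 : Janko.Tree (List ℤ) :=
  (.node (.node (.node (.node (.node (.leaf []) (.leaf [14395, (-21878289706), 21862130641, 68924, (-1954498294), (-70222520419), 19667, 57908, (-28117)])) (.leaf [0, 1922, (-1920), 0, 252, 6819, 1, 0, 0])) (.node (.leaf [0, (-1), 0, 0, 0, (-2), 0, 0, 0]) (.leaf [3, 623056, (-622656), (-3), 46866, 1935028, 1, (-2), 2]))) (.node (.node (.leaf []) (.leaf [(-8346), 1097918061, (-1097061414), (-2577), 104471648, 3570234995, (-3743), (-2678), (-621)])) (.node (.leaf [0, 2, (-6), 0, 10, 92, 1, 0, 0]) (.leaf [(-11726), 28711409682, (-28690239530), (-92404), 2558753557, 92111033692, (-25217), (-76573), 39232])))) (.node (.node (.node (.leaf []) (.leaf [])) (.node (.leaf []) (.leaf [(-339), 134828128, (-134726759), (-438), 12165206, 433557760, (-200), (-361), 89]))) (.node (.node (.leaf [0, 341, (-341), 0, (-122), (-33), 1, 0, 0]) (.leaf [])) (.node (.leaf [(-7), 841859, (-841191), (-1), 83070, 2759958, (-5), (-2), 0]) (.leaf [14270, (-2759613650), 2757498264, 7141, (-257470237), (-8936900306), 6969, 6836, (-108)])))))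

def certSL222 : Janko.Tree (List ℤ) :=
  (.node (.node (.node (.node (.node (.leaf []) (.leaf [(-2), (-88084819), 88020287, 236, (-7911590), (-283127246), (-14), 208, (-102)])) (.leaf [])) (.node (.leaf [0, 7821, (-7822), 0, (-950), 12245, 0, (-1), 0]) (.leaf [1, (-685858), 685362, 3, (-52337), (-2123062), 6, 6, (-5)]))) (.node (.node (.leaf []) (.leaf [54, (-1818449), 1816504, (-7), (-206968), (-6166439), 27, (-9), 20])) (.node (.leaf [(-16051), (-23940845180), 23923379471, 77144, (-2112578854), (-76638639090), 2718, 63645, (-38888)]) (.leaf [(-3), 476576, (-476182), 0, 47113, 1560248, (-3), 2, (-2)])))) (.node (.node (.node (.leaf []) (.leaf [])) (.node (.leaf []) (.leaf [(-11409), 1595540886, (-1594300022), (-3673), 151389665, 5185548058, (-5060), (-3835), (-752)]))) (.node (.node (.leaf []) (.leaf [0, (-81), 81, 0, 8, (-164), 0, 0, 0])) (.node (.leaf [0, 1, 0, (-1), 0, 1, 0, 0, 0]) (.leaf [119160, 2736646796, (-2735392255), (-23059), 141442682, 8025587390, 43142, (-11989), 37865])))))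

def certSL223 : Janko.Tree (List ℤ) :=
  (.node (.node (.node (.node (.node (.leaf []) (.leaf [10170, (-2889032701), 2886846478, 7894, (-265296130), (-9325527229), 5318, 7186, (-1265)])) (.leaf [0, 1, (-1), 0, 0, 0, 0, 0, 0])) (.node (.leaf []) (.leaf [0, 4, (-3), 0, 0, 5, 0, 0, 0]))) (.node (.node (.leaf []) (.leaf [48, (-3028823), 3026110, (-7), (-319192), (-10079011), 30, (-2), 10])) (.node (.leaf [0, (-517), 513, 0, (-9), (-1550), 1, 0, 0]) (.leaf [])))) (.node (.node (.node (.leaf [0, 1, (-1), 0, 0, 0, 0, 0, 0]) (.leaf [0, 100705, (-100625), 0, 8227, 319888, 0, 0, 1])) (.node (.leaf []) (.leaf [(-11229), 1505818796, (-1504644512), (-3424), 143259571, 4896703519, (-4964), (-3603), (-839)]))) (.node (.node (.leaf []) (.leaf [(-5), (-23041), 23046, 0, 248, (-54898), (-2), 1, (-3)])) (.node (.leaf []) (.leaf [97631, (-137646294936), 137544519886, 440588, (-12299108957), (-441829032472), 137722, 366077, (-175788)])))))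

def certSL224 : Janko.Tree (List ℤ) :=
  (.node (.node (.node (.node (.node (.leaf []) (.leaf [1081, 361913591, (-361654956), (-1227), 31375874, 1154410569, 216, (-970), 877])) (.leaf [1, 5917, (-5926), (-1), (-971), 5567, 2, (-2), 2])) (.node (.leaf [0, (-6), 6, 0, (-2), (-26), 0, 0, 0]) (.leaf []))) (.node (.node (.leaf [3, 9, (-11), 0, (-4), 11, 0, 0, 0]) (.leaf [0, 2, 0, 0, 0, 0, 0, 0, 0])) (.node (.leaf []) (.leaf [0, (-56752), 56691, 0, (-4991), (-180653), (-1), (-1), 0])))) (.node (.node (.node (.leaf []) (.leaf [(-115), 79526918, (-79467805), (-227), 7197020, 255952417, (-83), (-199), 84])) (.node (.leaf [0, (-1), 0, 0, 0, (-1), 0, 0, 0]) (.leaf []))) (.node (.node (.leaf []) (.leaf [(-1), 8084, (-8090), 0, (-859), 13736, 0, (-1), 0])) (.node (.leaf []) (.leaf [2994, 1605561272, (-1604403232), (-5536), 139701026, 5125799013, 124, (-4410), 3229])))))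

def certSL225 : Janko.Tree (List ℤ) :=
  (.node (.node (.node (.node (.node (.leaf []) (.leaf [(-3317), 1079452793, (-1078637534), (-2920), 98964272, 3483391598, (-1838), (-2643), 553])) (.leaf [0, 4, (-4), 0, 0, 0, 0, 0, 0])) (.node (.leaf []) (.leaf [0, 1, (-1), 0, 0, 0, 0, 0, 0]))) (.node (.node (.leaf []) (.leaf [])) (.node (.leaf [0, 103043, (-102952), (-1), 9114, 331818, 0, 0, 0]) (.leaf [])))) (.node (.node (.node (.leaf [0, 4, (-4), 0, 0, 0, 0, 0, 0]) (.leaf [])) (.node (.leaf []) (.leaf [(-1993), 1487773186, (-1486671939), (-4412), 134367887, 4785800638, (-1710), (-3942), 1841]))) (.node (.node (.leaf []) (.leaf [2, 140339, (-140269), 0, 12555, 449775, 1, (-1), 1])) (.node (.leaf [(-10771), 3503708836, (-3501063355), (-10317), 320841975, 11303126653, (-6939), (-9071), 2256]) (.leaf [(-22431), 5087197776, (-5083326700), (-13664), 471027206, 16448323616, (-11517), (-12910), 1503])))))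

def certSL226 : Janko.Tree (List ℤ) :=
  (.node (.node (.node (.node (.node (.leaf []) (.leaf [(-201), (-49441731), 49406763, 173, (-4207751), (-157121121), (-45), 150, (-138)])) (.leaf [0, (-2708), 2707, 0, (-1214), (-16541), 0, 1, 0])) (.node (.leaf []) (.leaf [741, (-148894305), 148780219, 399, (-13901608), (-482257802), 296, 365, 26]))) (.node (.node (.leaf []) (.leaf [])) (.node (.leaf [(-32), 26867425, (-26846943), (-132), 2297237, 85372519, (-66), (-77), 22]) (.leaf [0, 9514, (-9522), 0, (-773), 18398, (-1), (-1), 0])))) (.node (.node (.node (.leaf []) (.leaf [])) (.node (.leaf [0, 5, (-6), 0, 2, 22, 0, 0, 0]) (.leaf []))) (.node (.node (.leaf []) (.leaf [(-5), (-410099), 409845, 0, (-39105), (-1334754), (-2), 1, (-3)])) (.node (.leaf [0, 408, (-409), 0, 108, 2095, 1, 0, 0]) (.leaf [])))))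

def certSL227 : Janko.Tree (List ℤ) :=
  (.node (.node (.node (.node (.node (.leaf []) (.leaf [14463, (-21149808435), 21134183409, 66677, (-1889877096), (-67887691431), 19298, 56012, (-27056)])) (.leaf [])) (.node (.leaf []) (.leaf []))) (.node (.node (.leaf []) (.leaf [])) (.node (.leaf []) (.leaf [(-2686), (-233456930), 233304409, 988, (-18607074), (-732669492), (-896), 749, (-1229)])))) (.node (.node (.node (.leaf [3, 466505, (-466214), (-3), 33622, 1437210, 2, (-3), 2]) (.leaf [(-3), (-9), 11, 0, 3, (-42), 0, 0, 0])) (.node (.leaf [0, 1, 0, 0, 0, 0, 0, 0, 0]) (.leaf [0, (-1), 0, (-1), 0, 3, 0, 0, 0]))) (.node (.node (.leaf []) (.leaf [])) (.node (.leaf [2175849, 2947407500531, (-2945255484579), (-9915817), 259721306121, 9434552046610, (-1428744), (-7995506), 4966469]) (.leaf [])))))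

def certSL228 : Janko.Tree (List ℤ) :=
  (.node (.node (.node (.node (.node (.leaf []) (.leaf [1, (-662419), 661920, 1, (-61216), (-2139608), 1, 3, (-3)])) (.leaf [])) (.node (.leaf []) (.leaf [(-232), (-27210518), 27192237, 80, (-2279783), (-86283455), (-89), 73, (-104)]))) (.node (.node (.leaf [0, 34908, (-34883), 0, 3951, 116315, 0, 0, (-1)]) (.leaf [])) (.node (.leaf [0, (-3), 3, 0, 1, 14, 0, 0, 0]) (.leaf [0, 24119, (-24103), (-1), 2911, 84961, (-1), 0, 0])))) (.node (.node (.node (.leaf []) (.leaf [(-1), 424953, (-424667), (-1), 38833, 1378888, 3, (-1), (-1)])) (.node (.leaf [0, (-1), 0, 0, 0, (-2), 0, 0, 0]) (.leaf [0, 3, 0, 0, 0, 1, 0, 0, 0]))) (.node (.node (.leaf []) (.leaf [])) (.node (.leaf []) (.leaf [(-178517), (-48725851700), 48691205557, 178660, (-4176939086), (-155147908674), (-19707), 138223, (-124559)])))))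

def certSL229 : Janko.Tree (List ℤ) :=
  (.node (.node (.node (.node (.node (.leaf []) (.leaf [])) (.leaf [0, 1, 0, 0, 0, 0, 0, 0, 0])) (.node (.leaf []) (.leaf [0, 278, (-276), 0, 240, 3235, (-1), 0, 0]))) (.node (.node (.leaf []) (.leaf [32, 5205724, (-5202131), (-22), 471512, 16755124, 10, (-18), 18])) (.node (.leaf [(-362), (-2007898), 2008713, 75, 138912, (-4111765), (-90), 44, (-130)]) (.leaf [(-16096), 2095102051, (-2093458455), (-5454), 199986855, 6817181276, (-7988), (-5341), (-1166)])))) (.node (.node (.node (.leaf [0, 1, 0, 0, 0, 0, 0, 0, 0]) (.leaf [0, (-20), 17, 0, 13, 89, 1, 0, 0])) (.node (.leaf [0, 3, (-3), 0, 0, 13, 0, 0, 0]) (.leaf [(-21968), 4935315348, (-4931550427), (-13505), 457472440, 15961650808, (-11826), (-12476), 1316]))) (.node (.node (.leaf []) (.leaf [(-7), 3105325, (-3102962), (-11), 279934, 9982873, (-8), (-8), 0])) (.node (.leaf [0, 2, 0, (-1), 0, 1, 0, 0, 0]) (.leaf [8257, (-2974780717), 2972542223, 8737, (-271518862), (-9590507232), 5478, 7693, (-2195)])))))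

def certSL230 : Janko.Tree (List ℤ) :=
  (.node (.node (.node (.node (.node (.leaf []) (.leaf [(-418858), (-143245249952), 143142848004, 516522, (-12360433022), (-456579730967), (-52104), 404972, (-340311)])) (.leaf [0, 0, 0, 0, 0, 0, 0, 1, 0])) (.node (.leaf [0, (-402), 400, 0, 465, 2718, (-1), 0, 0]) (.leaf [(-535), 7038339, (-7029497), 71, 1169469, 26580311, (-147), 29, (-176)]))) (.node (.node (.leaf []) (.leaf [(-7), 841961, (-841298), (-1), 83756, 2765921, (-5), (-2), 0])) (.node (.leaf [0, 1, 0, 0, 0, 0, 0, 0, 0]) (.leaf [])))) (.node (.node (.node (.leaf []) (.leaf [0, 2, 0, 0, 0, 0, 0, 0, 0])) (.node (.leaf [0, (-1), 1, 0, 0, 0, 0, 0, 0]) (.leaf []))) (.node (.node (.leaf [0, 1, 0, 0, 0, 1, 0, 0, 0]) (.leaf [])) (.node (.leaf []) (.leaf [(-28145), 11185188811, (-11176805123), (-32118), 1017869377, 36037434013, (-17253), (-28707), 8827])))))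

def certSL231 : Janko.Tree (List ℤ) :=
  (.node (.node (.node (.node (.node (.leaf []) (.leaf [])) (.leaf [])) (.node (.leaf []) (.leaf [(-158), 8361360, (-8354129), 17, 943677, 28341861, (-33), 0, (-52)]))) (.node (.node (.leaf []) (.leaf [1871370, 2973206303247, (-2971033443884), (-9960735), 262275284879, 9519173134259, (-1553991), (-8052706), 4919576])) (.node (.leaf []) (.leaf [0, 1447, (-1446), 0, 544, 8204, 0, 1, 0])))) (.node (.node (.node (.leaf [0, (-2), 2, 0, 0, (-25), 0, 0, 0]) (.leaf [])) (.node (.leaf [0, 18, (-14), (-1), 5, 106, 1, 0, 0]) (.leaf [(-1), (-298232), 298024, (-1), (-26743), (-951489), (-3), 2, (-2)]))) (.node (.node (.leaf []) (.leaf [0, (-26), 30, 0, (-3), (-55), (-1), 0, 0])) (.node (.leaf []) (.leaf [(-28174), 11192176978, (-11183787986), (-32117), 1018563799, 36060384293, (-17264), (-28720), 8835])))))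

def certSL232 : Janko.Tree (List ℤ) :=
  (.node (.node (.node (.node (.node (.leaf []) (.leaf [(-122534), 21849549647, (-21832752637), (-54729), 2047511301, 70827113605, (-58237), (-53980), (-1568)])) (.leaf [0, 69609, (-69557), 0, 7653, 236302, 0, 1, 0])) (.node (.leaf []) (.leaf [28, (-6656713), 6651740, 3, (-661241), (-21892951), 6, 11, 1]))) (.node (.node (.leaf []) (.leaf [])) (.node (.leaf []) (.leaf [(-2), 234013, (-233839), (-1), 19427, 738974, (-5), (-2), 1])))) (.node (.node (.node (.leaf []) (.leaf [0, 0, 0, 0, 0, (-2), 0, 0, 0])) (.node (.leaf []) (.leaf [49832, (-39354124877), 39324918084, 120252, (-3537834141), (-126475935632), 43695, 103204, (-44434)]))) (.node (.node (.leaf []) (.leaf [0, (-5), 5, 0, 1, 2, 0, 0, 0])) (.node (.leaf []) (.leaf [(-45135), 109712237300, (-109631287532), (-360216), 9767784053, 351920537437, (-105780), (-294196), 149037])))))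

def certSL233 : Janko.Tree (List ℤ) :=
  (.node (.node (.node (.node (.node (.leaf [0, 6, (-5), 0, (-3), (-15), (-1), 0, 0]) (.leaf [(-133866), 50296305651, (-50258534813), (-146462), 4582291739, 162086099426, (-83155), (-129919), 37386])) (.leaf [])) (.node (.leaf [(-2), (-214172), 213938, 0, (-17308), (-675681), 1, (-1), 0]) (.leaf [(-98), (-2615057), 2613881, 12, (-177453), (-8018466), (-35), 11, (-35)]))) (.node (.node (.leaf []) (.leaf [(-51), (-739828), 739787, 12, (-47276), (-2227981), (-14), 16, (-29)])) (.node (.leaf []) (.leaf [0, 170023, (-169876), (-1), 15534, 550172, (-1), 0, 0])))) (.node (.node (.node (.leaf []) (.leaf [])) (.node (.leaf [0, 0, 0, 0, 0, (-12), 0, 0, 0]) (.leaf [0, 1, 0, (-1), 0, 1, 0, 0, 0]))) (.node (.node (.leaf []) (.leaf [])) (.node (.leaf [0, 407, (-409), 0, 108, 2095, 1, 0, 0]) (.leaf [629, 2338813955, (-2337096684), (-7671), 207227835, 7494858649, (-1623), (-6246), 3584])))))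

def certSL234 : Janko.Tree (List ℤ) :=
  (.node (.node (.node (.node (.node (.leaf []) (.leaf [])) (.leaf [56972, (-323983062694), 323744678603, 1056404, (-28801866517), (-1038895244534), 268379, 870479, (-467578)])) (.node (.leaf []) (.leaf [(-18), 719516, (-718920), 2, 77223, 2411830, (-2), (-1), (-5)]))) (.node (.node (.leaf [0, 1, 0, 0, 0, 0, 0, 0, 0]) (.leaf [])) (.node (.leaf [0, 0, 0, 0, 0, (-1), 0, 0, 0]) (.leaf [])))) (.node (.node (.node (.leaf []) (.leaf [])) (.node (.leaf [0, (-7), 7, 0, 3, 11, 0, 0, 0]) (.leaf [0, 5, (-3), 0, 0, 4, 0, 0, 0]))) (.node (.node (.leaf [0, 1, 0, 0, 0, 0, 0, 0, 0]) (.leaf [])) (.node (.leaf [0, (-4), 3, 0, 0, 0, 0, 0, 0]) (.leaf [])))))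

def certSL235 : Janko.Tree (List ℤ) :=
  (.node (.node (.node (.node (.node (.leaf [0, 0, 0, 0, 0, (-1), 0, 0, 0]) (.leaf [(-3154), 227444856, (-227259090), (-439), 22899157, 748897950, (-1466), (-593), (-438)])) (.leaf [])) (.node (.leaf []) (.leaf [0, 0, 0, 0, 0, (-1), 0, 0, 0]))) (.node (.node (.leaf [(-3), (-427333), 427064, 3, (-34416), (-1341403), (-1), 1, (-2)]) (.leaf [])) (.node (.leaf []) (.leaf [0, 137032, (-136912), (-1), 12415, 444568, (-1), 0, 0])))) (.node (.node (.node (.leaf []) (.leaf [])) (.node (.leaf [0, 0, (-1), 0, 0, 0, 0, 0, 0]) (.leaf [11224, (-1506955566), 1505780882, 3429, (-143328273), (-4900117402), 4942, 3616, 827]))) (.node (.node (.leaf []) (.leaf [])) (.node (.leaf [36, 500484, (-500210), (-10), 19736, 1428672, 3, (-5), 12]) (.leaf [72181, (-163249751504), 163129275579, 534629, (-14543900019), (-523718808301), 158757, 437584, (-220793)])))))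

def certSL236 : Janko.Tree (List ℤ) :=
  (.node (.node (.node (.node (.node (.leaf []) (.leaf [776, (-288537000), 288317175, 807, (-26200731), (-929157426), 462, 644, (-66)])) (.leaf [1, (-518), 520, (-1), (-190), (-2750), 0, 0, 0])) (.node (.leaf []) (.leaf [0, 0, 1, 0, 0, 3, 0, 0, 0]))) (.node (.node (.leaf []) (.leaf [])) (.node (.leaf [0, 0, 0, 0, 0, (-2), 0, 0, 0]) (.leaf [])))) (.node (.node (.node (.leaf []) (.leaf [])) (.node (.leaf [0, 1, 0, 0, 0, 0, 0, 0, 0]) (.leaf []))) (.node (.node (.leaf []) (.leaf [5680, (-659456443), 658936775, 1548, (-63425304), (-2149303194), 2536, 1611, 561])) (.node (.leaf []) (.leaf [109260, (-53028965030), 52989295136, 158479, (-4802405818), (-170697973704), 78650, 136768, (-45186)])))))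

def certSL237 : Janko.Tree (List ℤ) :=
  (.node (.node (.node (.node (.node (.leaf []) (.leaf [1274, (-111183458), 111089739, 195, (-10981611), (-364491382), 562, 151, 334])) (.leaf [0, (-5), 5, 1, 0, (-4), 0, 0, 0])) (.node (.leaf []) (.leaf [(-3), 701129, (-700636), 1, 67750, 2297483, 5, (-1), (-1)]))) (.node (.node (.leaf []) (.leaf [])) (.node (.leaf []) (.leaf [0, (-52745), 52720, 0, (-3195), (-158722), 0, 1, 0])))) (.node (.node (.node (.leaf []) (.leaf [])) (.node (.leaf [0, 0, (-1), 0, 0, 0, 0, 0, 0]) (.leaf [(-63253), 194564207865, (-194420780793), (-636963), 17314911376, 624035344170, (-176286), (-521450), 269071]))) (.node (.node (.leaf []) (.leaf [0, 210262, (-210165), (-1), 8057, 592723, (-1), 0, 0])) (.node (.leaf []) (.leaf [(-121600), 1568695008, (-1566768946), 9895, 243374176, 5794397837, (-46631), 778, (-32283)])))))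

def certSL238 : Janko.Tree (List ℤ) :=
  (.node (.node (.node (.node (.node (.leaf [0, 1, 0, 0, 0, 0, 0, 0, 0]) (.leaf [749525, 235879654511, (-235711151927), (-858124), 20285474625, 751361036772, 100792, (-662771), 565644])) (.leaf [])) (.node (.leaf []) (.leaf [0, 1, 0, 0, 0, 0, 0, 0, 0]))) (.node (.node (.leaf []) (.leaf [(-171), 89452473, (-89385930), (-249), 8133595, 288181754, (-104), (-227), 84])) (.node (.leaf []) (.leaf [(-15), 3323272, (-3320713), (-3), 329301, 10907751, (-8), (-5), 0])))) (.node (.node (.node (.leaf []) (.leaf [])) (.node (.leaf []) (.leaf [(-163429), 515107076270, (-514727813996), (-1639681), 45855372201, 1651968401529, (-344066), (-1366044), 711443]))) (.node (.node (.leaf []) (.leaf [])) (.node (.leaf []) (.leaf [(-439575), 364985130277, (-364714156458), (-1148050), 32769681168, 1172707945711, (-433749), (-966318), 418584])))))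

def certSL239 : Janko.Tree (List ℤ) :=
  (.node (.node (.node (.node (.node (.leaf []) (.leaf [(-1012576), 154531544631, (-154411542509), (-394083), 14587872627, 501744505562, (-496709), (-379764), (-57371)])) (.leaf [])) (.node (.leaf [0, 1, (-1), 0, 0, 0, 0, 0, 0]) (.leaf []))) (.node (.node (.leaf [0, 4, (-3), 0, 0, (-1), 0, 0, 0]) (.leaf [0, (-736), 738, (-1), 584, 2814, 0, 0, 0])) (.node (.leaf [(-19316), 4823318556, (-4819637383), (-13466), 445036782, 15592162418, (-11964), (-11839), 734]) (.leaf [])))) (.node (.node (.node (.leaf []) (.leaf [])) (.node (.leaf [(-1), (-61), 59, 0, 7, (-111), 0, 0, 0]) (.leaf []))) (.node (.node (.leaf [0, 1, 0, 0, 0, 2, 0, 0, 0]) (.leaf [])) (.node (.leaf []) (.leaf [(-359050), 234557653746, (-234383050972), (-728596), 21126332203, 754127993767, (-307242), (-619016), 248930])))))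

def certSL240 : Janko.Tree (List ℤ) :=
  (.node (.node (.node (.node (.node (.leaf []) (.leaf [(-9358), 3939277870, (-3936326938), (-11685), 358079577, 12688728581, (-6209), (-10283), 3329])) (.leaf [])) (.node (.leaf []) (.leaf [0, (-7018), 7030, 0, 849, (-8341), 0, 1, 0]))) (.node (.node (.leaf [0, 7906, (-7906), 0, (-821), 13497, 0, (-1), 0]) (.leaf [])) (.node (.leaf []) (.leaf [0, 533, (-532), 0, 181, 2749, 1, 0, 0])))) (.node (.node (.node (.leaf [0, 1264, (-1264), 0, 670, 8312, 0, (-1), 0]) (.leaf [])) (.node (.leaf [0, 168652, (-168506), (-1), 15394, 542513, (-1), 0, 0]) (.leaf [(-3), 853359, (-852753), (-3), 78537, 2761581, 1, (-3), 1]))) (.node (.node (.leaf [1960, (-655285426), 654790827, 1800, (-59838798), (-2112826284), 1107, 1612, (-353)]) (.leaf [0, (-17), 17, 0, 2, (-79), 0, 0, 0])) (.node (.leaf []) (.leaf [])))))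

def certSL241 : Janko.Tree (List ℤ) :=
  (.node (.node (.node (.node (.node (.leaf []) (.leaf [(-10090), 4352292974, (-4349033925), (-12854), 395483943, 14018181596, (-6707), (-11332), 3717])) (.leaf [136, 12607932, (-12599566), (-57), 1019398, 39674230, 31, (-43), 66])) (.node (.leaf []) (.leaf [(-425658), 301471465872, (-301247289158), (-936537), 27122125143, 969057814992, (-381159), (-794457), 327907]))) (.node (.node (.leaf []) (.leaf [(-1), 21, (-20), 0, 50, 446, 1, 0, 0])) (.node (.leaf []) (.leaf [0, (-1257), 1257, 0, (-670), (-8311), 0, 1, 0])))) (.node (.node (.node (.leaf []) (.leaf [109, 33814662, (-33790594), (-95), 2959226, 108128477, 41, (-82), 69])) (.node (.leaf []) (.leaf [0, (-13), 15, (-1), 0, (-58), 0, 0, 0]))) (.node (.node (.leaf []) (.leaf [1, 162979, (-162817), 2, 18017, 550250, 2, 3, (-3)])) (.node (.leaf [11945, (-2169131201), 2167465819, 5587, (-202939471), (-7028551442), 5783, 5428, 9]) (.leaf [43555, 47941500163, (-47906545441), (-161751), 4217314062, 153398423850, (-17464), (-129873), 82554])))))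

def certSL242 : Janko.Tree (List ℤ) :=
  (.node (.node (.node (.node (.node (.leaf []) (.leaf [(-3038), (-19245847144), 19231737949, 62390, (-1706601512), (-61680149716), 11851, 51772, (-29709)])) (.leaf [0, (-4), 4, 0, 0, (-3), 0, 0, 0])) (.node (.leaf []) (.leaf [0, 0, 0, 0, 0, 3, 0, 0, 0]))) (.node (.node (.leaf []) (.leaf [])) (.node (.leaf []) (.leaf [0, (-45286), 45260, (-1), (-3818), (-145088), 0, 1, 0])))) (.node (.node (.node (.leaf []) (.leaf [])) (.node (.leaf []) (.leaf [(-109830), (-6694143529), 6689924921, 34796, (-501156190), (-20772847077), (-36925), 22320, (-41235)]))) (.node (.node (.leaf []) (.leaf [0, (-3), 2, 1, 0, (-6), 0, 0, 0])) (.node (.leaf [0, (-2), 2, 0, 0, (-32), 0, 0, 0]) (.leaf [11, 4739556, (-4736723), 5, 415437, 15215580, 28, (-10), 17])))))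

def certSL243 : Janko.Tree (List ℤ) :=
  (.node (.node (.node (.node (.node (.leaf []) (.leaf [(-1360), 345412415, (-345150696), (-930), 31918472, 1116482072, (-800), (-875), 195])) (.leaf [0, 9083, (-9092), 0, (-698), 17855, (-1), (-1), 0])) (.node (.leaf []) (.leaf []))) (.node (.node (.leaf []) (.leaf [(-1), 15, (-16), 0, 181, 1446, 1, 0, 0])) (.node (.leaf [(-32), 26866809, (-26846326), (-132), 2296695, 85366857, (-67), (-77), 22]) (.leaf [3, (-45316), 45287, 0, (-3755), (-144585), 0, 1, 0])))) (.node (.node (.node (.leaf []) (.leaf [])) (.node (.leaf []) (.leaf []))) (.node (.node (.leaf []) (.leaf [])) (.node (.leaf []) (.leaf [0, 5, (-4), 1, 0, (-26), 0, 0, 0])))))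

def certSL244 : Janko.Tree (List ℤ) :=
  (.node (.node (.node (.node (.node (.leaf [0, 0, 0, 0, 0, 5, 0, 0, 0]) (.leaf [337, (-246303704), 246120824, 702, (-22294389), (-792761088), 245, 624, (-274)])) (.leaf [0, 19, (-18), 0, (-1), 2, 0, 0, 0])) (.node (.leaf []) (.leaf []))) (.node (.node (.leaf []) (.leaf [(-20907), 6507541018, (-6502627895), (-18659), 596568561, 20997810817, (-12178), (-16707), 3791])) (.node (.leaf []) (.leaf [(-2148), (-140402830), 140313517, 562, (-10721406), (-437471854), (-791), 361, (-794)])))) (.node (.node (.node (.leaf [0, 1, (-1), 0, 1, (-7), 0, 0, 0]) (.leaf [])) (.node (.leaf [0, (-10055), 10046, (-1), (-378), (-28106), (-1), 0, 0]) (.leaf [(-20971), 6463986285, (-6459104862), (-18543), 592690551, 20858066051, (-12149), (-16602), 3705]))) (.node (.node (.leaf []) (.leaf [0, 8, (-7), 0, 0, (-7), 0, 0, 0])) (.node (.leaf [0, 3, (-3), 0, 1, 38, 0, 0, 0]) (.leaf [0, (-8), 9, 0, 0, 1, 0, 0, 0])))))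

def certSL245 : Janko.Tree (List ℤ) :=
  (.node (.node (.node (.node (.node (.leaf []) (.leaf [35, (-75107960), 75052489, 230, (-6706137), (-241043435), 60, 195, (-99)])) (.leaf [0, 29670, (-29653), 0, (-347), 72883, (-1), (-1), 0])) (.node (.leaf [0, 2, 0, 0, 0, 0, 0, 0, 0]) (.leaf [114002, (-80593612725), 80533696659, 246677, (-7254213191), (-259085886529), 97132, 210975, (-86236)]))) (.node (.node (.leaf []) (.leaf [])) (.node (.leaf [(-3), (-6), 7, 0, 4, (-27), 0, 0, 0]) (.leaf [])))) (.node (.node (.node (.leaf []) (.leaf [0, 1, (-1), 0, 0, 0, 0, 0, 0])) (.node (.leaf [0, (-18581), 18581, 0, 485, (-43130), 0, 1, 0]) (.leaf [(-62289), 30442297323, (-30419555637), (-90583), 2756477917, 97978310857, (-42019), (-79109), 27487]))) (.node (.node (.leaf [0, 1, 0, 0, 0, (-5), 0, 0, 0]) (.leaf [])) (.node (.leaf []) (.leaf [(-37), 3713446, (-3710589), (-2), 378611, 12276659, (-14), (-8), (-3)])))))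

def certSL246 : Janko.Tree (List ℤ) :=
  (.node (.node (.node (.node (.node (.leaf []) (.leaf [4, (-827370), 826716, 1, (-78959), (-2688841), 6, 2, (-2)])) (.leaf [0, 53456, (-53430), 1, 2825, 158266, 0, (-1), 0])) (.node (.leaf []) (.leaf [3, 233986, (-233846), (-3), 24115, 770618, 0, (-1), 2]))) (.node (.node (.leaf []) (.leaf [763955, (-496234780878), 495865289711, 1547338, (-44692529787), (-1595457105079), 666092, 1310444, (-524736)])) (.node (.leaf []) (.leaf [])))) (.node (.node (.node (.leaf []) (.leaf [])) (.node (.leaf []) (.leaf []))) (.node (.node (.leaf []) (.leaf [])) (.node (.leaf [0, 23, (-18), (-1), (-14), (-89), (-1), 0, 0]) (.leaf [85861, (-7966420343), 7960035793, 14683, (-780786407), (-26075344100), 35404, 17578, 12950])))))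

def certSL247 : Janko.Tree (List ℤ) :=
  (.node (.node (.node (.node (.node (.leaf [0, 11, (-11), 0, 0, 22, 0, 0, 0]) (.leaf [0, 2250659, (-2249097), (-8), 190796, 7144803, 1, (-9), 6])) (.leaf [])) (.node (.leaf [0, 16, (-16), 0, 0, 18, 0, 0, 0]) (.leaf []))) (.node (.node (.leaf []) (.leaf [])) (.node (.leaf []) (.leaf [])))) (.node (.node (.node (.leaf []) (.leaf [(-1199), (-339025774), 338784047, 1187, (-29141657), (-1079541958), (-283), 913, (-851)])) (.node (.leaf [0, (-1), 0, 0, 0, 0, 0, 0, 0]) (.leaf []))) (.node (.node (.leaf [0, 1, (-1), 0, 0, 0, 0, 0, 0]) (.leaf [(-1), 55307, (-55230), 0, 5925, 183782, (-3), 2, (-2)])) (.node (.leaf []) (.leaf [124475, 11622900143, (-11615124078), (-55652), 923807527, 36469891744, 33657, (-37028), 52826])))))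

def certSL248 : Janko.Tree (List ℤ) :=
  (.node (.node (.node (.node (.node (.leaf []) (.leaf [])) (.leaf [0, 267, (-263), 0, 6, 801, (-1), 0, 0])) (.node (.leaf [0, (-3), 3, 0, 0, 0, 0, 0, 0]) (.leaf []))) (.node (.node (.leaf []) (.leaf [0, 1, 0, 0, 0, 0, 0, 0, 0])) (.node (.leaf []) (.leaf [0, 63081, (-63040), 0, 2874, 181332, 0, (-1), 0])))) (.node (.node (.node (.leaf []) (.leaf [0, (-3), 4, 0, (-1), (-7), 0, 0, 0])) (.node (.leaf []) (.leaf [(-42112), (-7537177989), 7531914993, 28445, (-634121402), (-23905680389), (-10679), 21627, (-23551)]))) (.node (.node (.leaf []) (.leaf [])) (.node (.leaf []) (.leaf [96688, (-10191724959), 10183634539, 20610, (-988114829), (-33279846152), 41008, 23095, 12739])))))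

def certSL249 : Janko.Tree (List ℤ) :=
  (.node (.node (.node (.node (.node (.leaf []) (.leaf [(-99829), 10804806595, (-10796244535), (-22212), 1045204655, 35264636347, (-42517), (-24530), (-12855)])) (.leaf [0, (-5), 5, 0, (-2), (-22), 0, 0, 0])) (.node (.leaf []) (.leaf [0, (-1), 0, 0, 0, 5, 0, 0, 0]))) (.node (.node (.leaf [0, 1, (-1), 0, 0, 0, 0, 0, 0]) (.leaf [])) (.node (.leaf []) (.leaf [])))) (.node (.node (.node (.leaf []) (.leaf [(-475862), 336752622042, (-336502252363), (-1048448), 30297703921, 1082450969360, (-431772), (-891228), 374267])) (.node (.leaf []) (.leaf [547297, (-376902924611), 376622540059, 1176416, (-33918692887), (-1211585920136), 486623, 995984, (-407917)]))) (.node (.node (.leaf [0, 4, (-4), 0, 0, 0, 0, 0, 0]) (.leaf [0, 36548, (-36522), 0, 1055, 101589, 0, 1, 0])) (.node (.leaf []) (.leaf [88772, (-12077302681), 12067878926, 28287, (-1148483059), (-39273031120), 40053, 28816, 7393])))))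

def certSL250 : Janko.Tree (List ℤ) :=
  (.node (.node (.node (.node (.node (.leaf []) (.leaf [(-3), 133282, (-133152), 1, 15755, 459516, 1, 2, (-2)])) (.leaf [1576, 4190185254, (-4187118395), (-13440), 370942923, 13424483127, (-1989), (-11207), 6679])) (.node (.leaf []) (.leaf [0, 0, 0, 0, 0, (-1), 0, 0, 0]))) (.node (.node (.leaf []) (.leaf [])) (.node (.leaf []) (.leaf [0, 7373, (-7385), 0, (-818), 10318, 0, (-1), 0])))) (.node (.node (.node (.leaf []) (.leaf [0, 1, 0, 0, 0, 0, 0, 0, 0])) (.node (.leaf [0, (-2), 1, 1, 0, 1, 0, 0, 0]) (.leaf [(-1586), (-4186822269), 4183758030, 13434, (-370619283), (-13413504971), 1986, 11198, (-6676)]))) (.node (.node (.leaf []) (.leaf [])) (.node (.leaf [0, (-1), 0, 0, 0, 0, 0, 0, 0]) (.leaf [361736, (-234324540878), 234150090416, 727609, (-21107741575), (-753396321205), 308138, 618267, (-247701)])))))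

def certSL251 : Janko.Tree (List ℤ) :=
  (.node (.node (.node (.node (.node (.leaf []) (.leaf [0, 1320, (-1315), 0, 125, 3963, 0, 0, 1])) (.leaf [])) (.node (.leaf []) (.leaf []))) (.node (.node (.leaf [0, (-3), 3, 0, 0, 0, 0, 0, 0]) (.leaf [(-4570), (-5795634858), 5791410002, 18976, (-510642102), (-18549987780), 1864, 15616, (-9908)])) (.node (.leaf []) (.leaf [161464, (-92585477469), 92516439460, 280530, (-8361429564), (-297844163275), 124853, 241453, (-90298)])))) (.node (.node (.node (.leaf []) (.leaf [])) (.node (.leaf []) (.leaf [(-1576), (-4190049140), 4186982402, 13439, (-370930537), (-13424042109), 1988, 11207, (-6679)]))) (.node (.node (.leaf [1, (-8649), 8656, 0, 737, (-15720), 0, 1, (-1)]) (.leaf [0, 1, 0, 0, 0, 0, 0, 0, 0])) (.node (.leaf []) (.leaf [64265, (-53434998634), 53395348932, 165681, (-4799508172), (-171699058147), 60518, 140882, (-61342)])))))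

def certSL252 : Janko.Tree (List ℤ) :=
  (.node (.node (.node (.node (.node (.leaf []) (.leaf [(-900433), (-947935332202), 947244285427, 3230974, (-83350812263), (-3033116104728), 431617, 2583880, (-1650875)])) (.leaf [])) (.node (.leaf []) (.leaf [375, (-244575236), 244393424, 690, (-22178790), (-787503775), 255, 618, (-259)]))) (.node (.node (.leaf []) (.leaf [5670, (-810549967), 809920224, 1995, (-76752548), (-2633018487), 2624, 2002, 332])) (.node (.leaf []) (.leaf [0, (-3), 3, 0, 0, (-5), 0, 0, 0])))) (.node (.node (.node (.leaf [0, (-14), 14, 0, (-1), (-43), 0, 0, 0]) (.leaf [])) (.node (.leaf []) (.leaf [76, (-72755545), 72701693, 217, (-6521691), (-233683339), 68, 190, (-86)]))) (.node (.node (.leaf []) (.leaf [])) (.node (.leaf []) (.leaf [(-761), (-24578952), 24565980, 81, (-1667048), (-75123956), (-392), 46, (-207)])))))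

def certSL253 : Janko.Tree (List ℤ) :=
  (.node (.node (.node (.node (.node (.leaf []) (.leaf [(-732986), (-527611045702), 527227859716, 1833619, (-46192291177), (-1686761195073), 168360, 1450900, (-987108)])) (.leaf [])) (.node (.leaf []) (.leaf [(-160), 78272636, (-78214013), (-220), 7064762, 251771159, (-98), (-191), 61]))) (.node (.node (.leaf []) (.leaf [8426, (-1169951051), 1169040832, 2790, (-110953677), (-3801777958), 3826, 2859, 540])) (.node (.leaf []) (.leaf [(-130), 2339102, (-2336512), 17, 335514, 8438767, (-32), 4, (-41)])))) (.node (.node (.node (.leaf []) (.leaf [0, (-23), 23, 0, 42, 316, 0, 0, 0])) (.node (.leaf [0, 1, (-1), 0, 0, 0, 0, 0, 0]) (.leaf [0, 1, (-1), 0, 0, 0, 0, 0, 0]))) (.node (.node (.leaf []) (.leaf [0, 169975, (-169828), (-1), 15535, 550091, (-1), 0, 0])) (.node (.leaf []) (.leaf [622, (-767885818), 767317581, 2178, (-69138636), (-2468778802), 590, 1928, (-919)])))))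

def certSL254 : Janko.Tree (List ℤ) :=
  (.node (.node (.node (.node (.node (.leaf []) (.leaf [(-1), (-14), 12, 0, 3, (-13), 0, 0, 0])) (.leaf [])) (.node (.leaf [0, (-10), 8, 0, 13, 80, 1, 0, 0]) (.leaf [14, (-35013222), 34987265, 73, (-3199554), (-112973372), (-11), 72, (-22)]))) (.node (.node (.leaf []) (.leaf [])) (.node (.leaf []) (.leaf [0, 3, (-3), 1, (-3), (-49), 0, 0, 0])))) (.node (.node (.node (.leaf [0, 0, 0, 0, 0, 0, 1, 0, 0]) (.leaf [])) (.node (.leaf [0, 44280, (-44236), (-1), 3288, 136067, (-1), 0, 0]) (.leaf []))) (.node (.node (.leaf []) (.leaf [])) (.node (.leaf []) (.leaf [0, 2706, (-2706), 0, 1213, 16512, 0, (-1), 0])))))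

def certSL255 : Janko.Tree (List ℤ) :=
  (.node (.node (.node (.node (.node (.leaf []) (.leaf [(-61), (-15414865), 15403986, 51, (-1348495), (-49255321), (-17), 46, (-44)])) (.leaf [0, (-8890), 8889, 0, 77, (-21884), 0, 1, 0])) (.node (.leaf [2, (-77), 76, 0, 5, (-134), 1, 0, 0]) (.leaf []))) (.node (.node (.leaf [0, 1, 0, 0, 0, 0, 0, 0, 0]) (.leaf [])) (.node (.leaf []) (.leaf [(-23), 186209, (-185494), (-8), 69255, 963980, (-21), 1, (-15)])))) (.node (.node (.node (.leaf []) (.leaf [])) (.node (.leaf []) (.leaf [31, (-26874498), 26854053, 134, (-2295682), (-85377955), 68, 81, (-26)]))) (.node (.node (.leaf []) (.leaf [0, (-1), 0, 0, 0, 5, 0, 0, 0])) (.node (.leaf []) (.leaf [9665, (-4243293199), 4240117260, 12512, (-385195164), (-13664357492), 6359, 11002, (-3623)])))))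

def certSL : Janko.Tree (List ℤ) :=
  (.node (.node (.node (.node (.node (.node (.node (.node certSL0 certSL128) (.node certSL64 certSL192)) (.node (.node certSL32 certSL160) (.node certSL96 certSL224))) (.node (.node (.node certSL16 certSL144) (.node certSL80 certSL208)) (.node (.node certSL48 certSL176) (.node certSL112 certSL240)))) (.node (.node (.node (.node certSL8 certSL136) (.node certSL72 certSL200)) (.node (.node certSL40 certSL168) (.node certSL104 certSL232))) (.node (.node (.node certSL24 certSL152) (.node certSL88 certSL216)) (.node (.node certSL56 certSL184) (.node certSL120 certSL248))))) (.node (.node (.node (.node (.node certSL4 certSL132) (.node certSL68 certSL196)) (.node (.node certSL36 certSL164) (.node certSL100 certSL228))) (.node (.node (.node certSL20 certSL148) (.node certSL84 certSL212)) (.node (.node certSL52 certSL180) (.node certSL116 certSL244)))) (.node (.node (.node (.node certSL12 certSL140) (.node certSL76 certSL204)) (.node (.node certSL44 certSL172) (.node certSL108 certSL236))) (.node (.node (.node certSL28 certSL156) (.node certSL92 certSL220))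 (.node (.node certSL60 certSL188) (.node certSL124 certSL252)))))) (.node (.node (.node (.node (.node (.node certSL2 certSL130) (.node certSL66 certSL194)) (.node (.node certSL34 certSL162) (.node certSL98 certSL226))) (.node (.node (.node certSL18 certSL146) (.node certSL82 certSL210)) (.node (.node certSL50 certSL178) (.node certSL114 certSL242)))) (.node (.node (.node (.node certSL10 certSL138) (.node certSL74 certSL202)) (.node (.node certSL42 certSL170) (.node certSL106 certSL234))) (.node (.node (.node certSL26 certSL154) (.node certSL90 certSL218)) (.node (.node certSL58 certSL186) (.node certSL122 certSL250))))) (.node (.node (.node (.node (.node certSL6 certSL134) (.node certSL70 certSL198)) (.node (.node certSL38 certSL166) (.node certSL102 certSL230))) (.node (.node (.node certSL22 certSL150) (.node certSL86 certSL214)) (.node (.node certSL54 certSL182) (.node certSL118 certSL246)))) (.node (.node (.node (.node certSL14 certSL142) (.node certSL78 certSL206)) (.node (.node certSL46 certSL174) (.node certSL110 certSL238))) (.node (.node (.node certSL30 certSL158) (.node certSL94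 certSL222)) (.node (.node certSL62 certSL190) (.node certSL126 certSL254))))))) (.node (.node (.node (.node (.node (.node (.node certSL1 certSL129) (.node certSL65 certSL193)) (.node (.node certSL33 certSL161) (.node certSL97 certSL225))) (.node (.node (.node certSL17 certSL145) (.node certSL81 certSL209)) (.node (.node certSL49 certSL177) (.node certSL113 certSL241)))) (.node (.node (.node (.node certSL9 certSL137) (.node certSL73 certSL201)) (.node (.node certSL41 certSL169) (.node certSL105 certSL233))) (.node (.node (.node certSL25 certSL153) (.node certSL89 certSL217)) (.node (.node certSL57 certSL185) (.node certSL121 certSL249))))) (.node (.node (.node (.node (.node certSL5 certSL133) (.node certSL69 certSL197)) (.node (.node certSL37 certSL165) (.node certSL101 certSL229))) (.node (.node (.node certSL21 certSL149) (.node certSL85 certSL213)) (.node (.node certSL53 certSL181) (.node certSL117 certSL245)))) (.node (.node (.node (.node certSL13 certSL141) (.node certSL77 certSL205)) (.node (.node certSL45 certSL173) (.node certSL109 certSL237))) (.node (.node (.node certSL29 certSL157)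 (.node certSL93 certSL221)) (.node (.node certSL61 certSL189) (.node certSL125 certSL253)))))) (.node (.node (.node (.node (.node (.node certSL3 certSL131) (.node certSL67 certSL195)) (.node (.node certSL35 certSL163) (.node certSL99 certSL227))) (.node (.node (.node certSL19 certSL147) (.node certSL83 certSL211)) (.node (.node certSL51 certSL179) (.node certSL115 certSL243)))) (.node (.node (.node (.node certSL11 certSL139) (.node certSL75 certSL203)) (.node (.node certSL43 certSL171) (.node certSL107 certSL235))) (.node (.node (.node certSL27 certSL155) (.node certSL91 certSL219)) (.node (.node certSL59 certSL187) (.node certSL123 certSL251))))) (.node (.node (.node (.node (.node certSL7 certSL135) (.node certSL71 certSL199)) (.node (.node certSL39 certSL167) (.node certSL103 certSL231))) (.node (.node (.node certSL23 certSL151) (.node certSL87 certSL215)) (.node (.node certSL55 certSL183) (.node certSL119 certSL247)))) (.node (.node (.node (.node certSL15 certSL143) (.node certSL79 certSL207)) (.node (.node certSL47 certSL175) (.node certSL111 certSL239))) (.node (.node (.node certSL31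 certSL159) (.node certSL95 certSL223)) (.node (.node certSL63 certSL191) (.node certSL127 certSL255))))))))

def certSKind0 : Janko.Tree (ℕ) :=
  (.node (.node (.node (.node (.node (.leaf 0) (.leaf 3)) (.leaf 3)) (.node (.leaf 0) (.leaf 0))) (.node (.node (.leaf 0) (.leaf 0)) (.node (.leaf 0) (.leaf 3)))) (.node (.node (.node (.node (.leaf 0) (.leaf 3)) (.leaf 0)) (.node (.leaf 0) (.leaf 0))) (.node (.node (.leaf 0) (.leaf 3)) (.node (.leaf 0) (.leaf 0)))))

def certSKind1 : Janko.Tree (ℕ) :=
  (.node (.node (.node (.node (.node (.leaf 0) (.leaf 3)) (.leaf 0)) (.node (.leaf 0) (.leaf 3))) (.node (.node (.leaf 0) (.leaf 3)) (.node (.leaf 3) (.leaf 3)))) (.node (.node (.node (.node (.leaf 0) (.leaf 3)) (.leaf 0)) (.node (.leaf 0) (.leaf 0))) (.node (.node (.leaf 3) (.leaf 0)) (.node (.leaf 3) (.leaf 3)))))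

def certSKind2 : Janko.Tree (ℕ) :=
  (.node (.node (.node (.node (.node (.leaf 0) (.leaf 0)) (.leaf 3)) (.node (.leaf 0) (.leaf 0))) (.node (.node (.leaf 0) (.leaf 3)) (.node (.leaf 0) (.leaf 0)))) (.node (.node (.node (.node (.leaf 0) (.leaf 3)) (.leaf 3)) (.node (.leaf 3) (.leaf 3))) (.node (.node (.leaf 0) (.leaf 0)) (.node (.leaf 3) (.leaf 3)))))

def certSKind3 : Janko.Tree (ℕ) :=
  (.node (.node (.node (.node (.node (.leaf 0) (.leaf 3)) (.leaf 3)) (.node (.leaf 3) (.leaf 3))) (.node (.node (.leaf 0) (.leaf 3)) (.node (.leaf 0) (.leaf 3)))) (.node (.node (.node (.node (.leaf 0) (.leaf 3)) (.leaf 3)) (.node (.leaf 3) (.leaf 0))) (.node (.node (.leaf 0) (.leaf 0)) (.node (.leaf 3) (.leaf 3)))))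

def certSKind4 : Janko.Tree (ℕ) :=
  (.node (.node (.node (.node (.node (.leaf 0) (.leaf 3)) (.leaf 3)) (.node (.leaf 0) (.leaf 0))) (.node (.node (.leaf 0) (.leaf 0)) (.node (.leaf 0) (.leaf 3)))) (.node (.node (.node (.node (.leaf 0) (.leaf 3)) (.leaf 0)) (.node (.leaf 0) (.leaf 3))) (.node (.node (.leaf 0) (.leaf 0)) (.node (.leaf 0) (.leaf 3)))))

def certSKind5 : Janko.Tree (ℕ) :=
  (.node (.node (.node (.node (.node (.leaf 0) (.leaf 3)) (.leaf 0)) (.node (.leaf 3) (.leaf 3))) (.node (.node (.leaf 3) (.leaf 3)) (.node (.leaf 0) (.leaf 3)))) (.node (.node (.node (.node (.leaf 0) (.leaf 3)) (.leaf 0)) (.node (.leaf 0) (.leaf 3))) (.node (.node (.leaf 0) (.leaf 0)) (.node (.leaf 3) (.leaf 3)))))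

def certSKind6 : Janko.Tree (ℕ) :=
  (.node (.node (.node (.node (.node (.leaf 0) (.leaf 3)) (.leaf 0)) (.node (.leaf 3) (.leaf 3))) (.node (.node (.leaf 0) (.leaf 3)) (.node (.leaf 3) (.leaf 3)))) (.node (.node (.node (.node (.leaf 0) (.leaf 3)) (.leaf 0)) (.node (.leaf 2) (.leaf 0))) (.node (.node (.leaf 0) (.leaf 0)) (.node (.leaf 3) (.leaf 3)))))

def certSKind7 : Janko.Tree (ℕ) :=
  (.node (.node (.node (.node (.node (.leaf 0) (.leaf 3)) (.leaf 0)) (.node (.leaf 0) (.leaf 0))) (.node (.node (.leaf 0) (.leaf 3)) (.node (.leaf 3) (.leaf 0)))) (.node (.node (.node (.node (.leaf 3) (.leaf 3)) (.leaf 0)) (.node (.leaf 3) (.leaf 3))) (.node (.node (.leaf 0) (.leaf 0)) (.node (.leaf 0) (.leaf 0)))))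

def certSKind8 : Janko.Tree (ℕ) :=
  (.node (.node (.node (.node (.node (.leaf 0) (.leaf 3)) (.leaf 3)) (.node (.leaf 3) (.leaf 0))) (.node (.node (.leaf 0) (.leaf 0)) (.node (.leaf 3) (.leaf 3)))) (.node (.node (.node (.node (.leaf 0) (.leaf 3)) (.leaf 0)) (.node (.leaf 0) (.leaf 0))) (.node (.node (.leaf 3) (.leaf 0)) (.node (.leaf 3) (.leaf 3)))))

def certSKind9 : Janko.Tree (ℕ) :=
  (.node (.node (.node (.node (.node (.leaf 0) (.leaf 0)) (.leaf 0)) (.node (.leaf 0) (.leaf 0))) (.node (.node (.leaf 0) (.leaf 3)) (.node (.leaf 0) (.leaf 3)))) (.node (.node (.node (.node (.leaf 3) (.leaf 3)) (.leaf 0)) (.node (.leaf 0) (.leaf 3))) (.node (.node (.leaf 0) (.leaf 0)) (.node (.leaf 3) (.leaf 0)))))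

def certSKind10 : Janko.Tree (ℕ) :=
  (.node (.node (.node (.node (.node (.leaf 0) (.leaf 3)) (.leaf 0)) (.node (.leaf 3) (.leaf 3))) (.node (.node (.leaf 3) (.leaf 0)) (.node (.leaf 3) (.leaf 3)))) (.node (.node (.node (.node (.leaf 0) (.leaf 3)) (.leaf 0)) (.node (.leaf 0) (.leaf 0))) (.node (.node (.leaf 0) (.leaf 0)) (.node (.leaf 3) (.leaf 3)))))

def certSKind11 : Janko.Tree (ℕ) :=
  (.node (.node (.node (.node (.node (.leaf 0) (.leaf 3)) (.leaf 3)) (.node (.leaf 3) (.leaf 0))) (.node (.node (.leaf 3) (.leaf 3)) (.node (.leaf 0) (.leaf 3)))) (.node (.node (.node (.node (.leaf 0) (.leaf 0)) (.leaf 0)) (.node (.leaf 3) (.leaf 0))) (.node (.node (.leaf 3) (.leaf 0)) (.node (.leaf 0) (.leaf 0)))))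

def certSKind12 : Janko.Tree (ℕ) :=
  (.node (.node (.node (.node (.node (.leaf 0) (.leaf 3)) (.leaf 0)) (.node (.leaf 3) (.leaf 3))) (.node (.node (.leaf 0) (.leaf 3)) (.node (.leaf 3) (.leaf 3)))) (.node (.node (.node (.node (.leaf 0) (.leaf 3)) (.leaf 0)) (.node (.leaf 0) (.leaf 0))) (.node (.node (.leaf 3) (.leaf 3)) (.node (.leaf 0) (.leaf 3)))))

def certSKind13 : Janko.Tree (ℕ) :=
  (.node (.node (.node (.node (.node (.leaf 0) (.leaf 3)) (.leaf 0)) (.node (.leaf 0) (.leaf 0))) (.node (.node (.leaf 0) (.leaf 3)) (.node (.leaf 0) (.leaf 3)))) (.node (.node (.node (.node (.leaf 3) (.leaf 3)) (.leaf 0)) (.node (.leaf 3) (.leaf 3))) (.node (.node (.leaf 0) (.leaf 3)) (.node (.leaf 3) (.leaf 3)))))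

def certSKind14 : Janko.Tree (ℕ) :=
  (.node (.node (.node (.node (.node (.leaf 0) (.leaf 3)) (.leaf 3)) (.node (.leaf 3) (.leaf 3))) (.node (.node (.leaf 0) (.leaf 3)) (.node (.leaf 0) (.leaf 0)))) (.node (.node (.node (.node (.leaf 0) (.leaf 3)) (.leaf 0)) (.node (.leaf 0) (.leaf 3))) (.node (.node (.leaf 3) (.leaf 3)) (.node (.leaf 3) (.leaf 0)))))

def certSKind15 : Janko.Tree (ℕ) :=
  (.node (.node (.node (.node (.node (.leaf 0) (.leaf 3)) (.leaf 3)) (.node (.leaf 0) (.leaf 0))) (.node (.node (.leaf 0) (.leaf 3)) (.node (.leaf 0) (.leaf 3)))) (.node (.node (.node (.node (.leaf 0) (.leaf 3)) (.leaf 0)) (.node (.leaf 0) (.leaf 3))) (.node (.node (.leaf 0) (.leaf 3)) (.node (.leaf 3) (.leaf 3)))))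

def certSKind16 : Janko.Tree (ℕ) :=
  (.node (.node (.node (.node (.node (.leaf 0) (.leaf 3)) (.leaf 0)) (.node (.leaf 0) (.leaf 3))) (.node (.node (.leaf 0) (.leaf 3)) (.node (.leaf 0) (.leaf 0)))) (.node (.node (.node (.node (.leaf 0) (.leaf 3)) (.leaf 0)) (.node (.leaf 3) (.leaf 3))) (.node (.node (.leaf 0) (.leaf 3)) (.node (.leaf 3) (.leaf 3)))))

def certSKind17 : Janko.Tree (ℕ) :=
  (.node (.node (.node (.node (.node (.leaf 0) (.leaf 3)) (.leaf 0)) (.node (.leaf 0) (.leaf 0))) (.node (.node (.leaf 3) (.leaf 0)) (.node (.leaf 0) (.leaf 3)))) (.node (.node (.node (.node (.leaf 0) (.leaf 3)) (.leaf 3)) (.node (.leaf 3) (.leaf 3))) (.node (.node (.leaf 3) (.leaf 3)) (.node (.leaf 0) (.leaf 0)))))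

def certSKind18 : Janko.Tree (ℕ) :=
  (.node (.node (.node (.node (.node (.leaf 0) (.leaf 0)) (.leaf 0)) (.node (.leaf 0) (.leaf 3))) (.node (.node (.leaf 3) (.leaf 3)) (.node (.leaf 0) (.leaf 3)))) (.node (.node (.node (.node (.leaf 0) (.leaf 3)) (.leaf 0)) (.node (.leaf 0) (.leaf 3))) (.node (.node (.leaf 0) (.leaf 3)) (.node (.leaf 3) (.leaf 3)))))

def certSKind19 : Janko.Tree (ℕ) :=
  (.node (.node (.node (.node (.node (.leaf 0) (.leaf 3)) (.leaf 3)) (.node (.leaf 0) (.leaf 3))) (.node (.node (.leaf 3) (.leaf 0)) (.node (.leaf 0) (.leaf 3)))) (.node (.node (.node (.node (.leaf 0) (.leaf 3)) (.leaf 3)) (.node (.leaf 0) (.leaf 3))) (.node (.node (.leaf 0) (.leaf 0)) (.node (.leaf 3) (.leaf 3)))))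

def certSKind20 : Janko.Tree (ℕ) :=
  (.node (.node (.node (.node (.node (.leaf 0) (.leaf 0)) (.leaf 0)) (.node (.leaf 3) (.leaf 3))) (.node (.node (.leaf 0) (.leaf 0)) (.node (.leaf 3) (.leaf 3)))) (.node (.node (.node (.node (.leaf 0) (.leaf 3)) (.leaf 0)) (.node (.leaf 0) (.leaf 3))) (.node (.node (.leaf 3) (.leaf 3)) (.node (.leaf 3) (.leaf 0)))))

def certSKind21 : Janko.Tree (ℕ) :=
  (.node (.node (.node (.node (.node (.leaf 0) (.leaf 3)) (.leaf 0)) (.node (.leaf 0) (.leaf 0))) (.node (.node (.leaf 0) (.leaf 3)) (.node (.leaf 3) (.leaf 3)))) (.node (.node (.node (.node (.leaf 0) (.leaf 3)) (.leaf 3)) (.node (.leaf 3) (.leaf 0))) (.node (.node (.leaf 3) (.leaf 3)) (.node (.leaf 0) (.leaf 3)))))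

def certSKind22 : Janko.Tree (ℕ) :=
  (.node (.node (.node (.node (.node (.leaf 0) (.leaf 3)) (.leaf 0)) (.node (.leaf 0) (.leaf 3))) (.node (.node (.leaf 3) (.leaf 0)) (.node (.leaf 0) (.leaf 3)))) (.node (.node (.node (.node (.leaf 0) (.leaf 3)) (.leaf 0)) (.node (.leaf 0) (.leaf 3))) (.node (.node (.leaf 3) (.leaf 3)) (.node (.leaf 3) (.leaf 0)))))

def certSKind23 : Janko.Tree (ℕ) :=
  (.node (.node (.node (.node (.node (.leaf 0) (.leaf 0)) (.leaf 0)) (.node (.leaf 3) (.leaf 0))) (.node (.node (.leaf 0) (.leaf 3)) (.node (.leaf 0) (.leaf 0)))) (.node (.node (.node (.node (.leaf 0) (.leaf 3)) (.leaf 3)) (.node (.leaf 0) (.leaf 3))) (.node (.node (.leaf 0) (.leaf 3)) (.node (.leaf 3) (.leaf 0)))))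

def certSKind24 : Janko.Tree (ℕ) :=
  (.node (.node (.node (.node (.node (.leaf 0) (.leaf 3)) (.leaf 0)) (.node (.leaf 0) (.leaf 0))) (.node (.node (.leaf 0) (.leaf 0)) (.node (.leaf 0) (.leaf 3)))) (.node (.node (.node (.node (.leaf 0) (.leaf 3)) (.leaf 0)) (.node (.leaf 3) (.leaf 0))) (.node (.node (.leaf 0) (.leaf 0)) (.node (.leaf 3) (.leaf 3)))))

def certSKind25 : Janko.Tree (ℕ) :=
  (.node (.node (.node (.node (.node (.leaf 0) (.leaf 0)) (.leaf 0)) (.node (.leaf 0) (.leaf 3))) (.node (.node (.leaf 0) (.leaf 3)) (.node (.leaf 3) (.leaf 3)))) (.node (.node (.node (.node (.leaf 0) (.leaf 3)) (.leaf 3)) (.node (.leaf 0) (.leaf 3))) (.node (.node (.leaf 3) (.leaf 0)) (.node (.leaf 0) (.leaf 0)))))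

def certSKind26 : Janko.Tree (ℕ) :=
  (.node (.node (.node (.node (.node (.leaf 0) (.leaf 3)) (.leaf 3)) (.node (.leaf 0) (.leaf 3))) (.node (.node (.leaf 3) (.leaf 0)) (.node (.leaf 3) (.leaf 3)))) (.node (.node (.node (.node (.leaf 0) (.leaf 3)) (.leaf 3)) (.node (.leaf 0) (.leaf 3))) (.node (.node (.leaf 0) (.leaf 0)) (.node (.leaf 0) (.leaf 3)))))

def certSKind27 : Janko.Tree (ℕ) :=
  (.node (.node (.node (.node (.node (.leaf 0) (.leaf 3)) (.leaf 3)) (.node (.leaf 0) (.leaf 3))) (.node (.node (.leaf 0) (.leaf 3)) (.node (.leaf 0) (.leaf 3)))) (.node (.node (.node (.node (.leaf 0) (.leaf 3)) (.leaf 0)) (.node (.leaf 0) (.leaf 0))) (.node (.node (.leaf 0) (.leaf 0)) (.node (.leaf 3) (.leaf 0)))))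

def certSKind28 : Janko.Tree (ℕ) :=
  (.node (.node (.node (.node (.node (.leaf 0) (.leaf 3)) (.leaf 3)) (.node (.leaf 0) (.leaf 3))) (.node (.node (.leaf 2) (.leaf 3)) (.node (.leaf 0) (.leaf 3)))) (.node (.node (.node (.node (.leaf 0) (.leaf 3)) (.leaf 0)) (.node (.leaf 0) (.leaf 0))) (.node (.node (.leaf 0) (.leaf 0)) (.node (.leaf 3) (.leaf 3)))))

def certSKind29 : Janko.Tree (ℕ) :=
  (.node (.node (.node (.node (.node (.leaf 0) (.leaf 3)) (.leaf 0)) (.node (.leaf 3) (.leaf 0))) (.node (.node (.leaf 0) (.leaf 3)) (.node (.leaf 0) (.leaf 3)))) (.node (.node (.node (.node (.leaf 0) (.leaf 3)) (.leaf 0)) (.node (.leaf 0) (.leaf 3))) (.node (.node (.leaf 3) (.leaf 3)) (.node (.leaf 3) (.leaf 0)))))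

def certSKind30 : Janko.Tree (ℕ) :=
  (.node (.node (.node (.node (.node (.leaf 0) (.leaf 3)) (.leaf 3)) (.node (.leaf 0) (.leaf 0))) (.node (.node (.leaf 0) (.leaf 0)) (.node (.leaf 0) (.leaf 3)))) (.node (.node (.node (.node (.leaf 0) (.leaf 3)) (.leaf 0)) (.node (.leaf 0) (.leaf 3))) (.node (.node (.leaf 0) (.leaf 0)) (.node (.leaf 3) (.leaf 3)))))

def certSKind31 : Janko.Tree (ℕ) :=
  (.node (.node (.node (.node (.node (.leaf 0) (.leaf 3)) (.leaf 0)) (.node (.leaf 3) (.leaf 3))) (.node (.node (.leaf 0) (.leaf 3)) (.node (.leaf 3) (.leaf 3)))) (.node (.node (.node (.node (.leaf 0) (.leaf 3)) (.leaf 0)) (.node (.leaf 0) (.leaf 0))) (.node (.node (.leaf 0) (.leaf 0)) (.node (.leaf 3) (.leaf 0)))))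

def certSKind32 : Janko.Tree (ℕ) :=
  (.node (.node (.node (.node (.node (.leaf 0) (.leaf 3)) (.leaf 0)) (.node (.leaf 3) (.leaf 0))) (.node (.node (.leaf 0) (.leaf 0)) (.node (.leaf 0) (.leaf 0)))) (.node (.node (.node (.node (.leaf 3) (.leaf 3)) (.leaf 3)) (.node (.leaf 3) (.leaf 0))) (.node (.node (.leaf 0) (.leaf 0)) (.node (.leaf 0) (.leaf 0)))))

def certSKind33 : Janko.Tree (ℕ) :=
  (.node (.node (.node (.node (.node (.leaf 0) (.leaf 3)) (.leaf 3)) (.node (.leaf 0) (.leaf 0))) (.node (.node (.leaf 0) (.leaf 0)) (.node (.leaf 3) (.leaf 3)))) (.node (.node (.node (.node (.leaf 0) (.leaf 3)) (.leaf 3)) (.node (.leaf 3) (.leaf 3))) (.node (.node (.leaf 0) (.leaf 3)) (.node (.leaf 0) (.leaf 3)))))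

def certSKind34 : Janko.Tree (ℕ) :=
  (.node (.node (.node (.node (.node (.leaf 0) (.leaf 3)) (.leaf 0)) (.node (.leaf 0) (.leaf 3))) (.node (.node (.leaf 0) (.leaf 0)) (.node (.leaf 0) (.leaf 3)))) (.node (.node (.node (.node (.leaf 0) (.leaf 3)) (.leaf 3)) (.node (.leaf 0) (.leaf 0))) (.node (.node (.leaf 3) (.leaf 0)) (.node (.leaf 3) (.leaf 3)))))

def certSKind35 : Janko.Tree (ℕ) :=
  (.node (.node (.node (.node (.node (.leaf 0) (.leaf 0)) (.leaf 0)) (.node (.leaf 0) (.leaf 0))) (.node (.node (.leaf 0) (.leaf 0)) (.node (.leaf 0) (.leaf 3)))) (.node (.node (.node (.node (.leaf 0) (.leaf 3)) (.leaf 0)) (.node (.leaf 0) (.leaf 3))) (.node (.node (.leaf 3) (.leaf 3)) (.node (.leaf 3) (.leaf 3)))))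

def certSKind36 : Janko.Tree (ℕ) :=
  (.node (.node (.node (.node (.node (.leaf 0) (.leaf 3)) (.leaf 0)) (.node (.leaf 3) (.leaf 0))) (.node (.node (.leaf 0) (.leaf 3)) (.node (.leaf 0) (.leaf 3)))) (.node (.node (.node (.node (.leaf 0) (.leaf 3)) (.leaf 0)) (.node (.leaf 0) (.leaf 3))) (.node (.node (.leaf 0) (.leaf 3)) (.node (.leaf 3) (.leaf 0)))))

def certSKind37 : Janko.Tree (ℕ) :=
  (.node (.node (.node (.node (.node (.leaf 0) (.leaf 3)) (.leaf 3)) (.node (.leaf 3) (.leaf 3))) (.node (.node (.leaf 0) (.leaf 0)) (.node (.leaf 3) (.leaf 0)))) (.node (.node (.node (.node (.leaf 0) (.leaf 3)) (.leaf 3)) (.node (.leaf 0) (.leaf 3))) (.node (.node (.leaf 0) (.leaf 3)) (.node (.leaf 3) (.leaf 3)))))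

def certSKind38 : Janko.Tree (ℕ) :=
  (.node (.node (.node (.node (.node (.leaf 0) (.leaf 3)) (.leaf 0)) (.node (.leaf 3) (.leaf 0))) (.node (.node (.leaf 0) (.leaf 3)) (.node (.leaf 0) (.leaf 3)))) (.node (.node (.node (.node (.leaf 3) (.leaf 3)) (.leaf 0)) (.node (.leaf 0) (.leaf 3))) (.node (.node (.leaf 0) (.leaf 0)) (.node (.leaf 0) (.leaf 3)))))

def certSKind39 : Janko.Tree (ℕ) :=
  (.node (.node (.node (.node (.node (.leaf 0) (.leaf 0)) (.leaf 3)) (.node (.leaf 0) (.leaf 3))) (.node (.node (.leaf 0) (.leaf 0)) (.node (.leaf 3) (.leaf 0)))) (.node (.node (.node (.node (.leaf 0) (.leaf 3)) (.leaf 3)) (.node (.leaf 0) (.leaf 3))) (.node (.node (.leaf 3) (.leaf 3)) (.node (.leaf 3) (.leaf 0)))))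

def certSKind40 : Janko.Tree (ℕ) :=
  (.node (.node (.node (.node (.node (.leaf 0) (.leaf 0)) (.leaf 3)) (.node (.leaf 0) (.leaf 0))) (.node (.node (.leaf 0) (.leaf 0)) (.node (.leaf 0) (.leaf 0)))) (.node (.node (.node (.node (.leaf 0) (.leaf 3)) (.leaf 3)) (.node (.leaf 0) (.leaf 3))) (.node (.node (.leaf 3) (.leaf 3)) (.node (.leaf 0) (.leaf 3)))))

def certSKind41 : Janko.Tree (ℕ) :=
  (.node (.node (.node (.node (.node (.leaf 3) (.leaf 3)) (.leaf 3)) (.node (.leaf 3) (.leaf 3))) (.node (.node (.leaf 3) (.leaf 0)) (.node (.leaf 0) (.leaf 3)))) (.node (.node (.node (.node (.leaf 3) (.leaf 3)) (.leaf 0)) (.node (.leaf 3) (.leaf 3))) (.node (.node (.leaf 3) (.leaf 3)) (.node (.leaf 3) (.leaf 0)))))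

def certSKind42 : Janko.Tree (ℕ) :=
  (.node (.node (.node (.node (.node (.leaf 0) (.leaf 3)) (.leaf 0)) (.node (.leaf 3) (.leaf 0))) (.node (.node (.leaf 0) (.leaf 0)) (.node (.leaf 0) (.leaf 0)))) (.node (.node (.node (.node (.leaf 0) (.leaf 3)) (.leaf 0)) (.node (.leaf 3) (.leaf 0))) (.node (.node (.leaf 0) (.leaf 0)) (.node (.leaf 0) (.leaf 3)))))

def certSKind43 : Janko.Tree (ℕ) :=
  (.node (.node (.node (.node (.node (.leaf 0) (.leaf 3)) (.leaf 3)) (.node (.leaf 0) (.leaf 0))) (.node (.node (.leaf 0) (.leaf 0)) (.node (.leaf 0) (.leaf 3)))) (.node (.node (.node (.node (.leaf 0) (.leaf 3)) (.leaf 3)) (.node (.leaf 3) (.leaf 3))) (.node (.node (.leaf 0) (.leaf 0)) (.node (.leaf 3) (.leaf 3)))))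

def certSKind44 : Janko.Tree (ℕ) :=
  (.node (.node (.node (.node (.node (.leaf 0) (.leaf 3)) (.leaf 0)) (.node (.leaf 0) (.leaf 0))) (.node (.node (.leaf 0) (.leaf 0)) (.node (.leaf 0) (.leaf 3)))) (.node (.node (.node (.node (.leaf 0) (.leaf 3)) (.leaf 0)) (.node (.leaf 3) (.leaf 3))) (.node (.node (.leaf 0) (.leaf 3)) (.node (.leaf 0) (.leaf 0)))))

def certSKind45 : Janko.Tree (ℕ) :=
  (.node (.node (.node (.node (.node (.leaf 0) (.leaf 3)) (.leaf 0)) (.node (.leaf 3) (.leaf 3))) (.node (.node (.leaf 0) (.leaf 3)) (.node (.leaf 0) (.leaf 3)))) (.node (.node (.node (.node (.leaf 0) (.leaf 3)) (.leaf 0)) (.node (.leaf 3) (.leaf 3))) (.node (.node (.leaf 0) (.leaf 3)) (.node (.leaf 0) (.leaf 3)))))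

def certSKind46 : Janko.Tree (ℕ) :=
  (.node (.node (.node (.node (.node (.leaf 0) (.leaf 3)) (.leaf 0)) (.node (.leaf 3) (.leaf 3))) (.node (.node (.leaf 0) (.leaf 0)) (.node (.leaf 0) (.leaf 3)))) (.node (.node (.node (.node (.leaf 0) (.leaf 3)) (.leaf 0)) (.node (.leaf 0) (.leaf 0))) (.node (.node (.leaf 3) (.leaf 0)) (.node (.leaf 3) (.leaf 3)))))

def certSKind47 : Janko.Tree (ℕ) :=
  (.node (.node (.node (.node (.node (.leaf 0) (.leaf 0)) (.leaf 3)) (.node (.leaf 0) (.leaf 0))) (.node (.node (.leaf 3) (.leaf 3)) (.node (.leaf 0) (.leaf 3)))) (.node (.node (.node (.node (.leaf 0) (.leaf 3)) (.leaf 0)) (.node (.leaf 3) (.leaf 3))) (.node (.node (.leaf 3) (.leaf 0)) (.node (.leaf 0) (.leaf 0)))))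

def certSKind48 : Janko.Tree (ℕ) :=
  (.node (.node (.node (.node (.node (.leaf 0) (.leaf 3)) (.leaf 0)) (.node (.leaf 0) (.leaf 3))) (.node (.node (.leaf 0) (.leaf 3)) (.node (.leaf 3) (.leaf 0)))) (.node (.node (.node (.node (.leaf 0) (.leaf 3)) (.leaf 0)) (.node (.leaf 0) (.leaf 0))) (.node (.node (.leaf 0) (.leaf 0)) (.node (.leaf 3) (.leaf 3)))))

def certSKind49 : Janko.Tree (ℕ) :=
  (.node (.node (.node (.node (.node (.leaf 0) (.leaf 3)) (.leaf 3)) (.node (.leaf 0) (.leaf 3))) (.node (.node (.leaf 3) (.leaf 3)) (.node (.leaf 3) (.leaf 3)))) (.node (.node (.node (.node (.leaf 3) (.leaf 3)) (.leaf 3)) (.node (.leaf 0) (.leaf 3))) (.node (.node (.leaf 3) (.leaf 0)) (.node (.leaf 0) (.leaf 3)))))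

def certSKind50 : Janko.Tree (ℕ) :=
  (.node (.node (.node (.node (.node (.leaf 0) (.leaf 3)) (.leaf 3)) (.node (.leaf 0) (.leaf 3))) (.node (.node (.leaf 3) (.leaf 3)) (.node (.leaf 3) (.leaf 3)))) (.node (.node (.node (.node (.leaf 0) (.leaf 3)) (.leaf 0)) (.node (.leaf 3) (.leaf 3))) (.node (.node (.leaf 3) (.leaf 0)) (.node (.leaf 0) (.leaf 3)))))

def certSKind51 : Janko.Tree (ℕ) :=
  (.node (.node (.node (.node (.node (.leaf 3) (.leaf 3)) (.leaf 0)) (.node (.leaf 3) (.leaf 3))) (.node (.node (.leaf 3) (.leaf 3)) (.node (.leaf 0) (.leaf 3)))) (.node (.node (.node (.node (.leaf 3) (.leaf 3)) (.leaf 0)) (.node (.leaf 3) (.leaf 3))) (.node (.node (.leaf 3) (.leaf 3)) (.node (.leaf 3) (.leaf 0)))))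

def certSKind52 : Janko.Tree (ℕ) :=
  (.node (.node (.node (.node (.node (.leaf 0) (.leaf 3)) (.leaf 0)) (.node (.leaf 0) (.leaf 3))) (.node (.node (.leaf 0) (.leaf 0)) (.node (.leaf 3) (.leaf 3)))) (.node (.node (.node (.node (.leaf 0) (.leaf 3)) (.leaf 0)) (.node (.leaf 0) (.leaf 0))) (.node (.node (.leaf 0) (.leaf 3)) (.node (.leaf 3) (.leaf 0)))))

def certSKind53 : Janko.Tree (ℕ) :=
  (.node (.node (.node (.node (.node (.leaf 0) (.leaf 0)) (.leaf 0)) (.node (.leaf 0) (.leaf 3))) (.node (.node (.leaf 0) (.leaf 3)) (.node (.leaf 0) (.leaf 0)))) (.node (.node (.node (.node (.leaf 0) (.leaf 3)) (.leaf 0)) (.node (.leaf 0) (.leaf 3))) (.node (.node (.leaf 0) (.leaf 3)) (.node (.leaf 0) (.leaf 3)))))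

def certSKind54 : Janko.Tree (ℕ) :=
  (.node (.node (.node (.node (.node (.leaf 0) (.leaf 3)) (.leaf 3)) (.node (.leaf 3) (.leaf 0))) (.node (.node (.leaf 0) (.leaf 0)) (.node (.leaf 3) (.leaf 3)))) (.node (.node (.node (.node (.leaf 0) (.leaf 3)) (.leaf 3)) (.node (.leaf 0) (.leaf 3))) (.node (.node (.leaf 0) (.leaf 0)) (.node (.leaf 0) (.leaf 3)))))

def certSKind55 : Janko.Tree (ℕ) :=
  (.node (.node (.node (.node (.node (.leaf 0) (.leaf 3)) (.leaf 0)) (.node (.leaf 0) (.leaf 0))) (.node (.node (.leaf 0) (.leaf 3)) (.node (.leaf 0) (.leaf 3)))) (.node (.node (.node (.node (.leaf 3) (.leaf 3)) (.leaf 0)) (.node (.leaf 0) (.leaf 3))) (.node (.node (.leaf 0) (.leaf 0)) (.node (.leaf 3) (.leaf 0)))))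

def certSKind56 : Janko.Tree (ℕ) :=
  (.node (.node (.node (.node (.node (.leaf 0) (.leaf 3)) (.leaf 3)) (.node (.leaf 0) (.leaf 0))) (.node (.node (.leaf 0) (.leaf 3)) (.node (.leaf 0) (.leaf 3)))) (.node (.node (.node (.node (.leaf 0) (.leaf 3)) (.leaf 3)) (.node (.leaf 3) (.leaf 3))) (.node (.node (.leaf 0) (.leaf 3)) (.node (.leaf 0) (.leaf 0)))))

def certSKind57 : Janko.Tree (ℕ) :=
  (.node (.node (.node (.node (.node (.leaf 0) (.leaf 3)) (.leaf 3)) (.node (.leaf 0) (.leaf 0))) (.node (.node (.leaf 0) (.leaf 0)) (.node (.leaf 0) (.leaf 3)))) (.node (.node (.node (.node (.leaf 3) (.leaf 3)) (.leaf 3)) (.node (.leaf 0) (.leaf 3))) (.node (.node (.leaf 0) (.leaf 0)) (.node (.leaf 0) (.leaf 3)))))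

def certSKind58 : Janko.Tree (ℕ) :=
  (.node (.node (.node (.node (.node (.leaf 0) (.leaf 3)) (.leaf 0)) (.node (.leaf 0) (.leaf 3))) (.node (.node (.leaf 0) (.leaf 0)) (.node (.leaf 0) (.leaf 0)))) (.node (.node (.node (.node (.leaf 0) (.leaf 3)) (.leaf 0)) (.node (.leaf 0) (.leaf 0))) (.node (.node (.leaf 0) (.leaf 0)) (.node (.leaf 0) (.leaf 3)))))

def certSKind59 : Janko.Tree (ℕ) :=
  (.node (.node (.node (.node (.node (.leaf 0) (.leaf 3)) (.leaf 3)) (.node (.leaf 0) (.leaf 3))) (.node (.node (.leaf 0) (.leaf 0)) (.node (.leaf 3) (.leaf 3)))) (.node (.node (.node (.node (.leaf 0) (.leaf 3)) (.leaf 3)) (.node (.leaf 0) (.leaf 3))) (.node (.node (.leaf 0) (.leaf 3)) (.node (.leaf 3) (.leaf 3)))))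

def certSKind60 : Janko.Tree (ℕ) :=
  (.node (.node (.node (.node (.node (.leaf 0) (.leaf 3)) (.leaf 3)) (.node (.leaf 3) (.leaf 3))) (.node (.node (.leaf 0) (.leaf 0)) (.node (.leaf 2) (.leaf 3)))) (.node (.node (.node (.node (.leaf 0) (.leaf 3)) (.leaf 3)) (.node (.leaf 3) (.leaf 3))) (.node (.node (.leaf 0) (.leaf 0)) (.node (.leaf 0) (.leaf 3)))))

def certSKind61 : Janko.Tree (ℕ) :=
  (.node (.node (.node (.node (.node (.leaf 0) (.leaf 3)) (.leaf 3)) (.node (.leaf 3) (.leaf 3))) (.node (.node (.leaf 0) (.leaf 3)) (.node (.leaf 3) (.leaf 0)))) (.node (.node (.node (.node (.leaf 0) (.leaf 3)) (.leaf 0)) (.node (.leaf 0) (.leaf 3))) (.node (.node (.leaf 0) (.leaf 3)) (.node (.leaf 3) (.leaf 0)))))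

def certSKind62 : Janko.Tree (ℕ) :=
  (.node (.node (.node (.node (.node (.leaf 0) (.leaf 3)) (.leaf 0)) (.node (.leaf 0) (.leaf 0))) (.node (.node (.leaf 0) (.leaf 3)) (.node (.leaf 0) (.leaf 3)))) (.node (.node (.node (.node (.leaf 0) (.leaf 3)) (.leaf 0)) (.node (.leaf 0) (.leaf 3))) (.node (.node (.leaf 3) (.leaf 3)) (.node (.leaf 0) (.leaf 0)))))

def certSKind63 : Janko.Tree (ℕ) :=
  (.node (.node (.node (.node (.node (.leaf 0) (.leaf 3)) (.leaf 3)) (.node (.leaf 0) (.leaf 0))) (.node (.node (.leaf 0) (.leaf 3)) (.node (.leaf 0) (.leaf 3)))) (.node (.node (.node (.node (.leaf 0) (.leaf 3)) (.leaf 3)) (.node (.leaf 3) (.leaf 3))) (.node (.node (.leaf 3) (.leaf 0)) (.node (.leaf 0) (.leaf 3)))))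

def certSKind64 : Janko.Tree (ℕ) :=
  (.node (.node (.node (.node (.node (.leaf 0) (.leaf 0)) (.leaf 0)) (.node (.leaf 0) (.leaf 0))) (.node (.node (.leaf 0) (.leaf 3)) (.node (.leaf 0) (.leaf 0)))) (.node (.node (.node (.node (.leaf 0) (.leaf 3)) (.leaf 3)) (.node (.leaf 0) (.leaf 3))) (.node (.node (.leaf 0) (.leaf 0)) (.node (.leaf 3) (.leaf 3)))))

def certSKind65 : Janko.Tree (ℕ) :=
  (.node (.node (.node (.node (.node (.leaf 0) (.leaf 3)) (.leaf 0)) (.node (.leaf 0) (.leaf 0))) (.node (.node (.leaf 3) (.leaf 0)) (.node (.leaf 0) (.leaf 0)))) (.node (.node (.node (.node (.leaf 0) (.leaf 3)) (.leaf 0)) (.node (.leaf 0) (.leaf 0))) (.node (.node (.leaf 0) (.leaf 0)) (.node (.leaf 0) (.leaf 0)))))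

def certSKind66 : Janko.Tree (ℕ) :=
  (.node (.node (.node (.node (.node (.leaf 0) (.leaf 3)) (.leaf 3)) (.node (.leaf 3) (.leaf 3))) (.node (.node (.leaf 3) (.leaf 0)) (.node (.leaf 0) (.leaf 3)))) (.node (.node (.node (.node (.leaf 0) (.leaf 3)) (.leaf 3)) (.node (.leaf 0) (.leaf 3))) (.node (.node (.leaf 0) (.leaf 3)) (.node (.leaf 0) (.leaf 3)))))

def certSKind67 : Janko.Tree (ℕ) :=
  (.node (.node (.node (.node (.node (.leaf 0) (.leaf 3)) (.leaf 0)) (.node (.leaf 0) (.leaf 0))) (.node (.node (.leaf 0) (.leaf 3)) (.node (.leaf 0) (.leaf 3)))) (.node (.node (.node (.node (.leaf 3) (.leaf 3)) (.leaf 0)) (.node (.leaf 0) (.leaf 3))) (.node (.node (.leaf 0) (.leaf 0)) (.node (.leaf 0) (.leaf 0)))))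

def certSKind68 : Janko.Tree (ℕ) :=
  (.node (.node (.node (.node (.node (.leaf 0) (.leaf 3)) (.leaf 0)) (.node (.leaf 3) (.leaf 3))) (.node (.node (.leaf 3) (.leaf 3)) (.node (.leaf 0) (.leaf 0)))) (.node (.node (.node (.node (.leaf 3) (.leaf 3)) (.leaf 3)) (.node (.leaf 3) (.leaf 0))) (.node (.node (.leaf 0) (.leaf 3)) (.node (.leaf 0) (.leaf 3)))))

def certSKind69 : Janko.Tree (ℕ) :=
  (.node (.node (.node (.node (.node (.leaf 0) (.leaf 3)) (.leaf 3)) (.node (.leaf 3) (.leaf 3))) (.node (.node (.leaf 0) (.leaf 0)) (.node (.leaf 3) (.leaf 3)))) (.node (.node (.node (.node (.leaf 0) (.leaf 3)) (.leaf 0)) (.node (.leaf 0) (.leaf 0))) (.node (.node (.leaf 3) (.leaf 3)) (.node (.leaf 0) (.leaf 3)))))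

def certSKind70 : Janko.Tree (ℕ) :=
  (.node (.node (.node (.node (.node (.leaf 0) (.leaf 3)) (.leaf 3)) (.node (.leaf 3) (.leaf 3))) (.node (.node (.leaf 0) (.leaf 0)) (.node (.leaf 0) (.leaf 3)))) (.node (.node (.node (.node (.leaf 0) (.leaf 3)) (.leaf 0)) (.node (.leaf 0) (.leaf 3))) (.node (.node (.leaf 0) (.leaf 0)) (.node (.leaf 3) (.leaf 3)))))

def certSKind71 : Janko.Tree (ℕ) :=
  (.node (.node (.node (.node (.node (.leaf 0) (.leaf 3)) (.leaf 3)) (.node (.leaf 3) (.leaf 3))) (.node (.node (.leaf 0) (.leaf 3)) (.node (.leaf 3) (.leaf 3)))) (.node (.node (.node (.node (.leaf 0) (.leaf 3)) (.leaf 3)) (.node (.leaf 0) (.leaf 3))) (.node (.node (.leaf 3) (.leaf 0)) (.node (.leaf 3) (.leaf 0)))))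

def certSKind72 : Janko.Tree (ℕ) :=
  (.node (.node (.node (.node (.node (.leaf 0) (.leaf 0)) (.leaf 0)) (.node (.leaf 3) (.leaf 3))) (.node (.node (.leaf 0) (.leaf 0)) (.node (.leaf 0) (.leaf 3)))) (.node (.node (.node (.node (.leaf 0) (.leaf 3)) (.leaf 3)) (.node (.leaf 3) (.leaf 3))) (.node (.node (.leaf 3) (.leaf 0)) (.node (.leaf 0) (.leaf 3)))))

def certSKind73 : Janko.Tree (ℕ) :=
  (.node (.node (.node (.node (.node (.leaf 0) (.leaf 3)) (.leaf 0)) (.node (.leaf 0) (.leaf 3))) (.node (.node (.leaf 0) (.leaf 0)) (.node (.leaf 3) (.leaf 3)))) (.node (.node (.node (.node (.leaf 0) (.leaf 3)) (.leaf 3)) (.node (.leaf 0) (.leaf 0))) (.node (.node (.leaf 0) (.leaf 3)) (.node (.leaf 3) (.leaf 3)))))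

def certSKind74 : Janko.Tree (ℕ) :=
  (.node (.node (.node (.node (.node (.leaf 2) (.leaf 0)) (.leaf 0)) (.node (.leaf 0) (.leaf 3))) (.node (.node (.leaf 3) (.leaf 0)) (.node (.leaf 0) (.leaf 3)))) (.node (.node (.node (.node (.leaf 0) (.leaf 3)) (.leaf 0)) (.node (.leaf 0) (.leaf 0))) (.node (.node (.leaf 0) (.leaf 0)) (.node (.leaf 0) (.leaf 3)))))

def certSKind75 : Janko.Tree (ℕ) :=
  (.node (.node (.node (.node (.node (.leaf 0) (.leaf 0)) (.leaf 0)) (.node (.leaf 3) (.leaf 3))) (.node (.node (.leaf 0) (.leaf 0)) (.node (.leaf 3) (.leaf 3)))) (.node (.node (.node (.node (.leaf 0) (.leaf 3)) (.leaf 0)) (.node (.leaf 0) (.leaf 3))) (.node (.node (.leaf 0) (.leaf 3)) (.node (.leaf 3) (.leaf 3)))))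

def certSKind76 : Janko.Tree (ℕ) :=
  (.node (.node (.node (.node (.node (.leaf 0) (.leaf 3)) (.leaf 3)) (.node (.leaf 3) (.leaf 3))) (.node (.node (.leaf 0) (.leaf 3)) (.node (.leaf 0) (.leaf 0)))) (.node (.node (.node (.node (.leaf 0) (.leaf 3)) (.leaf 3)) (.node (.leaf 0) (.leaf 3))) (.node (.node (.leaf 0) (.leaf 0)) (.node (.leaf 0) (.leaf 0)))))

def certSKind77 : Janko.Tree (ℕ) :=
  (.node (.node (.node (.node (.node (.leaf 0) (.leaf 3)) (.leaf 0)) (.node (.leaf 0) (.leaf 3))) (.node (.node (.leaf 0) (.leaf 3)) (.node (.leaf 0) (.leaf 3)))) (.node (.node (.node (.node (.leaf 0) (.leaf 3)) (.leaf 3)) (.node (.leaf 0) (.leaf 3))) (.node (.node (.leaf 0) (.leaf 3)) (.node (.leaf 0) (.leaf 3)))))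

def certSKind78 : Janko.Tree (ℕ) :=
  (.node (.node (.node (.node (.node (.leaf 0) (.leaf 3)) (.leaf 3)) (.node (.leaf 0) (.leaf 3))) (.node (.node (.leaf 0) (.leaf 0)) (.node (.leaf 0) (.leaf 3)))) (.node (.node (.node (.node (.leaf 3) (.leaf 3)) (.leaf 3)) (.node (.leaf 0) (.leaf 3))) (.node (.node (.leaf 3) (.leaf 0)) (.node (.leaf 0) (.leaf 0)))))

def certSKind79 : Janko.Tree (ℕ) :=
  (.node (.node (.node (.node (.node (.leaf 0) (.leaf 3)) (.leaf 0)) (.node (.leaf 0) (.leaf 3))) (.node (.node (.leaf 0) (.leaf 3)) (.node (.leaf 0) (.leaf 3)))) (.node (.node (.node (.node (.leaf 0) (.leaf 3)) (.leaf 3)) (.node (.leaf 3) (.leaf 3))) (.node (.node (.leaf 0) (.leaf 3)) (.node (.leaf 0) (.leaf 3)))))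

def certSKind80 : Janko.Tree (ℕ) :=
  (.node (.node (.node (.node (.node (.leaf 3) (.leaf 3)) (.leaf 3)) (.node (.leaf 0) (.leaf 0))) (.node (.node (.leaf 0) (.leaf 3)) (.node (.leaf 3) (.leaf 3)))) (.node (.node (.node (.node (.leaf 3) (.leaf 3)) (.leaf 3)) (.node (.leaf 0) (.leaf 3))) (.node (.node (.leaf 0) (.leaf 3)) (.node (.leaf 0) (.leaf 3)))))

def certSKind81 : Janko.Tree (ℕ) :=
  (.node (.node (.node (.node (.node (.leaf 0) (.leaf 3)) (.leaf 0)) (.node (.leaf 0) (.leaf 3))) (.node (.node (.leaf 0) (.leaf 0)) (.node (.leaf 0) (.leaf 3)))) (.node (.node (.node (.node (.leaf 0) (.leaf 3)) (.leaf 0)) (.node (.leaf 3) (.leaf 3))) (.node (.node (.leaf 0) (.leaf 0)) (.node (.leaf 3) (.leaf 0)))))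

def certSKind82 : Janko.Tree (ℕ) :=
  (.node (.node (.node (.node (.node (.leaf 0) (.leaf 3)) (.leaf 0)) (.node (.leaf 0) (.leaf 0))) (.node (.node (.leaf 0) (.leaf 0)) (.node (.leaf 3) (.leaf 0)))) (.node (.node (.node (.node (.leaf 0) (.leaf 3)) (.leaf 0)) (.node (.leaf 3) (.leaf 3))) (.node (.node (.leaf 0) (.leaf 3)) (.node (.leaf 0) (.leaf 3)))))

def certSKind83 : Janko.Tree (ℕ) :=
  (.node (.node (.node (.node (.node (.leaf 3) (.leaf 3)) (.leaf 3)) (.node (.leaf 0) (.leaf 3))) (.node (.node (.leaf 0) (.leaf 3)) (.node (.leaf 0) (.leaf 3)))) (.node (.node (.node (.node (.leaf 0) (.leaf 3)) (.leaf 0)) (.node (.leaf 3) (.leaf 3))) (.node (.node (.leaf 3) (.leaf 0)) (.node (.leaf 3) (.leaf 3)))))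

def certSKind84 : Janko.Tree (ℕ) :=
  (.node (.node (.node (.node (.node (.leaf 0) (.leaf 3)) (.leaf 3)) (.node (.leaf 3) (.leaf 3))) (.node (.node (.leaf 0) (.leaf 3)) (.node (.leaf 0) (.leaf 0)))) (.node (.node (.node (.node (.leaf 3) (.leaf 3)) (.leaf 3)) (.node (.leaf 0) (.leaf 0))) (.node (.node (.leaf 3) (.leaf 3)) (.node (.leaf 0) (.leaf 3)))))

def certSKind85 : Janko.Tree (ℕ) :=
  (.node (.node (.node (.node (.node (.leaf 0) (.leaf 3)) (.leaf 3)) (.node (.leaf 0) (.leaf 0))) (.node (.node (.leaf 0) (.leaf 3)) (.node (.leaf 3) (.leaf 3)))) (.node (.node (.node (.node (.leaf 0) (.leaf 3)) (.leaf 0)) (.node (.leaf 0) (.leaf 0))) (.node (.node (.leaf 3) (.leaf 0)) (.node (.leaf 3) (.leaf 3)))))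

def certSKind86 : Janko.Tree (ℕ) :=
  (.node (.node (.node (.node (.node (.leaf 0) (.leaf 3)) (.leaf 3)) (.node (.leaf 3) (.leaf 3))) (.node (.node (.leaf 0) (.leaf 0)) (.node (.leaf 0) (.leaf 0)))) (.node (.node (.node (.node (.leaf 3) (.leaf 3)) (.leaf 0)) (.node (.leaf 3) (.leaf 3))) (.node (.node (.leaf 3) (.leaf 0)) (.node (.leaf 3) (.leaf 3)))))

def certSKind87 : Janko.Tree (ℕ) :=
  (.node (.node (.node (.node (.node (.leaf 0) (.leaf 3)) (.leaf 3)) (.node (.leaf 0) (.leaf 3))) (.node (.node (.leaf 0) (.leaf 0)) (.node (.leaf 3) (.leaf 3)))) (.node (.node (.node (.node (.leaf 0) (.leaf 3)) (.leaf 0)) (.node (.leaf 0) (.leaf 0))) (.node (.node (.leaf 0) (.leaf 3)) (.node (.leaf 0) (.leaf 3)))))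

def certSKind88 : Janko.Tree (ℕ) :=
  (.node (.node (.node (.node (.node (.leaf 0) (.leaf 3)) (.leaf 3)) (.node (.leaf 3) (.leaf 3))) (.node (.node (.leaf 0) (.leaf 0)) (.node (.leaf 3) (.leaf 3)))) (.node (.node (.node (.node (.leaf 0) (.leaf 3)) (.leaf 0)) (.node (.leaf 0) (.leaf 3))) (.node (.node (.leaf 0) (.leaf 0)) (.node (.leaf 3) (.leaf 3)))))

def certSKind89 : Janko.Tree (ℕ) :=
  (.node (.node (.node (.node (.node (.leaf 0) (.leaf 3)) (.leaf 3)) (.node (.leaf 0) (.leaf 3))) (.node (.node (.leaf 3) (.leaf 0)) (.node (.leaf 3) (.leaf 3)))) (.node (.node (.node (.node (.leaf 0) (.leaf 3)) (.leaf 0)) (.node (.leaf 0) (.leaf 0))) (.node (.node (.leaf 0) (.leaf 0)) (.node (.leaf 3) (.leaf 3)))))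

def certSKind90 : Janko.Tree (ℕ) :=
  (.node (.node (.node (.node (.node (.leaf 0) (.leaf 0)) (.leaf 0)) (.node (.leaf 0) (.leaf 3))) (.node (.node (.leaf 0) (.leaf 0)) (.node (.leaf 3) (.leaf 3)))) (.node (.node (.node (.node (.leaf 0) (.leaf 3)) (.leaf 3)) (.node (.leaf 0) (.leaf 3))) (.node (.node (.leaf 0) (.leaf 3)) (.node (.leaf 3) (.leaf 3)))))

def certSKind91 : Janko.Tree (ℕ) :=
  (.node (.node (.node (.node (.node (.leaf 0) (.leaf 3)) (.leaf 3)) (.node (.leaf 3) (.leaf 0))) (.node (.node (.leaf 0) (.leaf 0)) (.node (.leaf 0) (.leaf 3)))) (.node (.node (.node (.node (.leaf 0) (.leaf 3)) (.leaf 0)) (.node (.leaf 3) (.leaf 3))) (.node (.node (.leaf 0) (.leaf 0)) (.node (.leaf 0) (.leaf 3)))))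

def certSKind92 : Janko.Tree (ℕ) :=
  (.node (.node (.node (.node (.node (.leaf 0) (.leaf 0)) (.leaf 3)) (.node (.leaf 3) (.leaf 3))) (.node (.node (.leaf 0) (.leaf 0)) (.node (.leaf 3) (.leaf 3)))) (.node (.node (.node (.node (.leaf 0) (.leaf 3)) (.leaf 3)) (.node (.leaf 0) (.leaf 3))) (.node (.node (.leaf 3) (.leaf 3)) (.node (.leaf 0) (.leaf 3)))))

def certSKind93 : Janko.Tree (ℕ) :=
  (.node (.node (.node (.node (.node (.leaf 0) (.leaf 3)) (.leaf 0)) (.node (.leaf 0) (.leaf 3))) (.node (.node (.leaf 3) (.leaf 3)) (.node (.leaf 0) (.leaf 3)))) (.node (.node (.node (.node (.leaf 3) (.leaf 3)) (.leaf 3)) (.node (.leaf 0) (.leaf 3))) (.node (.node (.leaf 3) (.leaf 0)) (.node (.leaf 0) (.leaf 3)))))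

def certSKind94 : Janko.Tree (ℕ) :=
  (.node (.node (.node (.node (.node (.leaf 0) (.leaf 3)) (.leaf 3)) (.node (.leaf 3) (.leaf 0))) (.node (.node (.leaf 0) (.leaf 3)) (.node (.leaf 0) (.leaf 3)))) (.node (.node (.node (.node (.leaf 3) (.leaf 3)) (.leaf 3)) (.node (.leaf 0) (.leaf 3))) (.node (.node (.leaf 0) (.leaf 0)) (.node (.leaf 0) (.leaf 3)))))

def certSKind95 : Janko.Tree (ℕ) :=
  (.node (.node (.node (.node (.node (.leaf 0) (.leaf 3)) (.leaf 3)) (.node (.leaf 3) (.leaf 3))) (.node (.node (.leaf 0) (.leaf 0)) (.node (.leaf 0) (.leaf 3)))) (.node (.node (.node (.node (.leaf 0) (.leaf 3)) (.leaf 0)) (.node (.leaf 0) (.leaf 0))) (.node (.node (.leaf 0) (.leaf 3)) (.node (.leaf 3) (.leaf 3)))))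

def certSKind96 : Janko.Tree (ℕ) :=
  (.node (.node (.node (.node (.node (.leaf 0) (.leaf 0)) (.leaf 3)) (.node (.leaf 0) (.leaf 0))) (.node (.node (.leaf 0) (.leaf 0)) (.node (.leaf 3) (.leaf 0)))) (.node (.node (.node (.node (.leaf 0) (.leaf 3)) (.leaf 3)) (.node (.leaf 0) (.leaf 3))) (.node (.node (.leaf 0) (.leaf 0)) (.node (.leaf 0) (.leaf 3)))))

def certSKind97 : Janko.Tree (ℕ) :=
  (.node (.node (.node (.node (.node (.leaf 0) (.leaf 3)) (.leaf 0)) (.node (.leaf 0) (.leaf 3))) (.node (.node (.leaf 3) (.leaf 3)) (.node (.leaf 0) (.leaf 0)))) (.node (.node (.node (.node (.leaf 0) (.leaf 3)) (.leaf 0)) (.node (.leaf 0) (.leaf 0))) (.node (.node (.leaf 0) (.leaf 0)) (.node (.leaf 0) (.leaf 3)))))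

def certSKind98 : Janko.Tree (ℕ) :=
  (.node (.node (.node (.node (.node (.leaf 0) (.leaf 3)) (.leaf 3)) (.node (.leaf 3) (.leaf 3))) (.node (.node (.leaf 0) (.leaf 3)) (.node (.leaf 3) (.leaf 3)))) (.node (.node (.node (.node (.leaf 0) (.leaf 3)) (.leaf 3)) (.node (.leaf 0) (.leaf 3))) (.node (.node (.leaf 0) (.leaf 0)) (.node (.leaf 0) (.leaf 3)))))

def certSKind99 : Janko.Tree (ℕ) :=
  (.node (.node (.node (.node (.node (.leaf 0) (.leaf 3)) (.leaf 3)) (.node (.leaf 0) (.leaf 3))) (.node (.node (.leaf 0) (.leaf 3)) (.node (.leaf 3) (.leaf 3)))) (.node (.node (.node (.node (.leaf 0) (.leaf 3)) (.leaf 3)) (.node (.leaf 0) (.leaf 0))) (.node (.node (.leaf 0) (.leaf 3)) (.node (.leaf 3) (.leaf 3)))))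

def certSKind100 : Janko.Tree (ℕ) :=
  (.node (.node (.node (.node (.node (.leaf 0) (.leaf 3)) (.leaf 0)) (.node (.leaf 0) (.leaf 0))) (.node (.node (.leaf 3) (.leaf 3)) (.node (.leaf 0) (.leaf 3)))) (.node (.node (.node (.node (.leaf 0) (.leaf 3)) (.leaf 0)) (.node (.leaf 2) (.leaf 0))) (.node (.node (.leaf 0) (.leaf 0)) (.node (.leaf 0) (.leaf 3)))))

def certSKind101 : Janko.Tree (ℕ) :=
  (.node (.node (.node (.node (.node (.leaf 0) (.leaf 0)) (.leaf 3)) (.node (.leaf 3) (.leaf 3))) (.node (.node (.leaf 0) (.leaf 3)) (.node (.leaf 0) (.leaf 0)))) (.node (.node (.node (.node (.leaf 3) (.leaf 3)) (.leaf 0)) (.node (.leaf 0) (.leaf 3))) (.node (.node (.leaf 0) (.leaf 3)) (.node (.leaf 3) (.leaf 3)))))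

def certSKind102 : Janko.Tree (ℕ) :=
  (.node (.node (.node (.node (.node (.leaf 0) (.leaf 3)) (.leaf 0)) (.node (.leaf 0) (.leaf 3))) (.node (.node (.leaf 0) (.leaf 0)) (.node (.leaf 0) (.leaf 3)))) (.node (.node (.node (.node (.leaf 0) (.leaf 3)) (.leaf 0)) (.node (.leaf 0) (.leaf 0))) (.node (.node (.leaf 0) (.leaf 3)) (.node (.leaf 3) (.leaf 3)))))

def certSKind103 : Janko.Tree (ℕ) :=
  (.node (.node (.node (.node (.node (.leaf 3) (.leaf 3)) (.leaf 0)) (.node (.leaf 0) (.leaf 0))) (.node (.node (.leaf 0) (.leaf 3)) (.node (.leaf 0) (.leaf 0)))) (.node (.node (.node (.node (.leaf 3) (.leaf 3)) (.leaf 3)) (.node (.leaf 3) (.leaf 0))) (.node (.node (.leaf 3) (.leaf 0)) (.node (.leaf 3) (.leaf 3)))))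

def certSKind104 : Janko.Tree (ℕ) :=
  (.node (.node (.node (.node (.node (.leaf 0) (.leaf 3)) (.leaf 3)) (.node (.leaf 0) (.leaf 3))) (.node (.node (.leaf 0) (.leaf 0)) (.node (.leaf 3) (.leaf 3)))) (.node (.node (.node (.node (.leaf 0) (.leaf 3)) (.leaf 0)) (.node (.leaf 0) (.leaf 3))) (.node (.node (.leaf 0) (.leaf 3)) (.node (.leaf 0) (.leaf 0)))))

def certSKind105 : Janko.Tree (ℕ) :=
  (.node (.node (.node (.node (.node (.leaf 0) (.leaf 3)) (.leaf 0)) (.node (.leaf 3) (.leaf 0))) (.node (.node (.leaf 0) (.leaf 3)) (.node (.leaf 3) (.leaf 3)))) (.node (.node (.node (.node (.leaf 0) (.leaf 3)) (.leaf 3)) (.node (.leaf 0) (.leaf 0))) (.node (.node (.leaf 3) (.leaf 3)) (.node (.leaf 0) (.leaf 3)))))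

def certSKind106 : Janko.Tree (ℕ) :=
  (.node (.node (.node (.node (.node (.leaf 0) (.leaf 0)) (.leaf 3)) (.node (.leaf 0) (.leaf 3))) (.node (.node (.leaf 0) (.leaf 3)) (.node (.leaf 3) (.leaf 3)))) (.node (.node (.node (.node (.leaf 0) (.leaf 3)) (.leaf 3)) (.node (.leaf 0) (.leaf 3))) (.node (.node (.leaf 0) (.leaf 0)) (.node (.leaf 0) (.leaf 3)))))

def certSKind107 : Janko.Tree (ℕ) :=
  (.node (.node (.node (.node (.node (.leaf 3) (.leaf 0)) (.leaf 0)) (.node (.leaf 0) (.leaf 0))) (.node (.node (.leaf 0) (.leaf 0)) (.node (.leaf 3) (.leaf 3)))) (.node (.node (.node (.node (.leaf 0) (.leaf 3)) (.leaf 0)) (.node (.leaf 3) (.leaf 0))) (.node (.node (.leaf 3) (.leaf 3)) (.node (.leaf 3) (.leaf 3)))))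

def certSKind108 : Janko.Tree (ℕ) :=
  (.node (.node (.node (.node (.node (.leaf 0) (.leaf 3)) (.leaf 0)) (.node (.leaf 0) (.leaf 0))) (.node (.node (.leaf 3) (.leaf 0)) (.node (.leaf 3) (.leaf 3)))) (.node (.node (.node (.node (.leaf 0) (.leaf 3)) (.leaf 0)) (.node (.leaf 0) (.leaf 3))) (.node (.node (.leaf 0) (.leaf 0)) (.node (.leaf 0) (.leaf 3)))))

def certSKind109 : Janko.Tree (ℕ) :=
  (.node (.node (.node (.node (.node (.leaf 3) (.leaf 3)) (.leaf 0)) (.node (.leaf 0) (.leaf 3))) (.node (.node (.leaf 0) (.leaf 3)) (.node (.leaf 0) (.leaf 0)))) (.node (.node (.node (.node (.leaf 0) (.leaf 3)) (.leaf 3)) (.node (.leaf 0) (.leaf 3))) (.node (.node (.leaf 0) (.leaf 0)) (.node (.leaf 3) (.leaf 3)))))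

def certSKind110 : Janko.Tree (ℕ) :=
  (.node (.node (.node (.node (.node (.leaf 0) (.leaf 0)) (.leaf 0)) (.node (.leaf 3) (.leaf 3))) (.node (.node (.leaf 0) (.leaf 3)) (.node (.leaf 0) (.leaf 0)))) (.node (.node (.node (.node (.leaf 0) (.leaf 3)) (.leaf 3)) (.node (.leaf 0) (.leaf 3))) (.node (.node (.leaf 0) (.leaf 0)) (.node (.leaf 3) (.leaf 3)))))

def certSKind111 : Janko.Tree (ℕ) :=
  (.node (.node (.node (.node (.node (.leaf 3) (.leaf 0)) (.leaf 0)) (.node (.leaf 0) (.leaf 3))) (.node (.node (.leaf 0) (.leaf 3)) (.node (.leaf 3) (.leaf 0)))) (.node (.node (.node (.node (.leaf 0) (.leaf 3)) (.leaf 3)) (.node (.leaf 3) (.leaf 3))) (.node (.node (.leaf 3) (.leaf 0)) (.node (.leaf 0) (.leaf 3)))))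

def certSKind112 : Janko.Tree (ℕ) :=
  (.node (.node (.node (.node (.node (.leaf 0) (.leaf 3)) (.leaf 0)) (.node (.leaf 0) (.leaf 0))) (.node (.node (.leaf 0) (.leaf 3)) (.node (.leaf 3) (.leaf 0)))) (.node (.node (.node (.node (.leaf 0) (.leaf 3)) (.leaf 3)) (.node (.leaf 0) (.leaf 3))) (.node (.node (.leaf 0) (.leaf 0)) (.node (.leaf 3) (.leaf 0)))))

def certSKind113 : Janko.Tree (ℕ) :=
  (.node (.node (.node (.node (.node (.leaf 0) (.leaf 3)) (.leaf 0)) (.node (.leaf 0) (.leaf 3))) (.node (.node (.leaf 3) (.leaf 3)) (.node (.leaf 3) (.leaf 0)))) (.node (.node (.node (.node (.leaf 3) (.leaf 3)) (.leaf 3)) (.node (.leaf 0) (.leaf 3))) (.node (.node (.leaf 0) (.leaf 3)) (.node (.leaf 3) (.leaf 3)))))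

def certSKind114 : Janko.Tree (ℕ) :=
  (.node (.node (.node (.node (.node (.leaf 0) (.leaf 3)) (.leaf 0)) (.node (.leaf 0) (.leaf 3))) (.node (.node (.leaf 0) (.leaf 0)) (.node (.leaf 0) (.leaf 3)))) (.node (.node (.node (.node (.leaf 0) (.leaf 3)) (.leaf 3)) (.node (.leaf 0) (.leaf 0))) (.node (.node (.leaf 3) (.leaf 3)) (.node (.leaf 3) (.leaf 0)))))

def certSKind115 : Janko.Tree (ℕ) :=
  (.node (.node (.node (.node (.node (.leaf 0) (.leaf 3)) (.leaf 3)) (.node (.leaf 0) (.leaf 3))) (.node (.node (.leaf 0) (.leaf 0)) (.node (.leaf 0) (.leaf 0)))) (.node (.node (.node (.node (.leaf 0) (.leaf 3)) (.leaf 3)) (.node (.leaf 0) (.leaf 3))) (.node (.node (.leaf 0) (.leaf 3)) (.node (.leaf 0) (.leaf 3)))))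

def certSKind116 : Janko.Tree (ℕ) :=
  (.node (.node (.node (.node (.node (.leaf 0) (.leaf 3)) (.leaf 3)) (.node (.leaf 0) (.leaf 3))) (.node (.node (.leaf 0) (.leaf 3)) (.node (.leaf 3) (.leaf 0)))) (.node (.node (.node (.node (.leaf 3) (.leaf 3)) (.leaf 3)) (.node (.leaf 0) (.leaf 3))) (.node (.node (.leaf 3) (.leaf 0)) (.node (.leaf 0) (.leaf 3)))))

def certSKind117 : Janko.Tree (ℕ) :=
  (.node (.node (.node (.node (.node (.leaf 0) (.leaf 3)) (.leaf 0)) (.node (.leaf 0) (.leaf 0))) (.node (.node (.leaf 0) (.leaf 3)) (.node (.leaf 0) (.leaf 3)))) (.node (.node (.node (.node (.leaf 0) (.leaf 3)) (.leaf 3)) (.node (.leaf 0) (.leaf 3))) (.node (.node (.leaf 3) (.leaf 0)) (.node (.leaf 3) (.leaf 3)))))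

def certSKind118 : Janko.Tree (ℕ) :=
  (.node (.node (.node (.node (.node (.leaf 0) (.leaf 3)) (.leaf 0)) (.node (.leaf 0) (.leaf 3))) (.node (.node (.leaf 0) (.leaf 3)) (.node (.leaf 0) (.leaf 3)))) (.node (.node (.node (.node (.leaf 0) (.leaf 3)) (.leaf 3)) (.node (.leaf 0) (.leaf 0))) (.node (.node (.leaf 0) (.leaf 3)) (.node (.leaf 3) (.leaf 3)))))

def certSKind119 : Janko.Tree (ℕ) :=
  (.node (.node (.node (.node (.node (.leaf 0) (.leaf 3)) (.leaf 0)) (.node (.leaf 0) (.leaf 3))) (.node (.node (.leaf 0) (.leaf 0)) (.node (.leaf 0) (.leaf 3)))) (.node (.node (.node (.node (.leaf 0) (.leaf 3)) (.leaf 3)) (.node (.leaf 3) (.leaf 3))) (.node (.node (.leaf 0) (.leaf 3)) (.node (.leaf 3) (.leaf 3)))))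

def certSKind120 : Janko.Tree (ℕ) :=
  (.node (.node (.node (.node (.node (.leaf 0) (.leaf 3)) (.leaf 3)) (.node (.leaf 3) (.leaf 3))) (.node (.node (.leaf 0) (.leaf 0)) (.node (.leaf 3) (.leaf 0)))) (.node (.node (.node (.node (.leaf 3) (.leaf 3)) (.leaf 0)) (.node (.leaf 0) (.leaf 0))) (.node (.node (.leaf 3) (.leaf 3)) (.node (.leaf 0) (.leaf 3)))))

def certSKind121 : Janko.Tree (ℕ) :=
  (.node (.node (.node (.node (.node (.leaf 0) (.leaf 3)) (.leaf 0)) (.node (.leaf 0) (.leaf 0))) (.node (.node (.leaf 3) (.leaf 0)) (.node (.leaf 0) (.leaf 3)))) (.node (.node (.node (.node (.leaf 0) (.leaf 3)) (.leaf 0)) (.node (.leaf 3) (.leaf 3))) (.node (.node (.leaf 0) (.leaf 3)) (.node (.leaf 0) (.leaf 3)))))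

def certSKind122 : Janko.Tree (ℕ) :=
  (.node (.node (.node (.node (.node (.leaf 3) (.leaf 3)) (.leaf 3)) (.node (.leaf 3) (.leaf 3))) (.node (.node (.leaf 0) (.leaf 3)) (.node (.leaf 0) (.leaf 3)))) (.node (.node (.node (.node (.leaf 0) (.leaf 3)) (.leaf 3)) (.node (.leaf 0) (.leaf 0))) (.node (.node (.leaf 0) (.leaf 3)) (.node (.leaf 3) (.leaf 3)))))

def certSKind123 : Janko.Tree (ℕ) :=
  (.node (.node (.node (.node (.node (.leaf 0) (.leaf 3)) (.leaf 0)) (.node (.leaf 0) (.leaf 3))) (.node (.node (.leaf 3) (.leaf 0)) (.node (.leaf 3) (.leaf 3)))) (.node (.node (.node (.node (.leaf 0) (.leaf 3)) (.leaf 3)) (.node (.leaf 0) (.leaf 0))) (.node (.node (.leaf 0) (.leaf 3)) (.node (.leaf 0) (.leaf 3)))))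

def certSKind124 : Janko.Tree (ℕ) :=
  (.node (.node (.node (.node (.node (.leaf 0) (.leaf 3)) (.leaf 3)) (.node (.leaf 3) (.leaf 3))) (.node (.node (.leaf 3) (.leaf 0)) (.node (.leaf 0) (.leaf 3)))) (.node (.node (.node (.node (.leaf 0) (.leaf 3)) (.leaf 3)) (.node (.leaf 0) (.leaf 3))) (.node (.node (.leaf 0) (.leaf 0)) (.node (.leaf 0) (.leaf 3)))))

def certSKind125 : Janko.Tree (ℕ) :=
  (.node (.node (.node (.node (.node (.leaf 0) (.leaf 3)) (.leaf 3)) (.node (.leaf 0) (.leaf 0))) (.node (.node (.leaf 0) (.leaf 3)) (.node (.leaf 3) (.leaf 0)))) (.node (.node (.node (.node (.leaf 0) (.leaf 3)) (.leaf 3)) (.node (.leaf 3) (.leaf 0))) (.node (.node (.leaf 0) (.leaf 3)) (.node (.leaf 0) (.leaf 3)))))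

def certSKind126 : Janko.Tree (ℕ) :=
  (.node (.node (.node (.node (.node (.leaf 0) (.leaf 3)) (.leaf 0)) (.node (.leaf 3) (.leaf 0))) (.node (.node (.leaf 0) (.leaf 3)) (.node (.leaf 0) (.leaf 3)))) (.node (.node (.node (.node (.leaf 0) (.leaf 3)) (.leaf 0)) (.node (.leaf 0) (.leaf 0))) (.node (.node (.leaf 3) (.leaf 0)) (.node (.leaf 0) (.leaf 3)))))

def certSKind127 : Janko.Tree (ℕ) :=
  (.node (.node (.node (.node (.node (.leaf 0) (.leaf 3)) (.leaf 0)) (.node (.leaf 0) (.leaf 3))) (.node (.node (.leaf 0) (.leaf 3)) (.node (.leaf 0) (.leaf 3)))) (.node (.node (.node (.node (.leaf 3) (.leaf 3)) (.leaf 3)) (.node (.leaf 0) (.leaf 3))) (.node (.node (.leaf 0) (.leaf 0)) (.node (.leaf 0) (.leaf 0)))))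

def certSKind128 : Janko.Tree (ℕ) :=
  (.node (.node (.node (.node (.node (.leaf 0) (.leaf 3)) (.leaf 0)) (.node (.leaf 0) (.leaf 3))) (.node (.node (.leaf 0) (.leaf 3)) (.node (.leaf 0) (.leaf 3)))) (.node (.node (.node (.node (.leaf 0) (.leaf 1)) (.leaf 0)) (.node (.leaf 0) (.leaf 0))) (.node (.node (.leaf 3) (.leaf 3)) (.node (.leaf 3) (.leaf 3)))))

def certSKind129 : Janko.Tree (ℕ) :=
  (.node (.node (.node (.node (.node (.leaf 0) (.leaf 3)) (.leaf 0)) (.node (.leaf 0) (.leaf 0))) (.node (.node (.leaf 0) (.leaf 0)) (.node (.leaf 3) (.leaf 3)))) (.node (.node (.node (.node (.leaf 0) (.leaf 1)) (.leaf 0)) (.node (.leaf 0) (.leaf 0))) (.node (.node (.leaf 0) (.leaf 3)) (.node (.leaf 0) (.leaf 0)))))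

def certSKind130 : Janko.Tree (ℕ) :=
  (.node (.node (.node (.node (.node (.leaf 0) (.leaf 3)) (.leaf 0)) (.node (.leaf 3) (.leaf 3))) (.node (.node (.leaf 3) (.leaf 3)) (.node (.leaf 0) (.leaf 3)))) (.node (.node (.node (.node (.leaf 0) (.leaf 3)) (.leaf 3)) (.node (.leaf 3) (.leaf 0))) (.node (.node (.leaf 3) (.leaf 3)) (.node (.leaf 0) (.leaf 3)))))

def certSKind131 : Janko.Tree (ℕ) :=
  (.node (.node (.node (.node (.node (.leaf 0) (.leaf 3)) (.leaf 3)) (.node (.leaf 0) (.leaf 3))) (.node (.node (.leaf 0) (.leaf 3)) (.node (.leaf 0) (.leaf 3)))) (.node (.node (.node (.node (.leaf 0) (.leaf 3)) (.leaf 0)) (.node (.leaf 0) (.leaf 0))) (.node (.node (.leaf 0) (.leaf 0)) (.node (.leaf 0) (.leaf 3)))))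

def certSKind132 : Janko.Tree (ℕ) :=
  (.node (.node (.node (.node (.node (.leaf 0) (.leaf 0)) (.leaf 3)) (.node (.leaf 0) (.leaf 3))) (.node (.node (.leaf 3) (.leaf 0)) (.node (.leaf 0) (.leaf 3)))) (.node (.node (.node (.node (.leaf 0) (.leaf 3)) (.leaf 3)) (.node (.leaf 3) (.leaf 0))) (.node (.node (.leaf 0) (.leaf 3)) (.node (.leaf 0) (.leaf 3)))))

def certSKind133 : Janko.Tree (ℕ) :=
  (.node (.node (.node (.node (.node (.leaf 0) (.leaf 3)) (.leaf 0)) (.node (.leaf 0) (.leaf 3))) (.node (.node (.leaf 3) (.leaf 3)) (.node (.leaf 3) (.leaf 3)))) (.node (.node (.node (.node (.leaf 0) (.leaf 3)) (.leaf 3)) (.node (.leaf 0) (.leaf 3))) (.node (.node (.leaf 0) (.leaf 0)) (.node (.leaf 3) (.leaf 3)))))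

def certSKind134 : Janko.Tree (ℕ) :=
  (.node (.node (.node (.node (.node (.leaf 3) (.leaf 3)) (.leaf 0)) (.node (.leaf 0) (.leaf 3))) (.node (.node (.leaf 0) (.leaf 3)) (.node (.leaf 0) (.leaf 3)))) (.node (.node (.node (.node (.leaf 0) (.leaf 3)) (.leaf 3)) (.node (.leaf 3) (.leaf 0))) (.node (.node (.leaf 3) (.leaf 3)) (.node (.leaf 0) (.leaf 0)))))

def certSKind135 : Janko.Tree (ℕ) :=
  (.node (.node (.node (.node (.node (.leaf 0) (.leaf 3)) (.leaf 3)) (.node (.leaf 0) (.leaf 3))) (.node (.node (.leaf 0) (.leaf 0)) (.node (.leaf 0) (.leaf 3)))) (.node (.node (.node (.node (.leaf 0) (.leaf 3)) (.leaf 0)) (.node (.leaf 0) (.leaf 3))) (.node (.node (.leaf 0) (.leaf 0)) (.node (.leaf 0) (.leaf 3)))))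

def certSKind136 : Janko.Tree (ℕ) :=
  (.node (.node (.node (.node (.node (.leaf 0) (.leaf 3)) (.leaf 3)) (.node (.leaf 0) (.leaf 3))) (.node (.node (.leaf 0) (.leaf 3)) (.node (.leaf 3) (.leaf 3)))) (.node (.node (.node (.node (.leaf 0) (.leaf 3)) (.leaf 3)) (.node (.leaf 0) (.leaf 3))) (.node (.node (.leaf 2) (.leaf 0)) (.node (.leaf 3) (.leaf 3)))))

def certSKind137 : Janko.Tree (ℕ) :=
  (.node (.node (.node (.node (.node (.leaf 0) (.leaf 3)) (.leaf 0)) (.node (.leaf 0) (.leaf 3))) (.node (.node (.leaf 0) (.leaf 3)) (.node (.leaf 3) (.leaf 3)))) (.node (.node (.node (.node (.leaf 3) (.leaf 3)) (.leaf 0)) (.node (.leaf 3) (.leaf 3))) (.node (.node (.leaf 0) (.leaf 3)) (.node (.leaf 0) (.leaf 3)))))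

def certSKind138 : Janko.Tree (ℕ) :=
  (.node (.node (.node (.node (.node (.leaf 0) (.leaf 3)) (.leaf 3)) (.node (.leaf 3) (.leaf 0))) (.node (.node (.leaf 0) (.leaf 0)) (.node (.leaf 3) (.leaf 0)))) (.node (.node (.node (.node (.leaf 3) (.leaf 3)) (.leaf 0)) (.node (.leaf 0) (.leaf 0))) (.node (.node (.leaf 0) (.leaf 0)) (.node (.leaf 0) (.leaf 0)))))

def certSKind139 : Janko.Tree (ℕ) :=
  (.node (.node (.node (.node (.node (.leaf 0) (.leaf 0)) (.leaf 0)) (.node (.leaf 3) (.leaf 3))) (.node (.node (.leaf 3) (.leaf 0)) (.node (.leaf 3) (.leaf 3)))) (.node (.node (.node (.node (.leaf 0) (.leaf 3)) (.leaf 3)) (.node (.leaf 0) (.leaf 3))) (.node (.node (.leaf 3) (.leaf 0)) (.node (.leaf 0) (.leaf 3)))))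

def certSKind140 : Janko.Tree (ℕ) :=
  (.node (.node (.node (.node (.node (.leaf 3) (.leaf 3)) (.leaf 3)) (.node (.leaf 3) (.leaf 3))) (.node (.node (.leaf 0) (.leaf 0)) (.node (.leaf 3) (.leaf 3)))) (.node (.node (.node (.node (.leaf 0) (.leaf 3)) (.leaf 0)) (.node (.leaf 0) (.leaf 3))) (.node (.node (.leaf 0) (.leaf 0)) (.node (.leaf 3) (.leaf 3)))))

def certSKind141 : Janko.Tree (ℕ) :=
  (.node (.node (.node (.node (.node (.leaf 0) (.leaf 0)) (.leaf 0)) (.node (.leaf 3) (.leaf 3))) (.node (.node (.leaf 0) (.leaf 3)) (.node (.leaf 3) (.leaf 3)))) (.node (.node (.node (.node (.leaf 0) (.leaf 3)) (.leaf 3)) (.node (.leaf 3) (.leaf 3))) (.node (.node (.leaf 3) (.leaf 3)) (.node (.leaf 3) (.leaf 3)))))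

def certSKind142 : Janko.Tree (ℕ) :=
  (.node (.node (.node (.node (.node (.leaf 0) (.leaf 3)) (.leaf 0)) (.node (.leaf 3) (.leaf 0))) (.node (.node (.leaf 0) (.leaf 3)) (.node (.leaf 0) (.leaf 3)))) (.node (.node (.node (.node (.leaf 0) (.leaf 3)) (.leaf 0)) (.node (.leaf 0) (.leaf 3))) (.node (.node (.leaf 0) (.leaf 0)) (.node (.leaf 3) (.leaf 3)))))

def certSKind143 : Janko.Tree (ℕ) :=
  (.node (.node (.node (.node (.node (.leaf 3) (.leaf 3)) (.leaf 0)) (.node (.leaf 0) (.leaf 3))) (.node (.node (.leaf 0) (.leaf 3)) (.node (.leaf 0) (.leaf 3)))) (.node (.node (.node (.node (.leaf 3) (.leaf 3)) (.leaf 3)) (.node (.leaf 3) (.leaf 3))) (.node (.node (.leaf 0) (.leaf 3)) (.node (.leaf 3) (.leaf 3)))))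

def certSKind144 : Janko.Tree (ℕ) :=
  (.node (.node (.node (.node (.node (.leaf 0) (.leaf 3)) (.leaf 3)) (.node (.leaf 0) (.leaf 3))) (.node (.node (.leaf 0) (.leaf 3)) (.node (.leaf 0) (.leaf 3)))) (.node (.node (.node (.node (.leaf 0) (.leaf 3)) (.leaf 3)) (.node (.leaf 3) (.leaf 3))) (.node (.node (.leaf 0) (.leaf 3)) (.node (.leaf 0) (.leaf 3)))))

def certSKind145 : Janko.Tree (ℕ) :=
  (.node (.node (.node (.node (.node (.leaf 0) (.leaf 3)) (.leaf 0)) (.node (.leaf 3) (.leaf 3))) (.node (.node (.leaf 3) (.leaf 3)) (.node (.leaf 3) (.leaf 3)))) (.node (.node (.node (.node (.leaf 3) (.leaf 3)) (.leaf 3)) (.node (.leaf 0) (.leaf 0))) (.node (.node (.leaf 0) (.leaf 3)) (.node (.leaf 3) (.leaf 3)))))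

def certSKind146 : Janko.Tree (ℕ) :=
  (.node (.node (.node (.node (.node (.leaf 0) (.leaf 0)) (.leaf 0)) (.node (.leaf 3) (.leaf 3))) (.node (.node (.leaf 3) (.leaf 3)) (.node (.leaf 3) (.leaf 0)))) (.node (.node (.node (.node (.leaf 3) (.leaf 3)) (.leaf 0)) (.node (.leaf 3) (.leaf 0))) (.node (.node (.leaf 0) (.leaf 3)) (.node (.leaf 3) (.leaf 3)))))

def certSKind147 : Janko.Tree (ℕ) :=
  (.node (.node (.node (.node (.node (.leaf 0) (.leaf 3)) (.leaf 3)) (.node (.leaf 3) (.leaf 3))) (.node (.node (.leaf 3) (.leaf 3)) (.node (.leaf 3) (.leaf 3)))) (.node (.node (.node (.node (.leaf 0) (.leaf 3)) (.leaf 3)) (.node (.leaf 0) (.leaf 3))) (.node (.node (.leaf 3) (.leaf 3)) (.node (.leaf 0) (.leaf 3)))))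

def certSKind148 : Janko.Tree (ℕ) :=
  (.node (.node (.node (.node (.node (.leaf 0) (.leaf 0)) (.leaf 3)) (.node (.leaf 3) (.leaf 0))) (.node (.node (.leaf 0) (.leaf 3)) (.node (.leaf 0) (.leaf 3)))) (.node (.node (.node (.node (.leaf 0) (.leaf 3)) (.leaf 3)) (.node (.leaf 3) (.leaf 3))) (.node (.node (.leaf 0) (.leaf 3)) (.node (.leaf 3) (.leaf 3)))))

def certSKind149 : Janko.Tree (ℕ) :=
  (.node (.node (.node (.node (.node (.leaf 0) (.leaf 3)) (.leaf 0)) (.node (.leaf 3) (.leaf 3))) (.node (.node (.leaf 0) (.leaf 3)) (.node (.leaf 0) (.leaf 3)))) (.node (.node (.node (.node (.leaf 0) (.leaf 3)) (.leaf 0)) (.node (.leaf 0) (.leaf 3))) (.node (.node (.leaf 0) (.leaf 3)) (.node (.leaf 3) (.leaf 3)))))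

def certSKind150 : Janko.Tree (ℕ) :=
  (.node (.node (.node (.node (.node (.leaf 0) (.leaf 3)) (.leaf 0)) (.node (.leaf 3) (.leaf 0))) (.node (.node (.leaf 0) (.leaf 0)) (.node (.leaf 3) (.leaf 3)))) (.node (.node (.node (.node (.leaf 3) (.leaf 3)) (.leaf 3)) (.node (.leaf 0) (.leaf 3))) (.node (.node (.leaf 0) (.leaf 3)) (.node (.leaf 3) (.leaf 3)))))

def certSKind151 : Janko.Tree (ℕ) :=
  (.node (.node (.node (.node (.node (.leaf 0) (.leaf 3)) (.leaf 3)) (.node (.leaf 0) (.leaf 3))) (.node (.node (.leaf 3) (.leaf 0)) (.node (.leaf 3) (.leaf 3)))) (.node (.node (.node (.node (.leaf 0) (.leaf 3)) (.leaf 3)) (.node (.leaf 0) (.leaf 0))) (.node (.node (.leaf 0) (.leaf 0)) (.node (.leaf 0) (.leaf 0)))))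

def certSKind152 : Janko.Tree (ℕ) :=
  (.node (.node (.node (.node (.node (.leaf 0) (.leaf 3)) (.leaf 0)) (.node (.leaf 0) (.leaf 3))) (.node (.node (.leaf 0) (.leaf 3)) (.node (.leaf 0) (.leaf 3)))) (.node (.node (.node (.node (.leaf 0) (.leaf 3)) (.leaf 0)) (.node (.leaf 3) (.leaf 3))) (.node (.node (.leaf 3) (.leaf 0)) (.node (.leaf 0) (.leaf 3)))))

def certSKind153 : Janko.Tree (ℕ) :=
  (.node (.node (.node (.node (.node (.leaf 0) (.leaf 3)) (.leaf 0)) (.node (.leaf 0) (.leaf 0))) (.node (.node (.leaf 0) (.leaf 0)) (.node (.leaf 3) (.leaf 3)))) (.node (.node (.node (.node (.leaf 0) (.leaf 3)) (.leaf 3)) (.node (.leaf 0) (.leaf 3))) (.node (.node (.leaf 0) (.leaf 3)) (.node (.leaf 0) (.leaf 0)))))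

def certSKind154 : Janko.Tree (ℕ) :=
  (.node (.node (.node (.node (.node (.leaf 0) (.leaf 3)) (.leaf 0)) (.node (.leaf 0) (.leaf 3))) (.node (.node (.leaf 0) (.leaf 0)) (.node (.leaf 3) (.leaf 0)))) (.node (.node (.node (.node (.leaf 0) (.leaf 3)) (.leaf 3)) (.node (.leaf 3) (.leaf 3))) (.node (.node (.leaf 3) (.leaf 3)) (.node (.leaf 3) (.leaf 3)))))

def certSKind155 : Janko.Tree (ℕ) :=
  (.node (.node (.node (.node (.node (.leaf 0) (.leaf 3)) (.leaf 0)) (.node (.leaf 3) (.leaf 3))) (.node (.node (.leaf 0) (.leaf 0)) (.node (.leaf 0) (.leaf 0)))) (.node (.node (.node (.node (.leaf 3) (.leaf 3)) (.leaf 0)) (.node (.leaf 0) (.leaf 0))) (.node (.node (.leaf 0) (.leaf 3)) (.node (.leaf 3) (.leaf 3)))))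

def certSKind156 : Janko.Tree (ℕ) :=
  (.node (.node (.node (.node (.node (.leaf 0) (.leaf 3)) (.leaf 0)) (.node (.leaf 3) (.leaf 0))) (.node (.node (.leaf 0) (.leaf 3)) (.node (.leaf 0) (.leaf 3)))) (.node (.node (.node (.node (.leaf 0) (.leaf 3)) (.leaf 0)) (.node (.leaf 3) (.leaf 3))) (.node (.node (.leaf 3) (.leaf 0)) (.node (.leaf 0) (.leaf 3)))))

def certSKind157 : Janko.Tree (ℕ) :=
  (.node (.node (.node (.node (.node (.leaf 0) (.leaf 3)) (.leaf 3)) (.node (.leaf 0) (.leaf 3))) (.node (.node (.leaf 0) (.leaf 3)) (.node (.leaf 3) (.leaf 0)))) (.node (.node (.node (.node (.leaf 0) (.leaf 3)) (.leaf 3)) (.node (.leaf 0) (.leaf 3))) (.node (.node (.leaf 0) (.leaf 3)) (.node (.leaf 3) (.leaf 3)))))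

def certSKind158 : Janko.Tree (ℕ) :=
  (.node (.node (.node (.node (.node (.leaf 0) (.leaf 3)) (.leaf 3)) (.node (.leaf 0) (.leaf 3))) (.node (.node (.leaf 0) (.leaf 3)) (.node (.leaf 3) (.leaf 3)))) (.node (.node (.node (.node (.leaf 0) (.leaf 3)) (.leaf 3)) (.node (.leaf 0) (.leaf 3))) (.node (.node (.leaf 3) (.leaf 3)) (.node (.leaf 3) (.leaf 3)))))

def certSKind159 : Janko.Tree (ℕ) :=
  (.node (.node (.node (.node (.node (.leaf 0) (.leaf 3)) (.leaf 3)) (.node (.leaf 0) (.leaf 3))) (.node (.node (.leaf 0) (.leaf 0)) (.node (.leaf 0) (.leaf 3)))) (.node (.node (.node (.node (.leaf 3) (.leaf 3)) (.leaf 3)) (.node (.leaf 0) (.leaf 3))) (.node (.node (.leaf 0) (.leaf 3)) (.node (.leaf 3) (.leaf 3)))))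

def certSKind160 : Janko.Tree (ℕ) :=
  (.node (.node (.node (.node (.node (.leaf 0) (.leaf 3)) (.leaf 3)) (.node (.leaf 0) (.leaf 0))) (.node (.node (.leaf 0) (.leaf 3)) (.node (.leaf 0) (.leaf 0)))) (.node (.node (.node (.node (.leaf 0) (.leaf 3)) (.leaf 0)) (.node (.leaf 3) (.leaf 0))) (.node (.node (.leaf 0) (.leaf 0)) (.node (.leaf 3) (.leaf 0)))))

def certSKind161 : Janko.Tree (ℕ) :=
  (.node (.node (.node (.node (.node (.leaf 0) (.leaf 3)) (.leaf 3)) (.node (.leaf 3) (.leaf 0))) (.node (.node (.leaf 0) (.leaf 0)) (.node (.leaf 3) (.leaf 3)))) (.node (.node (.node (.node (.leaf 0) (.leaf 3)) (.leaf 3)) (.node (.leaf 0) (.leaf 3))) (.node (.node (.leaf 0) (.leaf 3)) (.node (.leaf 0) (.leaf 3)))))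

def certSKind162 : Janko.Tree (ℕ) :=
  (.node (.node (.node (.node (.node (.leaf 0) (.leaf 3)) (.leaf 3)) (.node (.leaf 0) (.leaf 3))) (.node (.node (.leaf 3) (.leaf 3)) (.node (.leaf 0) (.leaf 3)))) (.node (.node (.node (.leaf 3) (.leaf 0)) (.node (.leaf 0) (.leaf 3))) (.node (.node (.leaf 3) (.leaf 0)) (.node (.leaf 3) (.leaf 3)))))

def certSKind163 : Janko.Tree (ℕ) :=
  (.node (.node (.node (.node (.node (.leaf 3) (.leaf 3)) (.leaf 3)) (.node (.leaf 0) (.leaf 3))) (.node (.node (.leaf 0) (.leaf 3)) (.node (.leaf 0) (.leaf 3)))) (.node (.node (.node (.leaf 3) (.leaf 0)) (.node (.leaf 0) (.leaf 3))) (.node (.node (.leaf 0) (.leaf 0)) (.node (.leaf 3) (.leaf 3)))))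

def certSKind164 : Janko.Tree (ℕ) :=
  (.node (.node (.node (.node (.node (.leaf 0) (.leaf 3)) (.leaf 3)) (.node (.leaf 0) (.leaf 3))) (.node (.node (.leaf 0) (.leaf 3)) (.node (.leaf 3) (.leaf 0)))) (.node (.node (.node (.leaf 0) (.leaf 0)) (.node (.leaf 0) (.leaf 3))) (.node (.node (.leaf 0) (.leaf 0)) (.node (.leaf 0) (.leaf 3)))))

def certSKind165 : Janko.Tree (ℕ) :=
  (.node (.node (.node (.node (.node (.leaf 3) (.leaf 3)) (.leaf 0)) (.node (.leaf 3) (.leaf 0))) (.node (.node (.leaf 0) (.leaf 0)) (.node (.leaf 0) (.leaf 3)))) (.node (.node (.node (.leaf 0) (.leaf 3)) (.node (.leaf 0) (.leaf 3))) (.node (.node (.leaf 0) (.leaf 0)) (.node (.leaf 3) (.leaf 3)))))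

def certSKind166 : Janko.Tree (ℕ) :=
  (.node (.node (.node (.node (.node (.leaf 0) (.leaf 3)) (.leaf 3)) (.node (.leaf 0) (.leaf 0))) (.node (.node (.leaf 3) (.leaf 3)) (.node (.leaf 3) (.leaf 3)))) (.node (.node (.node (.leaf 0) (.leaf 3)) (.node (.leaf 0) (.leaf 3))) (.node (.node (.leaf 0) (.leaf 3)) (.node (.leaf 0) (.leaf 0)))))

def certSKind167 : Janko.Tree (ℕ) :=
  (.node (.node (.node (.node (.node (.leaf 0) (.leaf 3)) (.leaf 3)) (.node (.leaf 0) (.leaf 3))) (.node (.node (.leaf 0) (.leaf 3)) (.node (.leaf 0) (.leaf 3)))) (.node (.node (.node (.leaf 3) (.leaf 3)) (.node (.leaf 0) (.leaf 0))) (.node (.node (.leaf 0) (.leaf 3)) (.node (.leaf 3) (.leaf 3)))))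

def certSKind168 : Janko.Tree (ℕ) :=
  (.node (.node (.node (.node (.node (.leaf 0) (.leaf 3)) (.leaf 3)) (.node (.leaf 0) (.leaf 3))) (.node (.node (.leaf 3) (.leaf 0)) (.node (.leaf 3) (.leaf 0)))) (.node (.node (.node (.leaf 0) (.leaf 3)) (.node (.leaf 0) (.leaf 3))) (.node (.node (.leaf 0) (.leaf 3)) (.node (.leaf 0) (.leaf 3)))))

def certSKind169 : Janko.Tree (ℕ) :=
  (.node (.node (.node (.node (.node (.leaf 0) (.leaf 3)) (.leaf 3)) (.node (.leaf 3) (.leaf 3))) (.node (.node (.leaf 0) (.leaf 3)) (.node (.leaf 0) (.leaf 3)))) (.node (.node (.node (.leaf 0) (.leaf 0)) (.node (.leaf 3) (.leaf 3))) (.node (.node (.leaf 0) (.leaf 3)) (.node (.leaf 3) (.leaf 3)))))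

def certSKind170 : Janko.Tree (ℕ) :=
  (.node (.node (.node (.node (.node (.leaf 0) (.leaf 3)) (.leaf 0)) (.node (.leaf 0) (.leaf 0))) (.node (.node (.leaf 0) (.leaf 3)) (.node (.leaf 0) (.leaf 0)))) (.node (.node (.node (.leaf 0) (.leaf 3)) (.node (.leaf 3) (.leaf 3))) (.node (.node (.leaf 0) (.leaf 3)) (.node (.leaf 0) (.leaf 3)))))

def certSKind171 : Janko.Tree (ℕ) :=
  (.node (.node (.node (.node (.node (.leaf 0) (.leaf 3)) (.leaf 3)) (.node (.leaf 0) (.leaf 3))) (.node (.node (.leaf 0) (.leaf 0)) (.node (.leaf 0) (.leaf 3)))) (.node (.node (.node (.leaf 0) (.leaf 0)) (.node (.leaf 3) (.leaf 3))) (.node (.node (.leaf 0) (.leaf 0)) (.node (.leaf 3) (.leaf 3)))))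

def certSKind172 : Janko.Tree (ℕ) :=
  (.node (.node (.node (.node (.node (.leaf 0) (.leaf 3)) (.leaf 0)) (.node (.leaf 0) (.leaf 3))) (.node (.node (.leaf 0) (.leaf 3)) (.node (.leaf 3) (.leaf 3)))) (.node (.node (.node (.leaf 0) (.leaf 0)) (.node (.leaf 3) (.leaf 3))) (.node (.node (.leaf 0) (.leaf 3)) (.node (.leaf 0) (.leaf 0)))))

def certSKind173 : Janko.Tree (ℕ) :=
  (.node (.node (.node (.node (.node (.leaf 0) (.leaf 3)) (.leaf 0)) (.node (.leaf 0) (.leaf 3))) (.node (.node (.leaf 0) (.leaf 0)) (.node (.leaf 0) (.leaf 3)))) (.node (.node (.node (.leaf 0) (.leaf 3)) (.node (.leaf 0) (.leaf 0))) (.node (.node (.leaf 0) (.leaf 3)) (.node (.leaf 3) (.leaf 3)))))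

def certSKind174 : Janko.Tree (ℕ) :=
  (.node (.node (.node (.node (.node (.leaf 0) (.leaf 3)) (.leaf 3)) (.node (.leaf 0) (.leaf 3))) (.node (.node (.leaf 0) (.leaf 0)) (.node (.leaf 0) (.leaf 0)))) (.node (.node (.node (.leaf 0) (.leaf 0)) (.node (.leaf 0) (.leaf 3))) (.node (.node (.leaf 0) (.leaf 0)) (.node (.leaf 3) (.leaf 3)))))

def certSKind175 : Janko.Tree (ℕ) :=
  (.node (.node (.node (.node (.node (.leaf 0) (.leaf 3)) (.leaf 0)) (.node (.leaf 3) (.leaf 3))) (.node (.node (.leaf 0) (.leaf 3)) (.node (.leaf 0) (.leaf 3)))) (.node (.node (.node (.leaf 0) (.leaf 3)) (.node (.leaf 0) (.leaf 0))) (.node (.node (.leaf 3) (.leaf 3)) (.node (.leaf 0) (.leaf 3)))))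

def certSKind176 : Janko.Tree (ℕ) :=
  (.node (.node (.node (.node (.node (.leaf 0) (.leaf 0)) (.leaf 0)) (.node (.leaf 0) (.leaf 3))) (.node (.node (.leaf 0) (.leaf 3)) (.node (.leaf 0) (.leaf 0)))) (.node (.node (.node (.leaf 0) (.leaf 3)) (.node (.leaf 0) (.leaf 0))) (.node (.node (.leaf 0) (.leaf 0)) (.node (.leaf 3) (.leaf 3)))))

def certSKind177 : Janko.Tree (ℕ) :=
  (.node (.node (.node (.node (.node (.leaf 0) (.leaf 3)) (.leaf 3)) (.node (.leaf 3) (.leaf 3))) (.node (.node (.leaf 0) (.leaf 3)) (.node (.leaf 0) (.leaf 0)))) (.node (.node (.node (.leaf 0) (.leaf 0)) (.node (.leaf 0) (.leaf 0))) (.node (.node (.leaf 3) (.leaf 3)) (.node (.leaf 3) (.leaf 3)))))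

def certSKind178 : Janko.Tree (ℕ) :=
  (.node (.node (.node (.node (.node (.leaf 0) (.leaf 0)) (.leaf 3)) (.node (.leaf 0) (.leaf 3))) (.node (.node (.leaf 0) (.leaf 3)) (.node (.leaf 0) (.leaf 3)))) (.node (.node (.node (.leaf 0) (.leaf 3)) (.node (.leaf 0) (.leaf 0))) (.node (.node (.leaf 3) (.leaf 3)) (.node (.leaf 3) (.leaf 3)))))

def certSKind179 : Janko.Tree (ℕ) :=
  (.node (.node (.node (.node (.node (.leaf 0) (.leaf 3)) (.leaf 0)) (.node (.leaf 3) (.leaf 3))) (.node (.node (.leaf 0) (.leaf 3)) (.node (.leaf 0) (.leaf 3)))) (.node (.node (.node (.leaf 0) (.leaf 0)) (.node (.leaf 0) (.leaf 0))) (.node (.node (.leaf 3) (.leaf 0)) (.node (.leaf 0) (.leaf 3)))))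

def certSKind180 : Janko.Tree (ℕ) :=
  (.node (.node (.node (.node (.node (.leaf 0) (.leaf 3)) (.leaf 3)) (.node (.leaf 0) (.leaf 3))) (.node (.node (.leaf 0) (.leaf 0)) (.node (.leaf 0) (.leaf 3)))) (.node (.node (.node (.leaf 0) (.leaf 0)) (.node (.leaf 3) (.leaf 3))) (.node (.node (.leaf 3) (.leaf 0)) (.node (.leaf 3) (.leaf 3)))))

def certSKind181 : Janko.Tree (ℕ) :=
  (.node (.node (.node (.node (.node (.leaf 0) (.leaf 3)) (.leaf 0)) (.node (.leaf 3) (.leaf 3))) (.node (.node (.leaf 0) (.leaf 3)) (.node (.leaf 3) (.leaf 3)))) (.node (.node (.node (.leaf 0) (.leaf 0)) (.node (.leaf 0) (.leaf 3))) (.node (.node (.leaf 3) (.leaf 3)) (.node (.leaf 0) (.leaf 3)))))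

def certSKind182 : Janko.Tree (ℕ) :=
  (.node (.node (.node (.node (.node (.leaf 0) (.leaf 0)) (.leaf 3)) (.node (.leaf 0) (.leaf 0))) (.node (.node (.leaf 0) (.leaf 0)) (.node (.leaf 3) (.leaf 0)))) (.node (.node (.node (.leaf 0) (.leaf 3)) (.node (.leaf 3) (.leaf 3))) (.node (.node (.leaf 0) (.leaf 3)) (.node (.leaf 0) (.leaf 3)))))

def certSKind183 : Janko.Tree (ℕ) :=
  (.node (.node (.node (.node (.node (.leaf 0) (.leaf 3)) (.leaf 0)) (.node (.leaf 3) (.leaf 3))) (.node (.node (.leaf 0) (.leaf 0)) (.node (.leaf 0) (.leaf 3)))) (.node (.node (.node (.leaf 3) (.leaf 3)) (.node (.leaf 0) (.leaf 3))) (.node (.node (.leaf 0) (.leaf 3)) (.node (.leaf 3) (.leaf 0)))))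

def certSKind184 : Janko.Tree (ℕ) :=
  (.node (.node (.node (.node (.node (.leaf 0) (.leaf 3)) (.leaf 0)) (.node (.leaf 3) (.leaf 3))) (.node (.node (.leaf 0) (.leaf 3)) (.node (.leaf 3) (.leaf 3)))) (.node (.node (.node (.leaf 0) (.leaf 0)) (.node (.leaf 3) (.leaf 3))) (.node (.node (.leaf 0) (.leaf 3)) (.node (.leaf 0) (.leaf 0)))))

def certSKind185 : Janko.Tree (ℕ) :=
  (.node (.node (.node (.node (.node (.leaf 0) (.leaf 0)) (.leaf 0)) (.node (.leaf 3) (.leaf 3))) (.node (.node (.leaf 3) (.leaf 3)) (.node (.leaf 0) (.leaf 3)))) (.node (.node (.node (.leaf 3) (.leaf 0)) (.node (.leaf 0) (.leaf 3))) (.node (.node (.leaf 0) (.leaf 0)) (.node (.leaf 3) (.leaf 3)))))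

def certSKind186 : Janko.Tree (ℕ) :=
  (.node (.node (.node (.node (.node (.leaf 3) (.leaf 3)) (.leaf 3)) (.node (.leaf 3) (.leaf 3))) (.node (.node (.leaf 3) (.leaf 3)) (.node (.leaf 0) (.leaf 0)))) (.node (.node (.node (.leaf 0) (.leaf 0)) (.node (.leaf 3) (.leaf 3))) (.node (.node (.leaf 0) (.leaf 3)) (.node (.leaf 3) (.leaf 3)))))

def certSKind187 : Janko.Tree (ℕ) :=
  (.node (.node (.node (.node (.node (.leaf 0) (.leaf 3)) (.leaf 3)) (.node (.leaf 0) (.leaf 0))) (.node (.node (.leaf 0) (.leaf 0)) (.node (.leaf 0) (.leaf 3)))) (.node (.node (.node (.leaf 0) (.leaf 3)) (.node (.leaf 0) (.leaf 3))) (.node (.node (.leaf 0) (.leaf 3)) (.node (.leaf 3) (.leaf 3)))))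

def certSKind188 : Janko.Tree (ℕ) :=
  (.node (.node (.node (.node (.node (.leaf 3) (.leaf 3)) (.leaf 3)) (.node (.leaf 3) (.leaf 3))) (.node (.node (.leaf 0) (.leaf 3)) (.node (.leaf 3) (.leaf 3)))) (.node (.node (.node (.leaf 0) (.leaf 3)) (.node (.leaf 0) (.leaf 3))) (.node (.node (.leaf 0) (.leaf 0)) (.node (.leaf 3) (.leaf 3)))))

def certSKind189 : Janko.Tree (ℕ) :=
  (.node (.node (.node (.node (.node (.leaf 0) (.leaf 3)) (.leaf 0)) (.node (.leaf 3) (.leaf 3))) (.node (.node (.leaf 3) (.leaf 3)) (.node (.leaf 0) (.leaf 3)))) (.node (.node (.node (.leaf 3) (.leaf 3)) (.node (.leaf 3) (.leaf 0))) (.node (.node (.leaf 0) (.leaf 3)) (.node (.leaf 0) (.leaf 3)))))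

def certSKind190 : Janko.Tree (ℕ) :=
  (.node (.node (.node (.node (.node (.leaf 0) (.leaf 3)) (.leaf 0)) (.node (.leaf 0) (.leaf 0))) (.node (.node (.leaf 0) (.leaf 3)) (.node (.leaf 0) (.leaf 3)))) (.node (.node (.node (.leaf 0) (.leaf 3)) (.node (.leaf 0) (.leaf 0))) (.node (.node (.leaf 0) (.leaf 3)) (.node (.leaf 3) (.leaf 3)))))

def certSKind191 : Janko.Tree (ℕ) :=
  (.node (.node (.node (.node (.node (.leaf 0) (.leaf 3)) (.leaf 0)) (.node (.leaf 3) (.leaf 0))) (.node (.node (.leaf 0) (.leaf 3)) (.node (.leaf 0) (.leaf 3)))) (.node (.node (.node (.leaf 0) (.leaf 0)) (.node (.leaf 3) (.leaf 3))) (.node (.node (.leaf 3) (.leaf 3)) (.node (.leaf 0) (.leaf 3)))))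

def certSKind192 : Janko.Tree (ℕ) :=
  (.node (.node (.node (.node (.node (.leaf 2) (.leaf 3)) (.leaf 0)) (.node (.leaf 3) (.leaf 3))) (.node (.node (.leaf 0) (.leaf 3)) (.node (.leaf 3) (.leaf 3)))) (.node (.node (.node (.leaf 0) (.leaf 0)) (.node (.leaf 3) (.leaf 3))) (.node (.node (.leaf 3) (.leaf 3)) (.node (.leaf 0) (.leaf 0)))))

def certSKind193 : Janko.Tree (ℕ) :=
  (.node (.node (.node (.node (.node (.leaf 3) (.leaf 3)) (.leaf 3)) (.node (.leaf 3) (.leaf 3))) (.node (.node (.leaf 3) (.leaf 0)) (.node (.leaf 0) (.leaf 3)))) (.node (.node (.node (.leaf 0) (.leaf 3)) (.node (.leaf 0) (.leaf 0))) (.node (.node (.leaf 0) (.leaf 0)) (.node (.leaf 3) (.leaf 3)))))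

def certSKind194 : Janko.Tree (ℕ) :=
  (.node (.node (.node (.node (.node (.leaf 3) (.leaf 3)) (.leaf 3)) (.node (.leaf 3) (.leaf 0))) (.node (.node (.leaf 3) (.leaf 0)) (.node (.leaf 3) (.leaf 3)))) (.node (.node (.node (.leaf 0) (.leaf 0)) (.node (.leaf 0) (.leaf 0))) (.node (.node (.leaf 3) (.leaf 3)) (.node (.leaf 0) (.leaf 3)))))

def certSKind195 : Janko.Tree (ℕ) :=
  (.node (.node (.node (.node (.node (.leaf 0) (.leaf 3)) (.leaf 3)) (.node (.leaf 0) (.leaf 3))) (.node (.node (.leaf 3) (.leaf 3)) (.node (.leaf 0) (.leaf 0)))) (.node (.node (.node (.leaf 0) (.leaf 3)) (.node (.leaf 0) (.leaf 0))) (.node (.node (.leaf 0) (.leaf 3)) (.node (.leaf 0) (.leaf 0)))))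

def certSKind196 : Janko.Tree (ℕ) :=
  (.node (.node (.node (.node (.node (.leaf 0) (.leaf 3)) (.leaf 0)) (.node (.leaf 0) (.leaf 3))) (.node (.node (.leaf 0) (.leaf 0)) (.node (.leaf 3) (.leaf 0)))) (.node (.node (.node (.leaf 0) (.leaf 3)) (.node (.leaf 0) (.leaf 3))) (.node (.node (.leaf 3) (.leaf 0)) (.node (.leaf 0) (.leaf 3)))))

def certSKind197 : Janko.Tree (ℕ) :=
  (.node (.node (.node (.node (.node (.leaf 0) (.leaf 3)) (.leaf 0)) (.node (.leaf 0) (.leaf 0))) (.node (.node (.leaf 0) (.leaf 3)) (.node (.leaf 0) (.leaf 0)))) (.node (.node (.node (.leaf 0) (.leaf 3)) (.node (.leaf 3) (.leaf 3))) (.node (.node (.leaf 0) (.leaf 3)) (.node (.leaf 0) (.leaf 3)))))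

def certSKind198 : Janko.Tree (ℕ) :=
  (.node (.node (.node (.node (.node (.leaf 0) (.leaf 3)) (.leaf 3)) (.node (.leaf 0) (.leaf 3))) (.node (.node (.leaf 0) (.leaf 3)) (.node (.leaf 0) (.leaf 3)))) (.node (.node (.node (.leaf 0) (.leaf 0)) (.node (.leaf 0) (.leaf 3))) (.node (.node (.leaf 0) (.leaf 3)) (.node (.leaf 0) (.leaf 3)))))

def certSKind199 : Janko.Tree (ℕ) :=
  (.node (.node (.node (.node (.node (.leaf 0) (.leaf 3)) (.leaf 3)) (.node (.leaf 0) (.leaf 3))) (.node (.node (.leaf 0) (.leaf 0)) (.node (.leaf 3) (.leaf 3)))) (.node (.node (.node (.leaf 0) (.leaf 3)) (.node (.leaf 0) (.leaf 3))) (.node (.node (.leaf 0) (.leaf 0)) (.node (.leaf 3) (.leaf 3)))))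

def certSKind200 : Janko.Tree (ℕ) :=
  (.node (.node (.node (.node (.node (.leaf 0) (.leaf 3)) (.leaf 0)) (.node (.leaf 3) (.leaf 3))) (.node (.node (.leaf 0) (.leaf 3)) (.node (.leaf 0) (.leaf 3)))) (.node (.node (.node (.leaf 0) (.leaf 3)) (.node (.leaf 3) (.leaf 0))) (.node (.node (.leaf 0) (.leaf 3)) (.node (.leaf 3) (.leaf 3)))))

def certSKind201 : Janko.Tree (ℕ) :=
  (.node (.node (.node (.node (.node (.leaf 0) (.leaf 0)) (.leaf 3)) (.node (.leaf 0) (.leaf 3))) (.node (.node (.leaf 3) (.leaf 0)) (.node (.leaf 0) (.leaf 3)))) (.node (.node (.node (.leaf 0) (.leaf 0)) (.node (.leaf 0) (.leaf 3))) (.node (.node (.leaf 0) (.leaf 3)) (.node (.leaf 3) (.leaf 3)))))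

def certSKind202 : Janko.Tree (ℕ) :=
  (.node (.node (.node (.node (.node (.leaf 0) (.leaf 3)) (.leaf 0)) (.node (.leaf 3) (.leaf 0))) (.node (.node (.leaf 3) (.leaf 0)) (.node (.leaf 0) (.leaf 3)))) (.node (.node (.node (.leaf 3) (.leaf 3)) (.node (.leaf 0) (.leaf 0))) (.node (.node (.leaf 0) (.leaf 0)) (.node (.leaf 3) (.leaf 0)))))

def certSKind203 : Janko.Tree (ℕ) :=
  (.node (.node (.node (.node (.node (.leaf 0) (.leaf 3)) (.leaf 0)) (.node (.leaf 0) (.leaf 0))) (.node (.node (.leaf 0) (.leaf 3)) (.node (.leaf 0) (.leaf 3)))) (.node (.node (.node (.leaf 0) (.leaf 0)) (.node (.leaf 3) (.leaf 0))) (.node (.node (.leaf 0) (.leaf 3)) (.node (.leaf 0) (.leaf 3)))))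

def certSKind204 : Janko.Tree (ℕ) :=
  (.node (.node (.node (.node (.node (.leaf 0) (.leaf 0)) (.leaf 3)) (.node (.leaf 0) (.leaf 0))) (.node (.node (.leaf 0) (.leaf 0)) (.node (.leaf 0) (.leaf 3)))) (.node (.node (.node (.leaf 0) (.leaf 3)) (.node (.leaf 3) (.leaf 3))) (.node (.node (.leaf 0) (.leaf 3)) (.node (.leaf 3) (.leaf 3)))))

def certSKind205 : Janko.Tree (ℕ) :=
  (.node (.node (.node (.node (.node (.leaf 0) (.leaf 3)) (.leaf 3)) (.node (.leaf 0) (.leaf 3))) (.node (.node (.leaf 3) (.leaf 3)) (.node (.leaf 0) (.leaf 3)))) (.node (.node (.node (.leaf 0) (.leaf 3)) (.node (.leaf 3) (.leaf 3))) (.node (.node (.leaf 0) (.leaf 0)) (.node (.leaf 0) (.leaf 3)))))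

def certSKind206 : Janko.Tree (ℕ) :=
  (.node (.node (.node (.node (.node (.leaf 0) (.leaf 3)) (.leaf 3)) (.node (.leaf 0) (.leaf 0))) (.node (.node (.leaf 0) (.leaf 3)) (.node (.leaf 3) (.leaf 3)))) (.node (.node (.node (.leaf 0) (.leaf 3)) (.node (.leaf 0) (.leaf 3))) (.node (.node (.leaf 0) (.leaf 0)) (.node (.leaf 3) (.leaf 3)))))

def certSKind207 : Janko.Tree (ℕ) :=
  (.node (.node (.node (.node (.node (.leaf 0) (.leaf 3)) (.leaf 0)) (.node (.leaf 3) (.leaf 3))) (.node (.node (.leaf 0) (.leaf 0)) (.node (.leaf 0) (.leaf 0)))) (.node (.node (.node (.leaf 0) (.leaf 0)) (.node (.leaf 3) (.leaf 3))) (.node (.node (.leaf 0) (.leaf 3)) (.node (.leaf 0) (.leaf 3)))))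

def certSKind208 : Janko.Tree (ℕ) :=
  (.node (.node (.node (.node (.node (.leaf 0) (.leaf 0)) (.leaf 0)) (.node (.leaf 0) (.leaf 0))) (.node (.node (.leaf 0) (.leaf 3)) (.node (.leaf 3) (.leaf 3)))) (.node (.node (.node (.leaf 3) (.leaf 0)) (.node (.leaf 0) (.leaf 3))) (.node (.node (.leaf 0) (.leaf 3)) (.node (.leaf 3) (.leaf 3)))))

def certSKind209 : Janko.Tree (ℕ) :=
  (.node (.node (.node (.node (.node (.leaf 3) (.leaf 0)) (.leaf 3)) (.node (.leaf 0) (.leaf 0))) (.node (.node (.leaf 3) (.leaf 3)) (.node (.leaf 0) (.leaf 3)))) (.node (.node (.node (.leaf 0) (.leaf 3)) (.node (.leaf 3) (.leaf 0))) (.node (.node (.leaf 0) (.leaf 0)) (.node (.leaf 3) (.leaf 3)))))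

def certSKind210 : Janko.Tree (ℕ) :=
  (.node (.node (.node (.node (.node (.leaf 0) (.leaf 3)) (.leaf 0)) (.node (.leaf 0) (.leaf 0))) (.node (.node (.leaf 0) (.leaf 0)) (.node (.leaf 0) (.leaf 3)))) (.node (.node (.node (.leaf 0) (.leaf 0)) (.node (.leaf 0) (.leaf 3))) (.node (.node (.leaf 0) (.leaf 3)) (.node (.leaf 3) (.leaf 3)))))

def certSKind211 : Janko.Tree (ℕ) :=
  (.node (.node (.node (.node (.node (.leaf 0) (.leaf 0)) (.leaf 0)) (.node (.leaf 0) (.leaf 3))) (.node (.node (.leaf 3) (.leaf 3)) (.node (.leaf 3) (.leaf 3)))) (.node (.node (.node (.leaf 0) (.leaf 0)) (.node (.leaf 0) (.leaf 3))) (.node (.node (.leaf 0) (.leaf 0)) (.node (.leaf 3) (.leaf 0)))))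

def certSKind212 : Janko.Tree (ℕ) :=
  (.node (.node (.node (.node (.node (.leaf 0) (.leaf 3)) (.leaf 3)) (.node (.leaf 3) (.leaf 3))) (.node (.node (.leaf 0) (.leaf 3)) (.node (.leaf 0) (.leaf 3)))) (.node (.node (.node (.leaf 0) (.leaf 0)) (.node (.leaf 0) (.leaf 3))) (.node (.node (.leaf 0) (.leaf 3)) (.node (.leaf 0) (.leaf 3)))))

def certSKind213 : Janko.Tree (ℕ) :=
  (.node (.node (.node (.node (.node (.leaf 0) (.leaf 3)) (.leaf 0)) (.node (.leaf 3) (.leaf 3))) (.node (.node (.leaf 0) (.leaf 3)) (.node (.leaf 3) (.leaf 3)))) (.node (.node (.node (.leaf 0) (.leaf 3)) (.node (.leaf 0) (.leaf 3))) (.node (.node (.leaf 0) (.leaf 3)) (.node (.leaf 0) (.leaf 3)))))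

def certSKind214 : Janko.Tree (ℕ) :=
  (.node (.node (.node (.node (.node (.leaf 0) (.leaf 3)) (.leaf 0)) (.node (.leaf 0) (.leaf 3))) (.node (.node (.leaf 0) (.leaf 0)) (.node (.leaf 3) (.leaf 3)))) (.node (.node (.node (.leaf 0) (.leaf 0)) (.node (.leaf 3) (.leaf 3))) (.node (.node (.leaf 0) (.leaf 3)) (.node (.leaf 0) (.leaf 3)))))

def certSKind215 : Janko.Tree (ℕ) :=
  (.node (.node (.node (.node (.node (.leaf 3) (.leaf 3)) (.leaf 0)) (.node (.leaf 3) (.leaf 0))) (.node (.node (.leaf 3) (.leaf 3)) (.node (.leaf 3) (.leaf 3)))) (.node (.node (.node (.leaf 0) (.leaf 0)) (.node (.leaf 0) (.leaf 3))) (.node (.node (.leaf 3) (.leaf 3)) (.node (.leaf 0) (.leaf 3)))))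

def certSKind216 : Janko.Tree (ℕ) :=
  (.node (.node (.node (.node (.node (.leaf 0) (.leaf 3)) (.leaf 0)) (.node (.leaf 3) (.leaf 3))) (.node (.node (.leaf 0) (.leaf 3)) (.node (.leaf 0) (.leaf 0)))) (.node (.node (.node (.leaf 0) (.leaf 3)) (.node (.leaf 0) (.leaf 0))) (.node (.node (.leaf 0) (.leaf 0)) (.node (.leaf 3) (.leaf 0)))))

def certSKind217 : Janko.Tree (ℕ) :=
  (.node (.node (.node (.node (.node (.leaf 3) (.leaf 3)) (.leaf 0)) (.node (.leaf 0) (.leaf 3))) (.node (.node (.leaf 0) (.leaf 3)) (.node (.leaf 3) (.leaf 3)))) (.node (.node (.node (.leaf 0) (.leaf 0)) (.node (.leaf 0) (.leaf 3))) (.node (.node (.leaf 0) (.leaf 3)) (.node (.leaf 0) (.leaf 3)))))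

def certSKind218 : Janko.Tree (ℕ) :=
  (.node (.node (.node (.node (.node (.leaf 0) (.leaf 3)) (.leaf 0)) (.node (.leaf 0) (.leaf 0))) (.node (.node (.leaf 0) (.leaf 0)) (.node (.leaf 3) (.leaf 3)))) (.node (.node (.node (.leaf 0) (.leaf 3)) (.node (.leaf 3) (.leaf 0))) (.node (.node (.leaf 0) (.leaf 0)) (.node (.leaf 3) (.leaf 3)))))

def certSKind219 : Janko.Tree (ℕ) :=
  (.node (.node (.node (.node (.node (.leaf 0) (.leaf 3)) (.leaf 0)) (.node (.leaf 0) (.leaf 0))) (.node (.node (.leaf 0) (.leaf 0)) (.node (.leaf 3) (.leaf 3)))) (.node (.node (.node (.leaf 0) (.leaf 3)) (.node (.leaf 0) (.leaf 3))) (.node (.node (.leaf 3) (.leaf 0)) (.node (.leaf 0) (.leaf 3)))))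

def certSKind220 : Janko.Tree (ℕ) :=
  (.node (.node (.node (.node (.node (.leaf 0) (.leaf 0)) (.leaf 3)) (.node (.leaf 0) (.leaf 3))) (.node (.node (.leaf 0) (.leaf 3)) (.node (.leaf 0) (.leaf 3)))) (.node (.node (.node (.leaf 0) (.leaf 0)) (.node (.leaf 3) (.leaf 3))) (.node (.node (.leaf 0) (.leaf 3)) (.node (.leaf 3) (.leaf 3)))))

def certSKind221 : Janko.Tree (ℕ) :=
  (.node (.node (.node (.node (.node (.leaf 0) (.leaf 3)) (.leaf 3)) (.node (.leaf 3) (.leaf 3))) (.node (.node (.leaf 0) (.leaf 3)) (.node (.leaf 3) (.leaf 3)))) (.node (.node (.node (.leaf 0) (.leaf 0)) (.node (.leaf 0) (.leaf 3))) (.node (.node (.leaf 3) (.leaf 0)) (.node (.leaf 3) (.leaf 3)))))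

def certSKind222 : Janko.Tree (ℕ) :=
  (.node (.node (.node (.node (.node (.leaf 0) (.leaf 3)) (.leaf 0)) (.node (.leaf 3) (.leaf 3))) (.node (.node (.leaf 0) (.leaf 3)) (.node (.leaf 3) (.leaf 3)))) (.node (.node (.node (.leaf 0) (.leaf 0)) (.node (.leaf 0) (.leaf 3))) (.node (.node (.leaf 0) (.leaf 3)) (.node (.leaf 3) (.leaf 3)))))

def certSKind223 : Janko.Tree (ℕ) :=
  (.node (.node (.node (.node (.node (.leaf 0) (.leaf 3)) (.leaf 3)) (.node (.leaf 0) (.leaf 3))) (.node (.node (.leaf 0) (.leaf 3)) (.node (.leaf 3) (.leaf 0)))) (.node (.node (.node (.leaf 3) (.leaf 3)) (.node (.leaf 0) (.leaf 3))) (.node (.node (.leaf 0) (.leaf 3)) (.node (.leaf 0) (.leaf 3)))))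

def certSKind224 : Janko.Tree (ℕ) :=
  (.node (.node (.node (.node (.node (.leaf 0) (.leaf 3)) (.leaf 3)) (.node (.leaf 3) (.leaf 0))) (.node (.node (.leaf 3) (.leaf 3)) (.node (.leaf 0) (.leaf 3)))) (.node (.node (.node (.leaf 0) (.leaf 3)) (.node (.leaf 3) (.leaf 0))) (.node (.node (.leaf 0) (.leaf 3)) (.node (.leaf 0) (.leaf 3)))))

def certSKind225 : Janko.Tree (ℕ) :=
  (.node (.node (.node (.node (.node (.leaf 0) (.leaf 3)) (.leaf 3)) (.node (.leaf 0) (.leaf 3))) (.node (.node (.leaf 0) (.leaf 0)) (.node (.leaf 3) (.leaf 0)))) (.node (.node (.node (.leaf 3) (.leaf 0)) (.node (.leaf 0) (.leaf 3))) (.node (.node (.leaf 0) (.leaf 3)) (.node (.leaf 3) (.leaf 3)))))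

def certSKind226 : Janko.Tree (ℕ) :=
  (.node (.node (.node (.node (.node (.leaf 0) (.leaf 3)) (.leaf 3)) (.node (.leaf 0) (.leaf 3))) (.node (.node (.leaf 0) (.leaf 0)) (.node (.leaf 3) (.leaf 3)))) (.node (.node (.node (.leaf 0) (.leaf 0)) (.node (.leaf 3) (.leaf 0))) (.node (.node (.leaf 0) (.leaf 3)) (.node (.leaf 3) (.leaf 0)))))

def certSKind227 : Janko.Tree (ℕ) :=
  (.node (.node (.node (.node (.node (.leaf 3) (.leaf 3)) (.leaf 0)) (.node (.leaf 0) (.leaf 0))) (.node (.node (.leaf 0) (.leaf 0)) (.node (.leaf 0) (.leaf 3)))) (.node (.node (.node (.leaf 3) (.leaf 3)) (.node (.leaf 3) (.leaf 3))) (.node (.node (.leaf 0) (.leaf 0)) (.node (.leaf 3) (.leaf 0)))))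

def certSKind228 : Janko.Tree (ℕ) :=
  (.node (.node (.node (.node (.node (.leaf 0) (.leaf 3)) (.leaf 0)) (.node (.leaf 0) (.leaf 3))) (.node (.node (.leaf 3) (.leaf 0)) (.node (.leaf 3) (.leaf 3)))) (.node (.node (.node (.leaf 0) (.leaf 3)) (.node (.leaf 3) (.leaf 3))) (.node (.node (.leaf 0) (.leaf 0)) (.node (.leaf 0) (.leaf 3)))))

def certSKind229 : Janko.Tree (ℕ) :=
  (.node (.node (.node (.node (.node (.leaf 0) (.leaf 0)) (.leaf 3)) (.node (.leaf 0) (.leaf 3))) (.node (.node (.leaf 0) (.leaf 3)) (.node (.leaf 3) (.leaf 3)))) (.node (.node (.node (.leaf 3) (.leaf 3)) (.node (.leaf 3) (.leaf 3))) (.node (.node (.leaf 0) (.leaf 3)) (.node (.leaf 3) (.leaf 3)))))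

def certSKind230 : Janko.Tree (ℕ) :=
  (.node (.node (.node (.node (.node (.leaf 0) (.leaf 3)) (.leaf 2)) (.node (.leaf 3) (.leaf 3))) (.node (.node (.leaf 0) (.leaf 3)) (.node (.leaf 3) (.leaf 0)))) (.node (.node (.node (.leaf 0) (.leaf 3)) (.node (.leaf 3) (.leaf 0))) (.node (.node (.leaf 3) (.leaf 0)) (.node (.leaf 0) (.leaf 3)))))

def certSKind231 : Janko.Tree (ℕ) :=
  (.node (.node (.node (.node (.node (.leaf 0) (.leaf 0)) (.leaf 0)) (.node (.leaf 0) (.leaf 3))) (.node (.node (.leaf 0) (.leaf 3)) (.node (.leaf 0) (.leaf 3)))) (.node (.node (.node (.leaf 3) (.leaf 0)) (.node (.leaf 3) (.leaf 3))) (.node (.node (.leaf 0) (.leaf 3)) (.node (.leaf 0) (.leaf 3)))))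

def certSKind232 : Janko.Tree (ℕ) :=
  (.node (.node (.node (.node (.node (.leaf 0) (.leaf 3)) (.leaf 3)) (.node (.leaf 0) (.leaf 3))) (.node (.node (.leaf 0) (.leaf 0)) (.node (.leaf 0) (.leaf 3)))) (.node (.node (.node (.leaf 0) (.leaf 3)) (.node (.leaf 0) (.leaf 3))) (.node (.node (.leaf 0) (.leaf 3)) (.node (.leaf 0) (.leaf 3)))))

def certSKind233 : Janko.Tree (ℕ) :=
  (.node (.node (.node (.node (.node (.leaf 3) (.leaf 3)) (.leaf 3)) (.node (.leaf 3) (.leaf 3))) (.node (.node (.leaf 0) (.leaf 3)) (.node (.leaf 0) (.leaf 3)))) (.node (.node (.node (.leaf 0) (.leaf 0)) (.node (.leaf 3) (.leaf 3))) (.node (.node (.leaf 0) (.leaf 0)) (.node (.leaf 3) (.leaf 3)))))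

def certSKind234 : Janko.Tree (ℕ) :=
  (.node (.node (.node (.node (.node (.leaf 0) (.leaf 0)) (.leaf 3)) (.node (.leaf 0) (.leaf 3))) (.node (.node (.leaf 3) (.leaf 0)) (.node (.leaf 3) (.leaf 0)))) (.node (.node (.node (.leaf 0) (.leaf 0)) (.node (.leaf 3) (.leaf 3))) (.node (.node (.leaf 3) (.leaf 0)) (.node (.leaf 3) (.leaf 0)))))

def certSKind235 : Janko.Tree (ℕ) :=
  (.node (.node (.node (.node (.node (.leaf 3) (.leaf 3)) (.leaf 0)) (.node (.leaf 0) (.leaf 3))) (.node (.node (.leaf 3) (.leaf 0)) (.node (.leaf 0) (.leaf 3)))) (.node (.node (.node (.leaf 0) (.leaf 0)) (.node (.leaf 3) (.leaf 3))) (.node (.node (.leaf 0) (.leaf 0)) (.node (.leaf 3) (.leaf 3)))))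

def certSKind236 : Janko.Tree (ℕ) :=
  (.node (.node (.node (.node (.node (.leaf 0) (.leaf 3)) (.leaf 3)) (.node (.leaf 0) (.leaf 3))) (.node (.node (.leaf 0) (.leaf 0)) (.node (.leaf 3) (.leaf 0)))) (.node (.node (.node (.leaf 0) (.leaf 0)) (.node (.leaf 3) (.leaf 0))) (.node (.node (.leaf 0) (.leaf 3)) (.node (.leaf 0) (.leaf 3)))))

def certSKind237 : Janko.Tree (ℕ) :=
  (.node (.node (.node (.node (.node (.leaf 0) (.leaf 3)) (.leaf 3)) (.node (.leaf 0) (.leaf 3))) (.node (.node (.leaf 0) (.leaf 0)) (.node (.leaf 0) (.leaf 3)))) (.node (.node (.node (.leaf 0) (.leaf 0)) (.node (.leaf 3) (.leaf 3))) (.node (.node (.leaf 0) (.leaf 3)) (.node (.leaf 0) (.leaf 3)))))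

def certSKind238 : Janko.Tree (ℕ) :=
  (.node (.node (.node (.node (.node (.leaf 3) (.leaf 3)) (.leaf 0)) (.node (.leaf 0) (.leaf 3))) (.node (.node (.leaf 0) (.leaf 3)) (.node (.leaf 0) (.leaf 3)))) (.node (.node (.node (.leaf 0) (.leaf 0)) (.node (.leaf 0) (.leaf 3))) (.node (.node (.leaf 0) (.leaf 3)) (.node (.leaf 0) (.leaf 3)))))

def certSKind239 : Janko.Tree (ℕ) :=
  (.node (.node (.node (.node (.node (.leaf 0) (.leaf 3)) (.leaf 0)) (.node (.leaf 3) (.leaf 0))) (.node (.node (.leaf 3) (.leaf 3)) (.node (.leaf 3) (.leaf 0)))) (.node (.node (.node (.leaf 0) (.leaf 0)) (.node (.leaf 3) (.leaf 0))) (.node (.node (.leaf 3) (.leaf 0)) (.node (.leaf 0) (.leaf 3)))))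

def certSKind240 : Janko.Tree (ℕ) :=
  (.node (.node (.node (.node (.node (.leaf 0) (.leaf 3)) (.leaf 0)) (.node (.leaf 0) (.leaf 3))) (.node (.node (.leaf 3) (.leaf 0)) (.node (.leaf 0) (.leaf 3)))) (.node (.node (.node (.leaf 3) (.leaf 0)) (.node (.leaf 3) (.leaf 3))) (.node (.node (.leaf 3) (.leaf 3)) (.node (.leaf 0) (.leaf 0)))))

def certSKind241 : Janko.Tree (ℕ) :=
  (.node (.node (.node (.node (.node (.leaf 0) (.leaf 3)) (.leaf 3)) (.node (.leaf 0) (.leaf 3))) (.node (.node (.leaf 0) (.leaf 3)) (.node (.leaf 0) (.leaf 3)))) (.node (.node (.node (.leaf 3) (.leaf 3)) (.node (.leaf 0) (.leaf 3))) (.node (.node (.leaf 0) (.leaf 3)) (.node (.leaf 3) (.leaf 3)))))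

def certSKind242 : Janko.Tree (ℕ) :=
  (.node (.node (.node (.node (.node (.leaf 0) (.leaf 3)) (.leaf 3)) (.node (.leaf 0) (.leaf 3))) (.node (.node (.leaf 0) (.leaf 0)) (.node (.leaf 0) (.leaf 3)))) (.node (.node (.node (.leaf 3) (.leaf 0)) (.node (.leaf 0) (.leaf 3))) (.node (.node (.leaf 0) (.leaf 3)) (.node (.leaf 3) (.leaf 3)))))

def certSKind243 : Janko.Tree (ℕ) :=
  (.node (.node (.node (.node (.node (.leaf 0) (.leaf 3)) (.leaf 3)) (.node (.leaf 0) (.leaf 0))) (.node (.node (.leaf 0) (.leaf 3)) (.node (.leaf 3) (.leaf 3)))) (.node (.node (.node (.leaf 0) (.leaf 0)) (.node (.leaf 0) (.leaf 0))) (.node (.node (.leaf 0) (.leaf 0)) (.node (.leaf 0) (.leaf 3)))))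

def certSKind244 : Janko.Tree (ℕ) :=
  (.node (.node (.node (.node (.node (.leaf 3) (.leaf 3)) (.leaf 3)) (.node (.leaf 0) (.leaf 0))) (.node (.node (.leaf 0) (.leaf 3)) (.node (.leaf 0) (.leaf 3)))) (.node (.node (.node (.leaf 3) (.leaf 0)) (.node (.leaf 3) (.leaf 3))) (.node (.node (.leaf 0) (.leaf 3)) (.node (.leaf 3) (.leaf 3)))))

def certSKind245 : Janko.Tree (ℕ) :=
  (.node (.node (.node (.node (.node (.leaf 0) (.leaf 3)) (.leaf 3)) (.node (.leaf 3) (.leaf 3))) (.node (.node (.leaf 0) (.leaf 0)) (.node (.leaf 3) (.leaf 0)))) (.node (.node (.node (.leaf 0) (.leaf 3)) (.node (.leaf 3) (.leaf 3))) (.node (.node (.leaf 3) (.leaf 0)) (.node (.leaf 0) (.leaf 3)))))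

def certSKind246 : Janko.Tree (ℕ) :=
  (.node (.node (.node (.node (.node (.leaf 0) (.leaf 3)) (.leaf 3)) (.node (.leaf 0) (.leaf 3))) (.node (.node (.leaf 0) (.leaf 3)) (.node (.leaf 0) (.leaf 0)))) (.node (.node (.node (.leaf 0) (.leaf 0)) (.node (.leaf 0) (.leaf 0))) (.node (.node (.leaf 0) (.leaf 0)) (.node (.leaf 3) (.leaf 3)))))

def certSKind247 : Janko.Tree (ℕ) :=
  (.node (.node (.node (.node (.node (.leaf 3) (.leaf 3)) (.leaf 0)) (.node (.leaf 3) (.leaf 0))) (.node (.node (.leaf 0) (.leaf 0)) (.node (.leaf 0) (.leaf 0)))) (.node (.node (.node (.leaf 0) (.leaf 3)) (.node (.leaf 3) (.leaf 0))) (.node (.node (.leaf 3) (.leaf 3)) (.node (.leaf 0) (.leaf 3)))))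

def certSKind248 : Janko.Tree (ℕ) :=
  (.node (.node (.node (.node (.node (.leaf 0) (.leaf 0)) (.leaf 3)) (.node (.leaf 3) (.leaf 0))) (.node (.node (.leaf 0) (.leaf 3)) (.node (.leaf 0) (.leaf 3)))) (.node (.node (.node (.leaf 0) (.leaf 3)) (.node (.leaf 0) (.leaf 3))) (.node (.node (.leaf 0) (.leaf 0)) (.node (.leaf 0) (.leaf 3)))))

def certSKind249 : Janko.Tree (ℕ) :=
  (.node (.node (.node (.node (.node (.leaf 0) (.leaf 3)) (.leaf 3)) (.node (.leaf 0) (.leaf 3))) (.node (.node (.leaf 3) (.leaf 0)) (.node (.leaf 0) (.leaf 0)))) (.node (.node (.node (.leaf 0) (.leaf 3)) (.node (.leaf 0) (.leaf 3))) (.node (.node (.leaf 3) (.leaf 3)) (.node (.leaf 0) (.leaf 3)))))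

def certSKind250 : Janko.Tree (ℕ) :=
  (.node (.node (.node (.node (.node (.leaf 0) (.leaf 3)) (.leaf 3)) (.node (.leaf 0) (.leaf 3))) (.node (.node (.leaf 0) (.leaf 0)) (.node (.leaf 0) (.leaf 3)))) (.node (.node (.node (.leaf 0) (.leaf 3)) (.node (.leaf 3) (.leaf 3))) (.node (.node (.leaf 0) (.leaf 0)) (.node (.leaf 3) (.leaf 3)))))

def certSKind251 : Janko.Tree (ℕ) :=
  (.node (.node (.node (.node (.node (.leaf 0) (.leaf 3)) (.leaf 0)) (.node (.leaf 0) (.leaf 0))) (.node (.node (.leaf 3) (.leaf 3)) (.node (.leaf 0) (.leaf 3)))) (.node (.node (.node (.leaf 0) (.leaf 0)) (.node (.leaf 0) (.leaf 3))) (.node (.node (.leaf 3) (.leaf 3)) (.node (.leaf 0) (.leaf 3)))))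

def certSKind252 : Janko.Tree (ℕ) :=
  (.node (.node (.node (.node (.node (.leaf 0) (.leaf 3)) (.leaf 0)) (.node (.leaf 0) (.leaf 3))) (.node (.node (.leaf 0) (.leaf 3)) (.node (.leaf 0) (.leaf 3)))) (.node (.node (.node (.leaf 3) (.leaf 0)) (.node (.leaf 0) (.leaf 3))) (.node (.node (.leaf 0) (.leaf 0)) (.node (.leaf 0) (.leaf 3)))))

def certSKind253 : Janko.Tree (ℕ) :=
  (.node (.node (.node (.node (.node (.leaf 0) (.leaf 3)) (.leaf 0)) (.node (.leaf 0) (.leaf 3))) (.node (.node (.leaf 0) (.leaf 3)) (.node (.leaf 0) (.leaf 3)))) (.node (.node (.node (.leaf 0) (.leaf 3)) (.node (.leaf 3) (.leaf 3))) (.node (.node (.leaf 0) (.leaf 3)) (.node (.leaf 0) (.leaf 3)))))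

def certSKind254 : Janko.Tree (ℕ) :=
  (.node (.node (.node (.node (.node (.leaf 0) (.leaf 3)) (.leaf 0)) (.node (.leaf 3) (.leaf 3))) (.node (.node (.leaf 0) (.leaf 0)) (.node (.leaf 0) (.leaf 3)))) (.node (.node (.node (.leaf 2) (.leaf 0)) (.node (.leaf 3) (.leaf 0))) (.node (.node (.leaf 0) (.leaf 0)) (.node (.leaf 0) (.leaf 3)))))

def certSKind255 : Janko.Tree (ℕ) :=
  (.node (.node (.node (.node (.node (.leaf 0) (.leaf 3)) (.leaf 3)) (.node (.leaf 3) (.leaf 0))) (.node (.node (.leaf 3) (.leaf 0)) (.node (.leaf 0) (.leaf 3)))) (.node (.node (.node (.leaf 0) (.leaf 0)) (.node (.leaf 0) (.leaf 3))) (.node (.node (.leaf 3) (.leaf 3)) (.node (.leaf 0) (.leaf 3)))))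

def certSKind : Janko.Tree (ℕ) :=
  (.node (.node (.node (.node (.node (.node (.node (.node certSKind0 certSKind128) (.node certSKind64 certSKind192)) (.node (.node certSKind32 certSKind160) (.node certSKind96 certSKind224))) (.node (.node (.node certSKind16 certSKind144) (.node certSKind80 certSKind208)) (.node (.node certSKind48 certSKind176) (.node certSKind112 certSKind240)))) (.node (.node (.node (.node certSKind8 certSKind136) (.node certSKind72 certSKind200)) (.node (.node certSKind40 certSKind168) (.node certSKind104 certSKind232))) (.node (.node (.node certSKind24 certSKind152) (.node certSKind88 certSKind216)) (.node (.node certSKind56 certSKind184) (.node certSKind120 certSKind248))))) (.node (.node (.node (.node (.node certSKind4 certSKind132) (.node certSKind68 certSKind196)) (.node (.node certSKind36 certSKind164) (.node certSKind100 certSKind228))) (.node (.node (.node certSKind20 certSKind148) (.node certSKind84 certSKind212)) (.node (.node certSKind52 certSKind180) (.node certSKind116 certSKind244)))) (.node (.node (.node (.node certSKind12 certSKind140) (.node certSKind76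 certSKind204)) (.node (.node certSKind44 certSKind172) (.node certSKind108 certSKind236))) (.node (.node (.node certSKind28 certSKind156) (.node certSKind92 certSKind220)) (.node (.node certSKind60 certSKind188) (.node certSKind124 certSKind252)))))) (.node (.node (.node (.node (.node (.node certSKind2 certSKind130) (.node certSKind66 certSKind194)) (.node (.node certSKind34 certSKind162) (.node certSKind98 certSKind226))) (.node (.node (.node certSKind18 certSKind146) (.node certSKind82 certSKind210)) (.node (.node certSKind50 certSKind178) (.node certSKind114 certSKind242)))) (.node (.node (.node (.node certSKind10 certSKind138) (.node certSKind74 certSKind202)) (.node (.node certSKind42 certSKind170) (.node certSKind106 certSKind234))) (.node (.node (.node certSKind26 certSKind154) (.node certSKind90 certSKind218)) (.node (.node certSKind58 certSKind186) (.node certSKind122 certSKind250))))) (.node (.node (.node (.node (.node certSKind6 certSKind134) (.node certSKind70 certSKind198)) (.node (.node certSKind38 certSKind166) (.node certSKind102 certSKind230))) (.node (.node (.node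 certSKind22 certSKind150) (.node certSKind86 certSKind214)) (.node (.node certSKind54 certSKind182) (.node certSKind118 certSKind246)))) (.node (.node (.node (.node certSKind14 certSKind142) (.node certSKind78 certSKind206)) (.node (.node certSKind46 certSKind174) (.node certSKind110 certSKind238))) (.node (.node (.node certSKind30 certSKind158) (.node certSKind94 certSKind222)) (.node (.node certSKind62 certSKind190) (.node certSKind126 certSKind254))))))) (.node (.node (.node (.node (.node (.node (.node certSKind1 certSKind129) (.node certSKind65 certSKind193)) (.node (.node certSKind33 certSKind161) (.node certSKind97 certSKind225))) (.node (.node (.node certSKind17 certSKind145) (.node certSKind81 certSKind209)) (.node (.node certSKind49 certSKind177) (.node certSKind113 certSKind241)))) (.node (.node (.node (.node certSKind9 certSKind137) (.node certSKind73 certSKind201)) (.node (.node certSKind41 certSKind169) (.node certSKind105 certSKind233))) (.node (.node (.node certSKind25 certSKind153) (.node certSKind89 certSKind217)) (.node (.node certSKind57 certSKind185) (.node certSKind121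 certSKind249))))) (.node (.node (.node (.node (.node certSKind5 certSKind133) (.node certSKind69 certSKind197)) (.node (.node certSKind37 certSKind165) (.node certSKind101 certSKind229))) (.node (.node (.node certSKind21 certSKind149) (.node certSKind85 certSKind213)) (.node (.node certSKind53 certSKind181) (.node certSKind117 certSKind245)))) (.node (.node (.node (.node certSKind13 certSKind141) (.node certSKind77 certSKind205)) (.node (.node certSKind45 certSKind173) (.node certSKind109 certSKind237))) (.node (.node (.node certSKind29 certSKind157) (.node certSKind93 certSKind221)) (.node (.node certSKind61 certSKind189) (.node certSKind125 certSKind253)))))) (.node (.node (.node (.node (.node (.node certSKind3 certSKind131) (.node certSKind67 certSKind195)) (.node (.node certSKind35 certSKind163) (.node certSKind99 certSKind227))) (.node (.node (.node certSKind19 certSKind147) (.node certSKind83 certSKind211)) (.node (.node certSKind51 certSKind179) (.node certSKind115 certSKind243)))) (.node (.node (.node (.node certSKind11 certSKind139) (.node certSKind75 certSKind203)) (.node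 (.node certSKind43 certSKind171) (.node certSKind107 certSKind235))) (.node (.node (.node certSKind27 certSKind155) (.node certSKind91 certSKind219)) (.node (.node certSKind59 certSKind187) (.node certSKind123 certSKind251))))) (.node (.node (.node (.node (.node certSKind7 certSKind135) (.node certSKind71 certSKind199)) (.node (.node certSKind39 certSKind167) (.node certSKind103 certSKind231))) (.node (.node (.node certSKind23 certSKind151) (.node certSKind87 certSKind215)) (.node (.node certSKind55 certSKind183) (.node certSKind119 certSKind247)))) (.node (.node (.node (.node certSKind15 certSKind143) (.node certSKind79 certSKind207)) (.node (.node certSKind47 certSKind175) (.node certSKind111 certSKind239))) (.node (.node (.node certSKind31 certSKind159) (.node certSKind95 certSKind223)) (.node (.node certSKind63 certSKind191) (.node certSKind127 certSKind255))))))))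

def certSRank0 : Janko.Tree (ℕ) :=
  (.node (.node (.node (.node (.node (.leaf 0) (.leaf 1919)) (.leaf 1076)) (.node (.leaf 0) (.leaf 0))) (.node (.node (.leaf 0) (.leaf 0)) (.node (.leaf 0) (.leaf 1721)))) (.node (.node (.node (.node (.leaf 0) (.leaf 1296)) (.leaf 0)) (.node (.leaf 0) (.leaf 0))) (.node (.node (.leaf 0) (.leaf 1541)) (.node (.leaf 0) (.leaf 0)))))

def certSRank1 : Janko.Tree (ℕ) :=
  (.node (.node (.node (.node (.node (.leaf 0) (.leaf 2167)) (.leaf 0)) (.node (.leaf 0) (.leaf 1030))) (.node (.node (.leaf 0) (.leaf 605)) (.node (.leaf 543) (.leaf 1719)))) (.node (.node (.node (.node (.leaf 0) (.leaf 1515)) (.leaf 0)) (.node (.leaf 0) (.leaf 0))) (.node (.node (.leaf 459) (.leaf 0)) (.node (.leaf 487) (.leaf 1421)))))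

def certSRank2 : Janko.Tree (ℕ) :=
  (.node (.node (.node (.node (.node (.leaf 0) (.leaf 0)) (.leaf 48)) (.node (.leaf 0) (.leaf 0))) (.node (.node (.leaf 0) (.leaf 1372)) (.node (.leaf 0) (.leaf 0)))) (.node (.node (.node (.node (.leaf 0) (.leaf 2199)) (.leaf 552)) (.node (.leaf 291) (.leaf 986))) (.node (.node (.leaf 0) (.leaf 0)) (.node (.leaf 496) (.leaf 161)))))

def certSRank3 : Janko.Tree (ℕ) :=
  (.node (.node (.node (.node (.node (.leaf 0) (.leaf 1694)) (.leaf 723)) (.node (.leaf 398) (.leaf 2056))) (.node (.node (.leaf 0) (.leaf 382)) (.node (.leaf 0) (.leaf 565)))) (.node (.node (.node (.node (.leaf 0) (.leaf 2201)) (.leaf 550)) (.node (.leaf 807) (.leaf 0))) (.node (.node (.leaf 0) (.leaf 0)) (.node (.leaf 1953) (.leaf 963)))))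

def certSRank4 : Janko.Tree (ℕ) :=
  (.node (.node (.node (.node (.node (.leaf 0) (.leaf 150)) (.leaf 1099)) (.node (.leaf 0) (.leaf 0))) (.node (.node (.leaf 0) (.leaf 0)) (.node (.leaf 0) (.leaf 1221)))) (.node (.node (.node (.node (.leaf 0) (.leaf 492)) (.leaf 0)) (.node (.leaf 0) (.leaf 1689))) (.node (.node (.leaf 0) (.leaf 0)) (.node (.leaf 0) (.leaf 2210)))))

def certSRank5 : Janko.Tree (ℕ) :=
  (.node (.node (.node (.node (.node (.leaf 0) (.leaf 1752)) (.leaf 0)) (.node (.leaf 910) (.leaf 1638))) (.node (.node (.leaf 273) (.leaf 4)) (.node (.leaf 0) (.leaf 1181)))) (.node (.node (.node (.node (.leaf 0) (.leaf 1983)) (.leaf 0)) (.node (.leaf 0) (.leaf 387))) (.node (.node (.leaf 0) (.leaf 0)) (.node (.leaf 1255) (.leaf 940)))))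

def certSRank6 : Janko.Tree (ℕ) :=
  (.node (.node (.node (.node (.node (.leaf 0) (.leaf 1759)) (.leaf 0)) (.node (.leaf 211) (.leaf 1032))) (.node (.node (.leaf 0) (.leaf 1496)) (.node (.leaf 1009) (.leaf 1993)))) (.node (.node (.node (.node (.leaf 0) (.leaf 2021)) (.leaf 0)) (.node (.leaf 227) (.leaf 0))) (.node (.node (.leaf 0) (.leaf 0)) (.node (.leaf 1248) (.leaf 1182)))))

def certSRank7 : Janko.Tree (ℕ) :=
  (.node (.node (.node (.node (.node (.leaf 0) (.leaf 1867)) (.leaf 0)) (.node (.leaf 0) (.leaf 0))) (.node (.node (.leaf 0) (.leaf 1545)) (.node (.leaf 1007) (.leaf 0)))) (.node (.node (.node (.node (.leaf 326) (.leaf 2207)) (.leaf 0)) (.node (.leaf 772) (.leaf 981))) (.node (.node (.leaf 0) (.leaf 0)) (.node (.leaf 0) (.leaf 0)))))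

def certSRank8 : Janko.Tree (ℕ) :=
  (.node (.node (.node (.node (.node (.leaf 0) (.leaf 1185)) (.leaf 1246)) (.node (.leaf 652) (.leaf 0))) (.node (.node (.leaf 0) (.leaf 0)) (.node (.leaf 1005) (.leaf 581)))) (.node (.node (.node (.node (.leaf 0) (.leaf 1868)) (.leaf 0)) (.node (.leaf 0) (.leaf 0))) (.node (.node (.leaf 947) (.leaf 0)) (.node (.leaf 867) (.leaf 160)))))

def certSRank9 : Janko.Tree (ℕ) :=
  (.node (.node (.node (.node (.node (.leaf 0) (.leaf 0)) (.leaf 0)) (.node (.leaf 0) (.leaf 0))) (.node (.node (.leaf 0) (.leaf 1241)) (.node (.leaf 0) (.leaf 1216)))) (.node (.node (.node (.node (.leaf 163) (.leaf 1870)) (.leaf 0)) (.node (.leaf 0) (.leaf 2157))) (.node (.node (.leaf 0) (.leaf 0)) (.node (.leaf 864) (.leaf 0)))))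

def certSRank10 : Janko.Tree (ℕ) :=
  (.node (.node (.node (.node (.node (.leaf 0) (.leaf 1580)) (.leaf 0)) (.node (.leaf 588) (.leaf 256))) (.node (.node (.leaf 373) (.leaf 0)) (.node (.leaf 1033) (.leaf 1674)))) (.node (.node (.node (.node (.leaf 0) (.leaf 978)) (.leaf 0)) (.node (.leaf 0) (.leaf 0))) (.node (.node (.leaf 0) (.leaf 0)) (.node (.leaf 606) (.leaf 1677)))))

def certSRank11 : Janko.Tree (ℕ) :=
  (.node (.node (.node (.node (.node (.leaf 0) (.leaf 1539)) (.leaf 84)) (.node (.leaf 586) (.leaf 0))) (.node (.node (.leaf 777) (.leaf 486)) (.node (.leaf 0) (.leaf 490)))) (.node (.node (.node (.node (.leaf 0) (.leaf 0)) (.leaf 0)) (.node (.leaf 1308) (.leaf 0))) (.node (.node (.leaf 11) (.leaf 0)) (.node (.leaf 0) (.leaf 0)))))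

def certSRank12 : Janko.Tree (ℕ) :=
  (.node (.node (.node (.node (.node (.leaf 0) (.leaf 927)) (.leaf 0)) (.node (.leaf 204) (.leaf 1688))) (.node (.node (.leaf 0) (.leaf 889)) (.node (.leaf 224) (.leaf 1856)))) (.node (.node (.node (.node (.leaf 0) (.leaf 764)) (.leaf 0)) (.node (.leaf 0) (.leaf 0))) (.node (.node (.leaf 28) (.leaf 316)) (.node (.leaf 0) (.leaf 410)))))

def certSRank13 : Janko.Tree (ℕ) :=
  (.node (.node (.node (.node (.node (.leaf 0) (.leaf 1794)) (.leaf 0)) (.node (.leaf 0) (.leaf 0))) (.node (.node (.leaf 0) (.leaf 1493)) (.node (.leaf 0) (.leaf 2)))) (.node (.node (.node (.node (.leaf 352) (.leaf 1807)) (.leaf 0)) (.node (.leaf 429) (.leaf 1646))) (.node (.node (.leaf 0) (.leaf 1362)) (.node (.leaf 323) (.leaf 2193)))))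

def certSRank14 : Janko.Tree (ℕ) :=
  (.node (.node (.node (.node (.node (.leaf 0) (.leaf 1844)) (.leaf 1804)) (.node (.leaf 372) (.leaf 1158))) (.node (.node (.leaf 0) (.leaf 974)) (.node (.leaf 0) (.leaf 0)))) (.node (.node (.node (.node (.leaf 0) (.leaf 1065)) (.leaf 0)) (.node (.leaf 0) (.leaf 1054))) (.node (.node (.leaf 794) (.leaf 1714)) (.node (.leaf 1281) (.leaf 0)))))

def certSRank15 : Janko.Tree (ℕ) :=
  (.node (.node (.node (.node (.node (.leaf 0) (.leaf 2025)) (.leaf 536)) (.node (.leaf 0) (.leaf 0))) (.node (.node (.leaf 0) (.leaf 1985)) (.node (.leaf 0) (.leaf 611)))) (.node (.node (.node (.node (.leaf 0) (.leaf 2153)) (.leaf 0)) (.node (.leaf 0) (.leaf 988))) (.node (.node (.leaf 0) (.leaf 322)) (.node (.leaf 481) (.leaf 1208)))))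

def certSRank16 : Janko.Tree (ℕ) :=
  (.node (.node (.node (.node (.node (.leaf 0) (.leaf 1501)) (.leaf 0)) (.node (.leaf 0) (.leaf 569))) (.node (.node (.leaf 0) (.leaf 1668)) (.node (.leaf 0) (.leaf 0)))) (.node (.node (.node (.node (.leaf 0) (.leaf 1172)) (.leaf 0)) (.node (.leaf 1268) (.leaf 251))) (.node (.node (.leaf 0) (.leaf 1089)) (.node (.leaf 315) (.leaf 1700)))))

def certSRank17 : Janko.Tree (ℕ) :=
  (.node (.node (.node (.node (.node (.leaf 0) (.leaf 901)) (.leaf 0)) (.node (.leaf 0) (.leaf 0))) (.node (.node (.leaf 439) (.leaf 0)) (.node (.leaf 0) (.leaf 1860)))) (.node (.node (.node (.node (.leaf 0) (.leaf 2148)) (.leaf 119)) (.node (.leaf 264) (.leaf 1709))) (.node (.node (.leaf 806) (.leaf 1527)) (.node (.leaf 0) (.leaf 0)))))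

def certSRank18 : Janko.Tree (ℕ) :=
  (.node (.node (.node (.node (.node (.leaf 0) (.leaf 0)) (.leaf 0)) (.node (.leaf 0) (.leaf 1058))) (.node (.node (.leaf 200) (.leaf 747)) (.node (.leaf 0) (.leaf 1881)))) (.node (.node (.node (.node (.leaf 0) (.leaf 2213)) (.leaf 0)) (.node (.leaf 0) (.leaf 78))) (.node (.node (.leaf 0) (.leaf 1008)) (.node (.leaf 760) (.leaf 16)))))

def certSRank19 : Janko.Tree (ℕ) :=
  (.node (.node (.node (.node (.node (.leaf 0) (.leaf 2233)) (.leaf 1952)) (.node (.leaf 0) (.leaf 255))) (.node (.node (.leaf 595) (.leaf 0)) (.node (.leaf 0) (.leaf 321)))) (.node (.node (.node (.node (.leaf 0) (.leaf 2184)) (.leaf 2065)) (.node (.leaf 0) (.leaf 1288))) (.node (.node (.leaf 0) (.leaf 0)) (.node (.leaf 1004) (.leaf 1538)))))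

def certSRank20 : Janko.Tree (ℕ) :=
  (.node (.node (.node (.node (.node (.leaf 0) (.leaf 0)) (.leaf 0)) (.node (.leaf 1169) (.leaf 959))) (.node (.node (.leaf 0) (.leaf 0)) (.node (.leaf 54) (.leaf 1092)))) (.node (.node (.node (.node (.leaf 0) (.leaf 1261)) (.leaf 0)) (.node (.leaf 0) (.leaf 1940))) (.node (.node (.leaf 349) (.leaf 1059)) (.node (.leaf 617) (.leaf 0)))))

def certSRank21 : Janko.Tree (ℕ) :=
  (.node (.node (.node (.node (.node (.leaf 0) (.leaf 964)) (.leaf 0)) (.node (.leaf 0) (.leaf 0))) (.node (.node (.leaf 0) (.leaf 979)) (.node (.leaf 567) (.leaf 1366)))) (.node (.node (.node (.node (.leaf 0) (.leaf 1521)) (.leaf 1519)) (.node (.leaf 288) (.leaf 0))) (.node (.node (.leaf 1200) (.leaf 853)) (.node (.leaf 0) (.leaf 1786)))))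

def certSRank22 : Janko.Tree (ℕ) :=
  (.node (.node (.node (.node (.node (.leaf 0) (.leaf 149)) (.leaf 0)) (.node (.leaf 0) (.leaf 935))) (.node (.node (.leaf 371) (.leaf 0)) (.node (.leaf 0) (.leaf 318)))) (.node (.node (.node (.node (.leaf 0) (.leaf 1817)) (.leaf 0)) (.node (.leaf 0) (.leaf 1055))) (.node (.node (.leaf 465) (.leaf 1559)) (.node (.leaf 22) (.leaf 0)))))

def certSRank23 : Janko.Tree (ℕ) :=
  (.node (.node (.node (.node (.node (.leaf 0) (.leaf 0)) (.leaf 0)) (.node (.leaf 210) (.leaf 0))) (.node (.node (.leaf 0) (.leaf 973)) (.node (.leaf 0) (.leaf 0)))) (.node (.node (.node (.node (.leaf 0) (.leaf 1815)) (.leaf 90)) (.node (.leaf 0) (.leaf 380))) (.node (.node (.leaf 0) (.leaf 698)) (.node (.leaf 1188) (.leaf 0)))))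

def certSRank24 : Janko.Tree (ℕ) :=
  (.node (.node (.node (.node (.node (.leaf 0) (.leaf 1429)) (.leaf 0)) (.node (.leaf 0) (.leaf 0))) (.node (.node (.leaf 0) (.leaf 0)) (.node (.leaf 0) (.leaf 1578)))) (.node (.node (.node (.node (.leaf 0) (.leaf 1234)) (.leaf 0)) (.node (.leaf 329) (.leaf 0))) (.node (.node (.leaf 0) (.leaf 0)) (.node (.leaf 1027) (.leaf 411)))))

def certSRank25 : Janko.Tree (ℕ) :=
  (.node (.node (.node (.node (.node (.leaf 0) (.leaf 0)) (.leaf 0)) (.node (.leaf 0) (.leaf 931))) (.node (.node (.leaf 0) (.leaf 904)) (.node (.leaf 221) (.leaf 703)))) (.node (.node (.node (.node (.leaf 0) (.leaf 1576)) (.leaf 421)) (.node (.leaf 0) (.leaf 498))) (.node (.node (.leaf 994) (.leaf 0)) (.node (.leaf 0) (.leaf 0)))))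

def certSRank26 : Janko.Tree (ℕ) :=
  (.node (.node (.node (.node (.node (.leaf 0) (.leaf 1177)) (.leaf 528)) (.node (.leaf 0) (.leaf 956))) (.node (.node (.leaf 443) (.leaf 0)) (.node (.leaf 937) (.leaf 1639)))) (.node (.node (.node (.node (.leaf 0) (.leaf 1360)) (.leaf 155)) (.node (.leaf 0) (.leaf 1959))) (.node (.node (.leaf 0) (.leaf 0)) (.node (.leaf 0) (.leaf 1788)))))

def certSRank27 : Janko.Tree (ℕ) :=
  (.node (.node (.node (.node (.node (.leaf 0) (.leaf 1717)) (.leaf 996)) (.node (.leaf 0) (.leaf 930))) (.node (.node (.leaf 0) (.leaf 1584)) (.node (.leaf 0) (.leaf 2062)))) (.node (.node (.node (.node (.leaf 0) (.leaf 1707)) (.leaf 0)) (.node (.leaf 0) (.leaf 0))) (.node (.node (.leaf 0) (.leaf 0)) (.node (.leaf 1024) (.leaf 0)))))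

def certSRank28 : Janko.Tree (ℕ) :=
  (.node (.node (.node (.node (.node (.leaf 0) (.leaf 1607)) (.leaf 413)) (.node (.leaf 0) (.leaf 555))) (.node (.node (.leaf 1190) (.leaf 1369)) (.node (.leaf 0) (.leaf 1226)))) (.node (.node (.node (.node (.leaf 0) (.leaf 1911)) (.leaf 0)) (.node (.leaf 0) (.leaf 0))) (.node (.node (.leaf 0) (.leaf 0)) (.node (.leaf 732) (.leaf 753)))))

def certSRank29 : Janko.Tree (ℕ) :=
  (.node (.node (.node (.node (.node (.leaf 0) (.leaf 1225)) (.leaf 0)) (.node (.leaf 212) (.leaf 0))) (.node (.node (.leaf 0) (.leaf 1371)) (.node (.leaf 0) (.leaf 1113)))) (.node (.node (.node (.node (.leaf 0) (.leaf 1909)) (.leaf 0)) (.node (.leaf 0) (.leaf 1445))) (.node (.node (.leaf 277) (.leaf 1117)) (.node (.leaf 1276) (.leaf 0)))))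

def certSRank30 : Janko.Tree (ℕ) :=
  (.node (.node (.node (.node (.node (.leaf 0) (.leaf 1347)) (.leaf 365)) (.node (.leaf 0) (.leaf 0))) (.node (.node (.leaf 0) (.leaf 0)) (.node (.leaf 0) (.leaf 730)))) (.node (.node (.node (.node (.leaf 0) (.leaf 1872)) (.leaf 0)) (.node (.leaf 0) (.leaf 1937))) (.node (.node (.leaf 0) (.leaf 0)) (.node (.leaf 1274) (.leaf 1767)))))

def certSRank31 : Janko.Tree (ℕ) :=
  (.node (.node (.node (.node (.node (.leaf 0) (.leaf 1179)) (.leaf 0)) (.node (.leaf 701) (.leaf 1628))) (.node (.node (.leaf 0) (.leaf 562)) (.node (.leaf 1626) (.leaf 1738)))) (.node (.node (.node (.node (.leaf 0) (.leaf 1806)) (.leaf 0)) (.node (.leaf 0) (.leaf 0))) (.node (.node (.leaf 0) (.leaf 0)) (.node (.leaf 1272) (.leaf 0)))))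

def certSRank32 : Janko.Tree (ℕ) :=
  (.node (.node (.node (.node (.node (.leaf 0) (.leaf 1298)) (.leaf 0)) (.node (.leaf 306) (.leaf 0))) (.node (.node (.leaf 0) (.leaf 0)) (.node (.leaf 0) (.leaf 0)))) (.node (.node (.node (.node (.leaf 94) (.leaf 1999)) (.leaf 1323)) (.node (.leaf 1050) (.leaf 0))) (.node (.node (.leaf 0) (.leaf 0)) (.node (.leaf 0) (.leaf 0)))))

def certSRank33 : Janko.Tree (ℕ) :=
  (.node (.node (.node (.node (.node (.leaf 0) (.leaf 2204)) (.leaf 523)) (.node (.leaf 0) (.leaf 0))) (.node (.node (.leaf 0) (.leaf 0)) (.node (.leaf 154) (.leaf 1223)))) (.node (.node (.node (.node (.leaf 0) (.leaf 1819)) (.leaf 786)) (.node (.leaf 454) (.leaf 193))) (.node (.node (.leaf 0) (.leaf 1982)) (.node (.leaf 0) (.leaf 37)))))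

def certSRank34 : Janko.Tree (ℕ) :=
  (.node (.node (.node (.node (.node (.leaf 0) (.leaf 1861)) (.leaf 0)) (.node (.leaf 0) (.leaf 1704))) (.node (.node (.leaf 0) (.leaf 0)) (.node (.leaf 0) (.leaf 18)))) (.node (.node (.node (.node (.leaf 0) (.leaf 2016)) (.leaf 563)) (.node (.leaf 0) (.leaf 0))) (.node (.node (.leaf 856) (.leaf 0)) (.node (.leaf 2160) (.leaf 2217)))))

def certSRank35 : Janko.Tree (ℕ) :=
  (.node (.node (.node (.node (.node (.leaf 0) (.leaf 0)) (.leaf 0)) (.node (.leaf 0) (.leaf 0))) (.node (.node (.leaf 0) (.leaf 0)) (.node (.leaf 0) (.leaf 1984)))) (.node (.node (.node (.node (.leaf 0) (.leaf 1743)) (.leaf 0)) (.node (.leaf 0) (.leaf 621))) (.node (.node (.leaf 328) (.leaf 2177)) (.node (.leaf 2162) (.leaf 2100)))))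

def certSRank36 : Janko.Tree (ℕ) :=
  (.node (.node (.node (.node (.node (.leaf 0) (.leaf 557)) (.leaf 0)) (.node (.leaf 1624) (.leaf 0))) (.node (.node (.leaf 0) (.leaf 820)) (.node (.leaf 0) (.leaf 2000)))) (.node (.node (.node (.node (.leaf 0) (.leaf 1882)) (.leaf 0)) (.node (.leaf 0) (.leaf 2270))) (.node (.node (.leaf 0) (.leaf 1632)) (.node (.leaf 953) (.leaf 0)))))

def certSRank37 : Janko.Tree (ℕ) :=
  (.node (.node (.node (.node (.node (.leaf 0) (.leaf 1567)) (.leaf 542)) (.node (.leaf 519) (.leaf 89))) (.node (.node (.leaf 0) (.leaf 0)) (.node (.leaf 225) (.leaf 0)))) (.node (.node (.node (.node (.leaf 0) (.leaf 1992)) (.leaf 265)) (.node (.leaf 0) (.leaf 739))) (.node (.node (.leaf 0) (.leaf 299)) (.node (.leaf 44) (.leaf 1946)))))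

def certSRank38 : Janko.Tree (ℕ) :=
  (.node (.node (.node (.node (.node (.leaf 0) (.leaf 1573)) (.leaf 0)) (.node (.leaf 1275) (.leaf 0))) (.node (.node (.leaf 0) (.leaf 456)) (.node (.leaf 0) (.leaf 2186)))) (.node (.node (.node (.node (.leaf 392) (.leaf 2236)) (.leaf 0)) (.node (.leaf 0) (.leaf 65))) (.node (.node (.leaf 0) (.leaf 0)) (.node (.leaf 0) (.leaf 1945)))))

def certSRank39 : Janko.Tree (ℕ) :=
  (.node (.node (.node (.node (.node (.leaf 0) (.leaf 0)) (.leaf 790)) (.node (.leaf 0) (.leaf 1684))) (.node (.node (.leaf 0) (.leaf 0)) (.node (.leaf 402) (.leaf 0)))) (.node (.node (.node (.node (.leaf 0) (.leaf 2111)) (.leaf 512)) (.node (.leaf 0) (.leaf 128))) (.node (.node (.leaf 60) (.leaf 1987)) (.node (.leaf 950) (.leaf 0)))))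

def certSRank40 : Janko.Tree (ℕ) :=
  (.node (.node (.node (.node (.node (.leaf 0) (.leaf 0)) (.leaf 845)) (.node (.leaf 0) (.leaf 0))) (.node (.node (.leaf 0) (.leaf 0)) (.node (.leaf 0) (.leaf 0)))) (.node (.node (.node (.node (.leaf 0) (.leaf 2133)) (.leaf 215)) (.node (.leaf 0) (.leaf 2176))) (.node (.node (.leaf 1194) (.leaf 2118)) (.node (.leaf 0) (.leaf 237)))))

def certSRank41 : Janko.Tree (ℕ) :=
  (.node (.node (.node (.node (.node (.leaf 834) (.leaf 1818)) (.leaf 297)) (.node (.leaf 863) (.leaf 2256))) (.node (.node (.leaf 172) (.leaf 0)) (.node (.leaf 0) (.leaf 1998)))) (.node (.node (.node (.node (.leaf 591) (.leaf 2098)) (.leaf 0)) (.node (.leaf 826) (.leaf 1956))) (.node (.node (.leaf 719) (.leaf 2120)) (.node (.leaf 788) (.leaf 0)))))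

def certSRank42 : Janko.Tree (ℕ) :=
  (.node (.node (.node (.node (.node (.leaf 0) (.leaf 2220)) (.leaf 0)) (.node (.leaf 852) (.leaf 0))) (.node (.node (.leaf 0) (.leaf 0)) (.node (.leaf 0) (.leaf 0)))) (.node (.node (.node (.node (.leaf 0) (.leaf 2273)) (.leaf 0)) (.node (.leaf 1217) (.leaf 0))) (.node (.node (.leaf 0) (.leaf 0)) (.node (.leaf 0) (.leaf 1966)))))

def certSRank43 : Janko.Tree (ℕ) :=
  (.node (.node (.node (.node (.node (.leaf 0) (.leaf 1420)) (.leaf 283)) (.node (.leaf 0) (.leaf 0))) (.node (.node (.leaf 0) (.leaf 0)) (.node (.leaf 0) (.leaf 2132)))) (.node (.node (.node (.node (.leaf 0) (.leaf 2271)) (.leaf 242)) (.node (.leaf 241) (.leaf 112))) (.node (.node (.leaf 0) (.leaf 0)) (.node (.leaf 731) (.leaf 2131)))))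

def certSRank44 : Janko.Tree (ℕ) :=
  (.node (.node (.node (.node (.node (.leaf 0) (.leaf 1388)) (.leaf 0)) (.node (.leaf 0) (.leaf 0))) (.node (.node (.leaf 0) (.leaf 0)) (.node (.leaf 0) (.leaf 2061)))) (.node (.node (.node (.node (.leaf 0) (.leaf 1875)) (.leaf 0)) (.node (.leaf 551) (.leaf 975))) (.node (.node (.leaf 0) (.leaf 1810)) (.node (.leaf 0) (.leaf 0)))))

def certSRank45 : Janko.Tree (ℕ) :=
  (.node (.node (.node (.node (.node (.leaf 0) (.leaf 1386)) (.leaf 0)) (.node (.leaf 862) (.leaf 1768))) (.node (.node (.leaf 0) (.leaf 844)) (.node (.leaf 0) (.leaf 2238)))) (.node (.node (.node (.node (.leaf 0) (.leaf 1777)) (.leaf 0)) (.node (.leaf 110) (.leaf 1787))) (.node (.node (.leaf 0) (.leaf 2093)) (.node (.leaf 0) (.leaf 1758)))))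

def certSRank46 : Janko.Tree (ℕ) :=
  (.node (.node (.node (.node (.node (.leaf 0) (.leaf 847)) (.leaf 0)) (.node (.leaf 859) (.leaf 1566))) (.node (.node (.leaf 0) (.leaf 0)) (.node (.leaf 0) (.leaf 2254)))) (.node (.node (.node (.node (.leaf 0) (.leaf 2214)) (.leaf 0)) (.node (.leaf 0) (.leaf 0))) (.node (.node (.leaf 1197) (.leaf 0)) (.node (.leaf 624) (.leaf 1168)))))

def certSRank47 : Janko.Tree (ℕ) :=
  (.node (.node (.node (.node (.node (.leaf 0) (.leaf 0)) (.leaf 526)) (.node (.leaf 0) (.leaf 0))) (.node (.node (.leaf 69) (.leaf 2164)) (.node (.leaf 0) (.leaf 2237)))) (.node (.node (.node (.node (.leaf 0) (.leaf 2206)) (.leaf 0)) (.node (.leaf 484) (.leaf 1726))) (.node (.node (.leaf 464) (.leaf 0)) (.node (.leaf 0) (.leaf 0)))))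

def certSRank48 : Janko.Tree (ℕ) :=
  (.node (.node (.node (.node (.node (.leaf 0) (.leaf 2070)) (.leaf 0)) (.node (.leaf 0) (.leaf 422))) (.node (.node (.leaf 0) (.leaf 1615)) (.node (.leaf 1078) (.leaf 0)))) (.node (.node (.node (.node (.leaf 0) (.leaf 2269)) (.leaf 0)) (.node (.leaf 0) (.leaf 0))) (.node (.node (.leaf 0) (.leaf 0)) (.node (.leaf 1457) (.leaf 1062)))))

def certSRank49 : Janko.Tree (ℕ) :=
  (.node (.node (.node (.node (.node (.leaf 0) (.leaf 1922)) (.leaf 960)) (.node (.leaf 0) (.leaf 2086))) (.node (.node (.leaf 330) (.leaf 1784)) (.node (.leaf 8) (.leaf 1406)))) (.node (.node (.node (.node (.leaf 855) (.leaf 1917)) (.leaf 520)) (.node (.leaf 0) (.leaf 1741))) (.node (.node (.leaf 832) (.leaf 0)) (.node (.leaf 0) (.leaf 1480)))))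

def certSRank50 : Janko.Tree (ℕ) :=
  (.node (.node (.node (.node (.node (.leaf 0) (.leaf 1665)) (.leaf 1525)) (.node (.leaf 0) (.leaf 1649))) (.node (.node (.leaf 173) (.leaf 142)) (.node (.leaf 510) (.leaf 2092)))) (.node (.node (.node (.node (.leaf 0) (.leaf 1164)) (.leaf 0)) (.node (.leaf 218) (.leaf 1367))) (.node (.node (.leaf 476) (.leaf 0)) (.node (.leaf 0) (.leaf 488)))))

def certSRank51 : Janko.Tree (ℕ) :=
  (.node (.node (.node (.node (.node (.leaf 362) (.leaf 489)) (.leaf 0)) (.node (.leaf 833) (.leaf 1651))) (.node (.node (.leaf 1137) (.leaf 1010)) (.node (.leaf 0) (.leaf 2239)))) (.node (.node (.node (.node (.leaf 188) (.leaf 2258)) (.leaf 0)) (.node (.leaf 1468) (.leaf 911))) (.node (.node (.leaf 829) (.leaf 3)) (.node (.leaf 951) (.leaf 0)))))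

def certSRank52 : Janko.Tree (ℕ) :=
  (.node (.node (.node (.node (.node (.leaf 0) (.leaf 966)) (.leaf 0)) (.node (.leaf 0) (.leaf 752))) (.node (.node (.leaf 0) (.leaf 0)) (.node (.leaf 311) (.leaf 1891)))) (.node (.node (.node (.node (.leaf 0) (.leaf 285)) (.leaf 0)) (.node (.leaf 0) (.leaf 0))) (.node (.node (.leaf 0) (.leaf 222)) (.node (.leaf 616) (.leaf 0)))))

def certSRank53 : Janko.Tree (ℕ) :=
  (.node (.node (.node (.node (.node (.leaf 0) (.leaf 0)) (.leaf 0)) (.node (.leaf 0) (.leaf 1792))) (.node (.node (.leaf 0) (.leaf 97)) (.node (.leaf 0) (.leaf 0)))) (.node (.node (.node (.node (.leaf 0) (.leaf 1702)) (.leaf 0)) (.node (.leaf 0) (.leaf 842))) (.node (.node (.leaf 0) (.leaf 1988)) (.node (.leaf 0) (.leaf 1739)))))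

def certSRank54 : Janko.Tree (ℕ) :=
  (.node (.node (.node (.node (.node (.leaf 0) (.leaf 1797)) (.leaf 2180)) (.node (.leaf 203) (.leaf 0))) (.node (.node (.leaf 0) (.leaf 0)) (.node (.leaf 1364) (.leaf 1729)))) (.node (.node (.node (.node (.leaf 0) (.leaf 969)) (.leaf 1736)) (.node (.leaf 0) (.leaf 877))) (.node (.node (.leaf 0) (.leaf 0)) (.node (.leaf 0) (.leaf 1422)))))

def certSRank55 : Janko.Tree (ℕ) :=
  (.node (.node (.node (.node (.node (.leaf 0) (.leaf 2212)) (.leaf 0)) (.node (.leaf 0) (.leaf 0))) (.node (.node (.leaf 0) (.leaf 2165)) (.node (.leaf 0) (.leaf 2058)))) (.node (.node (.node (.node (.leaf 83) (.leaf 2126)) (.leaf 0)) (.node (.leaf 0) (.leaf 970))) (.node (.node (.leaf 0) (.leaf 0)) (.node (.leaf 1456) (.leaf 0)))))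

def certSRank56 : Janko.Tree (ℕ) :=
  (.node (.node (.node (.node (.node (.leaf 0) (.leaf 1877)) (.leaf 1623)) (.node (.leaf 0) (.leaf 0))) (.node (.node (.leaf 0) (.leaf 1037)) (.node (.leaf 0) (.leaf 1552)))) (.node (.node (.node (.node (.leaf 0) (.leaf 1373)) (.leaf 1586)) (.node (.leaf 482) (.leaf 1710))) (.node (.node (.leaf 0) (.leaf 2139)) (.node (.leaf 0) (.leaf 0)))))

def certSRank57 : Janko.Tree (ℕ) :=
  (.node (.node (.node (.node (.node (.leaf 0) (.leaf 967)) (.leaf 6)) (.node (.leaf 0) (.leaf 0))) (.node (.node (.leaf 0) (.leaf 0)) (.node (.leaf 0) (.leaf 1166)))) (.node (.node (.node (.node (.leaf 447) (.leaf 1575)) (.leaf 576)) (.node (.leaf 0) (.leaf 1705))) (.node (.node (.leaf 0) (.leaf 0)) (.node (.leaf 0) (.leaf 1568)))))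

def certSRank58 : Janko.Tree (ℕ) :=
  (.node (.node (.node (.node (.node (.leaf 0) (.leaf 2077)) (.leaf 0)) (.node (.leaf 0) (.leaf 1171))) (.node (.node (.leaf 0) (.leaf 0)) (.node (.leaf 0) (.leaf 0)))) (.node (.node (.node (.node (.leaf 0) (.leaf 2095)) (.leaf 0)) (.node (.leaf 0) (.leaf 0))) (.node (.node (.leaf 0) (.leaf 0)) (.node (.leaf 0) (.leaf 2143)))))

def certSRank59 : Janko.Tree (ℕ) :=
  (.node (.node (.node (.node (.node (.leaf 0) (.leaf 2079)) (.leaf 342)) (.node (.leaf 0) (.leaf 1224))) (.node (.node (.leaf 0) (.leaf 0)) (.node (.leaf 554) (.leaf 2144)))) (.node (.node (.node (.node (.leaf 0) (.leaf 1417)) (.leaf 1283)) (.node (.leaf 0) (.leaf 635))) (.node (.node (.leaf 0) (.leaf 541)) (.node (.leaf 98) (.leaf 364)))))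

def certSRank60 : Janko.Tree (ℕ) :=
  (.node (.node (.node (.node (.node (.leaf 0) (.leaf 2067)) (.leaf 1286)) (.node (.leaf 828) (.leaf 1645))) (.node (.node (.leaf 0) (.leaf 0)) (.node (.leaf 213) (.leaf 2222)))) (.node (.node (.node (.node (.leaf 0) (.leaf 2102)) (.leaf 1585)) (.node (.leaf 472) (.leaf 1727))) (.node (.node (.leaf 0) (.leaf 0)) (.node (.leaf 0) (.leaf 1921)))))

def certSRank61 : Janko.Tree (ℕ) :=
  (.node (.node (.node (.node (.node (.leaf 0) (.leaf 1157)) (.leaf 230)) (.node (.leaf 779) (.leaf 1389))) (.node (.node (.leaf 0) (.leaf 1368)) (.node (.leaf 313) (.leaf 0)))) (.node (.node (.node (.node (.leaf 0) (.leaf 2104)) (.leaf 0)) (.node (.leaf 0) (.leaf 1893))) (.node (.node (.leaf 0) (.leaf 2182)) (.node (.leaf 797) (.leaf 0)))))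

def certSRank62 : Janko.Tree (ℕ) :=
  (.node (.node (.node (.node (.node (.leaf 0) (.leaf 2103)) (.leaf 0)) (.node (.leaf 0) (.leaf 0))) (.node (.node (.leaf 0) (.leaf 622)) (.node (.leaf 0) (.leaf 1427)))) (.node (.node (.node (.node (.leaf 0) (.leaf 2200)) (.leaf 0)) (.node (.leaf 0) (.leaf 341))) (.node (.node (.leaf 214) (.leaf 2173)) (.node (.leaf 0) (.leaf 0)))))

def certSRank63 : Janko.Tree (ℕ) :=
  (.node (.node (.node (.node (.node (.leaf 0) (.leaf 1831)) (.leaf 1730)) (.node (.leaf 0) (.leaf 0))) (.node (.node (.leaf 0) (.leaf 1871)) (.node (.leaf 0) (.leaf 962)))) (.node (.node (.node (.node (.leaf 0) (.leaf 2002)) (.leaf 535)) (.node (.leaf 928) (.leaf 1588))) (.node (.node (.leaf 165) (.leaf 0)) (.node (.leaf 0) (.leaf 2191)))))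

def certSRank64 : Janko.Tree (ℕ) :=
  (.node (.node (.node (.node (.node (.leaf 0) (.leaf 0)) (.leaf 0)) (.node (.leaf 0) (.leaf 0))) (.node (.node (.leaf 0) (.leaf 644)) (.node (.leaf 0) (.leaf 0)))) (.node (.node (.node (.node (.leaf 0) (.leaf 1971)) (.leaf 812)) (.node (.leaf 0) (.leaf 938))) (.node (.node (.leaf 0) (.leaf 0)) (.node (.leaf 280) (.leaf 1812)))))

def certSRank65 : Janko.Tree (ℕ) :=
  (.node (.node (.node (.node (.node (.leaf 0) (.leaf 751)) (.leaf 0)) (.node (.leaf 0) (.leaf 0))) (.node (.node (.leaf 508) (.leaf 0)) (.node (.leaf 0) (.leaf 0)))) (.node (.node (.node (.node (.leaf 0) (.leaf 1968)) (.leaf 0)) (.node (.leaf 0) (.leaf 0))) (.node (.node (.leaf 0) (.leaf 0)) (.node (.leaf 0) (.leaf 0)))))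

def certSRank66 : Janko.Tree (ℕ) :=
  (.node (.node (.node (.node (.node (.leaf 0) (.leaf 1240)) (.leaf 1404)) (.node (.leaf 618) (.leaf 1165))) (.node (.node (.leaf 414) (.leaf 0)) (.node (.leaf 0) (.leaf 2038)))) (.node (.node (.node (.node (.leaf 0) (.leaf 1884)) (.leaf 814)) (.node (.leaf 0) (.leaf 458))) (.node (.node (.leaf 0) (.leaf 2020)) (.node (.leaf 0) (.leaf 787)))))

def certSRank67 : Janko.Tree (ℕ) :=
  (.node (.node (.node (.node (.node (.leaf 0) (.leaf 749)) (.leaf 0)) (.node (.leaf 0) (.leaf 0))) (.node (.node (.leaf 0) (.leaf 602)) (.node (.leaf 0) (.leaf 531)))) (.node (.node (.node (.node (.leaf 14) (.leaf 2012)) (.leaf 0)) (.node (.leaf 0) (.leaf 905))) (.node (.node (.leaf 0) (.leaf 0)) (.node (.leaf 0) (.leaf 0)))))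

def certSRank68 : Janko.Tree (ℕ) :=
  (.node (.node (.node (.node (.node (.leaf 0) (.leaf 1859)) (.leaf 0)) (.node (.leaf 601) (.leaf 1112))) (.node (.node (.leaf 81) (.leaf 2040)) (.node (.leaf 0) (.leaf 0)))) (.node (.node (.node (.node (.leaf 31) (.leaf 1148)) (.leaf 1187)) (.node (.leaf 1857) (.leaf 0))) (.node (.node (.leaf 0) (.leaf 2194)) (.node (.leaf 0) (.leaf 308)))))

def certSRank69 : Janko.Tree (ℕ) :=
  (.node (.node (.node (.node (.node (.leaf 0) (.leaf 320)) (.leaf 538)) (.node (.leaf 897) (.leaf 38))) (.node (.node (.leaf 0) (.leaf 0)) (.node (.leaf 310) (.leaf 2001)))) (.node (.node (.node (.node (.leaf 0) (.leaf 1803)) (.leaf 0)) (.node (.leaf 0) (.leaf 0))) (.node (.node (.leaf 111) (.leaf 1936)) (.node (.leaf 0) (.leaf 1808)))))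

def certSRank70 : Janko.Tree (ℕ) :=
  (.node (.node (.node (.node (.node (.leaf 0) (.leaf 1529)) (.leaf 286)) (.node (.leaf 593) (.leaf 1213))) (.node (.node (.leaf 0) (.leaf 0)) (.node (.leaf 0) (.leaf 2108)))) (.node (.node (.node (.node (.leaf 0) (.leaf 2211)) (.leaf 0)) (.node (.leaf 0) (.leaf 1537))) (.node (.node (.leaf 0) (.leaf 0)) (.node (.leaf 229) (.leaf 289)))))

def certSRank71 : Janko.Tree (ℕ) :=
  (.node (.node (.node (.node (.node (.leaf 0) (.leaf 1531)) (.leaf 1397)) (.node (.leaf 589) (.leaf 1116))) (.node (.node (.leaf 0) (.leaf 971)) (.node (.leaf 355) (.leaf 1962)))) (.node (.node (.node (.node (.leaf 0) (.leaf 1295)) (.leaf 819)) (.node (.leaf 0) (.leaf 934))) (.node (.node (.leaf 478) (.leaf 0)) (.node (.leaf 1254) (.leaf 0)))))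

def certSRank72 : Janko.Tree (ℕ) :=
  (.node (.node (.node (.node (.node (.leaf 0) (.leaf 0)) (.leaf 0)) (.node (.leaf 199) (.leaf 132))) (.node (.node (.leaf 0) (.leaf 0)) (.node (.leaf 0) (.leaf 1960)))) (.node (.node (.node (.node (.leaf 0) (.leaf 1965)) (.leaf 138)) (.node (.leaf 561) (.leaf 2091))) (.node (.node (.leaf 169) (.leaf 0)) (.node (.leaf 0) (.leaf 952)))))

def certSRank73 : Janko.Tree (ℕ) :=
  (.node (.node (.node (.node (.node (.leaf 0) (.leaf 2078)) (.leaf 0)) (.node (.leaf 0) (.leaf 2018))) (.node (.node (.leaf 0) (.leaf 0)) (.node (.leaf 292) (.leaf 1756)))) (.node (.node (.node (.node (.leaf 0) (.leaf 1963)) (.leaf 1754)) (.node (.leaf 0) (.leaf 0))) (.node (.node (.leaf 0) (.leaf 1630)) (.node (.leaf 1699) (.leaf 2158)))))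

def certSRank74 : Janko.Tree (ℕ) :=
  (.node (.node (.node (.node (.node (.leaf 35) (.leaf 0)) (.leaf 0)) (.node (.leaf 0) (.leaf 1533))) (.node (.node (.leaf 396) (.leaf 0)) (.node (.leaf 0) (.leaf 1813)))) (.node (.node (.node (.node (.leaf 0) (.leaf 534)) (.leaf 0)) (.node (.leaf 0) (.leaf 0))) (.node (.node (.leaf 0) (.leaf 0)) (.node (.leaf 0) (.leaf 424)))))

def certSRank75 : Janko.Tree (ℕ) :=
  (.node (.node (.node (.node (.node (.leaf 0) (.leaf 0)) (.leaf 0)) (.node (.leaf 598) (.leaf 314))) (.node (.node (.leaf 0) (.leaf 0)) (.node (.leaf 1731) (.leaf 1811)))) (.node (.node (.node (.node (.leaf 0) (.leaf 2005)) (.leaf 0)) (.node (.leaf 0) (.leaf 1671))) (.node (.node (.leaf 0) (.leaf 298)) (.node (.leaf 1713) (.leaf 2071)))))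

def certSRank76 : Janko.Tree (ℕ) :=
  (.node (.node (.node (.node (.node (.leaf 0) (.leaf 2255)) (.leaf 494)) (.node (.leaf 26) (.leaf 1363))) (.node (.node (.leaf 0) (.leaf 1889)) (.node (.leaf 0) (.leaf 0)))) (.node (.node (.node (.node (.leaf 0) (.leaf 2234)) (.leaf 509)) (.node (.leaf 0) (.leaf 1647))) (.node (.node (.leaf 0) (.leaf 0)) (.node (.leaf 0) (.leaf 0)))))

def certSRank77 : Janko.Tree (ℕ) :=
  (.node (.node (.node (.node (.node (.leaf 0) (.leaf 2203)) (.leaf 0)) (.node (.leaf 0) (.leaf 1304))) (.node (.node (.leaf 0) (.leaf 1048)) (.node (.leaf 0) (.leaf 998)))) (.node (.node (.node (.node (.leaf 0) (.leaf 2034)) (.leaf 511)) (.node (.leaf 0) (.leaf 999))) (.node (.node (.leaf 0) (.leaf 846)) (.node (.leaf 0) (.leaf 2189)))))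

def certSRank78 : Janko.Tree (ℕ) :=
  (.node (.node (.node (.node (.node (.leaf 0) (.leaf 2223)) (.leaf 1273)) (.node (.leaf 0) (.leaf 989))) (.node (.node (.leaf 0) (.leaf 0)) (.node (.leaf 0) (.leaf 1932)))) (.node (.node (.node (.node (.leaf 514) (.leaf 2030)) (.leaf 1370)) (.node (.leaf 0) (.leaf 207))) (.node (.node (.leaf 435) (.leaf 0)) (.node (.leaf 0) (.leaf 0)))))

def certSRank79 : Janko.Tree (ℕ) :=
  (.node (.node (.node (.node (.node (.leaf 0) (.leaf 2235)) (.leaf 0)) (.node (.leaf 0) (.leaf 415))) (.node (.node (.leaf 0) (.leaf 1195)) (.node (.leaf 0) (.leaf 1675)))) (.node (.node (.node (.node (.leaf 0) (.leaf 2227)) (.leaf 560)) (.node (.leaf 219) (.leaf 2163))) (.node (.node (.leaf 0) (.leaf 848)) (.node (.leaf 0) (.leaf 1748)))))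

def certSRank80 : Janko.Tree (ℕ) :=
  (.node (.node (.node (.node (.node (.leaf 262) (.leaf 2230)) (.leaf 1303)) (.node (.leaf 0) (.leaf 0))) (.node (.node (.leaf 0) (.leaf 348)) (.node (.leaf 791) (.leaf 1504)))) (.node (.node (.node (.node (.leaf 87) (.leaf 2036)) (.leaf 920)) (.node (.leaf 0) (.leaf 1461))) (.node (.node (.leaf 0) (.leaf 300)) (.node (.leaf 0) (.leaf 1924)))))

def certSRank81 : Janko.Tree (ℕ) :=
  (.node (.node (.node (.node (.node (.leaf 0) (.leaf 1802)) (.leaf 0)) (.node (.leaf 0) (.leaf 408))) (.node (.node (.leaf 0) (.leaf 0)) (.node (.leaf 0) (.leaf 785)))) (.node (.node (.node (.node (.leaf 0) (.leaf 1805)) (.leaf 0)) (.node (.leaf 470) (.leaf 811))) (.node (.node (.leaf 0) (.leaf 0)) (.node (.leaf 312) (.leaf 0)))))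

def certSRank82 : Janko.Tree (ℕ) :=
  (.node (.node (.node (.node (.node (.leaf 0) (.leaf 2124)) (.leaf 0)) (.node (.leaf 0) (.leaf 0))) (.node (.node (.leaf 0) (.leaf 0)) (.node (.leaf 217) (.leaf 0)))) (.node (.node (.node (.node (.leaf 0) (.leaf 2127)) (.leaf 0)) (.node (.leaf 170) (.leaf 2152))) (.node (.node (.leaf 0) (.leaf 1625)) (.node (.leaf 0) (.leaf 1975)))))

def certSRank83 : Janko.Tree (ℕ) :=
  (.node (.node (.node (.node (.node (.leaf 361) (.leaf 1990)) (.leaf 401)) (.node (.leaf 0) (.leaf 1220))) (.node (.node (.leaf 0) (.leaf 281)) (.node (.leaf 0) (.leaf 1737)))) (.node (.node (.node (.node (.leaf 0) (.leaf 1883)) (.leaf 0)) (.node (.leaf 397) (.leaf 2154))) (.node (.node (.leaf 437) (.leaf 0)) (.node (.leaf 1278) (.leaf 1980)))))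

def certSRank84 : Janko.Tree (ℕ) :=
  (.node (.node (.node (.node (.node (.leaf 0) (.leaf 1994)) (.leaf 1011)) (.node (.leaf 1316) (.leaf 2116))) (.node (.node (.leaf 0) (.leaf 1722)) (.node (.leaf 0) (.leaf 0)))) (.node (.node (.node (.node (.leaf 258) (.leaf 2013)) (.leaf 639)) (.node (.leaf 0) (.leaf 0))) (.node (.node (.leaf 303) (.leaf 992)) (.node (.leaf 0) (.leaf 1514)))))

def certSRank85 : Janko.Tree (ℕ) :=
  (.node (.node (.node (.node (.node (.leaf 0) (.leaf 1823)) (.leaf 513)) (.node (.leaf 0) (.leaf 0))) (.node (.node (.leaf 0) (.leaf 276)) (.node (.leaf 516) (.leaf 1481)))) (.node (.node (.node (.node (.leaf 0) (.leaf 1761)) (.leaf 0)) (.node (.leaf 0) (.leaf 0))) (.node (.node (.leaf 1634) (.leaf 0)) (.node (.leaf 279) (.leaf 1854)))))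

def certSRank86 : Janko.Tree (ℕ) :=
  (.node (.node (.node (.node (.node (.leaf 0) (.leaf 1408)) (.leaf 1080)) (.node (.leaf 376) (.leaf 1669))) (.node (.node (.leaf 0) (.leaf 0)) (.node (.leaf 0) (.leaf 0)))) (.node (.node (.node (.node (.leaf 395) (.leaf 2130)) (.leaf 0)) (.node (.leaf 59) (.leaf 319))) (.node (.node (.leaf 295) (.leaf 0)) (.node (.leaf 1088) (.leaf 2008)))))

def certSRank87 : Janko.Tree (ℕ) :=
  (.node (.node (.node (.node (.node (.leaf 0) (.leaf 2125)) (.leaf 545)) (.node (.leaf 0) (.leaf 1824))) (.node (.node (.leaf 0) (.leaf 0)) (.node (.leaf 518) (.leaf 2150)))) (.node (.node (.node (.node (.leaf 0) (.leaf 1763)) (.leaf 0)) (.node (.leaf 0) (.leaf 0))) (.node (.node (.leaf 0) (.leaf 1451)) (.node (.leaf 0) (.leaf 1151)))))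

def certSRank88 : Janko.Tree (ℕ) :=
  (.node (.node (.node (.node (.node (.leaf 0) (.leaf 2169)) (.leaf 1120)) (.node (.leaf 62) (.leaf 2181))) (.node (.node (.leaf 0) (.leaf 0)) (.node (.leaf 1052) (.leaf 1928)))) (.node (.node (.node (.node (.leaf 0) (.leaf 1886)) (.leaf 0)) (.node (.leaf 0) (.leaf 623))) (.node (.node (.leaf 0) (.leaf 0)) (.node (.leaf 477) (.leaf 2024)))))

def certSRank89 : Janko.Tree (ℕ) :=
  (.node (.node (.node (.node (.node (.leaf 0) (.leaf 2262)) (.leaf 641)) (.node (.leaf 0) (.leaf 530))) (.node (.node (.leaf 157) (.leaf 0)) (.node (.leaf 254) (.leaf 1926)))) (.node (.node (.node (.node (.leaf 0) (.leaf 1105)) (.leaf 0)) (.node (.leaf 0) (.leaf 0))) (.node (.node (.leaf 0) (.leaf 0)) (.node (.leaf 1321) (.leaf 1122)))))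

def certSRank90 : Janko.Tree (ℕ) :=
  (.node (.node (.node (.node (.node (.leaf 0) (.leaf 0)) (.leaf 0)) (.node (.leaf 0) (.leaf 293))) (.node (.node (.leaf 0) (.leaf 0)) (.node (.leaf 922) (.leaf 524)))) (.node (.node (.node (.node (.leaf 0) (.leaf 1233)) (.leaf 20)) (.node (.leaf 0) (.leaf 1866))) (.node (.node (.leaf 0) (.leaf 278)) (.node (.leaf 1698) (.leaf 1801)))))

def certSRank91 : Janko.Tree (ℕ) :=
  (.node (.node (.node (.node (.node (.leaf 0) (.leaf 223)) (.leaf 655)) (.node (.leaf 1657) (.leaf 0))) (.node (.node (.leaf 0) (.leaf 0)) (.node (.leaf 0) (.leaf 2224)))) (.node (.node (.node (.node (.leaf 0) (.leaf 194)) (.leaf 0)) (.node (.leaf 1981) (.leaf 1865))) (.node (.node (.leaf 0) (.leaf 0)) (.node (.leaf 0) (.leaf 2244)))))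

def certSRank92 : Janko.Tree (ℕ) :=
  (.node (.node (.node (.node (.node (.leaf 0) (.leaf 0)) (.leaf 630)) (.node (.leaf 861) (.leaf 2032))) (.node (.node (.leaf 0) (.leaf 0)) (.node (.leaf 657) (.leaf 1718)))) (.node (.node (.node (.node (.leaf 0) (.leaf 2129)) (.leaf 1333)) (.node (.leaf 0) (.leaf 612))) (.node (.node (.leaf 309) (.leaf 1549)) (.node (.leaf 0) (.leaf 1540)))))

def certSRank93 : Janko.Tree (ℕ) :=
  (.node (.node (.node (.node (.node (.leaf 0) (.leaf 2003)) (.leaf 0)) (.node (.leaf 0) (.leaf 2187))) (.node (.node (.leaf 517) (.leaf 2039)) (.node (.leaf 0) (.leaf 1180)))) (.node (.node (.node (.node (.leaf 269) (.leaf 2122)) (.leaf 1466)) (.node (.leaf 0) (.leaf 1655))) (.node (.node (.leaf 1583) (.leaf 0)) (.node (.leaf 0) (.leaf 755)))))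

def certSRank94 : Janko.Tree (ℕ) :=
  (.node (.node (.node (.node (.node (.leaf 0) (.leaf 2121)) (.leaf 689)) (.node (.leaf 247) (.leaf 0))) (.node (.node (.leaf 0) (.leaf 1587)) (.node (.leaf 0) (.leaf 17)))) (.node (.node (.node (.node (.leaf 773) (.leaf 2054)) (.leaf 1320)) (.node (.leaf 0) (.leaf 340))) (.node (.node (.leaf 0) (.leaf 0)) (.node (.leaf 0) (.leaf 919)))))

def certSRank95 : Janko.Tree (ℕ) :=
  (.node (.node (.node (.node (.node (.leaf 0) (.leaf 2123)) (.leaf 1337)) (.node (.leaf 1269) (.leaf 404))) (.node (.node (.leaf 0) (.leaf 0)) (.node (.leaf 0) (.leaf 1453)))) (.node (.node (.node (.node (.leaf 0) (.leaf 1149)) (.leaf 0)) (.node (.leaf 0) (.leaf 0))) (.node (.node (.leaf 0) (.leaf 1450)) (.node (.leaf 1020) (.leaf 1384)))))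

def certSRank96 : Janko.Tree (ℕ) :=
  (.node (.node (.node (.node (.node (.leaf 0) (.leaf 0)) (.leaf 651)) (.node (.leaf 0) (.leaf 0))) (.node (.node (.leaf 0) (.leaf 0)) (.node (.leaf 801) (.leaf 0)))) (.node (.node (.node (.node (.leaf 0) (.leaf 1520)) (.leaf 704)) (.node (.leaf 0) (.leaf 1305))) (.node (.node (.leaf 0) (.leaf 0)) (.node (.leaf 0) (.leaf 878)))))

def certSRank97 : Janko.Tree (ℕ) :=
  (.node (.node (.node (.node (.node (.leaf 0) (.leaf 533)) (.leaf 0)) (.node (.leaf 0) (.leaf 1799))) (.node (.node (.leaf 271) (.leaf 843)) (.node (.leaf 0) (.leaf 0)))) (.node (.node (.node (.node (.leaf 0) (.leaf 679)) (.leaf 0)) (.node (.leaf 0) (.leaf 0))) (.node (.node (.leaf 0) (.leaf 0)) (.node (.leaf 0) (.leaf 1376)))))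

def certSRank98 : Janko.Tree (ℕ) :=
  (.node (.node (.node (.node (.node (.leaf 0) (.leaf 1906)) (.leaf 696)) (.node (.leaf 620) (.leaf 917))) (.node (.node (.leaf 0) (.leaf 1551)) (.node (.leaf 197) (.leaf 427)))) (.node (.node (.node (.node (.leaf 0) (.leaf 1210)) (.leaf 690)) (.node (.leaf 0) (.leaf 1989))) (.node (.node (.leaf 0) (.leaf 0)) (.node (.leaf 0) (.leaf 1282)))))

def certSRank99 : Janko.Tree (ℕ) :=
  (.node (.node (.node (.node (.node (.leaf 0) (.leaf 1908)) (.leaf 687)) (.node (.leaf 0) (.leaf 2026))) (.node (.node (.leaf 0) (.leaf 1312)) (.node (.leaf 808) (.leaf 1548)))) (.node (.node (.node (.node (.leaf 0) (.leaf 1740)) (.leaf 1318)) (.node (.leaf 0) (.leaf 0))) (.node (.node (.leaf 0) (.leaf 40)) (.node (.leaf 1711) (.leaf 1487)))))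

def certSRank100 : Janko.Tree (ℕ) :=
  (.node (.node (.node (.node (.node (.leaf 0) (.leaf 2028)) (.leaf 0)) (.node (.leaf 0) (.leaf 0))) (.node (.node (.leaf 80) (.leaf 469)) (.node (.leaf 0) (.leaf 1829)))) (.node (.node (.node (.node (.leaf 0) (.leaf 208)) (.leaf 0)) (.node (.leaf 220) (.leaf 0))) (.node (.node (.leaf 0) (.leaf 0)) (.node (.leaf 0) (.leaf 1359)))))

def certSRank101 : Janko.Tree (ℕ) :=
  (.node (.node (.node (.node (.node (.leaf 0) (.leaf 0)) (.leaf 1848)) (.node (.leaf 873) (.leaf 2115))) (.node (.node (.leaf 0) (.leaf 1543)) (.node (.leaf 0) (.leaf 0)))) (.node (.node (.node (.node (.leaf 82) (.leaf 2010)) (.leaf 0)) (.node (.leaf 0) (.leaf 737))) (.node (.node (.leaf 0) (.leaf 540)) (.node (.leaf 1175) (.leaf 881)))))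

def certSRank102 : Janko.Tree (ℕ) :=
  (.node (.node (.node (.node (.node (.leaf 0) (.leaf 1913)) (.leaf 0)) (.node (.leaf 0) (.leaf 409))) (.node (.node (.leaf 0) (.leaf 0)) (.node (.leaf 0) (.leaf 1311)))) (.node (.node (.node (.node (.leaf 0) (.leaf 1779)) (.leaf 0)) (.node (.leaf 0) (.leaf 0))) (.node (.node (.leaf 0) (.leaf 284)) (.node (.leaf 181) (.leaf 1595)))))

def certSRank103 : Janko.Tree (ℕ) :=
  (.node (.node (.node (.node (.node (.leaf 114) (.leaf 1479)) (.leaf 0)) (.node (.leaf 0) (.leaf 0))) (.node (.node (.leaf 0) (.leaf 1830)) (.node (.leaf 0) (.leaf 0)))) (.node (.node (.node (.node (.leaf 440) (.leaf 1781)) (.leaf 662)) (.node (.leaf 296) (.leaf 0))) (.node (.node (.leaf 356) (.leaf 0)) (.node (.leaf 1069) (.leaf 1766)))))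

def certSRank104 : Janko.Tree (ℕ) :=
  (.node (.node (.node (.node (.node (.leaf 0) (.leaf 1569)) (.leaf 650)) (.node (.leaf 0) (.leaf 529))) (.node (.node (.leaf 0) (.leaf 0)) (.node (.leaf 1301) (.leaf 1652)))) (.node (.node (.node (.node (.leaf 0) (.leaf 2261)) (.leaf 0)) (.node (.leaf 0) (.leaf 1905))) (.node (.node (.leaf 0) (.leaf 711)) (.node (.leaf 0) (.leaf 0)))))

def certSRank105 : Janko.Tree (ℕ) :=
  (.node (.node (.node (.node (.node (.leaf 0) (.leaf 2196)) (.leaf 0)) (.node (.leaf 53) (.leaf 0))) (.node (.node (.leaf 0) (.leaf 143)) (.node (.leaf 686) (.leaf 1448)))) (.node (.node (.node (.node (.leaf 0) (.leaf 2272)) (.leaf 647)) (.node (.leaf 0) (.leaf 0))) (.node (.node (.leaf 802) (.leaf 1591)) (.node (.leaf 0) (.leaf 1997)))))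

def certSRank106 : Janko.Tree (ℕ) :=
  (.node (.node (.node (.node (.node (.leaf 0) (.leaf 0)) (.leaf 872)) (.node (.leaf 0) (.leaf 837))) (.node (.node (.leaf 0) (.leaf 1600)) (.node (.leaf 656) (.leaf 301)))) (.node (.node (.node (.node (.leaf 0) (.leaf 156)) (.leaf 1582)) (.node (.leaf 0) (.leaf 1880))) (.node (.node (.leaf 0) (.leaf 0)) (.node (.leaf 0) (.leaf 1499)))))

def certSRank107 : Janko.Tree (ℕ) :=
  (.node (.node (.node (.node (.node (.leaf 830) (.leaf 0)) (.leaf 0)) (.node (.leaf 0) (.leaf 0))) (.node (.node (.leaf 0) (.leaf 0)) (.node (.leaf 1510) (.leaf 1816)))) (.node (.node (.node (.node (.leaf 0) (.leaf 2080)) (.leaf 0)) (.node (.leaf 268) (.leaf 0))) (.node (.node (.leaf 275) (.leaf 982)) (.node (.leaf 106) (.leaf 1186)))))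

def certSRank108 : Janko.Tree (ℕ) :=
  (.node (.node (.node (.node (.node (.leaf 0) (.leaf 282)) (.leaf 0)) (.node (.leaf 0) (.leaf 0))) (.node (.node (.leaf 590) (.leaf 0)) (.node (.leaf 688) (.leaf 2042)))) (.node (.node (.node (.node (.leaf 0) (.leaf 2208)) (.leaf 0)) (.node (.leaf 0) (.leaf 344))) (.node (.node (.leaf 0) (.leaf 0)) (.node (.leaf 0) (.leaf 1435)))))

def certSRank109 : Janko.Tree (ℕ) :=
  (.node (.node (.node (.node (.node (.leaf 104) (.leaf 1745)) (.leaf 0)) (.node (.leaf 0) (.leaf 2245))) (.node (.node (.leaf 0) (.leaf 1022)) (.node (.leaf 0) (.leaf 0)))) (.node (.node (.node (.node (.leaf 0) (.leaf 1793)) (.leaf 1562)) (.node (.leaf 0) (.leaf 1546))) (.node (.node (.leaf 0) (.leaf 0)) (.node (.leaf 1034) (.leaf 1433)))))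

def certSRank110 : Janko.Tree (ℕ) :=
  (.node (.node (.node (.node (.node (.leaf 0) (.leaf 0)) (.leaf 0)) (.node (.leaf 206) (.leaf 818))) (.node (.node (.leaf 0) (.leaf 1579)) (.node (.leaf 0) (.leaf 0)))) (.node (.node (.node (.node (.leaf 0) (.leaf 2257)) (.leaf 1564)) (.node (.leaf 0) (.leaf 287))) (.node (.node (.leaf 0) (.leaf 0)) (.node (.leaf 417) (.leaf 977)))))

def certSRank111 : Janko.Tree (ℕ) :=
  (.node (.node (.node (.node (.node (.leaf 391) (.leaf 0)) (.leaf 0)) (.node (.leaf 0) (.leaf 1599))) (.node (.node (.leaf 0) (.leaf 1026)) (.node (.leaf 697) (.leaf 0)))) (.node (.node (.node (.node (.leaf 0) (.leaf 2259)) (.leaf 1574)) (.node (.leaf 840) (.leaf 1650))) (.node (.node (.leaf 294) (.leaf 0)) (.node (.leaf 0) (.leaf 1518)))))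

def certSRank112 : Janko.Tree (ℕ) :=
  (.node (.node (.node (.node (.node (.leaf 0) (.leaf 1325)) (.leaf 0)) (.node (.leaf 0) (.leaf 0))) (.node (.node (.leaf 0) (.leaf 1380)) (.node (.leaf 1067) (.leaf 0)))) (.node (.node (.node (.node (.leaf 0) (.leaf 2265)) (.leaf 695)) (.node (.leaf 0) (.leaf 1409))) (.node (.node (.leaf 0) (.leaf 0)) (.node (.leaf 907) (.leaf 0)))))

def certSRank113 : Janko.Tree (ℕ) :=
  (.node (.node (.node (.node (.node (.leaf 0) (.leaf 1484)) (.leaf 0)) (.node (.leaf 0) (.leaf 1876))) (.node (.node (.leaf 370) (.leaf 1183)) (.node (.leaf 446) (.leaf 0)))) (.node (.node (.node (.node (.leaf 835) (.leaf 2267)) (.leaf 1850)) (.node (.leaf 0) (.leaf 343))) (.node (.node (.leaf 0) (.leaf 2029)) (.node (.leaf 1648) (.leaf 2045)))))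

def certSRank114 : Janko.Tree (ℕ) :=
  (.node (.node (.node (.node (.node (.leaf 0) (.leaf 2094)) (.leaf 0)) (.node (.leaf 0) (.leaf 1460))) (.node (.node (.leaf 0) (.leaf 0)) (.node (.leaf 0) (.leaf 1760)))) (.node (.node (.node (.node (.leaf 0) (.leaf 2145)) (.leaf 2251)) (.node (.leaf 0) (.leaf 0))) (.node (.node (.leaf 500) (.leaf 762)) (.node (.leaf 909) (.leaf 0)))))

def certSRank115 : Janko.Tree (ℕ) :=
  (.node (.node (.node (.node (.node (.leaf 0) (.leaf 2096)) (.leaf 702)) (.node (.leaf 0) (.leaf 2156))) (.node (.node (.leaf 0) (.leaf 0)) (.node (.leaf 0) (.leaf 0)))) (.node (.node (.node (.node (.leaf 0) (.leaf 2085)) (.leaf 2249)) (.node (.leaf 0) (.leaf 1544))) (.node (.node (.leaf 0) (.leaf 70)) (.node (.leaf 0) (.leaf 1342)))))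

def certSRank116 : Janko.Tree (ℕ) :=
  (.node (.node (.node (.node (.node (.leaf 0) (.leaf 2134)) (.leaf 1393)) (.node (.leaf 0) (.leaf 943))) (.node (.node (.leaf 0) (.leaf 915)) (.node (.leaf 1732) (.leaf 0)))) (.node (.node (.node (.node (.leaf 503) (.leaf 1949)) (.leaf 1747)) (.node (.leaf 0) (.leaf 1542))) (.node (.node (.leaf 770) (.leaf 0)) (.node (.leaf 0) (.leaf 2084)))))

def certSRank117 : Janko.Tree (ℕ) :=
  (.node (.node (.node (.node (.node (.leaf 0) (.leaf 1822)) (.leaf 0)) (.node (.leaf 0) (.leaf 0))) (.node (.node (.leaf 0) (.leaf 1016)) (.node (.leaf 0) (.leaf 388)))) (.node (.node (.node (.node (.leaf 0) (.leaf 1706)) (.leaf 699)) (.node (.leaf 0) (.leaf 345))) (.node (.node (.leaf 515) (.leaf 0)) (.node (.leaf 921) (.leaf 2064)))))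

def certSRank118 : Janko.Tree (ℕ) :=
  (.node (.node (.node (.node (.node (.leaf 0) (.leaf 1826)) (.leaf 0)) (.node (.leaf 0) (.leaf 239))) (.node (.node (.leaf 0) (.leaf 216)) (.node (.leaf 0) (.leaf 1108)))) (.node (.node (.node (.node (.leaf 0) (.leaf 1938)) (.leaf 88)) (.node (.leaf 0) (.leaf 0))) (.node (.node (.leaf 0) (.leaf 694)) (.node (.leaf 457) (.leaf 1640)))))

def certSRank119 : Janko.Tree (ℕ) :=
  (.node (.node (.node (.node (.node (.leaf 0) (.leaf 2015)) (.leaf 0)) (.node (.leaf 0) (.leaf 948))) (.node (.node (.leaf 0) (.leaf 0)) (.node (.leaf 0) (.leaf 1416)))) (.node (.node (.node (.node (.leaf 0) (.leaf 1943)) (.leaf 1620)) (.node (.leaf 350) (.leaf 735))) (.node (.node (.leaf 0) (.leaf 1560)) (.node (.leaf 1136) (.leaf 1642)))))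

def certSRank120 : Janko.Tree (ℕ) :=
  (.node (.node (.node (.node (.node (.leaf 0) (.leaf 1809)) (.leaf 858)) (.node (.leaf 378) (.leaf 159))) (.node (.node (.leaf 0) (.leaf 0)) (.node (.leaf 1622) (.leaf 0)))) (.node (.node (.node (.node (.leaf 502) (.leaf 532)) (.leaf 0)) (.node (.leaf 0) (.leaf 0))) (.node (.node (.leaf 27) (.leaf 1509)) (.node (.leaf 0) (.leaf 2202)))))

def certSRank121 : Janko.Tree (ℕ) :=
  (.node (.node (.node (.node (.node (.leaf 0) (.leaf 2119)) (.leaf 0)) (.node (.leaf 0) (.leaf 0))) (.node (.node (.leaf 304) (.leaf 0)) (.node (.leaf 0) (.leaf 709)))) (.node (.node (.node (.node (.leaf 0) (.leaf 2114)) (.leaf 0)) (.node (.leaf 270) (.leaf 1897))) (.node (.node (.leaf 0) (.leaf 1339)) (.node (.leaf 0) (.leaf 116)))))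

def certSRank122 : Janko.Tree (ℕ) :=
  (.node (.node (.node (.node (.node (.leaf 32) (.leaf 1825)) (.leaf 192)) (.node (.leaf 1418) (.leaf 564))) (.node (.node (.leaf 0) (.leaf 1774)) (.node (.leaf 0) (.leaf 1115)))) (.node (.node (.node (.node (.leaf 0) (.leaf 412)) (.leaf 1478)) (.node (.leaf 0) (.leaf 0))) (.node (.node (.leaf 0) (.leaf 1330)) (.node (.leaf 756) (.leaf 1679)))))

def certSRank123 : Janko.Tree (ℕ) :=
  (.node (.node (.node (.node (.node (.leaf 0) (.leaf 1814)) (.leaf 0)) (.node (.leaf 0) (.leaf 1528))) (.node (.node (.leaf 12) (.leaf 0)) (.node (.leaf 2250) (.leaf 1387)))) (.node (.node (.node (.node (.leaf 0) (.leaf 2263)) (.leaf 1523)) (.node (.leaf 0) (.leaf 0))) (.node (.node (.leaf 0) (.leaf 1979)) (.node (.leaf 0) (.leaf 714)))))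

def certSRank124 : Janko.Tree (ℕ) :=
  (.node (.node (.node (.node (.node (.leaf 0) (.leaf 1887)) (.leaf 1326)) (.node (.leaf 245) (.leaf 707))) (.node (.node (.leaf 29) (.leaf 0)) (.node (.leaf 0) (.leaf 420)))) (.node (.node (.node (.node (.leaf 0) (.leaf 2242)) (.leaf 854)) (.node (.leaf 0) (.leaf 2174))) (.node (.node (.leaf 0) (.leaf 0)) (.node (.leaf 0) (.leaf 2178)))))

def certSRank125 : Janko.Tree (ℕ) :=
  (.node (.node (.node (.node (.node (.leaf 0) (.leaf 1885)) (.leaf 1279)) (.node (.leaf 0) (.leaf 0))) (.node (.node (.leaf 0) (.leaf 1097)) (.node (.leaf 1442) (.leaf 0)))) (.node (.node (.node (.node (.leaf 0) (.leaf 1750)) (.leaf 130)) (.node (.leaf 1309) (.leaf 0))) (.node (.node (.leaf 0) (.leaf 693)) (.node (.leaf 0) (.leaf 1972)))))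

def certSRank126 : Janko.Tree (ℕ) :=
  (.node (.node (.node (.node (.node (.leaf 0) (.leaf 1057)) (.leaf 0)) (.node (.leaf 1247) (.leaf 0))) (.node (.node (.leaf 0) (.leaf 162)) (.node (.leaf 0) (.leaf 816)))) (.node (.node (.node (.node (.leaf 0) (.leaf 1683)) (.leaf 0)) (.node (.leaf 0) (.leaf 0))) (.node (.node (.leaf 436) (.leaf 0)) (.node (.leaf 0) (.leaf 2087)))))

def certSRank127 : Janko.Tree (ℕ) :=
  (.node (.node (.node (.node (.node (.leaf 0) (.leaf 386)) (.leaf 0)) (.node (.leaf 0) (.leaf 1800))) (.node (.node (.leaf 0) (.leaf 1029)) (.node (.leaf 0) (.leaf 1557)))) (.node (.node (.node (.node (.leaf 827) (.leaf 2192)) (.leaf 603)) (.node (.leaf 0) (.leaf 2041))) (.node (.node (.leaf 0) (.leaf 0)) (.node (.leaf 0) (.leaf 0)))))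

def certSRank128 : Janko.Tree (ℕ) :=
  (.node (.node (.node (.node (.node (.leaf 0) (.leaf 1437)) (.leaf 0)) (.node (.leaf 0) (.leaf 648))) (.node (.node (.leaf 0) (.leaf 460)) (.node (.leaf 0) (.leaf 2083)))) (.node (.node (.node (.node (.leaf 0) (.leaf 0)) (.leaf 0)) (.node (.leaf 0) (.leaf 0))) (.node (.node (.leaf 442) (.leaf 1075)) (.node (.leaf 1044) (.leaf 1464)))))

def certSRank129 : Janko.Tree (ℕ) :=
  (.node (.node (.node (.node (.node (.leaf 0) (.leaf 712)) (.leaf 0)) (.node (.leaf 0) (.leaf 0))) (.node (.node (.leaf 0) (.leaf 0)) (.node (.leaf 46) (.leaf 708)))) (.node (.node (.node (.node (.leaf 0) (.leaf 0)) (.leaf 0)) (.node (.leaf 0) (.leaf 0))) (.node (.node (.leaf 0) (.leaf 1085)) (.node (.leaf 0) (.leaf 0)))))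

def certSRank130 : Janko.Tree (ℕ) :=
  (.node (.node (.node (.node (.node (.leaf 0) (.leaf 403)) (.leaf 0)) (.node (.leaf 109) (.leaf 1126))) (.node (.node (.leaf 507) (.leaf 1469)) (.node (.leaf 0) (.leaf 1485)))) (.node (.node (.node (.node (.leaf 0) (.leaf 36)) (.leaf 1135)) (.node (.leaf 24) (.leaf 0))) (.node (.node (.leaf 198) (.leaf 725)) (.node (.leaf 0) (.leaf 1769)))))

def certSRank131 : Janko.Tree (ℕ) :=
  (.node (.node (.node (.node (.node (.leaf 0) (.leaf 1790)) (.leaf 1237)) (.node (.leaf 0) (.leaf 1920))) (.node (.node (.leaf 0) (.leaf 1629)) (.node (.leaf 0) (.leaf 2090)))) (.node (.node (.node (.node (.leaf 0) (.leaf 418)) (.leaf 0)) (.node (.leaf 0) (.leaf 0))) (.node (.node (.leaf 0) (.leaf 0)) (.node (.leaf 0) (.leaf 1771)))))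

def certSRank132 : Janko.Tree (ℕ) :=
  (.node (.node (.node (.node (.node (.leaf 0) (.leaf 0)) (.leaf 1239)) (.node (.leaf 0) (.leaf 1841))) (.node (.node (.leaf 579) (.leaf 0)) (.node (.leaf 0) (.leaf 1950)))) (.node (.node (.node (.node (.leaf 0) (.leaf 236)) (.leaf 1691)) (.node (.leaf 377) (.leaf 0))) (.node (.node (.leaf 0) (.leaf 728)) (.node (.leaf 0) (.leaf 1852)))))

def certSRank133 : Janko.Tree (ℕ) :=
  (.node (.node (.node (.node (.node (.leaf 0) (.leaf 875)) (.leaf 0)) (.node (.leaf 0) (.leaf 1843))) (.node (.node (.leaf 836) (.leaf 2149)) (.node (.leaf 746) (.leaf 1340)))) (.node (.node (.node (.node (.leaf 0) (.leaf 115)) (.leaf 77)) (.node (.leaf 0) (.leaf 1095))) (.node (.node (.leaf 0) (.leaf 0)) (.node (.leaf 1476) (.leaf 1361)))))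

def certSRank134 : Janko.Tree (ℕ) :=
  (.node (.node (.node (.node (.node (.leaf 103) (.leaf 1207)) (.leaf 0)) (.node (.leaf 0) (.leaf 1612))) (.node (.node (.leaf 0) (.leaf 1662)) (.node (.leaf 0) (.leaf 1155)))) (.node (.node (.node (.node (.leaf 0) (.leaf 243)) (.leaf 584)) (.node (.leaf 375) (.leaf 0))) (.node (.node (.leaf 1084) (.leaf 1160)) (.node (.leaf 0) (.leaf 0)))))

def certSRank135 : Janko.Tree (ℕ) :=
  (.node (.node (.node (.node (.node (.leaf 0) (.leaf 1407)) (.leaf 678)) (.node (.leaf 0) (.leaf 810))) (.node (.node (.leaf 0) (.leaf 0)) (.node (.leaf 0) (.leaf 874)))) (.node (.node (.node (.node (.leaf 0) (.leaf 127)) (.leaf 0)) (.node (.leaf 0) (.leaf 1189))) (.node (.node (.leaf 0) (.leaf 0)) (.node (.leaf 0) (.leaf 1)))))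

def certSRank136 : Janko.Tree (ℕ) :=
  (.node (.node (.node (.node (.node (.leaf 0) (.leaf 1235)) (.leaf 1133)) (.node (.leaf 0) (.leaf 1350))) (.node (.node (.leaf 0) (.leaf 367)) (.node (.leaf 896) (.leaf 1063)))) (.node (.node (.node (.node (.leaf 0) (.leaf 228)) (.leaf 2106)) (.node (.leaf 0) (.leaf 763))) (.node (.node (.leaf 113) (.leaf 0)) (.node (.leaf 942) (.leaf 1153)))))

def certSRank137 : Janko.Tree (ℕ) :=
  (.node (.node (.node (.node (.node (.leaf 0) (.leaf 1558)) (.leaf 0)) (.node (.leaf 0) (.leaf 706))) (.node (.node (.leaf 0) (.leaf 1631)) (.node (.leaf 1253) (.leaf 1486)))) (.node (.node (.node (.node (.leaf 189) (.leaf 146)) (.leaf 0)) (.node (.leaf 399) (.leaf 1654))) (.node (.node (.leaf 0) (.leaf 1405)) (.node (.leaf 0) (.leaf 1658)))))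

def certSRank138 : Janko.Tree (ℕ) :=
  (.node (.node (.node (.node (.node (.leaf 0) (.leaf 1231)) (.leaf 1129)) (.node (.leaf 767) (.leaf 0))) (.node (.node (.leaf 0) (.leaf 0)) (.node (.leaf 857) (.leaf 0)))) (.node (.node (.node (.node (.leaf 804) (.leaf 234)) (.leaf 0)) (.node (.leaf 0) (.leaf 0))) (.node (.node (.leaf 0) (.leaf 0)) (.node (.leaf 0) (.leaf 0)))))

def certSRank139 : Janko.Tree (ℕ) :=
  (.node (.node (.node (.node (.node (.leaf 0) (.leaf 0)) (.leaf 0)) (.node (.leaf 792) (.leaf 1976))) (.node (.node (.leaf 1019) (.leaf 0)) (.node (.leaf 1287) (.leaf 1107)))) (.node (.node (.node (.node (.leaf 0) (.leaf 134)) (.leaf 627)) (.node (.leaf 0) (.leaf 1214))) (.node (.node (.leaf 58) (.leaf 0)) (.node (.leaf 0) (.leaf 2011)))))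

def certSRank140 : Janko.Tree (ℕ) :=
  (.node (.node (.node (.node (.node (.leaf 260) (.leaf 2128)) (.leaf 676)) (.node (.leaf 325) (.leaf 1497))) (.node (.node (.leaf 0) (.leaf 0)) (.node (.leaf 577) (.leaf 1101)))) (.node (.node (.node (.node (.leaf 0) (.leaf 337)) (.leaf 0)) (.node (.leaf 0) (.leaf 1904))) (.node (.node (.leaf 0) (.leaf 0)) (.node (.leaf 1673) (.leaf 1258)))))

def certSRank141 : Janko.Tree (ℕ) :=
  (.node (.node (.node (.node (.node (.leaf 0) (.leaf 0)) (.leaf 0)) (.node (.leaf 467) (.leaf 1503))) (.node (.node (.leaf 0) (.leaf 936)) (.node (.leaf 784) (.leaf 1716)))) (.node (.node (.node (.node (.leaf 0) (.leaf 363)) (.leaf 1498)) (.node (.leaf 1013) (.leaf 1483))) (.node (.node (.leaf 871) (.leaf 691)) (.node (.leaf 949) (.leaf 1869)))))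

def certSRank142 : Janko.Tree (ℕ) :=
  (.node (.node (.node (.node (.node (.leaf 0) (.leaf 1934)) (.leaf 0)) (.node (.leaf 187) (.leaf 0))) (.node (.node (.leaf 0) (.leaf 1475)) (.node (.leaf 0) (.leaf 1695)))) (.node (.node (.node (.node (.leaf 0) (.leaf 137)) (.leaf 0)) (.node (.leaf 0) (.leaf 1344))) (.node (.node (.leaf 0) (.leaf 0)) (.node (.leaf 139) (.leaf 879)))))

def certSRank143 : Janko.Tree (ℕ) :=
  (.node (.node (.node (.node (.node (.leaf 359) (.leaf 1572)) (.leaf 0)) (.node (.leaf 0) (.leaf 1855))) (.node (.node (.leaf 0) (.leaf 574)) (.node (.leaf 0) (.leaf 876)))) (.node (.node (.node (.node (.leaf 76) (.leaf 253)) (.leaf 583)) (.node (.leaf 628) (.leaf 1636))) (.node (.node (.leaf 0) (.leaf 727)) (.node (.leaf 1184) (.leaf 1259)))))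

def certSRank144 : Janko.Tree (ℕ) :=
  (.node (.node (.node (.node (.node (.leaf 0) (.leaf 2027)) (.leaf 1082)) (.node (.leaf 0) (.leaf 683))) (.node (.node (.leaf 0) (.leaf 1775)) (.node (.leaf 0) (.leaf 1637)))) (.node (.node (.node (.node (.leaf 0) (.leaf 438)) (.leaf 1696)) (.node (.leaf 637) (.leaf 2151))) (.node (.node (.leaf 0) (.leaf 1061)) (.node (.leaf 0) (.leaf 1053)))))

def certSRank145 : Janko.Tree (ℕ) :=
  (.node (.node (.node (.node (.node (.leaf 0) (.leaf 1513)) (.leaf 0)) (.node (.leaf 339) (.leaf 1565))) (.node (.node (.leaf 66) (.leaf 1161)) (.node (.leaf 505) (.leaf 1749)))) (.node (.node (.node (.node (.leaf 499) (.leaf 360)) (.leaf 609)) (.node (.leaf 0) (.leaf 0))) (.node (.node (.leaf 0) (.leaf 1068)) (.node (.leaf 839) (.leaf 385)))))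

def certSRank146 : Janko.Tree (ℕ) :=
  (.node (.node (.node (.node (.node (.leaf 0) (.leaf 0)) (.leaf 0)) (.node (.leaf 815) (.leaf 1751))) (.node (.node (.leaf 34) (.leaf 1412)) (.node (.leaf 1336) (.leaf 0)))) (.node (.node (.node (.node (.leaf 190) (.leaf 331)) (.leaf 0)) (.node (.leaf 685) (.leaf 0))) (.node (.node (.leaf 0) (.leaf 882)) (.node (.leaf 775) (.leaf 1324)))))

def certSRank147 : Janko.Tree (ℕ) :=
  (.node (.node (.node (.node (.node (.leaf 0) (.leaf 2033)) (.leaf 1204)) (.node (.leaf 597) (.leaf 1633))) (.node (.node (.leaf 587) (.leaf 368)) (.node (.leaf 892) (.leaf 1697)))) (.node (.node (.node (.node (.leaf 0) (.leaf 495)) (.leaf 1661)) (.node (.leaf 0) (.leaf 573))) (.node (.node (.leaf 1222) (.leaf 1070)) (.node (.leaf 0) (.leaf 1236)))))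

def certSRank148 : Janko.Tree (ℕ) :=
  (.node (.node (.node (.node (.node (.leaf 0) (.leaf 0)) (.leaf 1118)) (.node (.leaf 592) (.leaf 0))) (.node (.node (.leaf 0) (.leaf 995)) (.node (.leaf 0) (.leaf 1896)))) (.node (.node (.node (.node (.leaf 0) (.leaf 354)) (.leaf 1102)) (.node (.leaf 441) (.leaf 152))) (.node (.node (.leaf 0) (.leaf 174)) (.node (.leaf 800) (.leaf 1942)))))

def certSRank149 : Janko.Tree (ℕ) :=
  (.node (.node (.node (.node (.node (.leaf 0) (.leaf 1556)) (.leaf 0)) (.node (.leaf 100) (.leaf 681))) (.node (.node (.leaf 0) (.leaf 1846)) (.node (.leaf 0) (.leaf 1154)))) (.node (.node (.node (.node (.leaf 0) (.leaf 466)) (.leaf 0)) (.node (.leaf 0) (.leaf 1782))) (.node (.node (.leaf 0) (.leaf 1358)) (.node (.leaf 825) (.leaf 2051)))))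

def certSRank150 : Janko.Tree (ℕ) :=
  (.node (.node (.node (.node (.node (.leaf 0) (.leaf 2074)) (.leaf 0)) (.node (.leaf 838) (.leaf 0))) (.node (.node (.leaf 0) (.leaf 0)) (.node (.leaf 615) (.leaf 1832)))) (.node (.node (.node (.node (.leaf 860) (.leaf 434)) (.leaf 1043)) (.node (.leaf 0) (.leaf 570))) (.node (.node (.leaf 0) (.leaf 1447)) (.node (.leaf 894) (.leaf 958)))))

def certSRank151 : Janko.Tree (ℕ) :=
  (.node (.node (.node (.node (.node (.leaf 0) (.leaf 1114)) (.leaf 722)) (.node (.leaf 0) (.leaf 649))) (.node (.node (.leaf 596) (.leaf 0)) (.node (.leaf 642) (.leaf 1331)))) (.node (.node (.node (.node (.leaf 0) (.leaf 406)) (.leaf 1414)) (.node (.leaf 0) (.leaf 0))) (.node (.node (.leaf 0) (.leaf 0)) (.node (.leaf 0) (.leaf 0)))))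

def certSRank152 : Janko.Tree (ℕ) :=
  (.node (.node (.node (.node (.node (.leaf 0) (.leaf 1764)) (.leaf 0)) (.node (.leaf 0) (.leaf 1735))) (.node (.node (.leaf 0) (.leaf 2219)) (.node (.leaf 0) (.leaf 1394)))) (.node (.node (.node (.node (.leaf 0) (.leaf 821)) (.leaf 0)) (.node (.leaf 202) (.leaf 748))) (.node (.node (.leaf 654) (.leaf 0)) (.node (.leaf 0) (.leaf 1454)))))

def certSRank153 : Janko.Tree (ℕ) :=
  (.node (.node (.node (.node (.node (.leaf 0) (.leaf 1152)) (.leaf 0)) (.node (.leaf 0) (.leaf 0))) (.node (.node (.leaf 0) (.leaf 0)) (.node (.leaf 1015) (.leaf 1434)))) (.node (.node (.node (.node (.leaf 0) (.leaf 629)) (.leaf 886)) (.node (.leaf 0) (.leaf 1879))) (.node (.node (.leaf 0) (.leaf 1285)) (.node (.leaf 0) (.leaf 0)))))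

def certSRank154 : Janko.Tree (ℕ) :=
  (.node (.node (.node (.node (.node (.leaf 0) (.leaf 1209)) (.leaf 0)) (.node (.leaf 0) (.leaf 1978))) (.node (.node (.leaf 0) (.leaf 0)) (.node (.leaf 1045) (.leaf 0)))) (.node (.node (.node (.node (.leaf 0) (.leaf 653)) (.leaf 1494)) (.node (.leaf 805) (.leaf 1398))) (.node (.node (.leaf 444) (.leaf 1262)) (.node (.leaf 522) (.leaf 2069)))))

def certSRank155 : Janko.Tree (ℕ) :=
  (.node (.node (.node (.node (.node (.leaf 0) (.leaf 2076)) (.leaf 0)) (.node (.leaf 757) (.leaf 1733))) (.node (.node (.leaf 0) (.leaf 0)) (.node (.leaf 0) (.leaf 0)))) (.node (.node (.node (.node (.leaf 793) (.leaf 850)) (.leaf 0)) (.node (.leaf 0) (.leaf 0))) (.node (.node (.leaf 0) (.leaf 1728)) (.node (.leaf 1944) (.leaf 987)))))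

def certSRank156 : Janko.Tree (ℕ) :=
  (.node (.node (.node (.node (.node (.leaf 0) (.leaf 2168)) (.leaf 0)) (.node (.leaf 619) (.leaf 0))) (.node (.node (.leaf 0) (.leaf 939)) (.node (.leaf 0) (.leaf 497)))) (.node (.node (.node (.node (.leaf 0) (.leaf 1299)) (.leaf 0)) (.node (.leaf 205) (.leaf 572))) (.node (.node (.leaf 1041) (.leaf 0)) (.node (.leaf 0) (.leaf 990)))))

def certSRank157 : Janko.Tree (ℕ) :=
  (.node (.node (.node (.node (.node (.leaf 0) (.leaf 2049)) (.leaf 1410)) (.node (.leaf 0) (.leaf 1391))) (.node (.node (.leaf 0) (.leaf 1511)) (.node (.leaf 626) (.leaf 0)))) (.node (.node (.node (.node (.leaf 0) (.leaf 358)) (.leaf 549)) (.node (.leaf 0) (.leaf 2146))) (.node (.node (.leaf 0) (.leaf 1593)) (.node (.leaf 272) (.leaf 1907)))))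

def certSRank158 : Janko.Tree (ℕ) :=
  (.node (.node (.node (.node (.node (.leaf 0) (.leaf 1785)) (.leaf 1140)) (.node (.leaf 0) (.leaf 1847))) (.node (.node (.leaf 0) (.leaf 945)) (.node (.leaf 547) (.leaf 1462)))) (.node (.node (.node (.node (.leaf 0) (.leaf 1202)) (.leaf 599)) (.node (.leaf 0) (.leaf 1664))) (.node (.node (.leaf 661) (.leaf 1242)) (.node (.leaf 1191) (.leaf 2221)))))

def certSRank159 : Janko.Tree (ℕ) :=
  (.node (.node (.node (.node (.node (.leaf 0) (.leaf 1686)) (.leaf 1245)) (.node (.leaf 0) (.leaf 1851))) (.node (.node (.leaf 0) (.leaf 0)) (.node (.leaf 0) (.leaf 671)))) (.node (.node (.node (.node (.leaf 257) (.leaf 405)) (.leaf 1302)) (.node (.leaf 0) (.leaf 2089))) (.node (.node (.leaf 0) (.leaf 1974)) (.node (.leaf 1724) (.leaf 2140)))))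

def certSRank160 : Janko.Tree (ℕ) :=
  (.node (.node (.node (.node (.node (.leaf 0) (.leaf 673)) (.leaf 1174)) (.node (.leaf 0) (.leaf 0))) (.node (.node (.leaf 0) (.leaf 1773)) (.node (.leaf 0) (.leaf 0)))) (.node (.node (.node (.node (.leaf 0) (.leaf 179)) (.leaf 0)) (.node (.leaf 307) (.leaf 0))) (.node (.node (.leaf 0) (.leaf 0)) (.node (.leaf 1265) (.leaf 0)))))

def certSRank161 : Janko.Tree (ℕ) :=
  (.node (.node (.node (.node (.node (.leaf 0) (.leaf 1874)) (.leaf 474)) (.node (.leaf 1270) (.leaf 0))) (.node (.node (.leaf 0) (.leaf 0)) (.node (.leaf 585) (.leaf 1570)))) (.node (.node (.node (.node (.leaf 0) (.leaf 102)) (.leaf 898)) (.node (.leaf 0) (.leaf 2063))) (.node (.node (.leaf 0) (.leaf 674)) (.node (.leaf 0) (.leaf 2147)))))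

def certSRank162 : Janko.Tree (ℕ) :=
  (.node (.node (.node (.node (.node (.leaf 0) (.leaf 1681)) (.leaf 1144)) (.node (.leaf 0) (.leaf 1400))) (.node (.node (.leaf 501) (.leaf 1619)) (.node (.leaf 0) (.leaf 1941)))) (.node (.node (.node (.leaf 86) (.leaf 0)) (.node (.leaf 0) (.leaf 1770))) (.node (.node (.leaf 1142) (.leaf 0)) (.node (.leaf 1280) (.leaf 1173)))))

def certSRank163 : Janko.Tree (ℕ) :=
  (.node (.node (.node (.node (.node (.leaf 99) (.leaf 1910)) (.leaf 880)) (.node (.leaf 0) (.leaf 1403))) (.node (.node (.leaf 0) (.leaf 1617)) (.node (.leaf 0) (.leaf 1929)))) (.node (.node (.node (.leaf 771) (.leaf 0)) (.node (.leaf 0) (.leaf 1459))) (.node (.node (.leaf 0) (.leaf 0)) (.node (.leaf 430) (.leaf 2159)))))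

def certSRank164 : Janko.Tree (ℕ) :=
  (.node (.node (.node (.node (.node (.leaf 0) (.leaf 1644)) (.leaf 868)) (.node (.leaf 0) (.leaf 1284))) (.node (.node (.leaf 0) (.leaf 1327)) (.node (.leaf 201) (.leaf 0)))) (.node (.node (.node (.leaf 0) (.leaf 0)) (.node (.leaf 0) (.leaf 1783))) (.node (.node (.leaf 0) (.leaf 0)) (.node (.leaf 0) (.leaf 1375)))))

def certSRank165 : Janko.Tree (ℕ) :=
  (.node (.node (.node (.node (.node (.leaf 327) (.leaf 680)) (.leaf 0)) (.node (.leaf 433) (.leaf 0))) (.node (.node (.leaf 0) (.leaf 0)) (.node (.leaf 0) (.leaf 57)))) (.node (.node (.node (.leaf 0) (.leaf 369)) (.node (.leaf 0) (.leaf 944))) (.node (.node (.leaf 0) (.leaf 0)) (.node (.leaf 274) (.leaf 1056)))))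

def certSRank166 : Janko.Tree (ℕ) :=
  (.node (.node (.node (.node (.node (.leaf 0) (.leaf 1522)) (.leaf 1051)) (.node (.leaf 0) (.leaf 0))) (.node (.node (.leaf 246) (.leaf 141)) (.node (.leaf 798) (.leaf 2231)))) (.node (.node (.node (.leaf 0) (.leaf 1338)) (.node (.leaf 0) (.leaf 961))) (.node (.node (.leaf 0) (.leaf 1219)) (.node (.leaf 0) (.leaf 0)))))

def certSRank167 : Janko.Tree (ℕ) :=
  (.node (.node (.node (.node (.node (.leaf 0) (.leaf 107)) (.leaf 851)) (.node (.leaf 0) (.leaf 1064))) (.node (.node (.leaf 0) (.leaf 1690)) (.node (.leaf 0) (.leaf 2225)))) (.node (.node (.node (.leaf 758) (.leaf 692)) (.node (.leaf 0) (.leaf 0))) (.node (.node (.leaf 0) (.leaf 1292)) (.node (.leaf 463) (.leaf 1914)))))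

def certSRank168 : Janko.Tree (ℕ) :=
  (.node (.node (.node (.node (.node (.leaf 0) (.leaf 2260)) (.leaf 1073)) (.node (.leaf 0) (.leaf 1001))) (.node (.node (.leaf 1196) (.leaf 0)) (.node (.leaf 191) (.leaf 0)))) (.node (.node (.node (.leaf 0) (.leaf 957)) (.node (.leaf 0) (.leaf 1845))) (.node (.node (.leaf 0) (.leaf 1124)) (.node (.leaf 0) (.leaf 1864)))))

def certSRank169 : Janko.Tree (ℕ) :=
  (.node (.node (.node (.node (.node (.leaf 0) (.leaf 1772)) (.leaf 726)) (.node (.leaf 789) (.leaf 1961))) (.node (.node (.leaf 0) (.leaf 72)) (.node (.leaf 0) (.leaf 2082)))) (.node (.node (.node (.leaf 0) (.leaf 0)) (.node (.leaf 869) (.leaf 1635))) (.node (.node (.leaf 0) (.leaf 2172)) (.node (.leaf 1581) (.leaf 1383)))))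

def certSRank170 : Janko.Tree (ℕ) :=
  (.node (.node (.node (.node (.node (.leaf 0) (.leaf 2031)) (.leaf 0)) (.node (.leaf 0) (.leaf 0))) (.node (.node (.leaf 0) (.leaf 537)) (.node (.leaf 0) (.leaf 0)))) (.node (.node (.node (.leaf 0) (.leaf 1755)) (.node (.leaf 186) (.leaf 1508))) (.node (.node (.leaf 0) (.leaf 1229)) (.node (.leaf 0) (.leaf 1931)))))

def certSRank171 : Janko.Tree (ℕ) :=
  (.node (.node (.node (.node (.node (.leaf 0) (.leaf 2007)) (.leaf 1199)) (.node (.leaf 0) (.leaf 580))) (.node (.node (.leaf 0) (.leaf 0)) (.node (.leaf 0) (.leaf 1349)))) (.node (.node (.node (.leaf 0) (.leaf 0)) (.node (.leaf 849) (.leaf 1392))) (.node (.node (.leaf 0) (.leaf 0)) (.node (.leaf 1589) (.leaf 1933)))))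

def certSRank172 : Janko.Tree (ℕ) :=
  (.node (.node (.node (.node (.node (.leaf 0) (.leaf 1203)) (.leaf 0)) (.node (.leaf 0) (.leaf 1319))) (.node (.node (.leaf 0) (.leaf 302)) (.node (.leaf 1334) (.leaf 1798)))) (.node (.node (.node (.leaf 0) (.leaf 0)) (.node (.leaf 23) (.leaf 925))) (.node (.node (.leaf 0) (.leaf 1079)) (.node (.leaf 0) (.leaf 0)))))

def certSRank173 : Janko.Tree (ℕ) :=
  (.node (.node (.node (.node (.node (.leaf 0) (.leaf 1964)) (.leaf 0)) (.node (.leaf 0) (.leaf 955))) (.node (.node (.leaf 0) (.leaf 0)) (.node (.leaf 0) (.leaf 1227)))) (.node (.node (.node (.leaf 0) (.leaf 1306)) (.node (.leaf 0) (.leaf 0))) (.node (.node (.leaf 0) (.leaf 1211)) (.node (.leaf 1471) (.leaf 2246)))))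

def certSRank174 : Janko.Tree (ℕ) :=
  (.node (.node (.node (.node (.node (.leaf 0) (.leaf 425)) (.leaf 1176)) (.node (.leaf 0) (.leaf 1836))) (.node (.node (.leaf 0) (.leaf 0)) (.node (.leaf 0) (.leaf 0)))) (.node (.node (.node (.leaf 0) (.leaf 0)) (.node (.leaf 0) (.leaf 946))) (.node (.node (.leaf 0) (.leaf 0)) (.node (.leaf 21) (.leaf 1948)))))

def certSRank175 : Janko.Tree (ℕ) :=
  (.node (.node (.node (.node (.node (.leaf 0) (.leaf 1970)) (.leaf 0)) (.node (.leaf 120) (.leaf 1465))) (.node (.node (.leaf 0) (.leaf 1401)) (.node (.leaf 0) (.leaf 1111)))) (.node (.node (.node (.leaf 0) (.leaf 252)) (.node (.leaf 0) (.leaf 0))) (.node (.node (.leaf 1467) (.leaf 1796)) (.node (.leaf 0) (.leaf 1377)))))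

def certSRank176 : Janko.Tree (ℕ) :=
  (.node (.node (.node (.node (.node (.leaf 0) (.leaf 0)) (.leaf 0)) (.node (.leaf 0) (.leaf 1463))) (.node (.node (.leaf 0) (.leaf 1267)) (.node (.leaf 0) (.leaf 0)))) (.node (.node (.node (.leaf 0) (.leaf 716)) (.node (.leaf 0) (.leaf 0))) (.node (.node (.leaf 0) (.leaf 0)) (.node (.leaf 448) (.leaf 972)))))

def certSRank177 : Janko.Tree (ℕ) :=
  (.node (.node (.node (.node (.node (.leaf 0) (.leaf 1150)) (.leaf 1715)) (.node (.leaf 140) (.leaf 890))) (.node (.node (.leaf 0) (.leaf 539)) (.node (.leaf 0) (.leaf 0)))) (.node (.node (.node (.leaf 0) (.leaf 0)) (.node (.leaf 0) (.leaf 0))) (.node (.node (.leaf 56) (.leaf 729)) (.node (.leaf 659) (.leaf 1346)))))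

def certSRank178 : Janko.Tree (ℕ) :=
  (.node (.node (.node (.node (.node (.leaf 0) (.leaf 0)) (.leaf 677)) (.node (.leaf 0) (.leaf 1356))) (.node (.node (.leaf 0) (.leaf 1590)) (.node (.leaf 0) (.leaf 2226)))) (.node (.node (.node (.leaf 0) (.leaf 1413)) (.node (.leaf 0) (.leaf 0))) (.node (.node (.leaf 1192) (.leaf 1898)) (.node (.leaf 445) (.leaf 1351)))))

def certSRank179 : Janko.Tree (ℕ) :=
  (.node (.node (.node (.node (.node (.leaf 0) (.leaf 2017)) (.leaf 0)) (.node (.leaf 1602) (.leaf 1146))) (.node (.node (.leaf 0) (.leaf 734)) (.node (.leaf 0) (.leaf 2228)))) (.node (.node (.node (.leaf 0) (.leaf 0)) (.node (.leaf 0) (.leaf 0))) (.node (.node (.leaf 449) (.leaf 0)) (.node (.leaf 0) (.leaf 1608)))))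

def certSRank180 : Janko.Tree (ℕ) :=
  (.node (.node (.node (.node (.node (.leaf 0) (.leaf 1023)) (.leaf 665)) (.node (.leaf 0) (.leaf 346))) (.node (.node (.leaf 0) (.leaf 0)) (.node (.leaf 0) (.leaf 675)))) (.node (.node (.node (.leaf 0) (.leaf 0)) (.node (.leaf 682) (.leaf 841))) (.node (.node (.leaf 136) (.leaf 0)) (.node (.leaf 183) (.leaf 1374)))))

def certSRank181 : Janko.Tree (ℕ) :=
  (.node (.node (.node (.node (.node (.leaf 0) (.leaf 1345)) (.leaf 0)) (.node (.leaf 50) (.leaf 1455))) (.node (.node (.leaf 0) (.leaf 1419)) (.node (.leaf 250) (.leaf 1046)))) (.node (.node (.node (.leaf 0) (.leaf 0)) (.node (.leaf 0) (.leaf 1930))) (.node (.node (.leaf 1477) (.leaf 2229)) (.node (.leaf 0) (.leaf 1385)))))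

def certSRank182 : Janko.Tree (ℕ) :=
  (.node (.node (.node (.node (.node (.leaf 0) (.leaf 0)) (.leaf 1039)) (.node (.leaf 0) (.leaf 0))) (.node (.node (.leaf 0) (.leaf 0)) (.node (.leaf 713) (.leaf 0)))) (.node (.node (.node (.leaf 0) (.leaf 1517)) (.node (.leaf 721) (.leaf 1666))) (.node (.node (.leaf 0) (.leaf 1103)) (.node (.leaf 0) (.leaf 1609)))))

def certSRank183 : Janko.Tree (ℕ) :=
  (.node (.node (.node (.node (.node (.leaf 0) (.leaf 2264)) (.leaf 0)) (.node (.leaf 761) (.leaf 888))) (.node (.node (.leaf 0) (.leaf 0)) (.node (.leaf 0) (.leaf 684)))) (.node (.node (.node (.leaf 351) (.leaf 1712)) (.node (.leaf 0) (.leaf 1329))) (.node (.node (.leaf 0) (.leaf 724)) (.node (.leaf 912) (.leaf 0)))))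

def certSRank184 : Janko.Tree (ℕ) :=
  (.node (.node (.node (.node (.node (.leaf 0) (.leaf 2195)) (.leaf 0)) (.node (.leaf 1601) (.leaf 2253))) (.node (.node (.leaf 0) (.leaf 1474)) (.node (.leaf 93) (.leaf 1500)))) (.node (.node (.node (.leaf 0) (.leaf 0)) (.node (.leaf 1077) (.leaf 527))) (.node (.node (.leaf 0) (.leaf 645)) (.node (.leaf 0) (.leaf 0)))))

def certSRank185 : Janko.Tree (ℕ) :=
  (.node (.node (.node (.node (.node (.leaf 0) (.leaf 0)) (.leaf 0)) (.node (.leaf 1616) (.leaf 1958))) (.node (.node (.leaf 63) (.leaf 993)) (.node (.leaf 0) (.leaf 1502)))) (.node (.node (.node (.leaf 144) (.leaf 0)) (.node (.leaf 0) (.leaf 1424))) (.node (.node (.leaf 0) (.leaf 0)) (.node (.leaf 483) (.leaf 2037)))))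

def certSRank186 : Janko.Tree (ℕ) :=
  (.node (.node (.node (.node (.node (.leaf 393) (.leaf 2268)) (.leaf 2247)) (.node (.leaf 608) (.leaf 2205))) (.node (.node (.leaf 196) (.leaf 817)) (.node (.leaf 0) (.leaf 0)))) (.node (.node (.node (.leaf 0) (.leaf 0)) (.node (.leaf 660) (.leaf 525))) (.node (.node (.leaf 0) (.leaf 646)) (.node (.leaf 167) (.leaf 1746)))))

def certSRank187 : Janko.Tree (ℕ) :=
  (.node (.node (.node (.node (.node (.leaf 0) (.leaf 226)) (.leaf 1491)) (.node (.leaf 0) (.leaf 0))) (.node (.node (.leaf 0) (.leaf 0)) (.node (.leaf 0) (.leaf 1571)))) (.node (.node (.node (.leaf 0) (.leaf 1411)) (.node (.leaf 0) (.leaf 2215))) (.node (.node (.leaf 0) (.leaf 1266)) (.node (.leaf 776) (.leaf 1858)))))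

def certSRank188 : Janko.Tree (ℕ) :=
  (.node (.node (.node (.node (.node (.leaf 101) (.leaf 1693)) (.leaf 668)) (.node (.leaf 631) (.leaf 604))) (.node (.node (.leaf 0) (.leaf 334)) (.node (.leaf 248) (.leaf 1293)))) (.node (.node (.node (.leaf 0) (.leaf 1390)) (.node (.leaf 0) (.leaf 1431))) (.node (.node (.leaf 0) (.leaf 0)) (.node (.leaf 332) (.leaf 1821)))))

def certSRank189 : Janko.Tree (ℕ) :=
  (.node (.node (.node (.node (.node (.leaf 0) (.leaf 1163)) (.leaf 0)) (.node (.leaf 1198) (.leaf 926))) (.node (.node (.leaf 780) (.leaf 1490)) (.node (.leaf 0) (.leaf 1912)))) (.node (.node (.node (.leaf 455) (.leaf 1357)) (.node (.leaf 1081) (.leaf 0))) (.node (.node (.leaf 0) (.leaf 1127)) (.node (.leaf 0) (.leaf 1744)))))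

def certSRank190 : Janko.Tree (ℕ) :=
  (.node (.node (.node (.node (.node (.leaf 0) (.leaf 2188)) (.leaf 0)) (.node (.leaf 0) (.leaf 0))) (.node (.node (.leaf 0) (.leaf 1071)) (.node (.leaf 0) (.leaf 2097)))) (.node (.node (.node (.leaf 0) (.leaf 1170)) (.node (.leaf 0) (.leaf 0))) (.node (.node (.leaf 0) (.leaf 1123)) (.node (.leaf 336) (.leaf 1348)))))

def certSRank191 : Janko.Tree (ℕ) :=
  (.node (.node (.node (.node (.node (.leaf 0) (.leaf 2190)) (.leaf 0)) (.node (.leaf 9) (.leaf 0))) (.node (.node (.leaf 0) (.leaf 1215)) (.node (.leaf 0) (.leaf 1597)))) (.node (.node (.node (.leaf 0) (.leaf 0)) (.node (.leaf 643) (.leaf 736))) (.node (.node (.leaf 578) (.leaf 1145)) (.node (.leaf 0) (.leaf 1900)))))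

def certSRank192 : Janko.Tree (ℕ) :=
  (.node (.node (.node (.node (.node (.leaf 33) (.leaf 2006)) (.leaf 0)) (.node (.leaf 25) (.leaf 1516))) (.node (.node (.leaf 0) (.leaf 1432)) (.node (.leaf 1313) (.leaf 1049)))) (.node (.node (.node (.leaf 0) (.leaf 0)) (.node (.leaf 658) (.leaf 290))) (.node (.node (.leaf 544) (.leaf 980)) (.node (.leaf 0) (.leaf 0)))))

def certSRank193 : Janko.Tree (ℕ) :=
  (.node (.node (.node (.node (.node (.leaf 795) (.leaf 1294)) (.leaf 1470)) (.node (.leaf 1042) (.leaf 900))) (.node (.node (.leaf 266) (.leaf 0)) (.node (.leaf 0) (.leaf 1863)))) (.node (.node (.node (.leaf 0) (.leaf 1381)) (.node (.leaf 0) (.leaf 0))) (.node (.node (.leaf 0) (.leaf 0)) (.node (.leaf 182) (.leaf 1606)))))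

def certSRank194 : Janko.Tree (ℕ) :=
  (.node (.node (.node (.node (.node (.leaf 394) (.leaf 2068)) (.leaf 667)) (.node (.leaf 453) (.leaf 0))) (.node (.node (.leaf 75) (.leaf 0)) (.node (.leaf 1526) (.leaf 1243)))) (.node (.node (.node (.leaf 0) (.leaf 0)) (.node (.leaf 0) (.leaf 0))) (.node (.node (.leaf 68) (.leaf 866)) (.node (.leaf 0) (.leaf 903)))))

def certSRank195 : Janko.Tree (ℕ) :=
  (.node (.node (.node (.node (.node (.leaf 0) (.leaf 2066)) (.leaf 1835)) (.node (.leaf 0) (.leaf 594))) (.node (.node (.leaf 506) (.leaf 906)) (.node (.leaf 0) (.leaf 0)))) (.node (.node (.node (.leaf 0) (.leaf 123)) (.node (.leaf 0) (.leaf 0))) (.node (.node (.leaf 0) (.leaf 1310)) (.node (.leaf 0) (.leaf 0)))))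

def certSRank196 : Janko.Tree (ℕ) :=
  (.node (.node (.node (.node (.node (.leaf 0) (.leaf 407)) (.leaf 0)) (.node (.leaf 0) (.leaf 895))) (.node (.node (.leaf 0) (.leaf 0)) (.node (.leaf 870) (.leaf 0)))) (.node (.node (.node (.leaf 0) (.leaf 1104)) (.node (.leaf 0) (.leaf 1555))) (.node (.node (.leaf 1083) (.leaf 0)) (.node (.leaf 0) (.leaf 997)))))

def certSRank197 : Janko.Tree (ℕ) :=
  (.node (.node (.node (.node (.node (.leaf 0) (.leaf 2142)) (.leaf 0)) (.node (.leaf 0) (.leaf 0))) (.node (.node (.leaf 0) (.leaf 1430)) (.node (.leaf 0) (.leaf 0)))) (.node (.node (.node (.leaf 0) (.leaf 1473)) (.node (.leaf 47) (.leaf 1553))) (.node (.node (.leaf 0) (.leaf 670)) (.node (.leaf 0) (.leaf 1621)))))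

def certSRank198 : Janko.Tree (ℕ) :=
  (.node (.node (.node (.node (.node (.leaf 0) (.leaf 2216)) (.leaf 1973)) (.node (.leaf 0) (.leaf 710))) (.node (.node (.leaf 0) (.leaf 473)) (.node (.leaf 0) (.leaf 2019)))) (.node (.node (.node (.leaf 0) (.leaf 0)) (.node (.leaf 0) (.leaf 914))) (.node (.node (.leaf 0) (.leaf 2081)) (.node (.leaf 0) (.leaf 1641)))))

def certSRank199 : Janko.Tree (ℕ) :=
  (.node (.node (.node (.node (.node (.leaf 0) (.leaf 2099)) (.leaf 884)) (.node (.leaf 0) (.leaf 887))) (.node (.node (.leaf 0) (.leaf 0)) (.node (.leaf 147) (.leaf 2072)))) (.node (.node (.node (.leaf 0) (.leaf 1098)) (.node (.leaf 0) (.leaf 1395))) (.node (.node (.leaf 0) (.leaf 0)) (.node (.leaf 184) (.leaf 1577)))))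

def certSRank200 : Janko.Tree (ℕ) :=
  (.node (.node (.node (.node (.node (.leaf 0) (.leaf 419)) (.leaf 0)) (.node (.leaf 428) (.leaf 41))) (.node (.node (.leaf 0) (.leaf 166)) (.node (.leaf 0) (.leaf 1291)))) (.node (.node (.node (.leaf 0) (.leaf 1159)) (.node (.leaf 1692) (.leaf 0))) (.node (.node (.leaf 0) (.leaf 666)) (.node (.leaf 1252) (.leaf 1853)))))

def certSRank201 : Janko.Tree (ℕ) :=
  (.node (.node (.node (.node (.node (.leaf 0) (.leaf 0)) (.leaf 613)) (.node (.leaf 0) (.leaf 1986))) (.node (.node (.leaf 774) (.leaf 0)) (.node (.leaf 0) (.leaf 1676)))) (.node (.node (.node (.leaf 0) (.leaf 0)) (.node (.leaf 0) (.leaf 1402))) (.node (.node (.leaf 0) (.leaf 1614)) (.node (.leaf 452) (.leaf 2022)))))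

def certSRank202 : Janko.Tree (ℕ) :=
  (.node (.node (.node (.node (.node (.leaf 0) (.leaf 2197)) (.leaf 0)) (.node (.leaf 745) (.leaf 0))) (.node (.node (.leaf 803) (.leaf 0)) (.node (.leaf 0) (.leaf 913)))) (.node (.node (.node (.leaf 796) (.leaf 1277)) (.node (.leaf 0) (.leaf 0))) (.node (.node (.leaf 0) (.leaf 0)) (.node (.leaf 718) (.leaf 0)))))

def certSRank203 : Janko.Tree (ℕ) :=
  (.node (.node (.node (.node (.node (.leaf 0) (.leaf 1873)) (.leaf 0)) (.node (.leaf 0) (.leaf 0))) (.node (.node (.leaf 0) (.leaf 1047)) (.node (.leaf 0) (.leaf 461)))) (.node (.node (.node (.leaf 0) (.leaf 0)) (.node (.leaf 720) (.leaf 0))) (.node (.node (.leaf 0) (.leaf 632)) (.node (.leaf 0) (.leaf 2088)))))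

def certSRank204 : Janko.Tree (ℕ) :=
  (.node (.node (.node (.node (.node (.leaf 0) (.leaf 0)) (.leaf 1072)) (.node (.leaf 0) (.leaf 0))) (.node (.node (.leaf 0) (.leaf 0)) (.node (.leaf 0) (.leaf 1506)))) (.node (.node (.node (.leaf 0) (.leaf 1436)) (.node (.leaf 177) (.leaf 918))) (.node (.node (.leaf 0) (.leaf 2014)) (.node (.leaf 180) (.leaf 636)))))

def certSRank205 : Janko.Tree (ℕ) :=
  (.node (.node (.node (.node (.node (.leaf 0) (.leaf 1795)) (.leaf 124)) (.node (.leaf 0) (.leaf 2101))) (.node (.node (.leaf 1317) (.leaf 366)) (.node (.leaf 0) (.leaf 902)))) (.node (.node (.node (.leaf 0) (.leaf 548)) (.node (.leaf 1201) (.leaf 1260))) (.node (.node (.leaf 0) (.leaf 0)) (.node (.leaf 0) (.leaf 672)))))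

def certSRank206 : Janko.Tree (ℕ) :=
  (.node (.node (.node (.node (.node (.leaf 0) (.leaf 754)) (.leaf 1017)) (.node (.leaf 0) (.leaf 0))) (.node (.node (.leaf 0) (.leaf 923)) (.node (.leaf 52) (.leaf 1687)))) (.node (.node (.node (.leaf 0) (.leaf 1862)) (.node (.leaf 0) (.leaf 566))) (.node (.node (.leaf 0) (.leaf 0)) (.node (.leaf 1257) (.leaf 2141)))))

def certSRank207 : Janko.Tree (ℕ) :=
  (.node (.node (.node (.node (.node (.leaf 0) (.leaf 1680)) (.leaf 0)) (.node (.leaf 733) (.leaf 2209))) (.node (.node (.leaf 0) (.leaf 0)) (.node (.leaf 0) (.leaf 0)))) (.node (.node (.node (.leaf 0) (.leaf 0)) (.node (.leaf 1458) (.leaf 1212))) (.node (.node (.leaf 0) (.leaf 1627)) (.node (.leaf 0) (.leaf 1131)))))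

def certSRank208 : Janko.Tree (ℕ) :=
  (.node (.node (.node (.node (.node (.leaf 0) (.leaf 0)) (.leaf 0)) (.node (.leaf 0) (.leaf 0))) (.node (.node (.leaf 0) (.leaf 1547)) (.node (.leaf 1314) (.leaf 1849)))) (.node (.node (.node (.leaf 85) (.leaf 0)) (.node (.leaf 0) (.leaf 1428))) (.node (.node (.leaf 0) (.leaf 1604)) (.node (.leaf 1563) (.leaf 765)))))

def certSRank209 : Janko.Tree (ℕ) :=
  (.node (.node (.node (.node (.node (.leaf 195) (.leaf 0)) (.leaf 1100)) (.node (.leaf 0) (.leaf 0))) (.node (.node (.leaf 431) (.leaf 1441)) (.node (.leaf 0) (.leaf 1550)))) (.node (.node (.node (.leaf 0) (.leaf 1322)) (.node (.leaf 634) (.leaf 0))) (.node (.node (.leaf 0) (.leaf 0)) (.node (.leaf 333) (.leaf 1610)))))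

def certSRank210 : Janko.Tree (ℕ) :=
  (.node (.node (.node (.node (.node (.leaf 0) (.leaf 1776)) (.leaf 0)) (.node (.leaf 0) (.leaf 0))) (.node (.node (.leaf 0) (.leaf 0)) (.node (.leaf 0) (.leaf 1927)))) (.node (.node (.node (.leaf 0) (.leaf 0)) (.node (.leaf 0) (.leaf 1618))) (.node (.node (.leaf 0) (.leaf 1426)) (.node (.leaf 176) (.leaf 633)))))

def certSRank211 : Janko.Tree (ℕ) :=
  (.node (.node (.node (.node (.node (.leaf 0) (.leaf 0)) (.leaf 0)) (.node (.leaf 0) (.leaf 64))) (.node (.node (.leaf 145) (.leaf 1139)) (.node (.leaf 883) (.leaf 1141)))) (.node (.node (.node (.leaf 0) (.leaf 0)) (.node (.leaf 0) (.leaf 916))) (.node (.node (.leaf 0) (.leaf 0)) (.node (.leaf 1307) (.leaf 0)))))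

def certSRank212 : Janko.Tree (ℕ) :=
  (.node (.node (.node (.node (.node (.leaf 0) (.leaf 1778)) (.leaf 233)) (.node (.leaf 568) (.leaf 1440))) (.node (.node (.leaf 0) (.leaf 1251)) (.node (.leaf 0) (.leaf 750)))) (.node (.node (.node (.leaf 0) (.leaf 0)) (.node (.leaf 0) (.leaf 1611))) (.node (.node (.leaf 0) (.leaf 175)) (.node (.leaf 0) (.leaf 823)))))

def certSRank213 : Janko.Tree (ℕ) :=
  (.node (.node (.node (.node (.node (.leaf 0) (.leaf 1682)) (.leaf 0)) (.node (.leaf 49) (.leaf 715))) (.node (.node (.leaf 0) (.leaf 1138)) (.node (.leaf 813) (.leaf 1130)))) (.node (.node (.node (.leaf 0) (.leaf 991)) (.node (.leaf 0) (.leaf 1613))) (.node (.node (.leaf 0) (.leaf 1561)) (.node (.leaf 0) (.leaf 1256)))))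

def certSRank214 : Janko.Tree (ℕ) :=
  (.node (.node (.node (.node (.node (.leaf 0) (.leaf 1765)) (.leaf 0)) (.node (.leaf 0) (.leaf 1438))) (.node (.node (.leaf 0) (.leaf 0)) (.node (.leaf 614) (.leaf 1701)))) (.node (.node (.node (.leaf 0) (.leaf 0)) (.node (.leaf 663) (.leaf 1446))) (.node (.node (.leaf 0) (.leaf 1977)) (.node (.leaf 0) (.leaf 1425)))))

def certSRank215 : Janko.Tree (ℕ) :=
  (.node (.node (.node (.node (.node (.leaf 91) (.leaf 209)) (.leaf 0)) (.node (.leaf 1091) (.leaf 0))) (.node (.node (.leaf 759) (.leaf 1036)) (.node (.leaf 640) (.leaf 1703)))) (.node (.node (.node (.leaf 0) (.leaf 0)) (.node (.leaf 0) (.leaf 1443))) (.node (.node (.leaf 153) (.leaf 1495)) (.node (.leaf 0) (.leaf 2009)))))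

def certSRank216 : Janko.Tree (ℕ) :=
  (.node (.node (.node (.node (.node (.leaf 0) (.leaf 1991)) (.leaf 0)) (.node (.leaf 1012) (.leaf 1444))) (.node (.node (.leaf 0) (.leaf 559)) (.node (.leaf 0) (.leaf 0)))) (.node (.node (.node (.leaf 0) (.leaf 740)) (.node (.leaf 0) (.leaf 0))) (.node (.node (.leaf 0) (.leaf 0)) (.node (.leaf 885) (.leaf 0)))))

def certSRank217 : Janko.Tree (ℕ) :=
  (.node (.node (.node (.node (.node (.leaf 374) (.leaf 426)) (.leaf 0)) (.node (.leaf 0) (.leaf 1109))) (.node (.node (.leaf 0) (.leaf 822)) (.node (.leaf 610) (.leaf 1678)))) (.node (.node (.node (.leaf 0) (.leaf 0)) (.node (.leaf 0) (.leaf 1038))) (.node (.node (.leaf 0) (.leaf 1289)) (.node (.leaf 0) (.leaf 1423)))))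

def certSRank218 : Janko.Tree (ℕ) :=
  (.node (.node (.node (.node (.node (.leaf 0) (.leaf 2105)) (.leaf 0)) (.node (.leaf 0) (.leaf 0))) (.node (.node (.leaf 0) (.leaf 0)) (.node (.leaf 1660) (.leaf 1789)))) (.node (.node (.node (.leaf 0) (.leaf 1271)) (.node (.leaf 664) (.leaf 0))) (.node (.node (.leaf 0) (.leaf 0)) (.node (.leaf 475) (.leaf 1354)))))

def certSRank219 : Janko.Tree (ℕ) :=
  (.node (.node (.node (.node (.node (.leaf 0) (.leaf 423)) (.leaf 0)) (.node (.leaf 0) (.leaf 0))) (.node (.node (.leaf 0) (.leaf 0)) (.node (.leaf 7) (.leaf 1000)))) (.node (.node (.node (.leaf 0) (.leaf 865)) (.node (.leaf 0) (.leaf 968))) (.node (.node (.leaf 400) (.leaf 0)) (.node (.leaf 0) (.leaf 1969)))))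

def certSRank220 : Janko.Tree (ℕ) :=
  (.node (.node (.node (.node (.node (.leaf 0) (.leaf 0)) (.leaf 2240)) (.node (.leaf 0) (.leaf 1415))) (.node (.node (.leaf 0) (.leaf 1489)) (.node (.leaf 0) (.leaf 941)))) (.node (.node (.node (.leaf 0) (.leaf 0)) (.node (.leaf 105) (.leaf 1399))) (.node (.node (.leaf 0) (.leaf 1839)) (.node (.leaf 831) (.leaf 1888)))))

def certSRank221 : Janko.Tree (ℕ) :=
  (.node (.node (.node (.node (.node (.leaf 0) (.leaf 1947)) (.leaf 954)) (.node (.leaf 744) (.leaf 1379))) (.node (.node (.leaf 0) (.leaf 1833)) (.node (.leaf 783) (.leaf 2004)))) (.node (.node (.node (.leaf 0) (.leaf 0)) (.node (.leaf 0) (.leaf 1653))) (.node (.node (.leaf 933) (.leaf 0)) (.node (.leaf 1300) (.leaf 1742)))))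

def certSRank222 : Janko.Tree (ℕ) :=
  (.node (.node (.node (.node (.node (.leaf 0) (.leaf 1643)) (.leaf 0)) (.node (.leaf 1014) (.leaf 1353))) (.node (.node (.leaf 0) (.leaf 1505)) (.node (.leaf 2107) (.leaf 1228)))) (.node (.node (.node (.leaf 0) (.leaf 0)) (.node (.leaf 0) (.leaf 1840))) (.node (.node (.leaf 0) (.leaf 669)) (.node (.leaf 766) (.leaf 2043)))))

def certSRank223 : Janko.Tree (ℕ) :=
  (.node (.node (.node (.node (.node (.leaf 0) (.leaf 1935)) (.leaf 117)) (.node (.leaf 0) (.leaf 347))) (.node (.node (.leaf 0) (.leaf 1507)) (.node (.leaf 984) (.leaf 0)))) (.node (.node (.node (.leaf 164) (.leaf 1250)) (.node (.leaf 0) (.leaf 1838))) (.node (.node (.leaf 0) (.leaf 1472)) (.node (.leaf 0) (.leaf 2109)))))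

def certSRank224 : Janko.Tree (ℕ) :=
  (.node (.node (.node (.node (.node (.leaf 0) (.leaf 1762)) (.leaf 1206)) (.node (.leaf 451) (.leaf 0))) (.node (.node (.leaf 600) (.leaf 73)) (.node (.leaf 0) (.leaf 1106)))) (.node (.node (.node (.leaf 0) (.leaf 1598)) (.node (.leaf 231) (.leaf 0))) (.node (.node (.leaf 0) (.leaf 1040)) (.node (.leaf 0) (.leaf 1878)))))

def certSRank225 : Janko.Tree (ℕ) :=
  (.node (.node (.node (.node (.node (.leaf 0) (.leaf 1820)) (.leaf 133)) (.node (.leaf 0) (.leaf 129))) (.node (.node (.leaf 0) (.leaf 0)) (.node (.leaf 1119) (.leaf 0)))) (.node (.node (.node (.leaf 135) (.leaf 0)) (.node (.leaf 0) (.leaf 2023))) (.node (.node (.leaf 0) (.leaf 1263)) (.node (.leaf 1957) (.leaf 1890)))))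

def certSRank226 : Janko.Tree (ℕ) :=
  (.node (.node (.node (.node (.node (.leaf 0) (.leaf 1708)) (.leaf 1025)) (.node (.leaf 0) (.leaf 1656))) (.node (.node (.leaf 0) (.leaf 0)) (.node (.leaf 1670) (.leaf 1156)))) (.node (.node (.node (.leaf 0) (.leaf 0)) (.node (.leaf 450) (.leaf 0))) (.node (.node (.leaf 0) (.leaf 1264)) (.node (.leaf 891) (.leaf 0)))))

def certSRank227 : Janko.Tree (ℕ) :=
  (.node (.node (.node (.node (.node (.leaf 15) (.leaf 1951)) (.leaf 0)) (.node (.leaf 0) (.leaf 0))) (.node (.node (.leaf 0) (.leaf 0)) (.node (.leaf 0) (.leaf 1996)))) (.node (.node (.node (.leaf 1335) (.leaf 625)) (.node (.leaf 178) (.leaf 324))) (.node (.node (.leaf 0) (.leaf 0)) (.node (.leaf 2252) (.leaf 0)))))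

def certSRank228 : Janko.Tree (ℕ) :=
  (.node (.node (.node (.node (.node (.leaf 0) (.leaf 1238)) (.leaf 0)) (.node (.leaf 0) (.leaf 1554))) (.node (.node (.leaf 1249) (.leaf 0)) (.node (.leaf 738) (.leaf 1134)))) (.node (.node (.node (.leaf 0) (.leaf 1290)) (.node (.leaf 235) (.leaf 485))) (.node (.node (.leaf 0) (.leaf 0)) (.node (.leaf 0) (.leaf 2183)))))

def certSRank229 : Janko.Tree (ℕ) :=
  (.node (.node (.node (.node (.node (.leaf 0) (.leaf 0)) (.leaf 42)) (.node (.leaf 0) (.leaf 976))) (.node (.node (.leaf 0) (.leaf 1492)) (.node (.leaf 1663) (.leaf 1967)))) (.node (.node (.node (.leaf 71) (.leaf 781)) (.node (.leaf 335) (.leaf 1955))) (.node (.node (.leaf 0) (.leaf 1439)) (.node (.leaf 232) (.leaf 1954)))))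

def certSRank230 : Janko.Tree (ℕ) :=
  (.node (.node (.node (.node (.node (.leaf 0) (.leaf 2185)) (.leaf 1003)) (.node (.leaf 929) (.leaf 1659))) (.node (.node (.leaf 0) (.leaf 1332)) (.node (.leaf 51) (.leaf 0)))) (.node (.node (.node (.leaf 0) (.leaf 79)) (.node (.leaf 171) (.leaf 0))) (.node (.node (.leaf 263) (.leaf 0)) (.node (.leaf 0) (.leaf 2050)))))

def certSRank231 : Janko.Tree (ℕ) :=
  (.node (.node (.node (.node (.node (.leaf 0) (.leaf 0)) (.leaf 0)) (.node (.leaf 0) (.leaf 1534))) (.node (.node (.leaf 0) (.leaf 2248)) (.node (.leaf 0) (.leaf 1031)))) (.node (.node (.node (.leaf 468) (.leaf 0)) (.node (.leaf 908) (.leaf 1244))) (.node (.node (.leaf 0) (.leaf 985)) (.node (.leaf 0) (.leaf 2048)))))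

def certSRank232 : Janko.Tree (ℕ) :=
  (.node (.node (.node (.node (.node (.leaf 0) (.leaf 2073)) (.leaf 1162)) (.node (.leaf 0) (.leaf 1365))) (.node (.node (.leaf 0) (.leaf 0)) (.node (.leaf 0) (.leaf 1232)))) (.node (.node (.node (.leaf 0) (.leaf 238)) (.node (.leaf 0) (.leaf 2047))) (.node (.node (.leaf 0) (.leaf 1002)) (.node (.leaf 0) (.leaf 2110)))))

def certSRank233 : Janko.Tree (ℕ) :=
  (.node (.node (.node (.node (.node (.leaf 769) (.leaf 2075)) (.leaf 5)) (.node (.leaf 1396) (.leaf 1532))) (.node (.node (.leaf 0) (.leaf 1488)) (.node (.leaf 0) (.leaf 1132)))) (.node (.node (.node (.leaf 0) (.leaf 0)) (.node (.leaf 504) (.leaf 491))) (.node (.node (.leaf 0) (.leaf 0)) (.node (.leaf 893) (.leaf 1895)))))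

def certSRank234 : Janko.Tree (ℕ) :=
  (.node (.node (.node (.node (.node (.leaf 0) (.leaf 0)) (.leaf 2179)) (.node (.leaf 0) (.leaf 1382))) (.node (.node (.leaf 74) (.leaf 0)) (.node (.leaf 249) (.leaf 0)))) (.node (.node (.node (.leaf 0) (.leaf 0)) (.node (.leaf 546) (.leaf 493))) (.node (.node (.leaf 67) (.leaf 0)) (.node (.leaf 185) (.leaf 0)))))

def certSRank235 : Janko.Tree (ℕ) :=
  (.node (.node (.node (.node (.node (.leaf 261) (.leaf 1918)) (.leaf 0)) (.node (.leaf 0) (.leaf 390))) (.node (.node (.leaf 1315) (.leaf 0)) (.node (.leaf 0) (.leaf 1128)))) (.node (.node (.node (.leaf 0) (.leaf 0)) (.node (.leaf 122) (.leaf 1837))) (.node (.node (.leaf 0) (.leaf 0)) (.node (.leaf 1452) (.leaf 2113)))))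

def certSRank236 : Janko.Tree (ℕ) :=
  (.node (.node (.node (.node (.node (.leaf 0) (.leaf 1925)) (.leaf 924)) (.node (.leaf 0) (.leaf 381))) (.node (.node (.leaf 0) (.leaf 0)) (.node (.leaf 244) (.leaf 0)))) (.node (.node (.node (.leaf 0) (.leaf 0)) (.node (.leaf 55) (.leaf 0))) (.node (.node (.leaf 0) (.leaf 1720)) (.node (.leaf 0) (.leaf 2171)))))

def certSRank237 : Janko.Tree (ℕ) :=
  (.node (.node (.node (.node (.node (.leaf 0) (.leaf 1923)) (.leaf 575)) (.node (.leaf 0) (.leaf 1355))) (.node (.node (.leaf 0) (.leaf 0)) (.node (.leaf 0) (.leaf 1094)))) (.node (.node (.node (.leaf 0) (.leaf 0)) (.node (.leaf 148) (.leaf 2112))) (.node (.node (.leaf 0) (.leaf 1167)) (.node (.leaf 0) (.leaf 2046)))))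

def certSRank238 : Janko.Tree (ℕ) :=
  (.node (.node (.node (.node (.node (.leaf 95) (.leaf 2266)) (.leaf 0)) (.node (.leaf 0) (.leaf 384))) (.node (.node (.leaf 0) (.leaf 1842)) (.node (.leaf 0) (.leaf 1378)))) (.node (.node (.node (.leaf 0) (.leaf 0)) (.node (.leaf 0) (.leaf 2241))) (.node (.node (.leaf 0) (.leaf 19)) (.node (.leaf 0) (.leaf 2137)))))

def certSRank239 : Janko.Tree (ℕ) :=
  (.node (.node (.node (.node (.node (.leaf 0) (.leaf 2198)) (.leaf 0)) (.node (.leaf 125) (.leaf 0))) (.node (.node (.leaf 353) (.leaf 932)) (.node (.leaf 2155) (.leaf 0)))) (.node (.node (.node (.leaf 0) (.leaf 0)) (.node (.leaf 638) (.leaf 0))) (.node (.node (.leaf 267) (.leaf 0)) (.node (.leaf 0) (.leaf 2135)))))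

def certSRank240 : Janko.Tree (ℕ) :=
  (.node (.node (.node (.node (.node (.leaf 0) (.leaf 1828)) (.leaf 0)) (.node (.leaf 0) (.leaf 1143))) (.node (.node (.leaf 1018) (.leaf 0)) (.node (.leaf 0) (.leaf 965)))) (.node (.node (.node (.leaf 1006) (.leaf 0)) (.node (.leaf 1121) (.leaf 1297))) (.node (.node (.leaf 1734) (.leaf 556)) (.node (.leaf 0) (.leaf 0)))))

def certSRank241 : Janko.Tree (ℕ) :=
  (.node (.node (.node (.node (.node (.leaf 0) (.leaf 1827)) (.leaf 1524)) (.node (.leaf 0) (.leaf 2161))) (.node (.node (.leaf 0) (.leaf 824)) (.node (.leaf 0) (.leaf 1028)))) (.node (.node (.node (.leaf 13) (.leaf 1536)) (.node (.leaf 0) (.leaf 558))) (.node (.node (.leaf 0) (.leaf 1218)) (.node (.leaf 1725) (.leaf 2117)))))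

def certSRank242 : Janko.Tree (ℕ) :=
  (.node (.node (.node (.node (.node (.leaf 0) (.leaf 1939)) (.leaf 416)) (.node (.leaf 0) (.leaf 379))) (.node (.node (.leaf 0) (.leaf 0)) (.node (.leaf 0) (.leaf 1090)))) (.node (.node (.node (.leaf 30) (.leaf 0)) (.node (.leaf 0) (.leaf 2044))) (.node (.node (.leaf 0) (.leaf 582)) (.node (.leaf 471) (.leaf 1512)))))

def certSRank243 : Janko.Tree (ℕ) :=
  (.node (.node (.node (.node (.node (.leaf 0) (.leaf 1780)) (.leaf 1060)) (.node (.leaf 0) (.leaf 0))) (.node (.node (.leaf 0) (.leaf 899)) (.node (.leaf 1672) (.leaf 1093)))) (.node (.node (.node (.leaf 0) (.leaf 0)) (.node (.leaf 0) (.leaf 0))) (.node (.node (.leaf 0) (.leaf 0)) (.node (.leaf 0) (.leaf 479)))))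

def certSRank244 : Janko.Tree (ℕ) :=
  (.node (.node (.node (.node (.node (.leaf 259) (.leaf 1605)) (.leaf 553)) (.node (.leaf 0) (.leaf 0))) (.node (.node (.leaf 0) (.leaf 1892)) (.node (.leaf 0) (.leaf 1916)))) (.node (.node (.node (.leaf 700) (.leaf 0)) (.node (.leaf 1066) (.leaf 1894))) (.node (.node (.leaf 0) (.leaf 742)) (.node (.leaf 480) (.leaf 317)))))

def certSRank245 : Janko.Tree (ℕ) :=
  (.node (.node (.node (.node (.node (.leaf 0) (.leaf 1594)) (.leaf 1074)) (.node (.leaf 108) (.leaf 2166))) (.node (.node (.leaf 0) (.leaf 0)) (.node (.leaf 607) (.leaf 0)))) (.node (.node (.node (.leaf 0) (.leaf 121)) (.node (.leaf 1035) (.leaf 2035))) (.node (.node (.leaf 357) (.leaf 0)) (.node (.leaf 0) (.leaf 1449)))))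

def certSRank246 : Janko.Tree (ℕ) :=
  (.node (.node (.node (.node (.node (.leaf 0) (.leaf 1343)) (.leaf 1087)) (.node (.leaf 0) (.leaf 1328))) (.node (.node (.leaf 0) (.leaf 2138)) (.node (.leaf 0) (.leaf 0)))) (.node (.node (.node (.leaf 0) (.leaf 0)) (.node (.leaf 0) (.leaf 0))) (.node (.node (.leaf 0) (.leaf 0)) (.node (.leaf 782) (.leaf 2057)))))

def certSRank247 : Janko.Tree (ℕ) :=
  (.node (.node (.node (.node (.node (.leaf 432) (.leaf 1341)) (.leaf 0)) (.node (.leaf 462) (.leaf 0))) (.node (.node (.leaf 0) (.leaf 0)) (.node (.leaf 0) (.leaf 0)))) (.node (.node (.node (.leaf 0) (.leaf 1757)) (.node (.leaf 92) (.leaf 0))) (.node (.node (.leaf 158) (.leaf 1205)) (.node (.leaf 0) (.leaf 2060)))))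

def certSRank248 : Janko.Tree (ℕ) :=
  (.node (.node (.node (.node (.node (.leaf 0) (.leaf 0)) (.leaf 983)) (.node (.leaf 151) (.leaf 0))) (.node (.node (.leaf 0) (.leaf 43)) (.node (.leaf 0) (.leaf 1086)))) (.node (.node (.node (.leaf 0) (.leaf 717)) (.node (.leaf 0) (.leaf 2053))) (.node (.node (.leaf 0) (.leaf 0)) (.node (.leaf 0) (.leaf 2055)))))

def certSRank249 : Janko.Tree (ℕ) :=
  (.node (.node (.node (.node (.node (.leaf 0) (.leaf 2059)) (.leaf 743)) (.node (.leaf 0) (.leaf 383))) (.node (.node (.leaf 126) (.leaf 0)) (.node (.leaf 0) (.leaf 0)))) (.node (.node (.node (.leaf 0) (.leaf 2218)) (.node (.leaf 0) (.leaf 2175))) (.node (.node (.leaf 305) (.leaf 1096)) (.node (.leaf 0) (.leaf 2052)))))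

def certSRank250 : Janko.Tree (ℕ) :=
  (.node (.node (.node (.node (.node (.leaf 0) (.leaf 1230)) (.leaf 1902)) (.node (.leaf 0) (.leaf 389))) (.node (.node (.leaf 0) (.leaf 0)) (.node (.leaf 0) (.leaf 1147)))) (.node (.node (.node (.leaf 0) (.leaf 45)) (.node (.leaf 240) (.leaf 1899))) (.node (.node (.leaf 0) (.leaf 0)) (.node (.leaf 96) (.leaf 2136)))))

def certSRank251 : Janko.Tree (ℕ) :=
  (.node (.node (.node (.node (.node (.leaf 0) (.leaf 1352)) (.leaf 0)) (.node (.leaf 0) (.leaf 0))) (.node (.node (.leaf 168) (.leaf 1903)) (.node (.leaf 0) (.leaf 2170)))) (.node (.node (.node (.leaf 0) (.leaf 0)) (.node (.leaf 0) (.leaf 1901))) (.node (.node (.leaf 1193) (.leaf 39)) (.node (.leaf 0) (.leaf 1995)))))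

def certSRank252 : Janko.Tree (ℕ) :=
  (.node (.node (.node (.node (.node (.leaf 0) (.leaf 2232)) (.leaf 0)) (.node (.leaf 0) (.leaf 1603))) (.node (.node (.leaf 0) (.leaf 1723)) (.node (.leaf 0) (.leaf 338)))) (.node (.node (.node (.leaf 521) (.leaf 0)) (.node (.leaf 0) (.leaf 1592))) (.node (.node (.leaf 0) (.leaf 0)) (.node (.leaf 0) (.leaf 1685)))))

def certSRank253 : Janko.Tree (ℕ) :=
  (.node (.node (.node (.node (.node (.leaf 0) (.leaf 2243)) (.leaf 0)) (.node (.leaf 0) (.leaf 1596))) (.node (.node (.leaf 0) (.leaf 1834)) (.node (.leaf 0) (.leaf 1530)))) (.node (.node (.node (.leaf 0) (.leaf 809)) (.node (.leaf 131) (.leaf 118))) (.node (.node (.leaf 0) (.leaf 1125)) (.node (.leaf 0) (.leaf 1753)))))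

def certSRank254 : Janko.Tree (ℕ) :=
  (.node (.node (.node (.node (.node (.leaf 0) (.leaf 705)) (.leaf 0)) (.node (.leaf 778) (.leaf 1535))) (.node (.node (.leaf 0) (.leaf 0)) (.node (.leaf 0) (.leaf 571)))) (.node (.node (.node (.leaf 768) (.leaf 0)) (.node (.leaf 1110) (.leaf 0))) (.node (.node (.leaf 0) (.leaf 0)) (.node (.leaf 0) (.leaf 1178)))))

def certSRank255 : Janko.Tree (ℕ) :=
  (.node (.node (.node (.node (.node (.leaf 0) (.leaf 1482)) (.leaf 1021)) (.node (.leaf 799) (.leaf 0))) (.node (.node (.leaf 61) (.leaf 0)) (.node (.leaf 0) (.leaf 1915)))) (.node (.node (.node (.leaf 0) (.leaf 0)) (.node (.leaf 0) (.leaf 1667))) (.node (.node (.leaf 10) (.leaf 741)) (.node (.leaf 0) (.leaf 1791)))))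

def certSRank : Janko.Tree (ℕ) :=
  (.node (.node (.node (.node (.node (.node (.node (.node certSRank0 certSRank128) (.node certSRank64 certSRank192)) (.node (.node certSRank32 certSRank160) (.node certSRank96 certSRank224))) (.node (.node (.node certSRank16 certSRank144) (.node certSRank80 certSRank208)) (.node (.node certSRank48 certSRank176) (.node certSRank112 certSRank240)))) (.node (.node (.node (.node certSRank8 certSRank136) (.node certSRank72 certSRank200)) (.node (.node certSRank40 certSRank168) (.node certSRank104 certSRank232))) (.node (.node (.node certSRank24 certSRank152) (.node certSRank88 certSRank216)) (.node (.node certSRank56 certSRank184) (.node certSRank120 certSRank248))))) (.node (.node (.node (.node (.node certSRank4 certSRank132) (.node certSRank68 certSRank196)) (.node (.node certSRank36 certSRank164) (.node certSRank100 certSRank228))) (.node (.node (.node certSRank20 certSRank148) (.node certSRank84 certSRank212)) (.node (.node certSRank52 certSRank180) (.node certSRank116 certSRank244)))) (.node (.node (.node (.node certSRank12 certSRank140) (.node certSRank76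 certSRank204)) (.node (.node certSRank44 certSRank172) (.node certSRank108 certSRank236))) (.node (.node (.node certSRank28 certSRank156) (.node certSRank92 certSRank220)) (.node (.node certSRank60 certSRank188) (.node certSRank124 certSRank252)))))) (.node (.node (.node (.node (.node (.node certSRank2 certSRank130) (.node certSRank66 certSRank194)) (.node (.node certSRank34 certSRank162) (.node certSRank98 certSRank226))) (.node (.node (.node certSRank18 certSRank146) (.node certSRank82 certSRank210)) (.node (.node certSRank50 certSRank178) (.node certSRank114 certSRank242)))) (.node (.node (.node (.node certSRank10 certSRank138) (.node certSRank74 certSRank202)) (.node (.node certSRank42 certSRank170) (.node certSRank106 certSRank234))) (.node (.node (.node certSRank26 certSRank154) (.node certSRank90 certSRank218)) (.node (.node certSRank58 certSRank186) (.node certSRank122 certSRank250))))) (.node (.node (.node (.node (.node certSRank6 certSRank134) (.node certSRank70 certSRank198)) (.node (.node certSRank38 certSRank166) (.node certSRank102 certSRank230))) (.node (.node (.node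 certSRank22 certSRank150) (.node certSRank86 certSRank214)) (.node (.node certSRank54 certSRank182) (.node certSRank118 certSRank246)))) (.node (.node (.node (.node certSRank14 certSRank142) (.node certSRank78 certSRank206)) (.node (.node certSRank46 certSRank174) (.node certSRank110 certSRank238))) (.node (.node (.node certSRank30 certSRank158) (.node certSRank94 certSRank222)) (.node (.node certSRank62 certSRank190) (.node certSRank126 certSRank254))))))) (.node (.node (.node (.node (.node (.node (.node certSRank1 certSRank129) (.node certSRank65 certSRank193)) (.node (.node certSRank33 certSRank161) (.node certSRank97 certSRank225))) (.node (.node (.node certSRank17 certSRank145) (.node certSRank81 certSRank209)) (.node (.node certSRank49 certSRank177) (.node certSRank113 certSRank241)))) (.node (.node (.node (.node certSRank9 certSRank137) (.node certSRank73 certSRank201)) (.node (.node certSRank41 certSRank169) (.node certSRank105 certSRank233))) (.node (.node (.node certSRank25 certSRank153) (.node certSRank89 certSRank217)) (.node (.node certSRank57 certSRank185) (.node certSRank121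 certSRank249))))) (.node (.node (.node (.node (.node certSRank5 certSRank133) (.node certSRank69 certSRank197)) (.node (.node certSRank37 certSRank165) (.node certSRank101 certSRank229))) (.node (.node (.node certSRank21 certSRank149) (.node certSRank85 certSRank213)) (.node (.node certSRank53 certSRank181) (.node certSRank117 certSRank245)))) (.node (.node (.node (.node certSRank13 certSRank141) (.node certSRank77 certSRank205)) (.node (.node certSRank45 certSRank173) (.node certSRank109 certSRank237))) (.node (.node (.node certSRank29 certSRank157) (.node certSRank93 certSRank221)) (.node (.node certSRank61 certSRank189) (.node certSRank125 certSRank253)))))) (.node (.node (.node (.node (.node (.node certSRank3 certSRank131) (.node certSRank67 certSRank195)) (.node (.node certSRank35 certSRank163) (.node certSRank99 certSRank227))) (.node (.node (.node certSRank19 certSRank147) (.node certSRank83 certSRank211)) (.node (.node certSRank51 certSRank179) (.node certSRank115 certSRank243)))) (.node (.node (.node (.node certSRank11 certSRank139) (.node certSRank75 certSRank203)) (.node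 (.node certSRank43 certSRank171) (.node certSRank107 certSRank235))) (.node (.node (.node certSRank27 certSRank155) (.node certSRank91 certSRank219)) (.node (.node certSRank59 certSRank187) (.node certSRank123 certSRank251))))) (.node (.node (.node (.node (.node certSRank7 certSRank135) (.node certSRank71 certSRank199)) (.node (.node certSRank39 certSRank167) (.node certSRank103 certSRank231))) (.node (.node (.node certSRank23 certSRank151) (.node certSRank87 certSRank215)) (.node (.node certSRank55 certSRank183) (.node certSRank119 certSRank247)))) (.node (.node (.node (.node certSRank15 certSRank143) (.node certSRank79 certSRank207)) (.node (.node certSRank47 certSRank175) (.node certSRank111 certSRank239))) (.node (.node (.node certSRank31 certSRank159) (.node certSRank95 certSRank223)) (.node (.node certSRank63 certSRank191) (.node certSRank127 certSRank255))))))))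

def certSVia0 : Janko.Tree (ℕ × ℕ) :=
  (.node (.node (.node (.node (.node (.leaf (0, 0)) (.leaf (33, 2048))) (.leaf (26, 1078))) (.node (.leaf (0, 0)) (.leaf (0, 0)))) (.node (.node (.leaf (0, 0)) (.leaf (0, 0))) (.node (.leaf (0, 0)) (.leaf (32, 1592))))) (.node (.node (.node (.node (.leaf (0, 0)) (.leaf (15, 1977))) (.leaf (0, 0))) (.node (.leaf (0, 0)) (.leaf (0, 0)))) (.node (.node (.leaf (0, 0)) (.leaf (28, 1853))) (.node (.leaf (0, 0)) (.leaf (0, 0))))))

def certSVia1 : Janko.Tree (ℕ × ℕ) :=
  (.node (.node (.node (.node (.node (.leaf (0, 0)) (.leaf (33, 2018))) (.leaf (0, 0))) (.node (.leaf (0, 0)) (.leaf (31, 1595)))) (.node (.node (.leaf (0, 0)) (.leaf (11, 576))) (.node (.leaf (11, 485)) (.leaf (33, 1869))))) (.node (.node (.node (.node (.leaf (0, 0)) (.leaf (31, 1977))) (.leaf (0, 0))) (.node (.leaf (0, 0)) (.leaf (0, 0)))) (.node (.node (.leaf (5, 1697)) (.leaf (0, 0))) (.node (.leaf (2, 1394)) (.leaf (27, 1150))))))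

def certSVia2 : Janko.Tree (ℕ × ℕ) :=
  (.node (.node (.node (.node (.node (.leaf (0, 0)) (.leaf (0, 0))) (.leaf (2, 682))) (.node (.leaf (0, 0)) (.leaf (0, 0)))) (.node (.node (.leaf (0, 0)) (.leaf (28, 1918))) (.node (.leaf (0, 0)) (.leaf (0, 0))))) (.node (.node (.node (.node (.leaf (0, 0)) (.leaf (33, 2177))) (.leaf (29, 1380))) (.node (.leaf (2, 392)) (.leaf (10, 348)))) (.node (.node (.leaf (0, 0)) (.leaf (0, 0))) (.node (.leaf (10, 1268)) (.leaf (2, 1921))))))

def certSVia3 : Janko.Tree (ℕ × ℕ) :=
  (.node (.node (.node (.node (.node (.leaf (0, 0)) (.leaf (30, 2201))) (.leaf (13, 830))) (.node (.leaf (11, 798)) (.leaf (30, 2044)))) (.node (.node (.leaf (0, 0)) (.leaf (2, 1654))) (.node (.leaf (0, 0)) (.leaf (5, 1146))))) (.node (.node (.node (.node (.leaf (0, 0)) (.leaf (33, 2204))) (.leaf (1, 1190))) (.node (.leaf (29, 1072)) (.leaf (0, 0)))) (.node (.node (.leaf (0, 0)) (.leaf (0, 0))) (.node (.leaf (25, 1866)) (.leaf (1, 1921))))))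

def certSVia4 : Janko.Tree (ℕ × ℕ) :=
  (.node (.node (.node (.node (.node (.leaf (0, 0)) (.leaf (7, 2059))) (.leaf (22, 1916))) (.node (.leaf (0, 0)) (.leaf (0, 0)))) (.node (.node (.leaf (0, 0)) (.leaf (0, 0))) (.node (.leaf (0, 0)) (.leaf (17, 1794))))) (.node (.node (.node (.node (.leaf (0, 0)) (.leaf (12, 2178))) (.leaf (0, 0))) (.node (.leaf (0, 0)) (.leaf (28, 2131)))) (.node (.node (.leaf (0, 0)) (.leaf (0, 0))) (.node (.leaf (0, 0)) (.leaf (31, 2052))))))

def certSVia5 : Janko.Tree (ℕ × ℕ) :=
  (.node (.node (.node (.node (.node (.leaf (0, 0)) (.leaf (32, 2130))) (.leaf (0, 0))) (.node (.leaf (33, 628)) (.leaf (29, 1864)))) (.node (.node (.leaf (11, 432)) (.leaf (1, 1282))) (.node (.leaf (0, 0)) (.leaf (13, 952))))) (.node (.node (.node (.node (.leaf (0, 0)) (.leaf (30, 1809))) (.leaf (0, 0))) (.node (.leaf (0, 0)) (.leaf (5, 1657)))) (.node (.node (.leaf (0, 0)) (.leaf (0, 0))) (.node (.leaf (31, 866)) (.leaf (5, 1358))))))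

def certSVia6 : Janko.Tree (ℕ × ℕ) :=
  (.node (.node (.node (.node (.node (.leaf (0, 0)) (.leaf (31, 1774))) (.leaf (0, 0))) (.node (.leaf (0, 515)) (.leaf (9, 1539)))) (.node (.node (.leaf (0, 0)) (.leaf (32, 1923))) (.node (.leaf (12, 1707)) (.leaf (29, 2212))))) (.node (.node (.node (.node (.leaf (0, 0)) (.leaf (26, 1776))) (.leaf (0, 0))) (.node (.leaf (5, 0)) (.leaf (0, 0)))) (.node (.node (.leaf (0, 0)) (.leaf (0, 0))) (.node (.leaf (33, 975)) (.leaf (31, 1923))))))

def certSVia7 : Janko.Tree (ℕ × ℕ) :=
  (.node (.node (.node (.node (.node (.leaf (0, 0)) (.leaf (33, 1802))) (.leaf (0, 0))) (.node (.leaf (0, 0)) (.leaf (0, 0)))) (.node (.node (.leaf (0, 0)) (.leaf (31, 1199))) (.node (.leaf (32, 1013)) (.leaf (0, 0))))) (.node (.node (.node (.node (.leaf (6, 390)) (.leaf (30, 1962))) (.leaf (0, 0))) (.node (.leaf (13, 793)) (.leaf (1, 1667)))) (.node (.node (.leaf (0, 0)) (.leaf (0, 0))) (.node (.leaf (0, 0)) (.leaf (0, 0))))))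

def certSVia8 : Janko.Tree (ℕ × ℕ) :=
  (.node (.node (.node (.node (.node (.leaf (0, 0)) (.leaf (0, 2052))) (.leaf (14, 1028))) (.node (.leaf (3, 1234)) (.leaf (0, 0)))) (.node (.node (.leaf (0, 0)) (.leaf (0, 0))) (.node (.leaf (29, 907)) (.leaf (5, 1020))))) (.node (.node (.node (.node (.leaf (0, 0)) (.leaf (33, 1989))) (.leaf (0, 0))) (.node (.leaf (0, 0)) (.leaf (0, 0)))) (.node (.node (.leaf (32, 1751)) (.leaf (0, 0))) (.node (.leaf (11, 900)) (.leaf (0, 1924))))))

def certSVia9 : Janko.Tree (ℕ × ℕ) :=
  (.node (.node (.node (.node (.node (.leaf (0, 0)) (.leaf (0, 0))) (.leaf (0, 0))) (.node (.leaf (0, 0)) (.leaf (0, 0)))) (.node (.node (.leaf (0, 0)) (.leaf (11, 272))) (.node (.leaf (0, 0)) (.leaf (19, 1007))))) (.node (.node (.node (.node (.leaf (11, 381)) (.leaf (33, 2111))) (.leaf (0, 0))) (.node (.leaf (0, 0)) (.leaf (32, 2059)))) (.node (.node (.leaf (0, 0)) (.leaf (0, 0))) (.node (.leaf (19, 1461)) (.leaf (0, 0))))))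

def certSVia10 : Janko.Tree (ℕ × ℕ) :=
  (.node (.node (.node (.node (.node (.leaf (0, 0)) (.leaf (26, 1966))) (.leaf (0, 0))) (.node (.leaf (31, 517)) (.leaf (2, 1143)))) (.node (.node (.leaf (6, 519)) (.leaf (0, 0))) (.node (.leaf (31, 1539)) (.leaf (26, 2018))))) (.node (.node (.node (.node (.leaf (0, 0)) (.leaf (15, 2181))) (.leaf (0, 0))) (.node (.leaf (0, 0)) (.leaf (0, 0)))) (.node (.node (.leaf (0, 0)) (.leaf (0, 0))) (.node (.leaf (10, 1313)) (.leaf (33, 1794))))))

def certSVia11 : Janko.Tree (ℕ × ℕ) :=
  (.node (.node (.node (.node (.node (.leaf (0, 0)) (.leaf (11, 1699))) (.leaf (1, 1029))) (.node (.leaf (16, 539)) (.leaf (0, 0)))) (.node (.node (.leaf (25, 750)) (.leaf (4, 1394))) (.node (.leaf (0, 0)) (.leaf (4, 1577))))) (.node (.node (.node (.node (.leaf (0, 0)) (.leaf (0, 0))) (.leaf (0, 0))) (.node (.leaf (31, 1719)) (.leaf (0, 0)))) (.node (.node (.leaf (1, 389)) (.leaf (0, 0))) (.node (.leaf (0, 0)) (.leaf (0, 0))))))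

def certSVia12 : Janko.Tree (ℕ × ℕ) :=
  (.node (.node (.node (.node (.node (.leaf (0, 0)) (.leaf (31, 2054))) (.leaf (0, 0))) (.node (.leaf (2, 518)) (.leaf (32, 1542)))) (.node (.node (.leaf (0, 0)) (.leaf (29, 1870))) (.node (.leaf (0, 774)) (.leaf (27, 1798))))) (.node (.node (.node (.node (.leaf (0, 0)) (.leaf (2, 2182))) (.leaf (0, 0))) (.node (.leaf (0, 0)) (.leaf (0, 0)))) (.node (.node (.leaf (0, 390)) (.leaf (2, 1414))) (.node (.leaf (0, 0)) (.leaf (2, 1926))))))

def certSVia13 : Janko.Tree (ℕ × ℕ) :=
  (.node (.node (.node (.node (.node (.leaf (0, 0)) (.leaf (31, 2150))) (.leaf (0, 0))) (.node (.leaf (0, 0)) (.leaf (0, 0)))) (.node (.node (.leaf (0, 0)) (.leaf (27, 1495))) (.node (.leaf (0, 0)) (.leaf (1, 1798))))) (.node (.node (.node (.node (.leaf (18, 755)) (.leaf (13, 2101))) (.leaf (0, 0))) (.node (.leaf (17, 612)) (.leaf (27, 1566)))) (.node (.node (.leaf (0, 0)) (.leaf (28, 1712))) (.node (.leaf (2, 412)) (.leaf (33, 2122))))))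

def certSVia14 : Janko.Tree (ℕ × ℕ) :=
  (.node (.node (.node (.node (.node (.leaf (0, 0)) (.leaf (18, 2055))) (.leaf (14, 1965))) (.node (.leaf (4, 519)) (.leaf (10, 776)))) (.node (.node (.leaf (0, 0)) (.leaf (33, 1284))) (.node (.leaf (0, 0)) (.leaf (0, 0))))) (.node (.node (.node (.node (.leaf (0, 0)) (.leaf (0, 2183))) (.leaf (0, 0))) (.node (.leaf (0, 0)) (.leaf (16, 1992)))) (.node (.node (.leaf (15, 567)) (.leaf (33, 1969))) (.node (.leaf (29, 1505)) (.leaf (0, 0))))))

def certSVia15 : Janko.Tree (ℕ × ℕ) :=
  (.node (.node (.node (.node (.node (.leaf (0, 0)) (.leaf (28, 1743))) (.leaf (5, 1588))) (.node (.leaf (0, 0)) (.leaf (0, 0)))) (.node (.node (.leaf (0, 0)) (.leaf (31, 1984))) (.node (.leaf (0, 0)) (.leaf (5, 844))))) (.node (.node (.node (.node (.leaf (0, 0)) (.leaf (29, 2059))) (.leaf (0, 0))) (.node (.leaf (0, 0)) (.leaf (1, 1671)))) (.node (.node (.leaf (0, 0)) (.leaf (4, 1803))) (.node (.leaf (5, 1018)) (.leaf (14, 2115))))))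

def certSVia16 : Janko.Tree (ℕ × ℕ) :=
  (.node (.node (.node (.node (.node (.leaf (0, 0)) (.leaf (24, 2138))) (.leaf (0, 0))) (.node (.leaf (0, 0)) (.leaf (21, 1697)))) (.node (.node (.leaf (0, 0)) (.leaf (30, 2008))) (.node (.leaf (0, 0)) (.leaf (0, 0))))) (.node (.node (.node (.node (.leaf (0, 0)) (.leaf (2, 2003))) (.leaf (0, 0))) (.node (.leaf (30, 776)) (.leaf (2, 1272)))) (.node (.node (.leaf (0, 0)) (.leaf (29, 1416))) (.node (.leaf (11, 681)) (.leaf (28, 1554))))))

def certSVia17 : Janko.Tree (ℕ × ℕ) :=
  (.node (.node (.node (.node (.node (.leaf (0, 0)) (.leaf (9, 901))) (.leaf (0, 0))) (.node (.leaf (0, 0)) (.leaf (0, 0)))) (.node (.node (.leaf (16, 444)) (.leaf (0, 0))) (.node (.leaf (0, 0)) (.leaf (32, 2082))))) (.node (.node (.node (.node (.leaf (0, 0)) (.leaf (33, 2116))) (.leaf (5, 1211))) (.node (.leaf (15, 298)) (.leaf (14, 2161)))) (.node (.node (.leaf (31, 853)) (.leaf (32, 1262))) (.node (.leaf (0, 0)) (.leaf (0, 0))))))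

def certSVia18 : Janko.Tree (ℕ × ℕ) :=
  (.node (.node (.node (.node (.node (.leaf (0, 0)) (.leaf (0, 0))) (.leaf (0, 0))) (.node (.leaf (0, 0)) (.leaf (18, 1671)))) (.node (.node (.leaf (5, 548)) (.leaf (0, 1289))) (.node (.leaf (0, 0)) (.leaf (25, 1512))))) (.node (.node (.node (.node (.leaf (0, 0)) (.leaf (30, 2185))) (.leaf (0, 0))) (.node (.leaf (0, 0)) (.leaf (2, 1273)))) (.node (.node (.leaf (0, 0)) (.leaf (10, 923))) (.node (.leaf (4, 1021)) (.leaf (0, 1929))))))

def certSVia19 : Janko.Tree (ℕ × ℕ) :=
  (.node (.node (.node (.node (.node (.leaf (0, 0)) (.leaf (33, 2174))) (.leaf (30, 1373))) (.node (.leaf (0, 0)) (.leaf (1, 1545)))) (.node (.node (.leaf (15, 853)) (.leaf (0, 0))) (.node (.leaf (0, 0)) (.leaf (6, 1803))))) (.node (.node (.node (.node (.leaf (0, 0)) (.leaf (32, 2236))) (.leaf (32, 1935))) (.node (.leaf (0, 0)) (.leaf (30, 1503)))) (.node (.node (.leaf (0, 0)) (.leaf (0, 0))) (.node (.leaf (32, 1139)) (.leaf (25, 1389))))))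

def certSVia20 : Janko.Tree (ℕ × ℕ) :=
  (.node (.node (.node (.node (.node (.leaf (0, 0)) (.leaf (0, 0))) (.leaf (0, 0))) (.node (.leaf (0, 860)) (.leaf (0, 1751)))) (.node (.node (.leaf (0, 0)) (.leaf (0, 0))) (.node (.leaf (2, 490)) (.leaf (25, 1802))))) (.node (.node (.node (.node (.leaf (0, 0)) (.leaf (25, 2186))) (.leaf (0, 0))) (.node (.leaf (0, 0)) (.leaf (29, 2169)))) (.node (.node (.leaf (10, 1695)) (.leaf (31, 1471))) (.node (.leaf (19, 906)) (.leaf (0, 0))))))

def certSVia21 : Janko.Tree (ℕ × ℕ) :=
  (.node (.node (.node (.node (.node (.leaf (0, 0)) (.leaf (18, 1919))) (.leaf (0, 0))) (.node (.leaf (0, 0)) (.leaf (0, 0)))) (.node (.node (.leaf (0, 0)) (.leaf (2, 580))) (.node (.leaf (11, 1409)) (.leaf (32, 1862))))) (.node (.node (.node (.node (.leaf (0, 0)) (.leaf (29, 2224))) (.leaf (31, 2181))) (.node (.leaf (1, 650)) (.leaf (0, 0)))) (.node (.node (.leaf (27, 1600)) (.leaf (9, 741))) (.node (.leaf (0, 0)) (.leaf (31, 1737))))))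

def certSVia22 : Janko.Tree (ℕ × ℕ) :=
  (.node (.node (.node (.node (.node (.leaf (0, 0)) (.leaf (9, 965))) (.leaf (0, 0))) (.node (.leaf (0, 0)) (.leaf (4, 1924)))) (.node (.node (.leaf (5, 267)) (.leaf (0, 0))) (.node (.leaf (0, 0)) (.leaf (2, 1803))))) (.node (.node (.node (.node (.leaf (0, 0)) (.leaf (10, 2012))) (.leaf (0, 0))) (.node (.leaf (0, 0)) (.leaf (5, 1671)))) (.node (.node (.leaf (18, 931)) (.leaf (28, 1450))) (.node (.leaf (0, 907)) (.leaf (0, 0))))))

def certSVia23 : Janko.Tree (ℕ × ℕ) :=
  (.node (.node (.node (.node (.node (.leaf (0, 0)) (.leaf (0, 0))) (.leaf (0, 0))) (.node (.leaf (5, 452)) (.leaf (0, 0)))) (.node (.node (.leaf (0, 0)) (.leaf (1, 1291))) (.node (.leaf (0, 0)) (.leaf (0, 0))))) (.node (.node (.node (.node (.leaf (0, 0)) (.leaf (15, 2160))) (.leaf (2, 831))) (.node (.leaf (0, 0)) (.leaf (4, 887)))) (.node (.node (.leaf (0, 0)) (.leaf (5, 1073))) (.node (.leaf (31, 1186)) (.leaf (0, 0))))))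

def certSVia24 : Janko.Tree (ℕ × ℕ) :=
  (.node (.node (.node (.node (.node (.leaf (0, 0)) (.leaf (12, 1823))) (.leaf (0, 0))) (.node (.leaf (0, 0)) (.leaf (0, 0)))) (.node (.node (.leaf (0, 0)) (.leaf (0, 0))) (.node (.leaf (0, 0)) (.leaf (31, 2070))))) (.node (.node (.node (.node (.leaf (0, 0)) (.leaf (0, 2221))) (.leaf (0, 0))) (.node (.leaf (4, 444)) (.leaf (0, 0)))) (.node (.node (.leaf (0, 0)) (.leaf (0, 0))) (.node (.leaf (15, 1013)) (.leaf (4, 1932))))))

def certSVia25 : Janko.Tree (ℕ × ℕ) :=
  (.node (.node (.node (.node (.node (.leaf (0, 0)) (.leaf (0, 0))) (.leaf (0, 0))) (.node (.leaf (0, 0)) (.leaf (29, 2054)))) (.node (.node (.leaf (0, 0)) (.leaf (1, 2056))) (.node (.leaf (11, 498)) (.leaf (7, 1420))))) (.node (.node (.node (.node (.leaf (0, 0)) (.leaf (25, 1698))) (.leaf (18, 2229))) (.node (.leaf (0, 0)) (.leaf (8, 1870)))) (.node (.node (.leaf (1, 926)) (.leaf (0, 0))) (.node (.leaf (0, 0)) (.leaf (0, 0))))))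

def certSVia26 : Janko.Tree (ℕ × ℕ) :=
  (.node (.node (.node (.node (.node (.leaf (0, 0)) (.leaf (0, 2061))) (.leaf (0, 1037))) (.node (.leaf (0, 0)) (.leaf (29, 1634)))) (.node (.node (.leaf (10, 140)) (.leaf (0, 0))) (.node (.leaf (22, 1697)) (.leaf (29, 2138))))) (.node (.node (.node (.node (.leaf (0, 0)) (.leaf (28, 1916))) (.leaf (11, 297))) (.node (.leaf (0, 0)) (.leaf (33, 1925)))) (.node (.node (.leaf (0, 0)) (.leaf (0, 0))) (.node (.leaf (0, 0)) (.leaf (32, 1639))))))

def certSVia27 : Janko.Tree (ℕ × ℕ) :=
  (.node (.node (.node (.node (.node (.leaf (0, 0)) (.leaf (31, 1759))) (.leaf (32, 1354))) (.node (.leaf (0, 0)) (.leaf (17, 2054)))) (.node (.node (.leaf (0, 0)) (.leaf (27, 1339))) (.node (.leaf (0, 0)) (.leaf (31, 1814))))) (.node (.node (.node (.node (.leaf (0, 0)) (.leaf (25, 1699))) (.leaf (0, 0))) (.node (.leaf (0, 0)) (.leaf (0, 0)))) (.node (.node (.leaf (0, 0)) (.leaf (0, 0))) (.node (.leaf (5, 1537)) (.leaf (0, 0))))))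

def certSVia28 : Janko.Tree (ℕ × ℕ) :=
  (.node (.node (.node (.node (.node (.leaf (0, 0)) (.leaf (15, 2062))) (.leaf (4, 1596))) (.node (.leaf (0, 0)) (.leaf (29, 1146)))) (.node (.node (.leaf (8, 0)) (.leaf (26, 1691))) (.node (.leaf (0, 0)) (.leaf (12, 1923))))) (.node (.node (.node (.node (.leaf (0, 0)) (.leaf (31, 1935))) (.leaf (0, 0))) (.node (.leaf (0, 0)) (.leaf (0, 0)))) (.node (.node (.leaf (0, 0)) (.leaf (0, 0))) (.node (.leaf (2, 593)) (.leaf (6, 1934))))))

def certSVia29 : Janko.Tree (ℕ × ℕ) :=
  (.node (.node (.node (.node (.node (.leaf (0, 0)) (.leaf (2, 1765))) (.leaf (0, 0))) (.node (.leaf (2, 515)) (.leaf (0, 0)))) (.node (.node (.leaf (0, 0)) (.leaf (29, 1918))) (.node (.leaf (0, 0)) (.leaf (12, 2229))))) (.node (.node (.node (.node (.leaf (0, 0)) (.leaf (8, 1993))) (.leaf (0, 0))) (.node (.leaf (0, 0)) (.leaf (32, 1644)))) (.node (.node (.leaf (11, 644)) (.leaf (22, 1496))) (.node (.leaf (29, 1260)) (.leaf (0, 0))))))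

def certSVia30 : Janko.Tree (ℕ × ℕ) :=
  (.node (.node (.node (.node (.node (.leaf (0, 0)) (.leaf (10, 1761))) (.leaf (9, 1039))) (.node (.leaf (0, 0)) (.leaf (0, 0)))) (.node (.node (.leaf (0, 0)) (.leaf (0, 0))) (.node (.leaf (0, 0)) (.leaf (11, 1099))))) (.node (.node (.node (.node (.leaf (0, 0)) (.leaf (33, 2191))) (.leaf (0, 0))) (.node (.leaf (0, 0)) (.leaf (26, 1679)))) (.node (.node (.leaf (0, 0)) (.leaf (0, 0))) (.node (.leaf (33, 1460)) (.leaf (30, 1953))))))

def certSVia31 : Janko.Tree (ℕ × ℕ) :=
  (.node (.node (.node (.node (.node (.leaf (0, 0)) (.leaf (16, 1955))) (.leaf (0, 0))) (.node (.leaf (21, 1201)) (.leaf (21, 1621)))) (.node (.node (.leaf (0, 0)) (.leaf (1, 1295))) (.node (.leaf (21, 2113)) (.leaf (28, 2009))))) (.node (.node (.node (.node (.leaf (0, 0)) (.leaf (25, 1819))) (.leaf (0, 0))) (.node (.leaf (0, 0)) (.leaf (0, 0)))) (.node (.node (.leaf (0, 0)) (.leaf (0, 0))) (.node (.leaf (23, 1277)) (.leaf (0, 0))))))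

def certSVia32 : Janko.Tree (ℕ × ℕ) :=
  (.node (.node (.node (.node (.node (.leaf (0, 0)) (.leaf (29, 2074))) (.leaf (0, 0))) (.node (.leaf (7, 528)) (.leaf (0, 0)))) (.node (.node (.leaf (0, 0)) (.leaf (0, 0))) (.node (.leaf (0, 0)) (.leaf (0, 0))))) (.node (.node (.node (.node (.leaf (2, 78)) (.leaf (27, 2192))) (.leaf (31, 1168))) (.node (.leaf (0, 837)) (.leaf (0, 0)))) (.node (.node (.leaf (0, 0)) (.leaf (0, 0))) (.node (.leaf (0, 0)) (.leaf (0, 0))))))

def certSVia33 : Janko.Tree (ℕ × ℕ) :=
  (.node (.node (.node (.node (.node (.leaf (0, 0)) (.leaf (33, 2207))) (.leaf (18, 1581))) (.node (.leaf (0, 0)) (.leaf (0, 0)))) (.node (.node (.leaf (0, 0)) (.leaf (0, 0))) (.node (.leaf (11, 769)) (.leaf (29, 1565))))) (.node (.node (.node (.node (.leaf (0, 0)) (.leaf (31, 2187))) (.leaf (2, 1047))) (.node (.leaf (3, 947)) (.leaf (2, 1085)))) (.node (.node (.leaf (0, 0)) (.leaf (32, 1809))) (.node (.leaf (0, 0)) (.leaf (2, 1929))))))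

def certSVia34 : Janko.Tree (ℕ × ℕ) :=
  (.node (.node (.node (.node (.node (.leaf (0, 0)) (.leaf (32, 1681))) (.leaf (0, 0))) (.node (.leaf (0, 0)) (.leaf (32, 1776)))) (.node (.node (.leaf (0, 0)) (.leaf (0, 0))) (.node (.leaf (0, 0)) (.leaf (0, 1809))))) (.node (.node (.node (.node (.leaf (0, 0)) (.leaf (33, 2203))) (.leaf (14, 1414))) (.node (.leaf (0, 0)) (.leaf (0, 0)))) (.node (.node (.leaf (31, 423)) (.leaf (0, 0))) (.node (.leaf (33, 2003)) (.leaf (32, 1952))))))

def certSVia35 : Janko.Tree (ℕ × ℕ) :=
  (.node (.node (.node (.node (.node (.leaf (0, 0)) (.leaf (0, 0))) (.leaf (0, 0))) (.node (.leaf (0, 0)) (.leaf (0, 0)))) (.node (.node (.leaf (0, 0)) (.leaf (0, 0))) (.node (.leaf (0, 0)) (.leaf (33, 2178))))) (.node (.node (.node (.node (.leaf (0, 0)) (.leaf (11, 1712))) (.leaf (0, 0))) (.node (.leaf (0, 0)) (.leaf (8, 1263)))) (.node (.node (.leaf (11, 182)) (.leaf (30, 1684))) (.node (.leaf (33, 1665)) (.leaf (33, 1878))))))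

def certSVia36 : Janko.Tree (ℕ × ℕ) :=
  (.node (.node (.node (.node (.node (.leaf (0, 0)) (.leaf (0, 2066))) (.leaf (0, 0))) (.node (.leaf (32, 1052)) (.leaf (0, 0)))) (.node (.node (.leaf (0, 0)) (.leaf (32, 1184))) (.node (.leaf (0, 0)) (.leaf (33, 2192))))) (.node (.node (.node (.node (.leaf (0, 0)) (.leaf (32, 2194))) (.leaf (0, 0))) (.node (.leaf (0, 0)) (.leaf (33, 2058)))) (.node (.node (.leaf (0, 0)) (.leaf (33, 1448))) (.node (.leaf (17, 1184)) (.leaf (0, 0))))))

def certSVia37 : Janko.Tree (ℕ × ℕ) :=
  (.node (.node (.node (.node (.node (.leaf (0, 0)) (.leaf (32, 1158))) (.leaf (1, 1176))) (.node (.leaf (17, 443)) (.leaf (2, 1211)))) (.node (.node (.leaf (0, 0)) (.leaf (0, 0))) (.node (.leaf (14, 1929)) (.leaf (0, 0))))) (.node (.node (.node (.node (.leaf (0, 0)) (.leaf (30, 1427))) (.leaf (1, 1170))) (.node (.leaf (0, 0)) (.leaf (3, 1657)))) (.node (.node (.leaf (0, 0)) (.leaf (1, 1445))) (.node (.leaf (2, 907)) (.leaf (31, 1957))))))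

def certSVia38 : Janko.Tree (ℕ × ℕ) :=
  (.node (.node (.node (.node (.node (.leaf (0, 0)) (.leaf (30, 2067))) (.leaf (0, 0))) (.node (.leaf (31, 1277)) (.leaf (0, 0)))) (.node (.node (.leaf (0, 0)) (.leaf (4, 750))) (.node (.leaf (0, 0)) (.leaf (32, 1946))))) (.node (.node (.node (.node (.leaf (18, 449)) (.leaf (33, 2195))) (.leaf (0, 0))) (.node (.leaf (0, 0)) (.leaf (2, 1284)))) (.node (.node (.leaf (0, 0)) (.leaf (0, 0))) (.node (.leaf (0, 0)) (.leaf (33, 1567))))))

def certSVia39 : Janko.Tree (ℕ × ℕ) :=
  (.node (.node (.node (.node (.node (.leaf (0, 0)) (.leaf (0, 0))) (.leaf (21, 1953))) (.node (.leaf (0, 0)) (.leaf (19, 2224)))) (.node (.node (.leaf (0, 0)) (.leaf (0, 0))) (.node (.leaf (18, 1434)) (.leaf (0, 0))))) (.node (.node (.node (.node (.leaf (0, 0)) (.leaf (28, 2213))) (.leaf (29, 1145))) (.node (.leaf (0, 0)) (.leaf (7, 1404)))) (.node (.node (.leaf (2, 390)) (.leaf (31, 1238))) (.node (.leaf (27, 2017)) (.leaf (0, 0))))))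

def certSVia40 : Janko.Tree (ℕ × ℕ) :=
  (.node (.node (.node (.node (.node (.leaf (0, 0)) (.leaf (0, 0))) (.leaf (18, 1757))) (.node (.leaf (0, 0)) (.leaf (0, 0)))) (.node (.node (.leaf (0, 0)) (.leaf (0, 0))) (.node (.leaf (0, 0)) (.leaf (0, 0))))) (.node (.node (.node (.node (.leaf (0, 0)) (.leaf (32, 2160))) (.leaf (2, 1172))) (.node (.leaf (0, 0)) (.leaf (33, 2097)))) (.node (.node (.leaf (29, 1320)) (.leaf (32, 1734))) (.node (.leaf (0, 0)) (.leaf (4, 1555))))))

def certSVia41 : Janko.Tree (ℕ × ℕ) :=
  (.node (.node (.node (.node (.node (.leaf (31, 705)) (.leaf (32, 2187))) (.leaf (14, 2202))) (.node (.leaf (29, 1084)) (.leaf (30, 2112)))) (.node (.node (.leaf (11, 161)) (.leaf (0, 0))) (.node (.leaf (0, 0)) (.leaf (30, 1845))))) (.node (.node (.node (.node (.leaf (21, 518)) (.leaf (32, 2107))) (.leaf (0, 0))) (.node (.leaf (18, 640)) (.leaf (29, 1641)))) (.node (.node (.leaf (22, 1374)) (.leaf (32, 2043))) (.node (.leaf (5, 1953)) (.leaf (0, 0))))))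

def certSVia42 : Janko.Tree (ℕ × ℕ) :=
  (.node (.node (.node (.node (.node (.leaf (0, 0)) (.leaf (31, 2069))) (.leaf (0, 0))) (.node (.leaf (11, 883)) (.leaf (0, 0)))) (.node (.node (.leaf (0, 0)) (.leaf (0, 0))) (.node (.leaf (0, 0)) (.leaf (0, 0))))) (.node (.node (.node (.node (.leaf (0, 0)) (.leaf (33, 2197))) (.leaf (0, 0))) (.node (.leaf (31, 1133)) (.leaf (0, 0)))) (.node (.node (.leaf (0, 0)) (.leaf (0, 0))) (.node (.leaf (0, 0)) (.leaf (32, 2220))))))

def certSVia43 : Janko.Tree (ℕ × ℕ) :=
  (.node (.node (.node (.node (.node (.leaf (0, 0)) (.leaf (32, 1514))) (.leaf (1, 1045))) (.node (.leaf (0, 0)) (.leaf (0, 0)))) (.node (.node (.leaf (0, 0)) (.leaf (0, 0))) (.node (.leaf (0, 0)) (.leaf (33, 2218))))) (.node (.node (.node (.node (.leaf (0, 0)) (.leaf (24, 2167))) (.leaf (4, 765))) (.node (.leaf (14, 1343)) (.leaf (1, 1685)))) (.node (.node (.leaf (0, 0)) (.leaf (0, 0))) (.node (.leaf (1, 977)) (.leaf (32, 2029))))))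

def certSVia44 : Janko.Tree (ℕ × ℕ) :=
  (.node (.node (.node (.node (.node (.leaf (0, 0)) (.leaf (29, 1929))) (.leaf (0, 0))) (.node (.leaf (0, 0)) (.leaf (0, 0)))) (.node (.node (.leaf (0, 0)) (.leaf (0, 0))) (.node (.leaf (0, 0)) (.leaf (30, 2076))))) (.node (.node (.node (.node (.leaf (0, 0)) (.leaf (32, 2227))) (.leaf (0, 0))) (.node (.leaf (18, 1190)) (.leaf (8, 1686)))) (.node (.node (.leaf (0, 0)) (.leaf (16, 1061))) (.node (.leaf (0, 0)) (.leaf (0, 0))))))

def certSVia45 : Janko.Tree (ℕ × ℕ) :=
  (.node (.node (.node (.node (.node (.leaf (0, 0)) (.leaf (22, 2181))) (.leaf (0, 0))) (.node (.leaf (26, 1037)) (.leaf (24, 1739)))) (.node (.node (.leaf (0, 0)) (.leaf (5, 1754))) (.node (.leaf (0, 0)) (.leaf (33, 2095))))) (.node (.node (.node (.node (.leaf (0, 0)) (.leaf (30, 1769))) (.leaf (0, 0))) (.node (.leaf (2, 577)) (.leaf (24, 1704)))) (.node (.node (.leaf (0, 0)) (.leaf (33, 1843))) (.node (.leaf (0, 0)) (.leaf (27, 2186))))))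

def certSVia46 : Janko.Tree (ℕ × ℕ) :=
  (.node (.node (.node (.node (.node (.leaf (0, 0)) (.leaf (0, 2202))) (.leaf (0, 0))) (.node (.leaf (26, 1882)) (.leaf (31, 1853)))) (.node (.node (.leaf (0, 0)) (.leaf (0, 0))) (.node (.leaf (0, 0)) (.leaf (33, 2162))))) (.node (.node (.node (.node (.leaf (0, 0)) (.leaf (24, 2185))) (.leaf (0, 0))) (.node (.leaf (0, 0)) (.leaf (0, 0)))) (.node (.node (.leaf (32, 852)) (.leaf (0, 0))) (.node (.leaf (8, 919)) (.leaf (15, 1943))))))

def certSVia47 : Janko.Tree (ℕ × ℕ) :=
  (.node (.node (.node (.node (.node (.leaf (0, 0)) (.leaf (0, 0))) (.leaf (2, 1757))) (.node (.leaf (0, 0)) (.leaf (0, 0)))) (.node (.node (.leaf (2, 263)) (.leaf (33, 2007))) (.node (.leaf (0, 0)) (.leaf (33, 2163))))) (.node (.node (.node (.node (.leaf (0, 0)) (.leaf (31, 2207))) (.leaf (0, 0))) (.node (.leaf (14, 998)) (.leaf (31, 1327)))) (.node (.node (.leaf (11, 506)) (.leaf (0, 0))) (.node (.leaf (0, 0)) (.leaf (0, 0))))))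

def certSVia48 : Janko.Tree (ℕ × ℕ) :=
  (.node (.node (.node (.node (.node (.leaf (0, 0)) (.leaf (28, 1777))) (.leaf (0, 0))) (.node (.leaf (0, 0)) (.leaf (4, 1560)))) (.node (.node (.leaf (0, 0)) (.leaf (16, 1855))) (.node (.leaf (22, 1902)) (.leaf (0, 0))))) (.node (.node (.node (.node (.leaf (0, 0)) (.leaf (32, 2232))) (.leaf (0, 0))) (.node (.leaf (0, 0)) (.leaf (0, 0)))) (.node (.node (.leaf (0, 0)) (.leaf (0, 0))) (.node (.leaf (29, 1591)) (.leaf (22, 1576))))))

def certSVia49 : Janko.Tree (ℕ × ℕ) :=
  (.node (.node (.node (.node (.node (.leaf (0, 0)) (.leaf (29, 1757))) (.leaf (24, 1150))) (.node (.leaf (0, 0)) (.leaf (30, 2237)))) (.node (.node (.leaf (5, 652)) (.leaf (33, 2138))) (.node (.leaf (1, 792)) (.leaf (4, 1590))))) (.node (.node (.node (.node (.leaf (33, 833)) (.leaf (30, 1914))) (.leaf (22, 1039))) (.node (.leaf (0, 0)) (.leaf (28, 1579)))) (.node (.node (.leaf (21, 1006)) (.leaf (0, 0))) (.node (.leaf (0, 0)) (.leaf (31, 1576))))))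

def certSVia50 : Janko.Tree (ℕ × ℕ) :=
  (.node (.node (.node (.node (.node (.leaf (0, 0)) (.leaf (26, 2181))) (.leaf (32, 1049))) (.node (.leaf (0, 0)) (.leaf (33, 1159)))) (.node (.node (.leaf (7, 444)) (.leaf (14, 1363))) (.node (.leaf (10, 951)) (.leaf (32, 1817))))) (.node (.node (.node (.node (.leaf (0, 0)) (.leaf (13, 2201))) (.leaf (0, 0))) (.node (.leaf (0, 798)) (.leaf (31, 1750)))) (.node (.node (.leaf (8, 409)) (.leaf (0, 0))) (.node (.leaf (0, 0)) (.leaf (0, 1945))))))

def certSVia51 : Janko.Tree (ℕ × ℕ) :=
  (.node (.node (.node (.node (.node (.leaf (18, 329)) (.leaf (10, 1577))) (.leaf (0, 0))) (.node (.leaf (33, 853)) (.leaf (33, 1774)))) (.node (.node (.leaf (27, 1619)) (.leaf (5, 1595))) (.node (.leaf (0, 0)) (.leaf (33, 2185))))) (.node (.node (.node (.node (.leaf (9, 196)) (.leaf (33, 2231))) (.leaf (0, 0))) (.node (.leaf (33, 1003)) (.leaf (5, 1292)))) (.node (.node (.leaf (31, 542)) (.leaf (1, 1433))) (.node (.leaf (31, 1696)) (.leaf (0, 0))))))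

def certSVia52 : Janko.Tree (ℕ × ℕ) :=
  (.node (.node (.node (.node (.node (.leaf (0, 0)) (.leaf (0, 2074))) (.leaf (0, 0))) (.node (.leaf (0, 0)) (.leaf (4, 831)))) (.node (.node (.leaf (0, 0)) (.leaf (0, 0))) (.node (.leaf (2, 500)) (.leaf (26, 2013))))) (.node (.node (.node (.node (.leaf (0, 0)) (.leaf (2, 2202))) (.leaf (0, 0))) (.node (.leaf (0, 0)) (.leaf (0, 0)))) (.node (.node (.leaf (0, 0)) (.leaf (5, 1434))) (.node (.leaf (0, 922)) (.leaf (0, 0))))))

def certSVia53 : Janko.Tree (ℕ × ℕ) :=
  (.node (.node (.node (.node (.node (.leaf (0, 0)) (.leaf (0, 0))) (.leaf (0, 0))) (.node (.leaf (0, 0)) (.leaf (33, 2151)))) (.node (.node (.leaf (0, 0)) (.leaf (2, 1021))) (.node (.leaf (0, 0)) (.leaf (0, 0))))) (.node (.node (.node (.node (.leaf (0, 0)) (.leaf (30, 1554))) (.leaf (0, 0))) (.node (.leaf (0, 0)) (.leaf (2, 1754)))) (.node (.node (.leaf (0, 0)) (.leaf (30, 1854))) (.node (.leaf (0, 0)) (.leaf (25, 1355))))))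

def certSVia54 : Janko.Tree (ℕ × ℕ) :=
  (.node (.node (.node (.node (.node (.leaf (0, 0)) (.leaf (28, 2054))) (.leaf (32, 1141))) (.node (.leaf (0, 539)) (.leaf (0, 0)))) (.node (.node (.leaf (0, 0)) (.leaf (0, 0))) (.node (.leaf (32, 1708)) (.leaf (29, 1819))))) (.node (.node (.node (.node (.leaf (0, 0)) (.leaf (10, 1967))) (.leaf (31, 1837))) (.node (.leaf (0, 0)) (.leaf (33, 1295)))) (.node (.node (.leaf (0, 0)) (.leaf (0, 0))) (.node (.leaf (0, 0)) (.leaf (13, 1947))))))

def certSVia55 : Janko.Tree (ℕ × ℕ) :=
  (.node (.node (.node (.node (.node (.leaf (0, 0)) (.leaf (30, 2236))) (.leaf (0, 0))) (.node (.leaf (0, 0)) (.leaf (0, 0)))) (.node (.node (.leaf (0, 0)) (.leaf (32, 1738))) (.node (.leaf (0, 0)) (.leaf (33, 1729))))) (.node (.node (.node (.node (.leaf (2, 140)) (.leaf (33, 2156))) (.leaf (0, 0))) (.node (.leaf (0, 0)) (.leaf (14, 953)))) (.node (.node (.leaf (0, 0)) (.leaf (0, 0))) (.node (.leaf (30, 2182)) (.leaf (0, 0))))))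

def certSVia56 : Janko.Tree (ℕ × ℕ) :=
  (.node (.node (.node (.node (.node (.leaf (0, 0)) (.leaf (33, 2064))) (.leaf (26, 1158))) (.node (.leaf (0, 0)) (.leaf (0, 0)))) (.node (.node (.leaf (0, 0)) (.leaf (31, 1308))) (.node (.leaf (0, 0)) (.leaf (29, 1329))))) (.node (.node (.node (.node (.leaf (0, 0)) (.leaf (32, 2204))) (.leaf (32, 1918))) (.node (.leaf (6, 668)) (.leaf (27, 1918)))) (.node (.node (.leaf (0, 0)) (.leaf (33, 2070))) (.node (.leaf (0, 0)) (.leaf (0, 0))))))

def certSVia57 : Janko.Tree (ℕ × ℕ) :=
  (.node (.node (.node (.node (.node (.leaf (0, 0)) (.leaf (2, 2074))) (.leaf (1, 1052))) (.node (.leaf (0, 0)) (.leaf (0, 0)))) (.node (.node (.leaf (0, 0)) (.leaf (0, 0))) (.node (.leaf (0, 0)) (.leaf (29, 1569))))) (.node (.node (.node (.node (.leaf (9, 524)) (.leaf (33, 2016))) (.leaf (14, 1339))) (.node (.leaf (0, 0)) (.leaf (28, 1156)))) (.node (.node (.leaf (0, 0)) (.leaf (0, 0))) (.node (.leaf (0, 0)) (.leaf (25, 2113))))))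

def certSVia58 : Janko.Tree (ℕ × ℕ) :=
  (.node (.node (.node (.node (.node (.leaf (0, 0)) (.leaf (33, 1905))) (.leaf (0, 0))) (.node (.leaf (0, 0)) (.leaf (0, 1565)))) (.node (.node (.leaf (0, 0)) (.leaf (0, 0))) (.node (.leaf (0, 0)) (.leaf (0, 0))))) (.node (.node (.node (.node (.leaf (0, 0)) (.leaf (32, 2205))) (.leaf (0, 0))) (.node (.leaf (0, 0)) (.leaf (0, 0)))) (.node (.node (.leaf (0, 0)) (.leaf (0, 0))) (.node (.leaf (0, 0)) (.leaf (30, 1593))))))

def certSVia59 : Janko.Tree (ℕ × ℕ) :=
  (.node (.node (.node (.node (.node (.leaf (0, 0)) (.leaf (30, 2033))) (.leaf (8, 1695))) (.node (.leaf (0, 0)) (.leaf (5, 1422)))) (.node (.node (.leaf (0, 0)) (.leaf (0, 0))) (.node (.leaf (29, 1330)) (.leaf (31, 2153))))) (.node (.node (.node (.node (.leaf (0, 0)) (.leaf (24, 1276))) (.leaf (15, 1969))) (.node (.leaf (0, 0)) (.leaf (1, 1693)))) (.node (.node (.leaf (0, 0)) (.leaf (2, 1181))) (.node (.leaf (2, 678)) (.leaf (13, 1584))))))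

def certSVia60 : Janko.Tree (ℕ × ℕ) :=
  (.node (.node (.node (.node (.node (.leaf (0, 0)) (.leaf (30, 2084))) (.leaf (32, 1062))) (.node (.leaf (21, 545)) (.leaf (29, 2159)))) (.node (.node (.leaf (0, 0)) (.leaf (0, 0))) (.node (.leaf (3, 0)) (.leaf (32, 2078))))) (.node (.node (.node (.node (.leaf (0, 0)) (.leaf (31, 2148))) (.leaf (33, 1918))) (.node (.leaf (10, 1130)) (.leaf (20, 1384)))) (.node (.node (.leaf (0, 0)) (.leaf (0, 0))) (.node (.leaf (0, 0)) (.leaf (30, 1921))))))

def certSVia61 : Janko.Tree (ℕ × ℕ) :=
  (.node (.node (.node (.node (.node (.leaf (0, 0)) (.leaf (1, 2078))) (.leaf (2, 931))) (.node (.leaf (22, 567)) (.leaf (29, 2229)))) (.node (.node (.leaf (0, 0)) (.leaf (22, 2182))) (.node (.leaf (1, 936)) (.leaf (0, 0))))) (.node (.node (.node (.node (.leaf (0, 0)) (.leaf (33, 2235))) (.leaf (0, 0))) (.node (.leaf (0, 0)) (.leaf (33, 1954)))) (.node (.node (.leaf (0, 0)) (.leaf (33, 1984))) (.node (.leaf (29, 350)) (.leaf (0, 0))))))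

def certSVia62 : Janko.Tree (ℕ × ℕ) :=
  (.node (.node (.node (.node (.node (.leaf (0, 0)) (.leaf (30, 2079))) (.leaf (0, 0))) (.node (.leaf (0, 0)) (.leaf (0, 0)))) (.node (.node (.leaf (0, 0)) (.leaf (6, 1710))) (.node (.leaf (0, 0)) (.leaf (8, 2027))))) (.node (.node (.node (.node (.leaf (0, 0)) (.leaf (28, 2207))) (.leaf (0, 0))) (.node (.leaf (0, 0)) (.leaf (12, 1695)))) (.node (.node (.leaf (14, 989)) (.leaf (33, 2080))) (.node (.leaf (0, 0)) (.leaf (0, 0))))))

def certSVia63 : Janko.Tree (ℕ × ℕ) :=
  (.node (.node (.node (.node (.node (.leaf (0, 0)) (.leaf (27, 1841))) (.leaf (32, 1819))) (.node (.leaf (0, 0)) (.leaf (0, 0)))) (.node (.node (.leaf (0, 0)) (.leaf (31, 2203))) (.node (.leaf (0, 0)) (.leaf (2, 1747))))) (.node (.node (.node (.node (.leaf (0, 0)) (.leaf (24, 2094))) (.leaf (2, 1588))) (.node (.leaf (18, 2054)) (.leaf (32, 1626)))) (.node (.node (.leaf (9, 67)) (.leaf (0, 0))) (.node (.leaf (0, 0)) (.leaf (30, 2166))))))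

def certSVia64 : Janko.Tree (ℕ × ℕ) :=
  (.node (.node (.node (.node (.node (.leaf (0, 0)) (.leaf (0, 0))) (.leaf (0, 0))) (.node (.leaf (0, 0)) (.leaf (0, 0)))) (.node (.node (.leaf (0, 0)) (.leaf (17, 1710))) (.node (.leaf (0, 0)) (.leaf (0, 0))))) (.node (.node (.node (.node (.leaf (0, 0)) (.leaf (32, 2208))) (.leaf (10, 806))) (.node (.leaf (0, 0)) (.leaf (29, 1544)))) (.node (.node (.leaf (0, 0)) (.leaf (0, 0))) (.node (.leaf (2, 610)) (.leaf (31, 1952))))))

def certSVia65 : Janko.Tree (ℕ × ℕ) :=
  (.node (.node (.node (.node (.node (.leaf (0, 0)) (.leaf (4, 1740))) (.leaf (0, 0))) (.node (.leaf (0, 0)) (.leaf (0, 0)))) (.node (.node (.leaf (17, 796)) (.leaf (0, 0))) (.node (.leaf (0, 0)) (.leaf (0, 0))))) (.node (.node (.node (.node (.leaf (0, 0)) (.leaf (29, 2125))) (.leaf (0, 0))) (.node (.leaf (0, 0)) (.leaf (0, 0)))) (.node (.node (.leaf (0, 0)) (.leaf (0, 0))) (.node (.leaf (0, 0)) (.leaf (0, 0))))))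

def certSVia66 : Janko.Tree (ℕ × ℕ) :=
  (.node (.node (.node (.node (.node (.leaf (0, 0)) (.leaf (24, 1482))) (.leaf (28, 1569))) (.node (.leaf (5, 906)) (.leaf (0, 1569)))) (.node (.node (.leaf (8, 1038)) (.leaf (0, 0))) (.node (.leaf (0, 0)) (.leaf (28, 1825))))) (.node (.node (.node (.node (.leaf (0, 0)) (.leaf (33, 2084))) (.leaf (29, 1710))) (.node (.leaf (0, 0)) (.leaf (17, 1697)))) (.node (.node (.leaf (0, 0)) (.leaf (32, 2202))) (.node (.leaf (0, 0)) (.leaf (11, 804))))))

def certSVia67 : Janko.Tree (ℕ × ℕ) :=
  (.node (.node (.node (.node (.node (.leaf (0, 0)) (.leaf (2, 1740))) (.leaf (0, 0))) (.node (.leaf (0, 0)) (.leaf (0, 0)))) (.node (.node (.leaf (0, 0)) (.leaf (2, 607))) (.node (.leaf (0, 0)) (.leaf (5, 1175))))) (.node (.node (.node (.node (.leaf (1, 161)) (.leaf (33, 2186))) (.leaf (0, 0))) (.node (.leaf (0, 0)) (.leaf (11, 1517)))) (.node (.node (.leaf (0, 0)) (.leaf (0, 0))) (.node (.leaf (0, 0)) (.leaf (0, 0))))))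

def certSVia68 : Janko.Tree (ℕ × ℕ) :=
  (.node (.node (.node (.node (.node (.leaf (0, 0)) (.leaf (26, 1616))) (.leaf (0, 0))) (.node (.leaf (12, 548)) (.leaf (6, 1940)))) (.node (.node (.leaf (2, 165)) (.leaf (33, 927))) (.node (.leaf (0, 0)) (.leaf (0, 0))))) (.node (.node (.node (.node (.leaf (0, 162)) (.leaf (0, 2210))) (.leaf (10, 1138))) (.node (.leaf (29, 1945)) (.leaf (0, 0)))) (.node (.node (.leaf (0, 0)) (.leaf (28, 1762))) (.node (.leaf (0, 0)) (.leaf (0, 1954))))))

def certSVia69 : Janko.Tree (ℕ × ℕ) :=
  (.node (.node (.node (.node (.node (.leaf (0, 0)) (.leaf (8, 923))) (.leaf (10, 803))) (.node (.leaf (31, 906)) (.leaf (2, 1555)))) (.node (.node (.leaf (0, 0)) (.leaf (0, 0))) (.node (.leaf (1, 802)) (.leaf (27, 1810))))) (.node (.node (.node (.node (.leaf (0, 0)) (.leaf (25, 1680))) (.leaf (0, 0))) (.node (.leaf (0, 0)) (.leaf (0, 0)))) (.node (.node (.leaf (2, 347)) (.leaf (33, 2067))) (.node (.leaf (0, 0)) (.leaf (27, 2024))))))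

def certSVia70 : Janko.Tree (ℕ × ℕ) :=
  (.node (.node (.node (.node (.node (.leaf (0, 0)) (.leaf (33, 1800))) (.leaf (9, 259))) (.node (.leaf (16, 716)) (.leaf (29, 1608)))) (.node (.node (.leaf (0, 0)) (.leaf (0, 0))) (.node (.leaf (0, 0)) (.leaf (32, 2164))))) (.node (.node (.node (.node (.leaf (0, 0)) (.leaf (29, 1980))) (.leaf (0, 0))) (.node (.leaf (0, 0)) (.leaf (16, 1953)))) (.node (.node (.leaf (0, 0)) (.leaf (0, 0))) (.node (.leaf (8, 931)) (.leaf (2, 1592))))))

def certSVia71 : Janko.Tree (ℕ × ℕ) :=
  (.node (.node (.node (.node (.node (.leaf (0, 0)) (.leaf (31, 2026))) (.leaf (23, 1763))) (.node (.leaf (22, 517)) (.leaf (29, 1853)))) (.node (.node (.leaf (0, 0)) (.leaf (1, 1377))) (.node (.leaf (20, 931)) (.leaf (31, 1530))))) (.node (.node (.node (.node (.leaf (0, 0)) (.leaf (1, 2211))) (.leaf (2, 1184))) (.node (.leaf (0, 0)) (.leaf (22, 1957)))) (.node (.node (.leaf (9, 1284)) (.leaf (0, 0))) (.node (.leaf (33, 970)) (.leaf (0, 0))))))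

def certSVia72 : Janko.Tree (ℕ × ℕ) :=
  (.node (.node (.node (.node (.node (.leaf (0, 0)) (.leaf (0, 0))) (.leaf (0, 0))) (.node (.leaf (7, 548)) (.leaf (2, 1572)))) (.node (.node (.leaf (0, 0)) (.leaf (0, 0))) (.node (.leaf (0, 0)) (.leaf (33, 1677))))) (.node (.node (.node (.node (.leaf (0, 0)) (.leaf (30, 2212))) (.leaf (14, 1211))) (.node (.leaf (4, 676)) (.leaf (33, 1611)))) (.node (.node (.leaf (11, 1284)) (.leaf (0, 0))) (.node (.leaf (0, 0)) (.leaf (18, 1956))))))

def certSVia73 : Janko.Tree (ℕ × ℕ) :=
  (.node (.node (.node (.node (.node (.leaf (0, 0)) (.leaf (33, 2077))) (.leaf (0, 0))) (.node (.leaf (0, 0)) (.leaf (33, 2030)))) (.node (.node (.leaf (0, 0)) (.leaf (0, 0))) (.node (.leaf (5, 643)) (.leaf (32, 1953))))) (.node (.node (.node (.node (.leaf (0, 0)) (.leaf (25, 1974))) (.leaf (33, 1332))) (.node (.leaf (0, 0)) (.leaf (0, 0)))) (.node (.node (.leaf (0, 0)) (.leaf (31, 1659))) (.node (.leaf (30, 941)) (.leaf (31, 1270))))))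

def certSVia74 : Janko.Tree (ℕ × ℕ) :=
  (.node (.node (.node (.node (.node (.leaf (1, 0)) (.leaf (0, 0))) (.leaf (0, 0))) (.node (.leaf (0, 0)) (.leaf (31, 2083)))) (.node (.node (.leaf (12, 690)) (.leaf (0, 0))) (.node (.leaf (0, 0)) (.leaf (22, 1952))))) (.node (.node (.node (.node (.leaf (0, 0)) (.leaf (0, 2236))) (.leaf (0, 0))) (.node (.leaf (0, 0)) (.leaf (0, 0)))) (.node (.node (.leaf (0, 0)) (.leaf (0, 0))) (.node (.leaf (0, 0)) (.leaf (15, 2229))))))

def certSVia75 : Janko.Tree (ℕ × ℕ) :=
  (.node (.node (.node (.node (.node (.leaf (0, 0)) (.leaf (0, 0))) (.leaf (0, 0))) (.node (.leaf (22, 548)) (.leaf (9, 247)))) (.node (.node (.leaf (0, 0)) (.leaf (0, 0))) (.node (.leaf (28, 1954)) (.leaf (32, 1843))))) (.node (.node (.node (.node (.leaf (0, 0)) (.leaf (33, 1824))) (.leaf (0, 0))) (.node (.leaf (0, 0)) (.leaf (32, 2104)))) (.node (.node (.leaf (0, 0)) (.leaf (9, 427))) (.node (.leaf (30, 1029)) (.leaf (33, 1897))))))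

def certSVia76 : Janko.Tree (ℕ × ℕ) :=
  (.node (.node (.node (.node (.node (.leaf (0, 0)) (.leaf (32, 2095))) (.leaf (5, 1062))) (.node (.leaf (0, 550)) (.leaf (27, 1574)))) (.node (.node (.leaf (0, 0)) (.leaf (33, 1715))) (.node (.leaf (0, 0)) (.leaf (0, 0))))) (.node (.node (.node (.node (.leaf (0, 0)) (.leaf (31, 2185))) (.leaf (20, 1145))) (.node (.leaf (0, 0)) (.leaf (32, 1988)))) (.node (.node (.leaf (0, 0)) (.leaf (0, 0))) (.node (.leaf (0, 0)) (.leaf (0, 0))))))

def certSVia77 : Janko.Tree (ℕ × ℕ) :=
  (.node (.node (.node (.node (.node (.leaf (0, 0)) (.leaf (30, 2120))) (.leaf (0, 0))) (.node (.leaf (0, 0)) (.leaf (29, 1626)))) (.node (.node (.leaf (0, 0)) (.leaf (1, 1882))) (.node (.leaf (0, 0)) (.leaf (4, 2018))))) (.node (.node (.node (.node (.leaf (0, 0)) (.leaf (25, 2133))) (.leaf (8, 793))) (.node (.leaf (0, 0)) (.leaf (2, 2018)))) (.node (.node (.leaf (0, 0)) (.leaf (33, 904))) (.node (.leaf (0, 0)) (.leaf (33, 2143))))))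

def certSVia78 : Janko.Tree (ℕ × ℕ) :=
  (.node (.node (.node (.node (.node (.leaf (0, 0)) (.leaf (33, 2213))) (.leaf (31, 1063))) (.node (.leaf (0, 0)) (.leaf (21, 1131)))) (.node (.node (.leaf (0, 0)) (.leaf (0, 0))) (.node (.leaf (0, 0)) (.leaf (26, 2005))))) (.node (.node (.node (.node (.leaf (31, 796)) (.leaf (28, 2215))) (.leaf (28, 1252))) (.node (.leaf (0, 0)) (.leaf (0, 1703)))) (.node (.node (.leaf (22, 423)) (.leaf (0, 0))) (.node (.leaf (0, 0)) (.leaf (0, 0))))))

def certSVia79 : Janko.Tree (ℕ × ℕ) :=
  (.node (.node (.node (.node (.node (.leaf (0, 0)) (.leaf (30, 2214))) (.leaf (0, 0))) (.node (.leaf (0, 0)) (.leaf (2, 796)))) (.node (.node (.leaf (0, 0)) (.leaf (26, 1236))) (.node (.leaf (0, 0)) (.leaf (14, 1892))))) (.node (.node (.node (.node (.leaf (0, 0)) (.leaf (33, 1881))) (.leaf (19, 811))) (.node (.leaf (14, 1172)) (.leaf (33, 2142)))) (.node (.node (.leaf (0, 0)) (.leaf (5, 1589))) (.node (.leaf (0, 0)) (.leaf (31, 1559))))))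

def certSVia80 : Janko.Tree (ℕ × ℕ) :=
  (.node (.node (.node (.node (.node (.leaf (10, 170)) (.leaf (33, 1958))) (.leaf (30, 1499))) (.node (.leaf (0, 0)) (.leaf (0, 0)))) (.node (.node (.leaf (0, 0)) (.leaf (12, 1320))) (.node (.leaf (31, 1363)) (.leaf (28, 1171))))) (.node (.node (.node (.node (.leaf (2, 91)) (.leaf (25, 2101))) (.leaf (3, 1292))) (.node (.leaf (0, 0)) (.leaf (25, 1704)))) (.node (.node (.leaf (0, 0)) (.leaf (11, 434))) (.node (.leaf (0, 0)) (.leaf (22, 2117))))))

def certSVia81 : Janko.Tree (ℕ × ℕ) :=
  (.node (.node (.node (.node (.node (.leaf (0, 0)) (.leaf (25, 1782))) (.leaf (0, 0))) (.node (.leaf (0, 0)) (.leaf (1, 1583)))) (.node (.node (.leaf (0, 0)) (.leaf (0, 0))) (.node (.leaf (0, 0)) (.leaf (25, 1330))))) (.node (.node (.node (.node (.leaf (0, 0)) (.leaf (26, 1839))) (.leaf (0, 0))) (.node (.leaf (11, 422)) (.leaf (15, 1592)))) (.node (.node (.leaf (0, 0)) (.leaf (0, 0))) (.node (.leaf (33, 500)) (.leaf (0, 0))))))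

def certSVia82 : Janko.Tree (ℕ × ℕ) :=
  (.node (.node (.node (.node (.node (.leaf (0, 0)) (.leaf (32, 2110))) (.leaf (0, 0))) (.node (.leaf (0, 0)) (.leaf (0, 0)))) (.node (.node (.leaf (0, 0)) (.leaf (0, 0))) (.node (.leaf (0, 989)) (.leaf (0, 0))))) (.node (.node (.node (.node (.leaf (0, 0)) (.leaf (33, 2209))) (.leaf (0, 0))) (.node (.leaf (11, 139)) (.leaf (0, 1738)))) (.node (.node (.leaf (0, 0)) (.leaf (29, 1449))) (.node (.leaf (0, 0)) (.leaf (33, 1975))))))

def certSVia83 : Janko.Tree (ℕ × ℕ) :=
  (.node (.node (.node (.node (.node (.leaf (5, 123)) (.leaf (32, 2135))) (.leaf (18, 443))) (.node (.leaf (0, 0)) (.leaf (29, 1767)))) (.node (.node (.leaf (0, 0)) (.leaf (5, 932))) (.node (.leaf (0, 0)) (.leaf (31, 1589))))) (.node (.node (.node (.node (.leaf (0, 0)) (.leaf (33, 2194))) (.leaf (0, 0))) (.node (.leaf (11, 936)) (.leaf (33, 1995)))) (.node (.node (.leaf (10, 447)) (.leaf (0, 0))) (.node (.leaf (19, 1253)) (.leaf (33, 1391))))))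

def certSVia84 : Janko.Tree (ℕ × ℕ) :=
  (.node (.node (.node (.node (.node (.leaf (0, 0)) (.leaf (32, 2155))) (.leaf (33, 967))) (.node (.leaf (33, 1465)) (.leaf (33, 2056)))) (.node (.node (.leaf (0, 0)) (.leaf (32, 1632))) (.node (.leaf (0, 0)) (.leaf (0, 0))))) (.node (.node (.node (.node (.leaf (6, 218)) (.leaf (31, 2084))) (.leaf (2, 815))) (.node (.leaf (0, 0)) (.leaf (0, 0)))) (.node (.node (.leaf (4, 426)) (.leaf (0, 1450))) (.node (.leaf (0, 0)) (.leaf (33, 1832))))))

def certSVia85 : Janko.Tree (ℕ × ℕ) :=
  (.node (.node (.node (.node (.node (.leaf (0, 0)) (.leaf (30, 2102))) (.leaf (23, 796))) (.node (.leaf (0, 0)) (.leaf (0, 0)))) (.node (.node (.leaf (0, 0)) (.leaf (5, 372))) (.node (.leaf (22, 1172)) (.leaf (27, 1576))))) (.node (.node (.node (.node (.leaf (0, 0)) (.leaf (27, 2103))) (.leaf (0, 0))) (.node (.leaf (0, 0)) (.leaf (0, 0)))) (.node (.node (.leaf (33, 1953)) (.leaf (0, 0))) (.node (.leaf (1, 938)) (.leaf (27, 2150))))))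

def certSVia86 : Janko.Tree (ℕ × ℕ) :=
  (.node (.node (.node (.node (.node (.leaf (0, 0)) (.leaf (6, 2091))) (.leaf (21, 1572))) (.node (.leaf (4, 555)) (.leaf (5, 1579)))) (.node (.node (.leaf (0, 0)) (.leaf (0, 0))) (.node (.leaf (0, 0)) (.leaf (0, 0))))) (.node (.node (.node (.node (.leaf (17, 176)) (.leaf (32, 2031))) (.leaf (0, 0))) (.node (.leaf (2, 424)) (.leaf (10, 602)))) (.node (.node (.leaf (2, 252)) (.leaf (0, 0))) (.node (.leaf (29, 1305)) (.leaf (25, 1528))))))

def certSVia87 : Janko.Tree (ℕ × ℕ) :=
  (.node (.node (.node (.node (.node (.leaf (0, 0)) (.leaf (33, 2089))) (.leaf (5, 163))) (.node (.leaf (0, 0)) (.leaf (15, 1840)))) (.node (.node (.leaf (0, 0)) (.leaf (0, 0))) (.node (.leaf (1, 811)) (.leaf (32, 1960))))) (.node (.node (.node (.node (.leaf (0, 0)) (.leaf (14, 2051))) (.leaf (0, 0))) (.node (.leaf (0, 0)) (.leaf (0, 0)))) (.node (.node (.leaf (0, 0)) (.leaf (30, 2125))) (.node (.leaf (0, 0)) (.leaf (29, 2210))))))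

def certSVia88 : Janko.Tree (ℕ × ℕ) :=
  (.node (.node (.node (.node (.node (.leaf (0, 0)) (.leaf (32, 2126))) (.leaf (31, 1375))) (.node (.leaf (2, 335)) (.leaf (26, 2157)))) (.node (.node (.leaf (0, 0)) (.leaf (0, 0))) (.node (.leaf (16, 1107)) (.leaf (28, 1897))))) (.node (.node (.node (.node (.leaf (0, 0)) (.leaf (31, 2220))) (.leaf (0, 0))) (.node (.leaf (0, 0)) (.leaf (8, 1708)))) (.node (.node (.leaf (0, 0)) (.leaf (0, 0))) (.node (.leaf (29, 755)) (.leaf (32, 2053))))))

def certSVia89 : Janko.Tree (ℕ × ℕ) :=
  (.node (.node (.node (.node (.node (.leaf (0, 0)) (.leaf (33, 2228))) (.leaf (4, 922))) (.node (.leaf (0, 0)) (.leaf (17, 1581)))) (.node (.node (.leaf (9, 494)) (.leaf (0, 0))) (.node (.leaf (15, 490)) (.leaf (33, 1960))))) (.node (.node (.node (.node (.leaf (0, 0)) (.leaf (15, 1861))) (.leaf (0, 0))) (.node (.leaf (0, 0)) (.leaf (0, 0)))) (.node (.node (.leaf (0, 0)) (.leaf (0, 0))) (.node (.leaf (32, 1199)) (.leaf (22, 1204))))))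

def certSVia90 : Janko.Tree (ℕ × ℕ) :=
  (.node (.node (.node (.node (.node (.leaf (0, 0)) (.leaf (0, 0))) (.leaf (0, 0))) (.node (.leaf (0, 0)) (.leaf (2, 1581)))) (.node (.node (.leaf (0, 0)) (.leaf (0, 0))) (.node (.leaf (29, 1763)) (.leaf (11, 698))))) (.node (.node (.node (.node (.leaf (0, 0)) (.leaf (2, 2221))) (.leaf (0, 1197))) (.node (.leaf (0, 0)) (.leaf (32, 1648)))) (.node (.node (.leaf (0, 0)) (.leaf (2, 1453))) (.node (.leaf (16, 1309)) (.leaf (33, 1965))))))

def certSVia91 : Janko.Tree (ℕ × ℕ) :=
  (.node (.node (.node (.node (.node (.leaf (0, 0)) (.leaf (1, 2093))) (.leaf (12, 716))) (.node (.leaf (33, 1649)) (.leaf (0, 0)))) (.node (.node (.leaf (0, 0)) (.leaf (0, 0))) (.node (.leaf (0, 0)) (.leaf (31, 2087))))) (.node (.node (.node (.node (.leaf (0, 0)) (.leaf (1, 2221))) (.leaf (0, 0))) (.node (.leaf (33, 1805)) (.leaf (29, 2065)))) (.node (.node (.leaf (0, 0)) (.leaf (0, 0))) (.node (.leaf (0, 0)) (.leaf (33, 2214))))))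

def certSVia92 : Janko.Tree (ℕ × ℕ) :=
  (.node (.node (.node (.node (.node (.leaf (0, 0)) (.leaf (0, 0))) (.leaf (25, 1021))) (.node (.leaf (10, 336)) (.leaf (26, 2133)))) (.node (.node (.leaf (0, 0)) (.leaf (0, 0))) (.node (.leaf (4, 821)) (.leaf (28, 1962))))) (.node (.node (.node (.node (.leaf (0, 0)) (.leaf (31, 2222))) (.leaf (25, 1395))) (.node (.leaf (0, 0)) (.leaf (3, 1710)))) (.node (.node (.leaf (4, 172)) (.leaf (26, 1686))) (.node (.leaf (0, 0)) (.leaf (25, 1212))))))

def certSVia93 : Janko.Tree (ℕ × ℕ) :=
  (.node (.node (.node (.node (.node (.leaf (0, 0)) (.leaf (27, 2172))) (.leaf (0, 0))) (.node (.leaf (0, 0)) (.leaf (30, 1714)))) (.node (.node (.leaf (31, 512)) (.leaf (24, 1620))) (.node (.leaf (0, 0)) (.leaf (2, 2047))))) (.node (.node (.node (.node (.leaf (9, 168)) (.leaf (30, 1348))) (.leaf (30, 842))) (.node (.leaf (0, 0)) (.leaf (27, 1536)))) (.node (.node (.leaf (31, 525)) (.leaf (0, 0))) (.node (.leaf (0, 0)) (.leaf (2, 1934))))))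

def certSVia94 : Janko.Tree (ℕ × ℕ) :=
  (.node (.node (.node (.node (.node (.leaf (0, 0)) (.leaf (30, 2095))) (.leaf (10, 586))) (.node (.leaf (10, 559)) (.leaf (0, 0)))) (.node (.node (.leaf (0, 0)) (.leaf (26, 1115))) (.node (.leaf (0, 0)) (.leaf (0, 1839))))) (.node (.node (.node (.node (.leaf (31, 499)) (.leaf (33, 2223))) (.leaf (26, 1200))) (.node (.leaf (0, 0)) (.leaf (0, 1918)))) (.node (.node (.leaf (0, 0)) (.leaf (0, 0))) (.node (.leaf (0, 0)) (.leaf (0, 1967))))))

def certSVia95 : Janko.Tree (ℕ × ℕ) :=
  (.node (.node (.node (.node (.node (.leaf (0, 0)) (.leaf (33, 2216))) (.leaf (33, 1231))) (.node (.leaf (32, 1569)) (.leaf (18, 2113)))) (.node (.node (.leaf (0, 0)) (.leaf (0, 0))) (.node (.leaf (0, 0)) (.leaf (22, 1803))))) (.node (.node (.node (.node (.leaf (0, 0)) (.leaf (8, 2210))) (.leaf (0, 0))) (.node (.leaf (0, 0)) (.leaf (0, 0)))) (.node (.node (.leaf (0, 0)) (.leaf (25, 1689))) (.node (.leaf (33, 1127)) (.leaf (19, 1616))))))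

def certSVia96 : Janko.Tree (ℕ × ℕ) :=
  (.node (.node (.node (.node (.node (.leaf (0, 0)) (.leaf (0, 0))) (.leaf (22, 1076))) (.node (.leaf (0, 0)) (.leaf (0, 0)))) (.node (.node (.leaf (0, 0)) (.leaf (0, 0))) (.node (.leaf (21, 816)) (.leaf (0, 0))))) (.node (.node (.node (.node (.leaf (0, 0)) (.leaf (30, 2224))) (.leaf (2, 1200))) (.node (.leaf (0, 0)) (.leaf (25, 1712)))) (.node (.node (.leaf (0, 0)) (.leaf (0, 0))) (.node (.leaf (0, 0)) (.leaf (31, 1658))))))

def certSVia97 : Janko.Tree (ℕ × ℕ) :=
  (.node (.node (.node (.node (.node (.leaf (0, 0)) (.leaf (3, 2236))) (.leaf (0, 0))) (.node (.leaf (0, 0)) (.leaf (33, 1495)))) (.node (.node (.leaf (5, 436)) (.leaf (15, 1754))) (.node (.leaf (0, 0)) (.leaf (0, 0))))) (.node (.node (.node (.node (.leaf (0, 0)) (.leaf (2, 1877))) (.leaf (0, 0))) (.node (.leaf (0, 0)) (.leaf (0, 0)))) (.node (.node (.leaf (0, 0)) (.leaf (0, 0))) (.node (.leaf (0, 0)) (.leaf (31, 2002))))))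

def certSVia98 : Janko.Tree (ℕ × ℕ) :=
  (.node (.node (.node (.node (.node (.leaf (0, 0)) (.leaf (32, 1830))) (.leaf (12, 1208))) (.node (.leaf (0, 817)) (.leaf (0, 1893)))) (.node (.node (.leaf (0, 0)) (.leaf (33, 1646))) (.node (.leaf (5, 817)) (.leaf (3, 1841))))) (.node (.node (.node (.node (.leaf (0, 0)) (.leaf (0, 2225))) (.leaf (29, 1201))) (.node (.leaf (0, 0)) (.leaf (33, 1387)))) (.node (.node (.leaf (0, 0)) (.leaf (0, 0))) (.node (.leaf (0, 0)) (.leaf (21, 1969))))))

def certSVia99 : Janko.Tree (ℕ × ℕ) :=
  (.node (.node (.node (.node (.node (.leaf (0, 0)) (.leaf (33, 2221))) (.leaf (16, 1197))) (.node (.leaf (0, 0)) (.leaf (33, 1987)))) (.node (.node (.leaf (0, 0)) (.leaf (18, 1969))) (.node (.leaf (31, 590)) (.leaf (25, 1969))))) (.node (.node (.node (.node (.leaf (0, 0)) (.leaf (2, 1909))) (.leaf (28, 1392))) (.node (.leaf (0, 0)) (.leaf (0, 0)))) (.node (.node (.leaf (0, 0)) (.leaf (2, 1451))) (.node (.leaf (31, 2138)) (.leaf (19, 2104))))))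

def certSVia100 : Janko.Tree (ℕ × ℕ) :=
  (.node (.node (.node (.node (.node (.leaf (0, 0)) (.leaf (26, 1832))) (.leaf (0, 0))) (.node (.leaf (0, 0)) (.leaf (0, 0)))) (.node (.node (.leaf (2, 176)) (.leaf (8, 1330))) (.node (.leaf (0, 0)) (.leaf (24, 2168))))) (.node (.node (.node (.node (.leaf (0, 0)) (.leaf (0, 2226))) (.leaf (0, 0))) (.node (.leaf (4, 0)) (.leaf (0, 0)))) (.node (.node (.leaf (0, 0)) (.leaf (0, 0))) (.node (.leaf (0, 0)) (.leaf (30, 1970))))))

def certSVia101 : Janko.Tree (ℕ × ℕ) :=
  (.node (.node (.node (.node (.node (.leaf (0, 0)) (.leaf (0, 0))) (.leaf (33, 1758))) (.node (.leaf (18, 833)) (.leaf (13, 1946)))) (.node (.node (.leaf (0, 0)) (.leaf (31, 940))) (.node (.leaf (0, 0)) (.leaf (0, 0))))) (.node (.node (.node (.node (.leaf (2, 162)) (.leaf (31, 2191))) (.leaf (0, 0))) (.node (.leaf (0, 0)) (.leaf (5, 1841)))) (.node (.node (.leaf (0, 0)) (.leaf (8, 1181))) (.node (.leaf (11, 876)) (.leaf (24, 1084))))))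

def certSVia102 : Janko.Tree (ℕ × ℕ) :=
  (.node (.node (.node (.node (.node (.leaf (0, 0)) (.leaf (28, 2025))) (.leaf (0, 0))) (.node (.leaf (0, 0)) (.leaf (11, 505)))) (.node (.node (.leaf (0, 0)) (.leaf (0, 0))) (.node (.leaf (0, 0)) (.leaf (2, 1843))))) (.node (.node (.node (.node (.leaf (0, 0)) (.leaf (28, 2139))) (.leaf (0, 0))) (.node (.leaf (0, 0)) (.leaf (0, 0)))) (.node (.node (.leaf (0, 0)) (.leaf (11, 439))) (.node (.leaf (2, 947)) (.leaf (25, 1796))))))

def certSVia103 : Janko.Tree (ℕ × ℕ) :=
  (.node (.node (.node (.node (.node (.leaf (2, 452)) (.leaf (26, 1262))) (.leaf (0, 0))) (.node (.leaf (0, 0)) (.leaf (0, 0)))) (.node (.node (.leaf (0, 0)) (.leaf (33, 2168))) (.node (.leaf (0, 0)) (.leaf (0, 0))))) (.node (.node (.node (.node (.leaf (2, 190)) (.leaf (1, 2227))) (.leaf (18, 1600))) (.node (.leaf (5, 431)) (.leaf (0, 0)))) (.node (.node (.leaf (6, 1320)) (.leaf (0, 0))) (.node (.leaf (24, 453)) (.leaf (14, 2155))))))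

def certSVia104 : Janko.Tree (ℕ × ℕ) :=
  (.node (.node (.node (.node (.node (.leaf (0, 0)) (.leaf (28, 1519))) (.leaf (18, 1076))) (.node (.leaf (0, 0)) (.leaf (0, 1588)))) (.node (.node (.leaf (0, 0)) (.leaf (0, 0))) (.node (.leaf (25, 590)) (.leaf (28, 1761))))) (.node (.node (.node (.node (.leaf (0, 0)) (.leaf (26, 2228))) (.leaf (0, 0))) (.node (.leaf (0, 0)) (.leaf (15, 2018)))) (.node (.node (.leaf (0, 0)) (.leaf (17, 1460))) (.node (.leaf (0, 0)) (.leaf (0, 0))))))

def certSVia105 : Janko.Tree (ℕ × ℕ) :=
  (.node (.node (.node (.node (.node (.leaf (0, 0)) (.leaf (33, 2140))) (.leaf (0, 0))) (.node (.leaf (2, 550)) (.leaf (0, 0)))) (.node (.node (.leaf (0, 0)) (.leaf (5, 1305))) (.node (.leaf (10, 713)) (.leaf (28, 1719))))) (.node (.node (.node (.node (.leaf (0, 0)) (.leaf (33, 2237))) (.leaf (11, 1234))) (.node (.leaf (0, 0)) (.leaf (0, 0)))) (.node (.node (.leaf (15, 852)) (.leaf (19, 1324))) (.node (.leaf (0, 0)) (.leaf (24, 2090))))))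

def certSVia106 : Janko.Tree (ℕ × ℕ) :=
  (.node (.node (.node (.node (.node (.leaf (0, 0)) (.leaf (0, 0))) (.leaf (31, 1505))) (.node (.leaf (0, 0)) (.leaf (24, 677)))) (.node (.node (.leaf (0, 0)) (.leaf (31, 1732))) (.node (.leaf (14, 821)) (.leaf (0, 1845))))) (.node (.node (.node (.node (.leaf (0, 0)) (.leaf (5, 2229))) (.leaf (24, 1243))) (.node (.leaf (0, 0)) (.leaf (33, 1717)))) (.node (.node (.leaf (0, 0)) (.leaf (0, 0))) (.node (.leaf (0, 0)) (.leaf (24, 1641))))))

def certSVia107 : Janko.Tree (ℕ × ℕ) :=
  (.node (.node (.node (.node (.node (.leaf (29, 639)) (.leaf (0, 0))) (.leaf (0, 0))) (.node (.leaf (0, 0)) (.leaf (0, 0)))) (.node (.node (.leaf (0, 0)) (.leaf (0, 0))) (.node (.leaf (31, 1193)) (.leaf (4, 1848))))) (.node (.node (.node (.node (.leaf (0, 0)) (.leaf (33, 2101))) (.leaf (0, 0))) (.node (.leaf (5, 300)) (.leaf (0, 0)))) (.node (.node (.leaf (5, 647)) (.leaf (1, 1461))) (.node (.leaf (2, 750)) (.leaf (14, 2052))))))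

def certSVia108 : Janko.Tree (ℕ × ℕ) :=
  (.node (.node (.node (.node (.node (.leaf (0, 0)) (.leaf (4, 1056))) (.leaf (0, 0))) (.node (.leaf (0, 0)) (.leaf (0, 0)))) (.node (.node (.leaf (5, 330)) (.leaf (0, 0))) (.node (.leaf (29, 1197)) (.leaf (32, 2192))))) (.node (.node (.node (.node (.leaf (0, 0)) (.leaf (33, 2230))) (.leaf (0, 0))) (.node (.leaf (0, 0)) (.leaf (0, 1718)))) (.node (.node (.leaf (0, 0)) (.leaf (0, 0))) (.node (.leaf (0, 0)) (.leaf (24, 1247))))))

def certSVia109 : Janko.Tree (ℕ × ℕ) :=
  (.node (.node (.node (.node (.node (.leaf (33, 206)) (.leaf (15, 1905))) (.leaf (0, 0))) (.node (.leaf (0, 0)) (.leaf (32, 2006)))) (.node (.node (.leaf (0, 0)) (.leaf (21, 1751))) (.node (.leaf (0, 0)) (.leaf (0, 0))))) (.node (.node (.node (.node (.leaf (0, 0)) (.leaf (32, 1962))) (.leaf (30, 1197))) (.node (.leaf (0, 0)) (.leaf (30, 960)))) (.node (.node (.leaf (0, 0)) (.leaf (0, 0))) (.node (.leaf (32, 1172)) (.leaf (33, 1376))))))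

def certSVia110 : Janko.Tree (ℕ × ℕ) :=
  (.node (.node (.node (.node (.node (.leaf (0, 0)) (.leaf (0, 0))) (.leaf (0, 0))) (.node (.leaf (0, 725)) (.leaf (8, 1710)))) (.node (.node (.leaf (0, 0)) (.leaf (28, 944))) (.node (.leaf (0, 0)) (.leaf (0, 0))))) (.node (.node (.node (.node (.leaf (0, 0)) (.leaf (33, 2152))) (.leaf (29, 1758))) (.node (.leaf (0, 0)) (.leaf (5, 1719)))) (.node (.node (.leaf (0, 0)) (.leaf (0, 0))) (.node (.leaf (8, 1145)) (.leaf (19, 1233))))))

def certSVia111 : Janko.Tree (ℕ × ℕ) :=
  (.node (.node (.node (.node (.node (.leaf (4, 449)) (.leaf (0, 0))) (.leaf (0, 0))) (.node (.leaf (0, 0)) (.leaf (32, 1882)))) (.node (.node (.leaf (0, 0)) (.leaf (4, 2138))) (.node (.leaf (16, 730)) (.leaf (0, 0))))) (.node (.node (.node (.node (.leaf (0, 0)) (.leaf (30, 1637))) (.leaf (30, 1991))) (.node (.leaf (2, 1037)) (.leaf (31, 1839)))) (.node (.node (.leaf (11, 700)) (.leaf (0, 0))) (.node (.leaf (0, 0)) (.leaf (32, 1765))))))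

def certSVia112 : Janko.Tree (ℕ × ℕ) :=
  (.node (.node (.node (.node (.node (.leaf (0, 0)) (.leaf (24, 2104))) (.leaf (0, 0))) (.node (.leaf (0, 0)) (.leaf (0, 0)))) (.node (.node (.leaf (0, 0)) (.leaf (30, 1751))) (.node (.leaf (29, 762)) (.leaf (0, 0))))) (.node (.node (.node (.node (.leaf (0, 0)) (.leaf (33, 2232))) (.leaf (17, 1074))) (.node (.leaf (0, 0)) (.leaf (10, 2091)))) (.node (.node (.leaf (0, 0)) (.leaf (0, 0))) (.node (.leaf (4, 235)) (.leaf (0, 0))))))

def certSVia113 : Janko.Tree (ℕ × ℕ) :=
  (.node (.node (.node (.node (.node (.leaf (0, 0)) (.leaf (19, 1754))) (.leaf (0, 0))) (.node (.leaf (0, 0)) (.leaf (29, 2239)))) (.node (.node (.leaf (9, 853)) (.leaf (1, 1350))) (.node (.leaf (3, 985)) (.leaf (0, 0))))) (.node (.node (.node (.node (.leaf (33, 682)) (.leaf (33, 2009))) (.leaf (33, 1896))) (.node (.leaf (0, 0)) (.leaf (2, 1695)))) (.node (.node (.leaf (0, 0)) (.leaf (32, 1975))) (.node (.leaf (33, 2054)) (.leaf (32, 2098))))))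

def certSVia114 : Janko.Tree (ℕ × ℕ) :=
  (.node (.node (.node (.node (.node (.leaf (0, 0)) (.leaf (33, 2136))) (.leaf (0, 0))) (.node (.leaf (0, 0)) (.leaf (24, 1320)))) (.node (.node (.leaf (0, 0)) (.leaf (0, 0))) (.node (.leaf (0, 0)) (.leaf (31, 2202))))) (.node (.node (.node (.node (.leaf (0, 0)) (.leaf (33, 2233))) (.leaf (31, 1624))) (.node (.leaf (0, 0)) (.leaf (0, 0)))) (.node (.node (.leaf (9, 833)) (.leaf (2, 1465))) (.node (.leaf (24, 628)) (.leaf (0, 0))))))

def certSVia115 : Janko.Tree (ℕ × ℕ) :=
  (.node (.node (.node (.node (.node (.leaf (0, 0)) (.leaf (31, 1849))) (.leaf (31, 721))) (.node (.leaf (0, 0)) (.leaf (33, 1668)))) (.node (.node (.leaf (0, 0)) (.leaf (0, 0))) (.node (.leaf (0, 0)) (.leaf (0, 0))))) (.node (.node (.node (.node (.leaf (0, 0)) (.leaf (32, 2237))) (.leaf (33, 2008))) (.node (.leaf (0, 0)) (.leaf (33, 1913)))) (.node (.node (.leaf (0, 0)) (.leaf (1, 1465))) (.node (.leaf (0, 0)) (.leaf (1, 2171))))))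

def certSVia116 : Janko.Tree (ℕ × ℕ) :=
  (.node (.node (.node (.node (.node (.leaf (0, 0)) (.leaf (32, 2156))) (.leaf (33, 1193))) (.node (.leaf (0, 0)) (.leaf (10, 2050)))) (.node (.node (.leaf (0, 0)) (.leaf (8, 1763))) (.node (.leaf (31, 508)) (.leaf (0, 0))))) (.node (.node (.node (.node (.leaf (29, 449)) (.leaf (32, 2007))) (.leaf (26, 1958))) (.node (.leaf (0, 0)) (.leaf (33, 1408)))) (.node (.node (.leaf (31, 442)) (.leaf (0, 0))) (.node (.leaf (0, 0)) (.leaf (25, 2062))))))

def certSVia117 : Janko.Tree (ℕ × ℕ) :=
  (.node (.node (.node (.node (.node (.leaf (0, 0)) (.leaf (24, 1768))) (.leaf (0, 0))) (.node (.leaf (0, 0)) (.leaf (0, 0)))) (.node (.node (.leaf (0, 0)) (.leaf (18, 379))) (.node (.leaf (0, 0)) (.leaf (18, 1657))))) (.node (.node (.node (.node (.leaf (0, 0)) (.leaf (29, 2130))) (.leaf (23, 1197))) (.node (.leaf (0, 0)) (.leaf (2, 1718)))) (.node (.node (.leaf (21, 1145)) (.leaf (0, 0))) (.node (.leaf (5, 1517)) (.leaf (31, 2190))))))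

def certSVia118 : Janko.Tree (ℕ × ℕ) :=
  (.node (.node (.node (.node (.node (.leaf (0, 0)) (.leaf (29, 2107))) (.leaf (0, 0))) (.node (.leaf (0, 0)) (.leaf (4, 1189)))) (.node (.node (.leaf (0, 0)) (.leaf (0, 1339))) (.node (.leaf (0, 0)) (.leaf (2, 1499))))) (.node (.node (.node (.node (.leaf (0, 0)) (.leaf (28, 2021))) (.leaf (0, 1211))) (.node (.leaf (0, 0)) (.leaf (0, 0)))) (.node (.node (.leaf (0, 0)) (.leaf (2, 1074))) (.node (.leaf (8, 753)) (.leaf (26, 1979))))))

def certSVia119 : Janko.Tree (ℕ × ℕ) :=
  (.node (.node (.node (.node (.node (.leaf (0, 0)) (.leaf (32, 1802))) (.leaf (0, 0))) (.node (.leaf (0, 0)) (.leaf (29, 1359)))) (.node (.node (.leaf (0, 0)) (.leaf (0, 0))) (.node (.leaf (0, 0)) (.leaf (31, 1462))))) (.node (.node (.node (.node (.leaf (0, 0)) (.leaf (32, 2022))) (.leaf (30, 2060))) (.node (.leaf (8, 394)) (.leaf (5, 909)))) (.node (.node (.leaf (0, 0)) (.leaf (26, 1943))) (.node (.leaf (29, 1312)) (.leaf (33, 2113))))))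

def certSVia120 : Janko.Tree (ℕ × ℕ) :=
  (.node (.node (.node (.node (.node (.leaf (0, 0)) (.leaf (24, 1458))) (.leaf (29, 837))) (.node (.leaf (10, 862)) (.leaf (5, 1596)))) (.node (.node (.leaf (0, 0)) (.leaf (0, 0))) (.node (.leaf (28, 2010)) (.leaf (0, 0))))) (.node (.node (.node (.node (.leaf (6, 337)) (.leaf (4, 2236))) (.leaf (0, 0))) (.node (.leaf (0, 0)) (.leaf (0, 0)))) (.node (.node (.leaf (0, 444)) (.leaf (26, 2056))) (.node (.leaf (0, 0)) (.leaf (28, 2227))))))

def certSVia121 : Janko.Tree (ℕ × ℕ) :=
  (.node (.node (.node (.node (.node (.leaf (0, 0)) (.leaf (30, 1458))) (.leaf (0, 0))) (.node (.leaf (0, 0)) (.leaf (0, 0)))) (.node (.node (.leaf (14, 643)) (.leaf (0, 0))) (.node (.leaf (0, 0)) (.leaf (1, 1852))))) (.node (.node (.node (.node (.leaf (0, 0)) (.leaf (33, 2094))) (.leaf (0, 0))) (.node (.leaf (9, 432)) (.leaf (33, 1866)))) (.node (.node (.leaf (0, 0)) (.leaf (31, 1235))) (.node (.leaf (0, 0)) (.leaf (5, 1638))))))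

def certSVia122 : Janko.Tree (ℕ × ℕ) :=
  (.node (.node (.node (.node (.node (.leaf (0, 61)) (.leaf (17, 1181))) (.leaf (0, 1085))) (.node (.leaf (16, 1697)) (.leaf (9, 514)))) (.node (.node (.leaf (0, 0)) (.leaf (32, 1974))) (.node (.leaf (0, 0)) (.leaf (10, 1907))))) (.node (.node (.node (.node (.leaf (0, 0)) (.leaf (0, 2237))) (.leaf (33, 1807))) (.node (.leaf (0, 0)) (.leaf (0, 0)))) (.node (.node (.leaf (0, 0)) (.leaf (27, 1469))) (.node (.leaf (4, 471)) (.leaf (12, 2151))))))

def certSVia123 : Janko.Tree (ℕ × ℕ) :=
  (.node (.node (.node (.node (.node (.leaf (0, 0)) (.leaf (21, 2160))) (.leaf (0, 0))) (.node (.leaf (0, 0)) (.leaf (31, 1455)))) (.node (.node (.leaf (1, 317)) (.leaf (0, 0))) (.node (.leaf (33, 1625)) (.leaf (28, 2204))))) (.node (.node (.node (.node (.leaf (0, 0)) (.leaf (33, 2157))) (.leaf (27, 2131))) (.node (.leaf (0, 0)) (.leaf (0, 0)))) (.node (.node (.leaf (0, 0)) (.leaf (33, 2234))) (.node (.leaf (0, 0)) (.leaf (5, 1672))))))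

def certSVia124 : Janko.Tree (ℕ × ℕ) :=
  (.node (.node (.node (.node (.node (.leaf (0, 0)) (.leaf (33, 2220))) (.leaf (14, 2104))) (.node (.leaf (8, 1268)) (.leaf (2, 1193)))) (.node (.node (.leaf (0, 318)) (.leaf (0, 0))) (.node (.leaf (0, 0)) (.leaf (17, 1434))))) (.node (.node (.node (.node (.leaf (0, 0)) (.leaf (33, 2211))) (.leaf (14, 1654))) (.node (.leaf (0, 0)) (.leaf (32, 2213)))) (.node (.node (.leaf (0, 0)) (.leaf (0, 0))) (.node (.leaf (0, 0)) (.leaf (30, 2146))))))

def certSVia125 : Janko.Tree (ℕ × ℕ) :=
  (.node (.node (.node (.node (.node (.leaf (0, 0)) (.leaf (27, 2209))) (.leaf (19, 1018))) (.node (.leaf (0, 0)) (.leaf (0, 0)))) (.node (.node (.leaf (0, 0)) (.leaf (32, 1572))) (.node (.leaf (31, 1943)) (.leaf (0, 0))))) (.node (.node (.node (.node (.leaf (0, 0)) (.leaf (22, 1959))) (.leaf (7, 883))) (.node (.leaf (33, 1521)) (.leaf (0, 0)))) (.node (.node (.leaf (0, 0)) (.leaf (11, 312))) (.node (.leaf (0, 0)) (.leaf (30, 1990))))))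

def certSVia126 : Janko.Tree (ℕ × ℕ) :=
  (.node (.node (.node (.node (.node (.leaf (0, 0)) (.leaf (4, 2111))) (.leaf (0, 0))) (.node (.leaf (32, 1028)) (.leaf (0, 0)))) (.node (.node (.leaf (0, 0)) (.leaf (9, 381))) (.node (.leaf (0, 0)) (.leaf (0, 1855))))) (.node (.node (.node (.node (.leaf (0, 0)) (.leaf (28, 2188))) (.leaf (0, 0))) (.node (.leaf (0, 0)) (.leaf (0, 0)))) (.node (.node (.leaf (10, 150)) (.leaf (0, 0))) (.node (.leaf (0, 0)) (.leaf (30, 1983))))))

def certSVia127 : Janko.Tree (ℕ × ℕ) :=
  (.node (.node (.node (.node (.node (.leaf (0, 0)) (.leaf (2, 1657))) (.leaf (0, 0))) (.node (.leaf (0, 0)) (.leaf (31, 1934)))) (.node (.node (.leaf (0, 0)) (.leaf (13, 1013))) (.node (.leaf (0, 0)) (.leaf (24, 1650))))) (.node (.node (.node (.node (.leaf (33, 548)) (.leaf (33, 2183))) (.leaf (9, 892))) (.node (.leaf (0, 0)) (.leaf (30, 2210)))) (.node (.node (.leaf (0, 0)) (.leaf (0, 0))) (.node (.leaf (0, 0)) (.leaf (0, 0))))))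

def certSVia128 : Janko.Tree (ℕ × ℕ) :=
  (.node (.node (.node (.node (.node (.leaf (0, 0)) (.leaf (32, 1499))) (.leaf (0, 0))) (.node (.leaf (0, 0)) (.leaf (13, 1600)))) (.node (.node (.leaf (0, 0)) (.leaf (4, 1344))) (.node (.leaf (0, 0)) (.leaf (33, 1466))))) (.node (.node (.node (.node (.leaf (0, 0)) (.leaf (0, 0))) (.leaf (0, 0))) (.node (.leaf (0, 0)) (.leaf (0, 0)))) (.node (.node (.leaf (17, 716)) (.leaf (33, 1767))) (.node (.leaf (5, 1227)) (.leaf (26, 2066))))))

def certSVia129 : Janko.Tree (ℕ × ℕ) :=
  (.node (.node (.node (.node (.node (.leaf (0, 0)) (.leaf (4, 1635))) (.leaf (0, 0))) (.node (.leaf (0, 0)) (.leaf (0, 0)))) (.node (.node (.leaf (0, 0)) (.leaf (0, 0))) (.node (.leaf (2, 818)) (.leaf (5, 1466))))) (.node (.node (.node (.node (.leaf (0, 0)) (.leaf (0, 0))) (.leaf (0, 0))) (.node (.leaf (0, 0)) (.leaf (0, 0)))) (.node (.node (.leaf (0, 0)) (.leaf (29, 1480))) (.node (.leaf (0, 0)) (.leaf (0, 0))))))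

def certSVia130 : Janko.Tree (ℕ × ℕ) :=
  (.node (.node (.node (.node (.node (.leaf (0, 0)) (.leaf (5, 2113))) (.leaf (0, 0))) (.node (.leaf (0, 577)) (.leaf (21, 1998)))) (.node (.node (.leaf (10, 102)) (.leaf (28, 954))) (.node (.leaf (0, 0)) (.leaf (11, 1857))))) (.node (.node (.node (.node (.leaf (0, 0)) (.leaf (2, 18))) (.leaf (0, 1501))) (.node (.leaf (0, 705)) (.leaf (0, 0)))) (.node (.node (.leaf (5, 449)) (.leaf (4, 1473))) (.node (.leaf (0, 0)) (.leaf (33, 2050))))))

def certSVia131 : Janko.Tree (ℕ × ℕ) :=
  (.node (.node (.node (.node (.node (.leaf (0, 0)) (.leaf (32, 1744))) (.leaf (29, 1906))) (.node (.leaf (0, 0)) (.leaf (32, 2048)))) (.node (.node (.leaf (0, 0)) (.leaf (28, 2041))) (.node (.leaf (0, 0)) (.leaf (33, 2179))))) (.node (.node (.node (.node (.leaf (0, 0)) (.leaf (3, 1172))) (.leaf (0, 0))) (.node (.leaf (0, 0)) (.leaf (0, 0)))) (.node (.node (.leaf (0, 0)) (.leaf (0, 0))) (.node (.leaf (0, 0)) (.leaf (33, 1593))))))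

def certSVia132 : Janko.Tree (ℕ × ℕ) :=
  (.node (.node (.node (.node (.node (.leaf (0, 0)) (.leaf (0, 0))) (.leaf (17, 1906))) (.node (.leaf (0, 0)) (.leaf (30, 1602)))) (.node (.node (.leaf (2, 322)) (.leaf (0, 0))) (.node (.leaf (0, 0)) (.leaf (32, 2234))))) (.node (.node (.node (.node (.leaf (0, 0)) (.leaf (4, 476))) (.leaf (30, 1673))) (.node (.leaf (4, 550)) (.leaf (0, 0)))) (.node (.node (.leaf (0, 0)) (.leaf (2, 1079))) (.node (.leaf (0, 0)) (.leaf (33, 1970))))))

def certSVia133 : Janko.Tree (ℕ × ℕ) :=
  (.node (.node (.node (.node (.node (.leaf (0, 0)) (.leaf (13, 1861))) (.leaf (0, 0))) (.node (.leaf (0, 0)) (.leaf (28, 2189)))) (.node (.node (.leaf (32, 440)) (.leaf (30, 1482))) (.node (.leaf (2, 559)) (.leaf (33, 1634))))) (.node (.node (.node (.node (.leaf (0, 0)) (.leaf (5, 61))) (.leaf (1, 1218))) (.node (.leaf (0, 0)) (.leaf (29, 1707)))) (.node (.node (.leaf (0, 0)) (.leaf (0, 0))) (.node (.leaf (25, 1514)) (.leaf (11, 2189))))))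

def certSVia134 : Janko.Tree (ℕ × ℕ) :=
  (.node (.node (.node (.node (.node (.leaf (2, 34)) (.leaf (0, 2115))) (.leaf (0, 0))) (.node (.leaf (0, 0)) (.leaf (32, 1728)))) (.node (.node (.leaf (0, 0)) (.leaf (29, 2017))) (.node (.leaf (0, 0)) (.leaf (33, 1471))))) (.node (.node (.node (.node (.leaf (0, 0)) (.leaf (6, 1130))) (.leaf (15, 839))) (.node (.leaf (5, 707)) (.leaf (0, 0)))) (.node (.node (.leaf (29, 985)) (.leaf (0, 1691))) (.node (.leaf (0, 0)) (.leaf (0, 0))))))

def certSVia135 : Janko.Tree (ℕ × ℕ) :=
  (.node (.node (.node (.node (.node (.leaf (0, 0)) (.leaf (2, 1590))) (.leaf (10, 1113))) (.node (.leaf (0, 0)) (.leaf (19, 1196)))) (.node (.node (.leaf (0, 0)) (.leaf (0, 0))) (.node (.leaf (0, 0)) (.leaf (7, 1655))))) (.node (.node (.node (.node (.leaf (0, 0)) (.leaf (7, 608))) (.leaf (0, 0))) (.node (.leaf (0, 0)) (.leaf (4, 942)))) (.node (.node (.leaf (0, 0)) (.leaf (0, 0))) (.node (.leaf (0, 0)) (.leaf (1, 1987))))))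

def certSVia136 : Janko.Tree (ℕ × ℕ) :=
  (.node (.node (.node (.node (.node (.leaf (0, 0)) (.leaf (0, 2116))) (.leaf (14, 1998))) (.node (.leaf (0, 0)) (.leaf (5, 2117)))) (.node (.node (.leaf (0, 0)) (.leaf (2, 1348))) (.node (.leaf (32, 1634)) (.leaf (33, 1860))))) (.node (.node (.node (.node (.leaf (0, 0)) (.leaf (8, 643))) (.leaf (32, 2169))) (.node (.leaf (0, 0)) (.leaf (9, 1465)))) (.node (.node (.leaf (2, 0)) (.leaf (0, 0))) (.node (.leaf (4, 1902)) (.leaf (0, 1988))))))

def certSVia137 : Janko.Tree (ℕ × ℕ) :=
  (.node (.node (.node (.node (.node (.leaf (0, 0)) (.leaf (29, 1908))) (.leaf (0, 0))) (.node (.leaf (0, 0)) (.leaf (1, 1633)))) (.node (.node (.leaf (0, 0)) (.leaf (31, 1993))) (.node (.leaf (31, 996)) (.leaf (30, 1857))))) (.node (.node (.node (.node (.leaf (11, 113)) (.leaf (9, 364))) (.leaf (0, 0))) (.node (.leaf (9, 1172)) (.leaf (31, 2182)))) (.node (.node (.leaf (0, 0)) (.leaf (19, 1080))) (.node (.leaf (0, 0)) (.leaf (33, 2182))))))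

def certSVia138 : Janko.Tree (ℕ × ℕ) :=
  (.node (.node (.node (.node (.node (.leaf (0, 0)) (.leaf (25, 2173))) (.leaf (20, 1992))) (.node (.leaf (0, 643)) (.leaf (0, 0)))) (.node (.node (.leaf (0, 0)) (.leaf (0, 0))) (.node (.leaf (32, 837)) (.leaf (0, 0))))) (.node (.node (.node (.node (.leaf (29, 545)) (.leaf (10, 244))) (.leaf (0, 0))) (.node (.leaf (0, 0)) (.leaf (0, 0)))) (.node (.node (.leaf (0, 0)) (.leaf (0, 0))) (.node (.leaf (0, 0)) (.leaf (0, 0))))))

def certSVia139 : Janko.Tree (ℕ × ℕ) :=
  (.node (.node (.node (.node (.node (.leaf (0, 0)) (.leaf (0, 0))) (.leaf (0, 0))) (.node (.leaf (19, 305)) (.leaf (33, 1961)))) (.node (.node (.leaf (18, 478)) (.leaf (0, 0))) (.node (.leaf (31, 1482)) (.leaf (13, 1904))))) (.node (.node (.node (.node (.leaf (0, 0)) (.leaf (11, 1160))) (.leaf (6, 1231))) (.node (.leaf (0, 0)) (.leaf (24, 1571)))) (.node (.node (.leaf (2, 444)) (.leaf (0, 0))) (.node (.leaf (0, 0)) (.leaf (33, 1971))))))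

def certSVia140 : Janko.Tree (ℕ × ℕ) :=
  (.node (.node (.node (.node (.node (.leaf (10, 92)) (.leaf (33, 2217))) (.leaf (10, 1094))) (.node (.leaf (8, 390)) (.leaf (33, 1977)))) (.node (.node (.leaf (0, 0)) (.leaf (0, 0))) (.node (.leaf (15, 536)) (.leaf (18, 1079))))) (.node (.node (.node (.node (.leaf (0, 0)) (.leaf (12, 991))) (.leaf (0, 0))) (.node (.leaf (0, 0)) (.leaf (33, 2032)))) (.node (.node (.leaf (0, 0)) (.leaf (0, 0))) (.node (.leaf (29, 1956)) (.leaf (24, 1990))))))

def certSVia141 : Janko.Tree (ℕ × ℕ) :=
  (.node (.node (.node (.node (.node (.leaf (0, 0)) (.leaf (0, 0))) (.leaf (0, 0))) (.node (.leaf (21, 755)) (.leaf (19, 2056)))) (.node (.node (.leaf (0, 0)) (.leaf (13, 1596))) (.node (.leaf (31, 1409)) (.leaf (33, 1863))))) (.node (.node (.node (.node (.leaf (0, 0)) (.leaf (13, 436))) (.leaf (31, 1606))) (.node (.leaf (25, 620)) (.leaf (24, 1707)))) (.node (.node (.leaf (18, 866)) (.leaf (17, 1201))) (.node (.leaf (18, 912)) (.leaf (31, 2180))))))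

def certSVia142 : Janko.Tree (ℕ × ℕ) :=
  (.node (.node (.node (.node (.node (.leaf (0, 0)) (.leaf (31, 2130))) (.leaf (0, 0))) (.node (.leaf (7, 725)) (.leaf (0, 0)))) (.node (.node (.leaf (0, 0)) (.leaf (30, 1372))) (.node (.leaf (0, 0)) (.leaf (24, 2059))))) (.node (.node (.node (.node (.leaf (0, 0)) (.leaf (14, 577))) (.leaf (0, 0))) (.node (.leaf (0, 0)) (.leaf (4, 2171)))) (.node (.node (.leaf (0, 0)) (.leaf (0, 0))) (.node (.leaf (14, 1021)) (.leaf (17, 1991))))))

def certSVia143 : Janko.Tree (ℕ × ℕ) :=
  (.node (.node (.node (.node (.node (.leaf (29, 983)) (.leaf (24, 1765))) (.leaf (0, 0))) (.node (.leaf (0, 0)) (.leaf (33, 2020)))) (.node (.node (.leaf (0, 0)) (.leaf (2, 1742))) (.node (.leaf (0, 0)) (.leaf (1, 1863))))) (.node (.node (.node (.node (.leaf (2, 183)) (.leaf (15, 1273))) (.leaf (1, 1223))) (.node (.leaf (16, 324)) (.leaf (27, 1862)))) (.node (.node (.leaf (0, 0)) (.leaf (1, 1499))) (.node (.leaf (11, 1350)) (.leaf (11, 1990))))))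

def certSVia144 : Janko.Tree (ℕ × ℕ) :=
  (.node (.node (.node (.node (.node (.leaf (0, 0)) (.leaf (32, 1832))) (.leaf (18, 1096))) (.node (.leaf (0, 0)) (.leaf (0, 1608)))) (.node (.node (.leaf (0, 0)) (.leaf (31, 1985))) (.node (.leaf (0, 0)) (.leaf (32, 2047))))) (.node (.node (.node (.node (.leaf (0, 0)) (.leaf (16, 1211))) (.leaf (32, 1991))) (.node (.leaf (5, 606)) (.leaf (33, 1884)))) (.node (.node (.leaf (0, 0)) (.leaf (21, 1330))) (.node (.leaf (0, 0)) (.leaf (23, 1471))))))

def certSVia145 : Janko.Tree (ℕ × ℕ) :=
  (.node (.node (.node (.node (.node (.leaf (0, 0)) (.leaf (32, 1913))) (.leaf (0, 0))) (.node (.leaf (8, 1918)) (.leaf (28, 1372)))) (.node (.node (.leaf (2, 318)) (.leaf (23, 1480))) (.node (.leaf (15, 323)) (.leaf (33, 2161))))) (.node (.node (.node (.node (.leaf (4, 725)) (.leaf (17, 755))) (.leaf (10, 367))) (.node (.leaf (0, 0)) (.leaf (0, 0)))) (.node (.node (.leaf (0, 0)) (.leaf (22, 1541))) (.node (.leaf (29, 1581)) (.leaf (5, 1658))))))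

def certSVia146 : Janko.Tree (ℕ × ℕ) :=
  (.node (.node (.node (.node (.node (.leaf (0, 0)) (.leaf (0, 0))) (.leaf (0, 0))) (.node (.leaf (26, 1185)) (.leaf (28, 1609)))) (.node (.node (.leaf (0, 329)) (.leaf (31, 1710))) (.node (.leaf (32, 2074)) (.leaf (0, 0))))) (.node (.node (.node (.node (.leaf (11, 833)) (.leaf (18, 1482))) (.leaf (0, 0))) (.node (.leaf (10, 264)) (.leaf (0, 0)))) (.node (.node (.leaf (0, 0)) (.leaf (5, 835))) (.node (.leaf (29, 969)) (.leaf (31, 1262))))))

def certSVia147 : Janko.Tree (ℕ × ℕ) :=
  (.node (.node (.node (.node (.node (.leaf (0, 0)) (.leaf (28, 2133))) (.leaf (11, 2134))) (.node (.leaf (3, 850)) (.leaf (27, 1426)))) (.node (.node (.leaf (2, 539)) (.leaf (1, 1382))) (.node (.leaf (4, 1009)) (.leaf (28, 1841))))) (.node (.node (.node (.node (.leaf (0, 0)) (.leaf (19, 1062))) (.leaf (30, 1585))) (.node (.leaf (0, 0)) (.leaf (4, 1742)))) (.node (.node (.leaf (31, 1794)) (.leaf (33, 1763))) (.node (.leaf (0, 0)) (.leaf (14, 2116))))))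

def certSVia148 : Janko.Tree (ℕ × ℕ) :=
  (.node (.node (.node (.node (.node (.leaf (0, 0)) (.leaf (0, 0))) (.leaf (14, 1853))) (.node (.leaf (17, 539)) (.leaf (0, 0)))) (.node (.node (.leaf (0, 0)) (.leaf (0, 1354))) (.node (.leaf (0, 0)) (.leaf (24, 1859))))) (.node (.node (.node (.node (.leaf (0, 0)) (.leaf (20, 983))) (.leaf (3, 1862))) (.node (.leaf (3, 853)) (.leaf (2, 1738)))) (.node (.node (.leaf (0, 0)) (.leaf (5, 1482))) (.node (.leaf (33, 640)) (.leaf (33, 1873))))))

def certSVia149 : Janko.Tree (ℕ × ℕ) :=
  (.node (.node (.node (.node (.node (.leaf (0, 0)) (.leaf (26, 1975))) (.leaf (0, 0))) (.node (.leaf (1, 586)) (.leaf (4, 1094)))) (.node (.node (.leaf (0, 0)) (.leaf (33, 1940))) (.node (.leaf (0, 0)) (.leaf (1, 1866))))) (.node (.node (.node (.node (.leaf (0, 0)) (.leaf (21, 612))) (.leaf (0, 0))) (.node (.leaf (0, 0)) (.leaf (27, 2139)))) (.node (.node (.leaf (0, 0)) (.leaf (30, 1625))) (.node (.leaf (17, 1232)) (.leaf (33, 2180))))))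

def certSVia150 : Janko.Tree (ℕ × ℕ) :=
  (.node (.node (.node (.node (.node (.leaf (0, 0)) (.leaf (30, 1879))) (.leaf (0, 0))) (.node (.leaf (16, 587)) (.leaf (0, 0)))) (.node (.node (.leaf (0, 0)) (.leaf (0, 0))) (.node (.leaf (32, 843)) (.leaf (29, 2175))))) (.node (.node (.node (.node (.leaf (29, 535)) (.leaf (22, 257))) (.leaf (11, 325))) (.node (.leaf (0, 0)) (.leaf (4, 1544)))) (.node (.node (.leaf (0, 0)) (.leaf (14, 1733))) (.node (.leaf (27, 1062)) (.leaf (10, 1995))))))

def certSVia151 : Janko.Tree (ℕ × ℕ) :=
  (.node (.node (.node (.node (.node (.leaf (0, 0)) (.leaf (8, 2229))) (.leaf (5, 734))) (.node (.leaf (0, 0)) (.leaf (5, 1600)))) (.node (.node (.leaf (18, 586)) (.leaf (0, 0))) (.node (.leaf (5, 710)) (.leaf (21, 1549))))) (.node (.node (.node (.node (.leaf (0, 0)) (.leaf (23, 1039))) (.leaf (33, 1238))) (.node (.leaf (0, 0)) (.leaf (0, 0)))) (.node (.node (.leaf (0, 0)) (.leaf (0, 0))) (.node (.leaf (0, 0)) (.leaf (0, 0))))))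

def certSVia152 : Janko.Tree (ℕ × ℕ) :=
  (.node (.node (.node (.node (.node (.leaf (0, 0)) (.leaf (33, 1880))) (.leaf (0, 0))) (.node (.leaf (0, 0)) (.leaf (28, 2170)))) (.node (.node (.leaf (0, 0)) (.leaf (33, 2225))) (.node (.leaf (0, 0)) (.leaf (32, 1462))))) (.node (.node (.node (.node (.leaf (0, 0)) (.leaf (24, 940))) (.leaf (0, 0))) (.node (.leaf (2, 716)) (.leaf (0, 1740)))) (.node (.node (.leaf (0, 714)) (.leaf (0, 0))) (.node (.leaf (0, 0)) (.leaf (24, 2024))))))

def certSVia153 : Janko.Tree (ℕ × ℕ) :=
  (.node (.node (.node (.node (.node (.leaf (0, 0)) (.leaf (19, 1902))) (.leaf (0, 0))) (.node (.leaf (0, 0)) (.leaf (0, 0)))) (.node (.node (.leaf (0, 0)) (.leaf (0, 0))) (.node (.leaf (31, 1600)) (.leaf (30, 1462))))) (.node (.node (.node (.node (.leaf (0, 0)) (.leaf (25, 1001))) (.leaf (17, 897))) (.node (.leaf (0, 0)) (.leaf (29, 2032)))) (.node (.node (.leaf (0, 0)) (.leaf (29, 1618))) (.node (.leaf (0, 0)) (.leaf (0, 0))))))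

def certSVia154 : Janko.Tree (ℕ × ℕ) :=
  (.node (.node (.node (.node (.node (.leaf (0, 0)) (.leaf (9, 1494))) (.leaf (0, 0))) (.node (.leaf (0, 0)) (.leaf (32, 1943)))) (.node (.node (.leaf (0, 0)) (.leaf (0, 0))) (.node (.leaf (33, 1076)) (.leaf (0, 0))))) (.node (.node (.node (.node (.leaf (0, 0)) (.leaf (26, 516))) (.leaf (25, 2112))) (.node (.leaf (32, 1072)) (.leaf (33, 1741)))) (.node (.node (.leaf (10, 714)) (.leaf (24, 1062))) (.node (.leaf (10, 1320)) (.leaf (32, 2145))))))

def certSVia155 : Janko.Tree (ℕ × ℕ) :=
  (.node (.node (.node (.node (.node (.leaf (0, 0)) (.leaf (33, 2210))) (.leaf (0, 0))) (.node (.leaf (4, 208)) (.leaf (32, 2010)))) (.node (.node (.leaf (0, 0)) (.leaf (0, 0))) (.node (.leaf (0, 0)) (.leaf (0, 0))))) (.node (.node (.node (.node (.leaf (33, 793)) (.leaf (27, 757))) (.leaf (0, 0))) (.node (.leaf (0, 0)) (.leaf (0, 0)))) (.node (.node (.leaf (0, 0)) (.leaf (32, 1694))) (.node (.leaf (31, 2169)) (.leaf (5, 1125))))))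

def certSVia156 : Janko.Tree (ℕ × ℕ) :=
  (.node (.node (.node (.node (.node (.leaf (0, 0)) (.leaf (33, 2170))) (.leaf (0, 0))) (.node (.leaf (16, 590)) (.leaf (0, 0)))) (.node (.node (.leaf (0, 0)) (.leaf (10, 781))) (.node (.leaf (0, 0)) (.leaf (0, 1870))))) (.node (.node (.node (.node (.leaf (0, 0)) (.leaf (28, 2066))) (.leaf (0, 0))) (.node (.leaf (0, 718)) (.leaf (0, 1742)))) (.node (.node (.leaf (10, 1122)) (.leaf (0, 0))) (.node (.leaf (0, 0)) (.leaf (7, 1998))))))

def certSVia157 : Janko.Tree (ℕ × ℕ) :=
  (.node (.node (.node (.node (.node (.leaf (0, 0)) (.leaf (30, 2162))) (.leaf (26, 2091))) (.node (.leaf (0, 0)) (.leaf (33, 1766)))) (.node (.node (.leaf (0, 0)) (.leaf (31, 2189))) (.node (.leaf (8, 605)) (.leaf (0, 0))))) (.node (.node (.node (.node (.leaf (0, 0)) (.leaf (29, 931))) (.leaf (1, 1254))) (.node (.leaf (0, 0)) (.leaf (32, 2233)))) (.node (.node (.leaf (0, 0)) (.leaf (29, 2162))) (.node (.leaf (5, 231)) (.leaf (31, 2032))))))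

def certSVia158 : Janko.Tree (ℕ × ℕ) :=
  (.node (.node (.node (.node (.node (.leaf (0, 0)) (.leaf (31, 2127))) (.leaf (16, 1514))) (.node (.leaf (0, 0)) (.leaf (30, 2159)))) (.node (.node (.leaf (0, 0)) (.leaf (29, 2050))) (.node (.leaf (4, 847)) (.leaf (28, 1704))))) (.node (.node (.node (.node (.leaf (0, 0)) (.leaf (30, 1600))) (.leaf (15, 1231))) (.node (.leaf (0, 0)) (.leaf (30, 2063)))) (.node (.node (.leaf (10, 448)) (.leaf (33, 1487))) (.node (.leaf (32, 1217)) (.leaf (33, 2120))))))

def certSVia159 : Janko.Tree (ℕ × ℕ) :=
  (.node (.node (.node (.node (.node (.leaf (0, 0)) (.leaf (10, 1731))) (.leaf (25, 1889))) (.node (.leaf (0, 0)) (.leaf (31, 1631)))) (.node (.node (.leaf (0, 0)) (.leaf (0, 0))) (.node (.leaf (0, 0)) (.leaf (4, 1114))))) (.node (.node (.node (.node (.leaf (15, 299)) (.leaf (31, 1039))) (.leaf (33, 1232))) (.node (.leaf (0, 0)) (.leaf (33, 1928)))) (.node (.node (.leaf (0, 0)) (.leaf (32, 1641))) (.node (.leaf (33, 2202)) (.leaf (33, 1936))))))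

def certSVia160 : Janko.Tree (ℕ × ℕ) :=
  (.node (.node (.node (.node (.node (.leaf (0, 0)) (.leaf (4, 2128))) (.leaf (10, 738))) (.node (.leaf (0, 0)) (.leaf (0, 0)))) (.node (.node (.leaf (0, 0)) (.leaf (28, 1985))) (.node (.leaf (0, 0)) (.leaf (0, 0))))) (.node (.node (.node (.node (.leaf (0, 0)) (.leaf (32, 742))) (.leaf (0, 0))) (.node (.leaf (2, 720)) (.leaf (0, 0)))) (.node (.node (.leaf (0, 0)) (.leaf (0, 0))) (.node (.leaf (32, 1521)) (.leaf (0, 0))))))

def certSVia161 : Janko.Tree (ℕ × ℕ) :=
  (.node (.node (.node (.node (.node (.leaf (0, 0)) (.leaf (33, 2129))) (.leaf (18, 1379))) (.node (.leaf (31, 1537)) (.leaf (0, 0)))) (.node (.node (.leaf (0, 0)) (.leaf (0, 0))) (.node (.leaf (5, 543)) (.leaf (16, 2221))))) (.node (.node (.node (.node (.leaf (0, 0)) (.leaf (33, 478))) (.leaf (19, 869))) (.node (.leaf (0, 0)) (.leaf (33, 1814)))) (.node (.node (.leaf (0, 0)) (.leaf (2, 1114))) (.node (.leaf (0, 0)) (.leaf (29, 1769))))))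

def certSVia162 : Janko.Tree (ℕ × ℕ) :=
  (.node (.node (.node (.node (.node (.leaf (0, 0)) (.leaf (28, 1855))) (.leaf (10, 1259))) (.node (.leaf (0, 0)) (.leaf (16, 1774)))) (.node (.node (.leaf (4, 337)) (.leaf (26, 1521))) (.node (.leaf (0, 0)) (.leaf (28, 1674))))) (.node (.node (.node (.leaf (2, 116)) (.leaf (0, 0))) (.node (.leaf (0, 0)) (.leaf (28, 1804)))) (.node (.node (.leaf (12, 1344)) (.leaf (0, 0))) (.node (.leaf (25, 969)) (.leaf (0, 2001))))))

def certSVia163 : Janko.Tree (ℕ × ℕ) :=
  (.node (.node (.node (.node (.node (.leaf (2, 61)) (.leaf (33, 2224))) (.leaf (22, 900))) (.node (.leaf (0, 0)) (.leaf (25, 2116)))) (.node (.node (.leaf (0, 0)) (.leaf (30, 1862))) (.node (.leaf (0, 0)) (.leaf (32, 2175))))) (.node (.node (.node (.leaf (29, 643)) (.leaf (0, 0))) (.node (.leaf (0, 0)) (.leaf (33, 1412)))) (.node (.node (.leaf (0, 0)) (.leaf (0, 0))) (.node (.leaf (8, 612)) (.leaf (33, 2127))))))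

def certSVia164 : Janko.Tree (ℕ × ℕ) :=
  (.node (.node (.node (.node (.node (.leaf (0, 0)) (.leaf (25, 2159))) (.leaf (19, 900))) (.node (.leaf (0, 0)) (.leaf (32, 1618)))) (.node (.node (.leaf (0, 0)) (.leaf (29, 1362))) (.node (.leaf (0, 850)) (.leaf (0, 0))))) (.node (.node (.node (.leaf (0, 0)) (.leaf (0, 0))) (.node (.leaf (0, 0)) (.leaf (24, 2139)))) (.node (.node (.leaf (0, 0)) (.leaf (0, 0))) (.node (.leaf (0, 0)) (.leaf (10, 2204))))))

def certSVia165 : Janko.Tree (ℕ × ℕ) :=
  (.node (.node (.node (.node (.node (.leaf (11, 303)) (.leaf (1, 2224))) (.leaf (0, 0))) (.node (.leaf (17, 983)) (.leaf (0, 0)))) (.node (.node (.leaf (0, 0)) (.leaf (0, 0))) (.node (.leaf (0, 0)) (.leaf (1, 1874))))) (.node (.node (.node (.leaf (0, 0)) (.leaf (13, 853))) (.node (.leaf (0, 0)) (.leaf (17, 2050)))) (.node (.node (.leaf (0, 0)) (.leaf (0, 0))) (.node (.leaf (9, 644)) (.leaf (24, 1657))))))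

def certSVia166 : Janko.Tree (ℕ × ℕ) :=
  (.node (.node (.node (.node (.node (.leaf (0, 0)) (.leaf (30, 2131))) (.leaf (25, 1107))) (.node (.leaf (0, 0)) (.leaf (0, 0)))) (.node (.node (.leaf (8, 339)) (.leaf (11, 389))) (.node (.leaf (29, 851)) (.leaf (32, 2085))))) (.node (.node (.node (.leaf (0, 0)) (.leaf (33, 1469))) (.node (.leaf (0, 0)) (.leaf (10, 1150)))) (.node (.node (.leaf (0, 0)) (.leaf (21, 1565))) (.node (.leaf (0, 0)) (.leaf (0, 0))))))

def certSVia167 : Janko.Tree (ℕ × ℕ) :=
  (.node (.node (.node (.node (.node (.leaf (0, 0)) (.leaf (1, 2131))) (.leaf (27, 883))) (.node (.leaf (0, 0)) (.leaf (11, 1274)))) (.node (.node (.leaf (0, 0)) (.leaf (33, 1666))) (.node (.leaf (0, 0)) (.leaf (33, 1909))))) (.node (.node (.node (.leaf (31, 397)) (.leaf (5, 1071))) (.node (.leaf (0, 0)) (.leaf (0, 0)))) (.node (.node (.leaf (0, 0)) (.leaf (2, 1516))) (.node (.leaf (1, 992)) (.leaf (33, 2189))))))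

def certSVia168 : Janko.Tree (ℕ × ℕ) :=
  (.node (.node (.node (.node (.node (.leaf (0, 0)) (.leaf (31, 2152))) (.leaf (17, 1083))) (.node (.leaf (0, 0)) (.leaf (19, 1409)))) (.node (.node (.leaf (25, 371)) (.leaf (0, 0))) (.node (.leaf (14, 852)) (.leaf (0, 0))))) (.node (.node (.node (.leaf (0, 0)) (.leaf (26, 1549))) (.node (.leaf (0, 0)) (.leaf (32, 2055)))) (.node (.node (.leaf (0, 0)) (.leaf (10, 792))) (.node (.leaf (0, 0)) (.leaf (30, 1742))))))

def certSVia169 : Janko.Tree (ℕ × ℕ) :=
  (.node (.node (.node (.node (.node (.leaf (0, 0)) (.leaf (33, 2059))) (.leaf (14, 1473))) (.node (.leaf (2, 1953)) (.leaf (31, 1674)))) (.node (.node (.leaf (0, 0)) (.leaf (1, 1364))) (.node (.leaf (0, 0)) (.leaf (32, 1794))))) (.node (.node (.node (.leaf (0, 0)) (.leaf (0, 0))) (.node (.leaf (31, 900)) (.leaf (30, 1754)))) (.node (.node (.leaf (0, 0)) (.leaf (31, 2097))) (.node (.leaf (26, 1614)) (.leaf (17, 2111))))))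

def certSVia170 : Janko.Tree (ℕ × ℕ) :=
  (.node (.node (.node (.node (.node (.leaf (0, 0)) (.leaf (33, 2155))) (.leaf (0, 0))) (.node (.leaf (0, 0)) (.leaf (0, 0)))) (.node (.node (.leaf (0, 0)) (.leaf (10, 642))) (.node (.leaf (0, 0)) (.leaf (0, 0))))) (.node (.node (.node (.leaf (0, 0)) (.leaf (32, 1513))) (.node (.leaf (9, 153)) (.leaf (29, 1970)))) (.node (.node (.leaf (0, 0)) (.leaf (18, 1493))) (.node (.leaf (0, 0)) (.leaf (33, 2175))))))

def certSVia171 : Janko.Tree (ℕ × ℕ) :=
  (.node (.node (.node (.node (.node (.leaf (0, 0)) (.leaf (1, 2213))) (.leaf (31, 1194))) (.node (.leaf (0, 0)) (.leaf (1, 1621)))) (.node (.node (.leaf (0, 0)) (.leaf (0, 0))) (.node (.leaf (0, 0)) (.leaf (11, 2173))))) (.node (.node (.node (.leaf (0, 0)) (.leaf (0, 0))) (.node (.leaf (23, 878)) (.leaf (24, 991)))) (.node (.node (.leaf (0, 0)) (.leaf (0, 0))) (.node (.leaf (33, 2042)) (.leaf (33, 2130))))))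

def certSVia172 : Janko.Tree (ℕ × ℕ) :=
  (.node (.node (.node (.node (.node (.leaf (0, 0)) (.leaf (30, 2134))) (.leaf (0, 0))) (.node (.leaf (0, 0)) (.leaf (16, 1392)))) (.node (.node (.leaf (0, 0)) (.leaf (4, 1581))) (.node (.leaf (12, 1198)) (.leaf (32, 2151))))) (.node (.node (.node (.leaf (0, 0)) (.leaf (0, 0))) (.node (.leaf (0, 726)) (.leaf (0, 1750)))) (.node (.node (.leaf (0, 0)) (.leaf (32, 1555))) (.node (.leaf (0, 0)) (.leaf (0, 0))))))

def certSVia173 : Janko.Tree (ℕ × ℕ) :=
  (.node (.node (.node (.node (.node (.leaf (0, 0)) (.leaf (30, 1278))) (.leaf (0, 0))) (.node (.leaf (0, 0)) (.leaf (15, 1751)))) (.node (.node (.leaf (0, 0)) (.leaf (0, 0))) (.node (.leaf (0, 0)) (.leaf (3, 2066))))) (.node (.node (.node (.leaf (0, 0)) (.leaf (31, 1387))) (.node (.leaf (0, 0)) (.leaf (0, 0)))) (.node (.node (.leaf (0, 0)) (.leaf (1, 1879))) (.node (.leaf (32, 1345)) (.leaf (33, 2238))))))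

def certSVia174 : Janko.Tree (ℕ × ℕ) :=
  (.node (.node (.node (.node (.node (.leaf (0, 0)) (.leaf (0, 2148))) (.leaf (33, 1111))) (.node (.leaf (0, 0)) (.leaf (33, 1908)))) (.node (.node (.leaf (0, 0)) (.leaf (0, 0))) (.node (.leaf (0, 0)) (.leaf (0, 0))))) (.node (.node (.node (.leaf (0, 0)) (.leaf (0, 0))) (.node (.leaf (0, 0)) (.leaf (29, 1902)))) (.node (.node (.leaf (0, 0)) (.leaf (0, 0))) (.node (.leaf (0, 983)) (.leaf (32, 2171))))))

def certSVia175 : Janko.Tree (ℕ × ℕ) :=
  (.node (.node (.node (.node (.node (.leaf (0, 0)) (.leaf (30, 2091))) (.leaf (0, 0))) (.node (.leaf (5, 907)) (.leaf (26, 1641)))) (.node (.node (.leaf (0, 0)) (.leaf (29, 1365))) (.node (.leaf (0, 0)) (.leaf (31, 1496))))) (.node (.node (.node (.leaf (0, 0)) (.leaf (4, 1272))) (.node (.leaf (0, 0)) (.leaf (0, 0)))) (.node (.node (.leaf (21, 1236)) (.leaf (33, 1782))) (.node (.leaf (0, 0)) (.leaf (30, 1657))))))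

def certSVia176 : Janko.Tree (ℕ × ℕ) :=
  (.node (.node (.node (.node (.node (.leaf (0, 0)) (.leaf (0, 0))) (.leaf (0, 0))) (.node (.leaf (0, 0)) (.leaf (0, 1871)))) (.node (.node (.leaf (0, 0)) (.leaf (30, 1368))) (.node (.leaf (0, 0)) (.leaf (0, 0))))) (.node (.node (.node (.leaf (0, 0)) (.leaf (3, 1852))) (.node (.leaf (0, 0)) (.leaf (0, 0)))) (.node (.node (.leaf (0, 0)) (.leaf (0, 0))) (.node (.leaf (4, 726)) (.leaf (0, 2008))))))

def certSVia177 : Janko.Tree (ℕ × ℕ) :=
  (.node (.node (.node (.node (.node (.leaf (0, 0)) (.leaf (32, 2210))) (.leaf (28, 1618))) (.node (.leaf (11, 227)) (.leaf (17, 1394)))) (.node (.node (.leaf (0, 0)) (.leaf (2, 1365))) (.node (.leaf (0, 0)) (.leaf (0, 0))))) (.node (.node (.node (.leaf (0, 0)) (.leaf (0, 0))) (.node (.leaf (0, 0)) (.leaf (0, 0)))) (.node (.node (.leaf (2, 456)) (.leaf (1, 1804))) (.node (.leaf (21, 1482)) (.leaf (7, 1678))))))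

def certSVia178 : Janko.Tree (ℕ × ℕ) :=
  (.node (.node (.node (.node (.node (.leaf (0, 0)) (.leaf (0, 0))) (.leaf (10, 746))) (.node (.leaf (0, 0)) (.leaf (24, 1311)))) (.node (.node (.leaf (0, 0)) (.leaf (31, 1718))) (.node (.leaf (0, 0)) (.leaf (32, 1640))))) (.node (.node (.node (.leaf (0, 0)) (.leaf (21, 1499))) (.node (.leaf (0, 0)) (.leaf (0, 0)))) (.node (.node (.leaf (29, 1379)) (.leaf (33, 1803))) (.node (.leaf (17, 985)) (.leaf (19, 2015))))))

def certSVia179 : Janko.Tree (ℕ × ℕ) :=
  (.node (.node (.node (.node (.node (.leaf (0, 0)) (.leaf (31, 2114))) (.leaf (0, 0))) (.node (.leaf (33, 1706)) (.leaf (11, 1225)))) (.node (.node (.leaf (0, 0)) (.leaf (4, 1695))) (.node (.leaf (0, 0)) (.leaf (33, 2173))))) (.node (.node (.node (.leaf (0, 0)) (.leaf (0, 0))) (.node (.leaf (0, 0)) (.leaf (0, 0)))) (.node (.node (.leaf (5, 984)) (.leaf (0, 0))) (.node (.leaf (0, 0)) (.leaf (21, 1932))))))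

def certSVia180 : Janko.Tree (ℕ × ℕ) :=
  (.node (.node (.node (.node (.node (.leaf (0, 0)) (.leaf (16, 2138))) (.leaf (10, 733))) (.node (.leaf (0, 0)) (.leaf (12, 1626)))) (.node (.node (.leaf (0, 0)) (.leaf (0, 0))) (.node (.leaf (0, 0)) (.leaf (12, 1882))))) (.node (.node (.node (.leaf (0, 0)) (.leaf (0, 0))) (.node (.leaf (14, 1600)) (.leaf (17, 1953)))) (.node (.node (.leaf (7, 726)) (.leaf (0, 0))) (.node (.leaf (0, 986)) (.leaf (6, 2204))))))

def certSVia181 : Janko.Tree (ℕ × ℕ) :=
  (.node (.node (.node (.node (.node (.leaf (0, 0)) (.leaf (2, 2171))) (.leaf (0, 0))) (.node (.leaf (2, 591)) (.leaf (32, 1996)))) (.node (.node (.leaf (0, 0)) (.leaf (29, 1122))) (.node (.leaf (10, 885)) (.leaf (6, 1122))))) (.node (.node (.node (.leaf (0, 0)) (.leaf (0, 0))) (.node (.leaf (0, 0)) (.leaf (30, 2175)))) (.node (.node (.leaf (25, 1462)) (.leaf (31, 2038))) (.node (.leaf (0, 0)) (.leaf (16, 2063))))))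

def certSVia182 : Janko.Tree (ℕ × ℕ) :=
  (.node (.node (.node (.node (.node (.leaf (0, 0)) (.leaf (0, 0))) (.leaf (17, 1501))) (.node (.leaf (0, 0)) (.leaf (0, 0)))) (.node (.node (.leaf (0, 0)) (.leaf (0, 0))) (.node (.leaf (5, 1852)) (.leaf (0, 0))))) (.node (.node (.node (.leaf (0, 0)) (.leaf (20, 2171))) (.node (.leaf (2, 459)) (.leaf (10, 1779)))) (.node (.node (.leaf (0, 0)) (.leaf (17, 1079))) (.node (.leaf (0, 0)) (.leaf (28, 2151))))))

def certSVia183 : Janko.Tree (ℕ × ℕ) :=
  (.node (.node (.node (.node (.node (.leaf (0, 0)) (.leaf (31, 2228))) (.leaf (0, 0))) (.node (.leaf (18, 905)) (.leaf (4, 1870)))) (.node (.node (.leaf (0, 0)) (.leaf (0, 0))) (.node (.leaf (0, 0)) (.leaf (2, 1101))))) (.node (.node (.node (.leaf (2, 257)) (.leaf (30, 1528))) (.node (.leaf (0, 0)) (.leaf (30, 1262)))) (.node (.node (.leaf (0, 0)) (.leaf (18, 720))) (.node (.leaf (18, 660)) (.leaf (0, 0))))))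

def certSVia184 : Janko.Tree (ℕ × ℕ) :=
  (.node (.node (.node (.node (.node (.leaf (0, 0)) (.leaf (32, 2000))) (.leaf (0, 0))) (.node (.leaf (31, 1465)) (.leaf (13, 1628)))) (.node (.node (.leaf (0, 0)) (.leaf (25, 2002))) (.node (.leaf (2, 553)) (.leaf (16, 1884))))) (.node (.node (.node (.leaf (0, 0)) (.leaf (0, 0))) (.node (.leaf (29, 1189)) (.leaf (4, 1459)))) (.node (.node (.leaf (0, 0)) (.leaf (10, 1312))) (.node (.leaf (0, 0)) (.leaf (0, 0))))))

def certSVia185 : Janko.Tree (ℕ × ℕ) :=
  (.node (.node (.node (.node (.node (.leaf (0, 0)) (.leaf (0, 0))) (.leaf (0, 0))) (.node (.leaf (30, 1591)) (.leaf (30, 2234)))) (.node (.node (.leaf (2, 332)) (.leaf (4, 1955))) (.node (.leaf (0, 0)) (.leaf (31, 2017))))) (.node (.node (.node (.leaf (2, 1305)) (.leaf (0, 0))) (.node (.leaf (0, 0)) (.leaf (11, 1501)))) (.node (.node (.leaf (0, 0)) (.leaf (0, 0))) (.node (.leaf (16, 998)) (.leaf (32, 2136))))))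

def certSVia186 : Janko.Tree (ℕ × ℕ) :=
  (.node (.node (.node (.node (.node (.leaf (15, 500)) (.leaf (33, 2201))) (.leaf (32, 1790))) (.node (.leaf (0, 605)) (.leaf (33, 2239)))) (.node (.node (.leaf (11, 60)) (.leaf (10, 711))) (.node (.leaf (0, 0)) (.leaf (0, 0))))) (.node (.node (.node (.leaf (0, 0)) (.leaf (0, 0))) (.node (.leaf (5, 1204)) (.leaf (5, 1757)))) (.node (.node (.leaf (0, 0)) (.leaf (10, 1311))) (.node (.leaf (2, 989)) (.leaf (10, 898))))))

def certSVia187 : Janko.Tree (ℕ × ℕ) :=
  (.node (.node (.node (.node (.node (.leaf (0, 0)) (.leaf (1, 2141))) (.leaf (32, 1906))) (.node (.leaf (0, 0)) (.leaf (0, 0)))) (.node (.node (.leaf (0, 0)) (.leaf (0, 0))) (.node (.leaf (0, 0)) (.leaf (2, 2100))))) (.node (.node (.node (.leaf (0, 0)) (.leaf (33, 1247))) (.node (.leaf (0, 0)) (.leaf (33, 2199)))) (.node (.node (.leaf (0, 0)) (.leaf (31, 1383))) (.node (.leaf (19, 1299)) (.leaf (32, 1792))))))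

def certSVia188 : Janko.Tree (ℕ × ℕ) :=
  (.node (.node (.node (.node (.node (.leaf (2, 49)) (.leaf (31, 2142))) (.leaf (4, 1706))) (.node (.leaf (7, 1412)) (.leaf (2, 1232)))) (.node (.node (.leaf (0, 0)) (.leaf (6, 1482))) (.node (.leaf (8, 862)) (.leaf (19, 1903))))) (.node (.node (.node (.leaf (0, 0)) (.leaf (14, 1967))) (.node (.leaf (0, 0)) (.leaf (30, 1544)))) (.node (.node (.leaf (0, 0)) (.leaf (0, 0))) (.node (.leaf (8, 403)) (.leaf (25, 2202))))))

def certSVia189 : Janko.Tree (ℕ × ℕ) :=
  (.node (.node (.node (.node (.node (.leaf (0, 0)) (.leaf (1, 2142))) (.leaf (0, 0))) (.node (.leaf (25, 395)) (.leaf (31, 1232)))) (.node (.node (.leaf (32, 567)) (.leaf (33, 1002))) (.node (.leaf (0, 0)) (.leaf (32, 2025))))) (.node (.node (.node (.leaf (31, 1374)) (.leaf (25, 1625))) (.node (.leaf (33, 1171)) (.leaf (0, 0)))) (.node (.node (.leaf (0, 0)) (.leaf (31, 1204))) (.node (.leaf (0, 0)) (.leaf (7, 2102))))))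

def certSVia190 : Janko.Tree (ℕ × ℕ) :=
  (.node (.node (.node (.node (.node (.leaf (0, 0)) (.leaf (32, 2158))) (.leaf (0, 0))) (.node (.leaf (0, 0)) (.leaf (0, 0)))) (.node (.node (.leaf (0, 0)) (.leaf (27, 1575))) (.node (.leaf (0, 0)) (.leaf (33, 1891))))) (.node (.node (.node (.leaf (0, 0)) (.leaf (14, 1247))) (.node (.leaf (0, 0)) (.leaf (0, 0)))) (.node (.node (.leaf (0, 0)) (.leaf (33, 1524))) (.node (.leaf (18, 1374)) (.leaf (26, 1955))))))

def certSVia191 : Janko.Tree (ℕ × ℕ) :=
  (.node (.node (.node (.node (.node (.leaf (0, 0)) (.leaf (33, 2169))) (.leaf (0, 0))) (.node (.leaf (1, 607)) (.leaf (0, 0)))) (.node (.node (.leaf (0, 0)) (.leaf (22, 1608))) (.node (.leaf (0, 0)) (.leaf (13, 1971))))) (.node (.node (.node (.leaf (0, 0)) (.leaf (0, 0))) (.node (.leaf (15, 678)) (.leaf (2, 1841)))) (.node (.node (.leaf (4, 536)) (.leaf (19, 1619))) (.node (.leaf (0, 0)) (.leaf (32, 2181))))))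

def certSVia192 : Janko.Tree (ℕ × ℕ) :=
  (.node (.node (.node (.node (.node (.leaf (0, 0)) (.leaf (31, 2144))) (.leaf (0, 0))) (.node (.leaf (0, 608)) (.leaf (6, 2047)))) (.node (.node (.leaf (0, 0)) (.leaf (26, 1187))) (.node (.leaf (27, 1620)) (.leaf (5, 1500))))) (.node (.node (.node (.leaf (0, 0)) (.leaf (0, 0))) (.node (.leaf (7, 1204)) (.leaf (0, 1955)))) (.node (.node (.leaf (4, 480)) (.leaf (0, 1504))) (.node (.leaf (0, 0)) (.leaf (0, 0))))))

def certSVia193 : Janko.Tree (ℕ × ℕ) :=
  (.node (.node (.node (.node (.node (.leaf (29, 391)) (.leaf (24, 2085))) (.leaf (26, 1345))) (.node (.leaf (31, 983)) (.leaf (1, 1632)))) (.node (.node (.leaf (6, 298)) (.leaf (0, 0))) (.node (.leaf (0, 0)) (.leaf (32, 2065))))) (.node (.node (.node (.leaf (0, 0)) (.leaf (27, 1336))) (.node (.leaf (0, 0)) (.leaf (0, 0)))) (.node (.node (.leaf (0, 0)) (.leaf (0, 0))) (.node (.leaf (5, 947)) (.leaf (30, 1760))))))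

def certSVia194 : Janko.Tree (ℕ × ℕ) :=
  (.node (.node (.node (.node (.node (.leaf (29, 329)) (.leaf (32, 2081))) (.leaf (10, 1508))) (.node (.leaf (15, 742)) (.leaf (0, 0)))) (.node (.node (.leaf (2, 206)) (.leaf (0, 0))) (.node (.leaf (33, 1996)) (.leaf (21, 1608))))) (.node (.node (.node (.leaf (0, 0)) (.leaf (0, 0))) (.node (.leaf (0, 0)) (.leaf (0, 0)))) (.node (.node (.leaf (2, 287)) (.leaf (13, 1505))) (.node (.leaf (0, 0)) (.leaf (11, 912))))))

def certSVia195 : Janko.Tree (ℕ × ℕ) :=
  (.node (.node (.node (.node (.node (.leaf (0, 0)) (.leaf (33, 2226))) (.leaf (31, 1603))) (.node (.leaf (0, 0)) (.leaf (22, 853)))) (.node (.node (.leaf (19, 307)) (.leaf (19, 609))) (.node (.leaf (0, 0)) (.leaf (0, 0))))) (.node (.node (.node (.leaf (0, 0)) (.leaf (5, 863))) (.node (.leaf (0, 0)) (.leaf (0, 0)))) (.node (.node (.leaf (0, 0)) (.leaf (31, 1253))) (.node (.leaf (0, 0)) (.leaf (0, 0))))))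

def certSVia196 : Janko.Tree (ℕ × ℕ) :=
  (.node (.node (.node (.node (.node (.leaf (0, 0)) (.leaf (4, 2146))) (.leaf (0, 0))) (.node (.leaf (0, 0)) (.leaf (22, 1232)))) (.node (.node (.leaf (0, 0)) (.leaf (0, 0))) (.node (.leaf (21, 1062)) (.leaf (0, 0))))) (.node (.node (.node (.leaf (0, 0)) (.leaf (21, 1250))) (.node (.leaf (0, 0)) (.leaf (30, 1650)))) (.node (.node (.leaf (31, 1096)) (.leaf (0, 0))) (.node (.leaf (0, 0)) (.leaf (0, 2018))))))

def certSVia197 : Janko.Tree (ℕ × ℕ) :=
  (.node (.node (.node (.node (.node (.leaf (0, 0)) (.leaf (33, 1903))) (.leaf (0, 0))) (.node (.leaf (0, 0)) (.leaf (0, 0)))) (.node (.node (.leaf (0, 0)) (.leaf (32, 2060))) (.node (.leaf (0, 0)) (.leaf (0, 0))))) (.node (.node (.node (.leaf (0, 0)) (.leaf (33, 2047))) (.node (.leaf (2, 726)) (.leaf (25, 1652)))) (.node (.node (.leaf (0, 0)) (.leaf (10, 1519))) (.node (.leaf (0, 0)) (.leaf (31, 2063))))))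

def certSVia198 : Janko.Tree (ℕ × ℕ) :=
  (.node (.node (.node (.node (.node (.leaf (0, 0)) (.leaf (33, 2147))) (.leaf (32, 2153))) (.node (.leaf (0, 0)) (.leaf (5, 855)))) (.node (.node (.leaf (0, 0)) (.leaf (16, 1130))) (.node (.leaf (0, 0)) (.leaf (28, 1891))))) (.node (.node (.node (.leaf (0, 0)) (.leaf (0, 0))) (.node (.leaf (0, 0)) (.leaf (14, 1763)))) (.node (.node (.leaf (0, 0)) (.leaf (33, 2029))) (.node (.leaf (0, 0)) (.leaf (28, 2203))))))

def certSVia199 : Janko.Tree (ℕ × ℕ) :=
  (.node (.node (.node (.node (.node (.leaf (0, 0)) (.leaf (33, 2108))) (.leaf (22, 1460))) (.node (.leaf (0, 0)) (.leaf (31, 1460)))) (.node (.node (.leaf (0, 0)) (.leaf (0, 0))) (.node (.leaf (9, 1251)) (.leaf (33, 1986))))) (.node (.node (.node (.leaf (0, 0)) (.leaf (11, 950))) (.node (.leaf (0, 0)) (.leaf (31, 1868)))) (.node (.node (.leaf (0, 0)) (.leaf (0, 0))) (.node (.leaf (2, 986)) (.leaf (11, 2010))))))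

def certSVia200 : Janko.Tree (ℕ × ℕ) :=
  (.node (.node (.node (.node (.node (.leaf (0, 0)) (.leaf (3, 2148))) (.leaf (0, 0))) (.node (.leaf (4, 1841)) (.leaf (2, 1238)))) (.node (.node (.leaf (0, 0)) (.leaf (5, 1380))) (.node (.leaf (0, 0)) (.leaf (0, 1892))))) (.node (.node (.node (.leaf (0, 0)) (.leaf (25, 1252))) (.node (.leaf (31, 1944)) (.leaf (0, 0)))) (.node (.node (.leaf (0, 0)) (.leaf (12, 2025))) (.node (.leaf (20, 852)) (.leaf (30, 1645))))))

def certSVia201 : Janko.Tree (ℕ × ℕ) :=
  (.node (.node (.node (.node (.node (.leaf (0, 0)) (.leaf (0, 0))) (.leaf (11, 759))) (.node (.leaf (0, 0)) (.leaf (27, 2178)))) (.node (.node (.leaf (18, 581)) (.leaf (0, 0))) (.node (.leaf (0, 0)) (.leaf (25, 1871))))) (.node (.node (.node (.leaf (0, 0)) (.leaf (0, 0))) (.node (.leaf (0, 0)) (.leaf (22, 1763)))) (.node (.node (.leaf (0, 0)) (.leaf (29, 2015))) (.node (.leaf (5, 753)) (.leaf (28, 1993))))))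

def certSVia202 : Janko.Tree (ℕ × ℕ) :=
  (.node (.node (.node (.node (.node (.leaf (0, 0)) (.leaf (31, 2140))) (.leaf (0, 0))) (.node (.leaf (19, 436)) (.leaf (0, 0)))) (.node (.node (.leaf (31, 793)) (.leaf (0, 0))) (.node (.leaf (0, 0)) (.leaf (33, 1517))))) (.node (.node (.node (.leaf (21, 793)) (.leaf (33, 1253))) (.node (.leaf (0, 0)) (.leaf (0, 0)))) (.node (.node (.leaf (0, 0)) (.leaf (0, 0))) (.node (.leaf (11, 237)) (.leaf (0, 0))))))

def certSVia203 : Janko.Tree (ℕ × ℕ) :=
  (.node (.node (.node (.node (.node (.leaf (0, 0)) (.leaf (30, 2191))) (.leaf (0, 0))) (.node (.leaf (0, 0)) (.leaf (0, 0)))) (.node (.node (.leaf (0, 0)) (.leaf (29, 1697))) (.node (.leaf (0, 0)) (.leaf (2, 1119))))) (.node (.node (.node (.leaf (0, 0)) (.leaf (0, 0))) (.node (.leaf (1, 824)) (.leaf (0, 0)))) (.node (.node (.leaf (0, 0)) (.leaf (11, 844))) (.node (.leaf (0, 0)) (.leaf (33, 2229))))))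

def certSVia204 : Janko.Tree (ℕ × ℕ) :=
  (.node (.node (.node (.node (.node (.leaf (0, 0)) (.leaf (0, 0))) (.leaf (21, 1473))) (.node (.leaf (0, 0)) (.leaf (0, 0)))) (.node (.node (.leaf (0, 0)) (.leaf (0, 0))) (.node (.leaf (0, 0)) (.leaf (28, 1894))))) (.node (.node (.node (.leaf (0, 0)) (.leaf (29, 1974))) (.node (.leaf (0, 1001)) (.leaf (32, 1766)))) (.node (.node (.leaf (0, 0)) (.leaf (29, 2218))) (.node (.leaf (0, 998)) (.leaf (2, 1706))))))

def certSVia205 : Janko.Tree (ℕ × ℕ) :=
  (.node (.node (.node (.node (.node (.leaf (0, 0)) (.leaf (30, 1162))) (.leaf (5, 761))) (.node (.leaf (0, 0)) (.leaf (27, 2007)))) (.node (.node (.leaf (29, 1261)) (.leaf (13, 993))) (.node (.leaf (0, 0)) (.leaf (11, 1400))))) (.node (.node (.node (.leaf (0, 0)) (.leaf (3, 867))) (.node (.leaf (31, 836)) (.leaf (15, 1616)))) (.node (.node (.leaf (0, 0)) (.leaf (0, 0))) (.node (.leaf (0, 0)) (.leaf (5, 1706))))))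

def certSVia206 : Janko.Tree (ℕ × ℕ) :=
  (.node (.node (.node (.node (.node (.leaf (0, 0)) (.leaf (8, 2151))) (.leaf (27, 1382))) (.node (.leaf (0, 0)) (.leaf (0, 0)))) (.node (.node (.leaf (0, 0)) (.leaf (17, 1383))) (.node (.leaf (2, 563)) (.leaf (28, 1932))))) (.node (.node (.node (.leaf (0, 0)) (.leaf (28, 1698))) (.node (.leaf (0, 0)) (.leaf (22, 1767)))) (.node (.node (.leaf (0, 0)) (.leaf (0, 0))) (.node (.leaf (22, 1750)) (.leaf (33, 2023))))))

def certSVia207 : Janko.Tree (ℕ × ℕ) :=
  (.node (.node (.node (.node (.node (.leaf (0, 0)) (.leaf (25, 1981))) (.leaf (0, 0))) (.node (.leaf (19, 647)) (.leaf (33, 2150)))) (.node (.node (.leaf (0, 0)) (.leaf (0, 0))) (.node (.leaf (0, 0)) (.leaf (0, 0))))) (.node (.node (.node (.leaf (0, 0)) (.leaf (0, 0))) (.node (.leaf (33, 1320)) (.leaf (19, 1608)))) (.node (.node (.leaf (0, 0)) (.leaf (30, 1894))) (.node (.leaf (0, 0)) (.leaf (1, 2023))))))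

def certSVia208 : Janko.Tree (ℕ × ℕ) :=
  (.node (.node (.node (.node (.node (.leaf (0, 0)) (.leaf (0, 0))) (.leaf (0, 0))) (.node (.leaf (0, 0)) (.leaf (0, 0)))) (.node (.node (.leaf (0, 0)) (.leaf (28, 1491))) (.node (.leaf (13, 938)) (.leaf (32, 2224))))) (.node (.node (.node (.leaf (2, 130)) (.leaf (0, 0))) (.node (.leaf (0, 0)) (.leaf (8, 2202)))) (.node (.node (.leaf (0, 0)) (.leaf (32, 1512))) (.node (.leaf (32, 1374)) (.leaf (4, 2182))))))

def certSVia209 : Janko.Tree (ℕ × ℕ) :=
  (.node (.node (.node (.node (.node (.leaf (11, 30)) (.leaf (0, 0))) (.leaf (31, 1026))) (.node (.leaf (0, 0)) (.leaf (0, 0)))) (.node (.node (.leaf (17, 397)) (.leaf (32, 1474))) (.node (.leaf (0, 0)) (.leaf (19, 1862))))) (.node (.node (.node (.leaf (0, 0)) (.leaf (30, 1199))) (.node (.leaf (15, 2025)) (.leaf (0, 0)))) (.node (.node (.leaf (0, 0)) (.leaf (0, 0))) (.node (.leaf (4, 655)) (.leaf (32, 1616))))))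

def certSVia210 : Janko.Tree (ℕ × ℕ) :=
  (.node (.node (.node (.node (.node (.leaf (0, 0)) (.leaf (29, 2052))) (.leaf (0, 0))) (.node (.leaf (0, 0)) (.leaf (0, 0)))) (.node (.node (.leaf (0, 0)) (.leaf (0, 0))) (.node (.leaf (0, 0)) (.leaf (31, 2056))))) (.node (.node (.node (.leaf (0, 0)) (.leaf (0, 0))) (.node (.leaf (0, 0)) (.leaf (32, 2052)))) (.node (.node (.leaf (0, 0)) (.leaf (19, 1706))) (.node (.leaf (2, 1001)) (.leaf (5, 2025))))))

def certSVia211 : Janko.Tree (ℕ × ℕ) :=
  (.node (.node (.node (.node (.node (.leaf (0, 0)) (.leaf (0, 0))) (.leaf (0, 0))) (.node (.leaf (0, 0)) (.leaf (1, 1641)))) (.node (.node (.leaf (11, 364)) (.leaf (2, 1514))) (.node (.leaf (15, 866)) (.leaf (10, 1194))))) (.node (.node (.node (.leaf (0, 0)) (.leaf (0, 0))) (.node (.leaf (0, 0)) (.leaf (4, 1763)))) (.node (.node (.leaf (0, 0)) (.leaf (0, 0))) (.node (.leaf (19, 993)) (.leaf (0, 0))))))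

def certSVia212 : Janko.Tree (ℕ × ℕ) :=
  (.node (.node (.node (.node (.node (.leaf (0, 0)) (.leaf (30, 2239))) (.leaf (2, 1130))) (.node (.leaf (0, 1153)) (.leaf (29, 1868)))) (.node (.node (.leaf (0, 0)) (.leaf (29, 1386))) (.node (.leaf (0, 0)) (.leaf (12, 1740))))) (.node (.node (.node (.leaf (0, 0)) (.leaf (0, 0))) (.node (.leaf (0, 0)) (.leaf (25, 2060)))) (.node (.node (.leaf (0, 0)) (.leaf (0, 1514))) (.node (.leaf (0, 0)) (.leaf (16, 712))))))

def certSVia213 : Janko.Tree (ℕ × ℕ) :=
  (.node (.node (.node (.node (.node (.leaf (0, 0)) (.leaf (14, 2188))) (.leaf (0, 0))) (.node (.leaf (2, 608)) (.leaf (7, 1672)))) (.node (.node (.leaf (0, 0)) (.leaf (5, 990))) (.node (.leaf (12, 1710)) (.leaf (29, 1992))))) (.node (.node (.node (.leaf (0, 0)) (.leaf (1, 1388))) (.node (.leaf (0, 0)) (.leaf (33, 1196)))) (.node (.node (.leaf (0, 0)) (.leaf (31, 1201))) (.node (.leaf (0, 0)) (.leaf (25, 1967))))))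

def certSVia214 : Janko.Tree (ℕ × ℕ) :=
  (.node (.node (.node (.node (.node (.leaf (0, 0)) (.leaf (8, 2155))) (.leaf (0, 0))) (.node (.leaf (0, 0)) (.leaf (33, 1852)))) (.node (.node (.leaf (0, 0)) (.leaf (0, 0))) (.node (.leaf (4, 1710)) (.leaf (17, 2148))))) (.node (.node (.node (.leaf (0, 0)) (.leaf (0, 0))) (.node (.leaf (17, 601)) (.leaf (29, 1085)))) (.node (.node (.leaf (0, 0)) (.leaf (31, 1515))) (.node (.leaf (0, 0)) (.leaf (11, 976))))))

def certSVia215 : Janko.Tree (ℕ × ℕ) :=
  (.node (.node (.node (.node (.node (.leaf (2, 88)) (.leaf (14, 2226))) (.leaf (0, 0))) (.node (.leaf (31, 1913)) (.leaf (0, 0)))) (.node (.node (.leaf (18, 1363)) (.leaf (27, 1343))) (.node (.leaf (19, 843)) (.leaf (30, 2104))))) (.node (.node (.node (.leaf (0, 0)) (.leaf (0, 0))) (.node (.leaf (0, 0)) (.leaf (27, 1911)))) (.node (.node (.leaf (9, 769)) (.leaf (33, 1395))) (.node (.leaf (0, 0)) (.leaf (26, 2213))))))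

def certSVia216 : Janko.Tree (ℕ × ℕ) :=
  (.node (.node (.node (.node (.node (.leaf (0, 0)) (.leaf (26, 2156))) (.leaf (0, 0))) (.node (.leaf (16, 620)) (.leaf (29, 1644)))) (.node (.node (.leaf (0, 0)) (.leaf (2, 1550))) (.node (.leaf (0, 0)) (.leaf (0, 0))))) (.node (.node (.node (.leaf (0, 0)) (.leaf (11, 1282))) (.node (.leaf (0, 0)) (.leaf (0, 0)))) (.node (.node (.leaf (0, 0)) (.leaf (0, 0))) (.node (.leaf (29, 1004)) (.leaf (0, 0))))))

def certSVia217 : Janko.Tree (ℕ × ℕ) :=
  (.node (.node (.node (.node (.node (.leaf (18, 817)) (.leaf (4, 2135))) (.leaf (0, 0))) (.node (.leaf (0, 0)) (.leaf (5, 1499)))) (.node (.node (.leaf (0, 0)) (.leaf (24, 816))) (.node (.leaf (4, 556)) (.leaf (25, 1794))))) (.node (.node (.node (.leaf (0, 0)) (.leaf (0, 0))) (.node (.leaf (0, 0)) (.leaf (29, 1882)))) (.node (.node (.leaf (0, 0)) (.leaf (24, 969))) (.node (.leaf (0, 0)) (.leaf (9, 1366))))))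

def certSVia218 : Janko.Tree (ℕ × ℕ) :=
  (.node (.node (.node (.node (.node (.leaf (0, 0)) (.leaf (31, 2179))) (.leaf (0, 0))) (.node (.leaf (0, 0)) (.leaf (0, 0)))) (.node (.node (.leaf (0, 0)) (.leaf (0, 0))) (.node (.leaf (32, 1663)) (.leaf (16, 1620))))) (.node (.node (.node (.leaf (0, 0)) (.leaf (33, 1462))) (.node (.leaf (29, 1482)) (.leaf (0, 0)))) (.node (.node (.leaf (0, 0)) (.leaf (0, 0))) (.node (.leaf (8, 1005)) (.leaf (26, 1316))))))

def certSVia219 : Janko.Tree (ℕ × ℕ) :=
  (.node (.node (.node (.node (.node (.leaf (0, 0)) (.leaf (5, 2148))) (.leaf (0, 0))) (.node (.leaf (0, 0)) (.leaf (0, 0)))) (.node (.node (.leaf (0, 0)) (.leaf (0, 0))) (.node (.leaf (1, 877)) (.leaf (1, 1901))))) (.node (.node (.node (.leaf (0, 0)) (.leaf (11, 725))) (.node (.leaf (0, 0)) (.leaf (16, 1967)))) (.node (.node (.leaf (18, 1596)) (.leaf (0, 0))) (.node (.leaf (0, 0)) (.leaf (32, 1941))))))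

def certSVia220 : Janko.Tree (ℕ × ℕ) :=
  (.node (.node (.node (.node (.node (.leaf (0, 0)) (.leaf (0, 0))) (.leaf (33, 2085))) (.node (.leaf (0, 0)) (.leaf (30, 1634)))) (.node (.node (.leaf (0, 0)) (.leaf (25, 808))) (.node (.leaf (0, 0)) (.leaf (12, 1902))))) (.node (.node (.node (.leaf (0, 0)) (.leaf (0, 0))) (.node (.leaf (0, 750)) (.leaf (24, 1774)))) (.node (.node (.leaf (0, 0)) (.leaf (32, 1368))) (.node (.leaf (32, 1006)) (.leaf (32, 2011))))))

def certSVia221 : Janko.Tree (ℕ × ℕ) :=
  (.node (.node (.node (.node (.node (.leaf (0, 0)) (.leaf (31, 1940))) (.leaf (21, 1528))) (.node (.leaf (1, 699)) (.leaf (31, 1248)))) (.node (.node (.leaf (0, 0)) (.leaf (29, 1894))) (.node (.leaf (31, 1172)) (.leaf (31, 1824))))) (.node (.node (.node (.leaf (0, 0)) (.leaf (0, 0))) (.node (.leaf (0, 0)) (.leaf (33, 2026)))) (.node (.node (.leaf (27, 1596)) (.leaf (0, 0))) (.node (.leaf (28, 2138)) (.leaf (27, 2027))))))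

def certSVia222 : Janko.Tree (ℕ × ℕ) :=
  (.node (.node (.node (.node (.node (.leaf (0, 0)) (.leaf (18, 2159))) (.leaf (0, 0))) (.node (.leaf (33, 712)) (.leaf (30, 1882)))) (.node (.node (.leaf (0, 0)) (.leaf (19, 1391))) (.node (.leaf (33, 2159)) (.leaf (11, 1903))))) (.node (.node (.node (.leaf (0, 0)) (.leaf (0, 0))) (.node (.leaf (0, 0)) (.leaf (33, 1518)))) (.node (.node (.leaf (0, 0)) (.leaf (0, 1519))) (.node (.leaf (0, 1380)) (.leaf (29, 2193))))))

def certSVia223 : Janko.Tree (ℕ × ℕ) :=
  (.node (.node (.node (.node (.node (.leaf (0, 0)) (.leaf (31, 2224))) (.leaf (5, 1527))) (.node (.leaf (0, 0)) (.leaf (5, 1626)))) (.node (.node (.leaf (0, 0)) (.leaf (33, 2017))) (.node (.leaf (5, 568)) (.leaf (0, 0))))) (.node (.node (.node (.leaf (11, 223)) (.leaf (14, 1104))) (.node (.leaf (0, 0)) (.leaf (27, 1487)))) (.node (.node (.leaf (0, 0)) (.leaf (29, 1450))) (.node (.leaf (0, 0)) (.leaf (33, 2125))))))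

def certSVia224 : Janko.Tree (ℕ × ℕ) :=
  (.node (.node (.node (.node (.node (.leaf (0, 0)) (.leaf (28, 2051))) (.leaf (31, 1527))) (.node (.leaf (10, 369)) (.leaf (0, 0)))) (.node (.node (.leaf (10, 547)) (.leaf (2, 1003))) (.node (.leaf (0, 0)) (.leaf (25, 1904))))) (.node (.node (.node (.leaf (0, 0)) (.leaf (31, 1513))) (.node (.leaf (0, 931)) (.leaf (0, 0)))) (.node (.node (.leaf (0, 0)) (.leaf (12, 1763))) (.node (.leaf (0, 0)) (.leaf (30, 1146))))))

def certSVia225 : Janko.Tree (ℕ × ℕ) :=
  (.node (.node (.node (.node (.node (.leaf (0, 0)) (.leaf (33, 2187))) (.leaf (7, 1929))) (.node (.leaf (0, 0)) (.leaf (7, 1251)))) (.node (.node (.leaf (0, 0)) (.leaf (0, 0))) (.node (.leaf (11, 274)) (.leaf (0, 0))))) (.node (.node (.node (.leaf (11, 276)) (.leaf (0, 0))) (.node (.leaf (0, 0)) (.leaf (27, 2179)))) (.node (.node (.leaf (0, 0)) (.leaf (29, 1485))) (.node (.leaf (31, 1623)) (.leaf (32, 2013))))))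

def certSVia226 : Janko.Tree (ℕ × ℕ) :=
  (.node (.node (.node (.node (.node (.leaf (0, 0)) (.leaf (30, 2161))) (.leaf (29, 1137))) (.node (.leaf (0, 0)) (.leaf (27, 2138)))) (.node (.node (.leaf (0, 0)) (.leaf (0, 0))) (.node (.leaf (24, 2125)) (.leaf (15, 1860))))) (.node (.node (.node (.leaf (0, 0)) (.leaf (0, 0))) (.node (.leaf (29, 991)) (.leaf (0, 0)))) (.node (.node (.leaf (0, 0)) (.leaf (31, 1521))) (.node (.leaf (5, 1223)) (.leaf (0, 0))))))

def certSVia227 : Janko.Tree (ℕ × ℕ) :=
  (.node (.node (.node (.node (.node (.leaf (1, 113)) (.leaf (33, 1857))) (.leaf (0, 0))) (.node (.leaf (0, 0)) (.leaf (0, 0)))) (.node (.node (.leaf (0, 0)) (.leaf (0, 0))) (.node (.leaf (0, 0)) (.leaf (33, 2090))))) (.node (.node (.node (.leaf (28, 798)) (.leaf (4, 1311))) (.node (.leaf (2, 742)) (.leaf (1, 1777)))) (.node (.node (.leaf (0, 0)) (.leaf (0, 0))) (.node (.leaf (33, 1955)) (.leaf (0, 0))))))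

def certSVia228 : Janko.Tree (ℕ × ℕ) :=
  (.node (.node (.node (.node (.node (.leaf (0, 0)) (.leaf (10, 669))) (.leaf (0, 0))) (.node (.leaf (0, 0)) (.leaf (31, 1569)))) (.node (.node (.leaf (29, 1841)) (.leaf (0, 0))) (.node (.leaf (3, 1673)) (.leaf (0, 1906))))) (.node (.node (.node (.leaf (0, 0)) (.leaf (32, 1145))) (.node (.leaf (10, 931)) (.leaf (10, 409)))) (.node (.node (.leaf (0, 0)) (.leaf (0, 0))) (.node (.leaf (0, 0)) (.leaf (33, 2222))))))

def certSVia229 : Janko.Tree (ℕ × ℕ) :=
  (.node (.node (.node (.node (.node (.leaf (0, 0)) (.leaf (0, 0))) (.leaf (2, 1129))) (.node (.leaf (0, 0)) (.leaf (1, 1650)))) (.node (.node (.leaf (0, 0)) (.leaf (27, 1643))) (.node (.leaf (32, 2189)) (.leaf (31, 1941))))) (.node (.node (.node (.leaf (2, 228)) (.leaf (13, 878))) (.node (.leaf (5, 1374)) (.leaf (28, 1223)))) (.node (.node (.leaf (0, 0)) (.leaf (31, 1643))) (.node (.leaf (8, 764)) (.leaf (31, 1721))))))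

def certSVia230 : Janko.Tree (ℕ × ℕ) :=
  (.node (.node (.node (.node (.node (.leaf (0, 0)) (.leaf (30, 2034))) (.leaf (7, 0))) (.node (.leaf (18, 1153)) (.leaf (33, 1651)))) (.node (.node (.leaf (0, 0)) (.leaf (24, 1395))) (.node (.leaf (2, 570)) (.leaf (0, 0))))) (.node (.node (.node (.leaf (0, 0)) (.leaf (2, 880))) (.node (.leaf (5, 755)) (.leaf (0, 0)))) (.node (.node (.leaf (10, 40)) (.leaf (0, 0))) (.node (.leaf (0, 0)) (.leaf (31, 1883))))))

def certSVia231 : Janko.Tree (ℕ × ℕ) :=
  (.node (.node (.node (.node (.node (.leaf (0, 0)) (.leaf (0, 0))) (.leaf (0, 0))) (.node (.leaf (0, 0)) (.leaf (32, 1803)))) (.node (.node (.leaf (0, 0)) (.leaf (33, 1790))) (.node (.leaf (0, 0)) (.leaf (18, 1595))))) (.node (.node (.node (.leaf (15, 1380)) (.leaf (0, 0))) (.node (.leaf (31, 1380)) (.leaf (31, 1903)))) (.node (.node (.leaf (0, 0)) (.leaf (3, 1148))) (.node (.leaf (0, 0)) (.leaf (30, 2215))))))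

def certSVia232 : Janko.Tree (ℕ × ℕ) :=
  (.node (.node (.node (.node (.node (.leaf (0, 0)) (.leaf (33, 2164))) (.leaf (33, 1916))) (.node (.leaf (0, 0)) (.leaf (30, 1256)))) (.node (.node (.leaf (0, 0)) (.leaf (0, 0))) (.node (.leaf (0, 0)) (.leaf (16, 2173))))) (.node (.node (.node (.leaf (0, 0)) (.leaf (4, 1273))) (.node (.leaf (0, 0)) (.leaf (33, 2215)))) (.node (.node (.leaf (0, 0)) (.leaf (2, 1524))) (.node (.leaf (0, 0)) (.leaf (33, 2036))))))

def certSVia233 : Janko.Tree (ℕ × ℕ) :=
  (.node (.node (.node (.node (.node (.leaf (23, 306)) (.leaf (32, 2225))) (.leaf (1, 1140))) (.node (.leaf (19, 1868)) (.leaf (33, 1988)))) (.node (.node (.leaf (0, 0)) (.leaf (30, 1954))) (.node (.leaf (0, 0)) (.leaf (5, 1534))))) (.node (.node (.node (.leaf (0, 0)) (.leaf (0, 0))) (.node (.leaf (2, 285)) (.leaf (8, 1945)))) (.node (.node (.leaf (0, 0)) (.leaf (0, 0))) (.node (.leaf (1, 1012)) (.leaf (31, 1842))))))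

def certSVia234 : Janko.Tree (ℕ × ℕ) :=
  (.node (.node (.node (.node (.node (.leaf (0, 0)) (.leaf (0, 0))) (.leaf (33, 2154))) (.node (.leaf (0, 0)) (.leaf (28, 1538)))) (.node (.node (.leaf (2, 218)) (.leaf (0, 0))) (.node (.leaf (0, 885)) (.leaf (0, 0))))) (.node (.node (.node (.leaf (0, 0)) (.leaf (0, 0))) (.node (.leaf (18, 707)) (.leaf (4, 2178)))) (.node (.node (.leaf (2, 299)) (.leaf (0, 0))) (.node (.leaf (0, 1343)) (.leaf (0, 0))))))

def certSVia235 : Janko.Tree (ℕ × ℕ) :=
  (.node (.node (.node (.node (.node (.leaf (8, 170)) (.leaf (32, 2113))) (.leaf (0, 0))) (.node (.leaf (0, 0)) (.leaf (10, 1661)))) (.node (.node (.leaf (22, 911)) (.leaf (0, 0))) (.node (.leaf (0, 0)) (.leaf (22, 1530))))) (.node (.node (.node (.leaf (0, 0)) (.leaf (0, 0))) (.node (.leaf (5, 871)) (.leaf (31, 1487)))) (.node (.node (.leaf (0, 0)) (.leaf (0, 0))) (.node (.leaf (13, 2125)) (.leaf (28, 2121))))))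

def certSVia236 : Janko.Tree (ℕ × ℕ) :=
  (.node (.node (.node (.node (.node (.leaf (0, 0)) (.leaf (30, 1969))) (.leaf (8, 953))) (.node (.leaf (0, 0)) (.leaf (4, 1654)))) (.node (.node (.leaf (0, 0)) (.leaf (0, 0))) (.node (.leaf (6, 1268)) (.leaf (0, 0))))) (.node (.node (.node (.leaf (0, 0)) (.leaf (0, 0))) (.node (.leaf (2, 478)) (.leaf (0, 0)))) (.node (.node (.leaf (0, 0)) (.leaf (33, 2104))) (.node (.leaf (0, 0)) (.leaf (33, 2092))))))

def certSVia237 : Janko.Tree (ℕ × ℕ) :=
  (.node (.node (.node (.node (.node (.leaf (0, 0)) (.leaf (30, 1598))) (.leaf (16, 1339))) (.node (.leaf (0, 0)) (.leaf (28, 1316)))) (.node (.node (.leaf (0, 0)) (.leaf (0, 0))) (.node (.leaf (0, 0)) (.leaf (22, 1913))))) (.node (.node (.node (.leaf (0, 0)) (.leaf (0, 0))) (.node (.leaf (11, 1251)) (.leaf (30, 1582)))) (.node (.node (.leaf (0, 0)) (.leaf (22, 1026))) (.node (.leaf (0, 0)) (.leaf (33, 2098))))))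

def certSVia238 : Janko.Tree (ℕ × ℕ) :=
  (.node (.node (.node (.node (.node (.leaf (2, 64)) (.leaf (30, 1997))) (.leaf (0, 0))) (.node (.leaf (0, 0)) (.leaf (2, 1258)))) (.node (.node (.leaf (0, 0)) (.leaf (25, 1884))) (.node (.leaf (0, 0)) (.leaf (21, 1537))))) (.node (.node (.node (.leaf (0, 0)) (.leaf (0, 0))) (.node (.leaf (0, 0)) (.leaf (32, 2211)))) (.node (.node (.leaf (0, 0)) (.leaf (0, 1527))) (.node (.leaf (0, 0)) (.leaf (33, 2045))))))

def certSVia239 : Janko.Tree (ℕ × ℕ) :=
  (.node (.node (.node (.node (.node (.leaf (0, 0)) (.leaf (32, 2188))) (.leaf (0, 0))) (.node (.leaf (5, 750)) (.leaf (0, 0)))) (.node (.node (.leaf (4, 755)) (.leaf (33, 1596))) (.node (.leaf (33, 2181)) (.leaf (0, 0))))) (.node (.node (.node (.leaf (0, 0)) (.leaf (0, 0))) (.node (.leaf (11, 148)) (.leaf (0, 0)))) (.node (.node (.leaf (15, 172)) (.leaf (0, 0))) (.node (.leaf (0, 0)) (.leaf (33, 2219))))))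

def certSVia240 : Janko.Tree (ℕ × ℕ) :=
  (.node (.node (.node (.node (.node (.leaf (0, 0)) (.leaf (3, 2168))) (.leaf (0, 0))) (.node (.leaf (0, 0)) (.leaf (26, 1520)))) (.node (.node (.leaf (22, 2050)) (.leaf (0, 0))) (.node (.leaf (0, 0)) (.leaf (0, 2050))))) (.node (.node (.node (.leaf (29, 1363)) (.leaf (0, 0))) (.node (.leaf (29, 1600)) (.leaf (2, 1784)))) (.node (.node (.leaf (33, 1074)) (.leaf (12, 1528))) (.node (.leaf (0, 0)) (.leaf (0, 0))))))

def certSVia241 : Janko.Tree (ℕ × ℕ) :=
  (.node (.node (.node (.node (.node (.leaf (0, 0)) (.leaf (5, 2108))) (.leaf (24, 515))) (.node (.leaf (0, 0)) (.leaf (33, 2099)))) (.node (.node (.leaf (0, 0)) (.leaf (10, 901))) (.node (.leaf (0, 0)) (.leaf (4, 1138))))) (.node (.node (.node (.leaf (1, 248)) (.leaf (30, 1355))) (.node (.leaf (0, 0)) (.leaf (5, 1550)))) (.node (.node (.leaf (0, 0)) (.leaf (30, 1565))) (.node (.leaf (33, 1659)) (.leaf (28, 2005))))))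

def certSVia242 : Janko.Tree (ℕ × ℕ) :=
  (.node (.node (.node (.node (.node (.leaf (0, 0)) (.leaf (30, 2169))) (.leaf (14, 1145))) (.node (.leaf (0, 0)) (.leaf (8, 1657)))) (.node (.node (.leaf (0, 0)) (.leaf (0, 0))) (.node (.leaf (0, 0)) (.leaf (17, 1913))))) (.node (.node (.node (.leaf (0, 249)) (.leaf (0, 0))) (.node (.leaf (0, 0)) (.leaf (30, 2031)))) (.node (.node (.leaf (0, 0)) (.leaf (15, 1529))) (.node (.leaf (4, 1017)) (.leaf (30, 2041))))))

def certSVia243 : Janko.Tree (ℕ × ℕ) :=
  (.node (.node (.node (.node (.node (.leaf (0, 0)) (.leaf (33, 2227))) (.leaf (18, 1481))) (.node (.leaf (0, 0)) (.leaf (0, 0)))) (.node (.node (.leaf (0, 0)) (.leaf (11, 1012))) (.node (.leaf (22, 1354)) (.leaf (5, 1022))))) (.node (.node (.node (.leaf (0, 0)) (.leaf (0, 0))) (.node (.leaf (0, 0)) (.leaf (0, 0)))) (.node (.node (.leaf (0, 0)) (.leaf (0, 0))) (.node (.leaf (0, 0)) (.leaf (5, 936))))))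

def certSVia244 : Janko.Tree (ℕ × ℕ) :=
  (.node (.node (.node (.node (.node (.leaf (8, 92)) (.leaf (22, 1971))) (.leaf (20, 1330))) (.node (.leaf (0, 0)) (.leaf (0, 0)))) (.node (.node (.leaf (0, 0)) (.leaf (22, 1880))) (.node (.leaf (0, 0)) (.leaf (31, 2059))))) (.node (.node (.node (.leaf (31, 1197)) (.leaf (0, 0))) (.node (.leaf (10, 1083)) (.leaf (33, 1786)))) (.node (.node (.leaf (0, 0)) (.leaf (15, 1172))) (.node (.leaf (3, 1728)) (.leaf (9, 936))))))

def certSVia245 : Janko.Tree (ℕ × ℕ) :=
  (.node (.node (.node (.node (.node (.leaf (0, 0)) (.leaf (27, 1593))) (.leaf (31, 1108))) (.node (.leaf (2, 471)) (.leaf (33, 1990)))) (.node (.node (.leaf (0, 0)) (.leaf (0, 0))) (.node (.leaf (9, 346)) (.leaf (0, 0))))) (.node (.node (.node (.leaf (0, 0)) (.leaf (5, 887))) (.node (.leaf (27, 769)) (.leaf (24, 1810)))) (.node (.node (.leaf (4, 394)) (.leaf (0, 0))) (.node (.leaf (0, 0)) (.leaf (19, 1803))))))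

def certSVia246 : Janko.Tree (ℕ × ℕ) :=
  (.node (.node (.node (.node (.node (.leaf (0, 0)) (.leaf (30, 2171))) (.leaf (31, 1343))) (.node (.leaf (0, 0)) (.leaf (22, 1262)))) (.node (.node (.leaf (0, 0)) (.leaf (31, 2080))) (.node (.leaf (0, 0)) (.leaf (0, 0))))) (.node (.node (.node (.leaf (0, 0)) (.leaf (0, 0))) (.node (.leaf (0, 0)) (.leaf (0, 0)))) (.node (.node (.leaf (0, 0)) (.leaf (0, 0))) (.node (.leaf (17, 1019)) (.leaf (32, 1729))))))

def certSVia247 : Janko.Tree (ℕ × ℕ) :=
  (.node (.node (.node (.node (.node (.leaf (31, 257)) (.leaf (11, 1466))) (.leaf (0, 0))) (.node (.leaf (5, 1299)) (.leaf (0, 0)))) (.node (.node (.leaf (0, 0)) (.leaf (0, 0))) (.node (.leaf (0, 0)) (.leaf (0, 0))))) (.node (.node (.node (.leaf (0, 0)) (.leaf (33, 2115))) (.node (.leaf (1, 763)) (.leaf (0, 0)))) (.node (.node (.leaf (11, 494)) (.leaf (11, 1879))) (.node (.leaf (0, 0)) (.leaf (33, 2076))))))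

def certSVia248 : Janko.Tree (ℕ × ℕ) :=
  (.node (.node (.node (.node (.node (.leaf (0, 0)) (.leaf (0, 0))) (.leaf (33, 839))) (.node (.leaf (5, 2050)) (.leaf (0, 0)))) (.node (.node (.leaf (0, 0)) (.leaf (2, 1015))) (.node (.leaf (0, 0)) (.leaf (31, 1916))))) (.node (.node (.node (.leaf (0, 0)) (.leaf (2, 1276))) (.node (.leaf (0, 0)) (.leaf (31, 2162)))) (.node (.node (.leaf (0, 0)) (.leaf (0, 0))) (.node (.leaf (0, 0)) (.leaf (28, 2223))))))

def certSVia249 : Janko.Tree (ℕ × ℕ) :=
  (.node (.node (.node (.node (.node (.leaf (0, 0)) (.leaf (31, 1959))) (.leaf (19, 1172))) (.node (.leaf (0, 0)) (.leaf (1, 1675)))) (.node (.node (.leaf (5, 608)) (.leaf (0, 0))) (.node (.leaf (0, 0)) (.leaf (0, 0))))) (.node (.node (.node (.leaf (0, 0)) (.leaf (33, 1920))) (.node (.leaf (0, 0)) (.leaf (31, 2223)))) (.node (.node (.leaf (9, 182)) (.leaf (14, 1129))) (.node (.leaf (0, 0)) (.leaf (33, 1945))))))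

def certSVia250 : Janko.Tree (ℕ × ℕ) :=
  (.node (.node (.node (.node (.node (.leaf (0, 0)) (.leaf (30, 2173))) (.leaf (32, 1658))) (.node (.leaf (0, 0)) (.leaf (0, 1661)))) (.node (.node (.leaf (0, 0)) (.leaf (0, 0))) (.node (.leaf (0, 0)) (.leaf (2, 1917))))) (.node (.node (.node (.leaf (0, 0)) (.leaf (2, 889))) (.node (.leaf (10, 1527)) (.leaf (30, 1848)))) (.node (.node (.leaf (0, 0)) (.leaf (0, 0))) (.node (.leaf (0, 1021)) (.leaf (31, 2134))))))

def certSVia251 : Janko.Tree (ℕ × ℕ) :=
  (.node (.node (.node (.node (.node (.leaf (0, 0)) (.leaf (11, 1604))) (.leaf (0, 0))) (.node (.leaf (0, 0)) (.leaf (0, 0)))) (.node (.node (.leaf (1, 415)) (.leaf (32, 2032))) (.node (.leaf (0, 0)) (.leaf (30, 2092))))) (.node (.node (.node (.leaf (0, 0)) (.leaf (0, 0))) (.node (.leaf (0, 0)) (.leaf (30, 1094)))) (.node (.node (.leaf (22, 1719)) (.leaf (2, 1527))) (.node (.leaf (0, 0)) (.leaf (29, 2090))))))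

def certSVia252 : Janko.Tree (ℕ × ℕ) :=
  (.node (.node (.node (.node (.node (.leaf (0, 0)) (.leaf (33, 1972))) (.leaf (0, 0))) (.node (.leaf (0, 0)) (.leaf (31, 1971)))) (.node (.node (.leaf (0, 0)) (.leaf (32, 1839))) (.node (.leaf (0, 0)) (.leaf (12, 1918))))) (.node (.node (.node (.leaf (15, 1039)) (.leaf (0, 0))) (.node (.leaf (0, 0)) (.leaf (31, 1722)))) (.node (.node (.leaf (0, 0)) (.leaf (0, 0))) (.node (.leaf (0, 0)) (.leaf (32, 2062))))))

def certSVia253 : Janko.Tree (ℕ × ℕ) :=
  (.node (.node (.node (.node (.node (.leaf (0, 0)) (.leaf (31, 2211))) (.leaf (0, 0))) (.node (.leaf (0, 0)) (.leaf (28, 2063)))) (.node (.node (.leaf (0, 0)) (.leaf (30, 1955))) (.node (.leaf (0, 0)) (.leaf (32, 2083))))) (.node (.node (.node (.leaf (0, 0)) (.leaf (10, 873))) (.node (.leaf (7, 769)) (.leaf (5, 1407)))) (.node (.node (.leaf (0, 0)) (.leaf (17, 1998))) (.node (.leaf (0, 0)) (.leaf (30, 1273))))))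

def certSVia254 : Janko.Tree (ℕ × ℕ) :=
  (.node (.node (.node (.node (.node (.leaf (0, 0)) (.leaf (0, 2175))) (.leaf (0, 0))) (.node (.leaf (22, 705)) (.leaf (33, 2083)))) (.node (.node (.leaf (0, 0)) (.leaf (0, 0))) (.node (.leaf (0, 0)) (.leaf (5, 1919))))) (.node (.node (.node (.leaf (6, 0)) (.leaf (0, 0))) (.node (.leaf (13, 1026)) (.leaf (0, 0)))) (.node (.node (.leaf (0, 0)) (.leaf (0, 0))) (.node (.leaf (0, 0)) (.leaf (0, 2138))))))

def certSVia255 : Janko.Tree (ℕ × ℕ) :=
  (.node (.node (.node (.node (.node (.leaf (0, 0)) (.leaf (25, 1697))) (.leaf (31, 1902))) (.node (.leaf (15, 851)) (.leaf (0, 0)))) (.node (.node (.leaf (2, 369)) (.leaf (0, 0))) (.node (.leaf (0, 0)) (.leaf (27, 2099))))) (.node (.node (.node (.leaf (0, 0)) (.leaf (0, 0))) (.node (.leaf (0, 0)) (.leaf (33, 2171)))) (.node (.node (.leaf (1, 511)) (.leaf (1, 1575))) (.node (.leaf (0, 0)) (.leaf (31, 2188))))))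

def certSVia : Janko.Tree (ℕ × ℕ) :=
  (.node (.node (.node (.node (.node (.node (.node (.node certSVia0 certSVia128) (.node certSVia64 certSVia192)) (.node (.node certSVia32 certSVia160) (.node certSVia96 certSVia224))) (.node (.node (.node certSVia16 certSVia144) (.node certSVia80 certSVia208)) (.node (.node certSVia48 certSVia176) (.node certSVia112 certSVia240)))) (.node (.node (.node (.node certSVia8 certSVia136) (.node certSVia72 certSVia200)) (.node (.node certSVia40 certSVia168) (.node certSVia104 certSVia232))) (.node (.node (.node certSVia24 certSVia152) (.node certSVia88 certSVia216)) (.node (.node certSVia56 certSVia184) (.node certSVia120 certSVia248))))) (.node (.node (.node (.node (.node certSVia4 certSVia132) (.node certSVia68 certSVia196)) (.node (.node certSVia36 certSVia164) (.node certSVia100 certSVia228))) (.node (.node (.node certSVia20 certSVia148) (.node certSVia84 certSVia212)) (.node (.node certSVia52 certSVia180) (.node certSVia116 certSVia244)))) (.node (.node (.node (.node certSVia12 certSVia140) (.node certSVia76 certSVia204)) (.node (.node certSVia44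 certSVia172) (.node certSVia108 certSVia236))) (.node (.node (.node certSVia28 certSVia156) (.node certSVia92 certSVia220)) (.node (.node certSVia60 certSVia188) (.node certSVia124 certSVia252)))))) (.node (.node (.node (.node (.node (.node certSVia2 certSVia130) (.node certSVia66 certSVia194)) (.node (.node certSVia34 certSVia162) (.node certSVia98 certSVia226))) (.node (.node (.node certSVia18 certSVia146) (.node certSVia82 certSVia210)) (.node (.node certSVia50 certSVia178) (.node certSVia114 certSVia242)))) (.node (.node (.node (.node certSVia10 certSVia138) (.node certSVia74 certSVia202)) (.node (.node certSVia42 certSVia170) (.node certSVia106 certSVia234))) (.node (.node (.node certSVia26 certSVia154) (.node certSVia90 certSVia218)) (.node (.node certSVia58 certSVia186) (.node certSVia122 certSVia250))))) (.node (.node (.node (.node (.node certSVia6 certSVia134) (.node certSVia70 certSVia198)) (.node (.node certSVia38 certSVia166) (.node certSVia102 certSVia230))) (.node (.node (.node certSVia22 certSVia150) (.node certSVia86 certSVia214)) (.node (.node certSVia54 certSVia182)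 (.node certSVia118 certSVia246)))) (.node (.node (.node (.node certSVia14 certSVia142) (.node certSVia78 certSVia206)) (.node (.node certSVia46 certSVia174) (.node certSVia110 certSVia238))) (.node (.node (.node certSVia30 certSVia158) (.node certSVia94 certSVia222)) (.node (.node certSVia62 certSVia190) (.node certSVia126 certSVia254))))))) (.node (.node (.node (.node (.node (.node (.node certSVia1 certSVia129) (.node certSVia65 certSVia193)) (.node (.node certSVia33 certSVia161) (.node certSVia97 certSVia225))) (.node (.node (.node certSVia17 certSVia145) (.node certSVia81 certSVia209)) (.node (.node certSVia49 certSVia177) (.node certSVia113 certSVia241)))) (.node (.node (.node (.node certSVia9 certSVia137) (.node certSVia73 certSVia201)) (.node (.node certSVia41 certSVia169) (.node certSVia105 certSVia233))) (.node (.node (.node certSVia25 certSVia153) (.node certSVia89 certSVia217)) (.node (.node certSVia57 certSVia185) (.node certSVia121 certSVia249))))) (.node (.node (.node (.node (.node certSVia5 certSVia133) (.node certSVia69 certSVia197)) (.node (.node certSVia37 certSVia165)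 (.node certSVia101 certSVia229))) (.node (.node (.node certSVia21 certSVia149) (.node certSVia85 certSVia213)) (.node (.node certSVia53 certSVia181) (.node certSVia117 certSVia245)))) (.node (.node (.node (.node certSVia13 certSVia141) (.node certSVia77 certSVia205)) (.node (.node certSVia45 certSVia173) (.node certSVia109 certSVia237))) (.node (.node (.node certSVia29 certSVia157) (.node certSVia93 certSVia221)) (.node (.node certSVia61 certSVia189) (.node certSVia125 certSVia253)))))) (.node (.node (.node (.node (.node (.node certSVia3 certSVia131) (.node certSVia67 certSVia195)) (.node (.node certSVia35 certSVia163) (.node certSVia99 certSVia227))) (.node (.node (.node certSVia19 certSVia147) (.node certSVia83 certSVia211)) (.node (.node certSVia51 certSVia179) (.node certSVia115 certSVia243)))) (.node (.node (.node (.node certSVia11 certSVia139) (.node certSVia75 certSVia203)) (.node (.node certSVia43 certSVia171) (.node certSVia107 certSVia235))) (.node (.node (.node certSVia27 certSVia155) (.node certSVia91 certSVia219)) (.node (.node certSVia59 certSVia187) (.node certSVia123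 certSVia251))))) (.node (.node (.node (.node (.node certSVia7 certSVia135) (.node certSVia71 certSVia199)) (.node (.node certSVia39 certSVia167) (.node certSVia103 certSVia231))) (.node (.node (.node certSVia23 certSVia151) (.node certSVia87 certSVia215)) (.node (.node certSVia55 certSVia183) (.node certSVia119 certSVia247)))) (.node (.node (.node (.node certSVia15 certSVia143) (.node certSVia79 certSVia207)) (.node (.node certSVia47 certSVia175) (.node certSVia111 certSVia239))) (.node (.node (.node certSVia31 certSVia159) (.node certSVia95 certSVia223)) (.node (.node certSVia63 certSVia191) (.node certSVia127 certSVia255))))))))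

def certSRels : List (List Bool) :=
  [
   [false, false, false, false, false, false, false],
   [true, true, true, true, true, true, true],
   [false, false, true, true, false, false, true, true],
   [false, true, false, true, false, true, false, true, false, true],
   [false, false, true, false, true, false, false, true, false, true],
   [false, true, false, true, true, false, true, false, true, true],
   [false, false, true, false, false, true, false, false, true, false, false, true],
   [false, true, true, false, true, true, false, true, true, false, true, true],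
   [false, false, false, true, false, false, true, false, false, false, true, false, false, true],
   [false, true, true, false, true, true, true, false, true, true, false, true, true, true],
   [false, false, false, false, true, false, false, true, false, false, false, false, true, false, false, true],
   [false, true, true, false, true, true, true, true, false, true, true, false, true, true, true, true],
   [false, false, false, true, false, false, false, true, false, false, false, true, false, false, false, true, false, false, false, true],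
   [false, true, true, true, false, true, true, true, false, true, true, true, false, true, true, true, false, true, true, true],
   [false, false, false, true, true, false, false, false, true, true, false, false, false, true, true, false, false, false, true, true],
   [false, false, true, true, true, false, false, true, true, true, false, false, true, true, true, false, false, true, true, true],
   [false, false, false, false, true, false, true, false, false, false, false, true, false, true, false, false, false, false, true, false, true, false, false, false, false, true, false, true],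
   [false, false, true, false, true, false, true, false, false, true, false, true, false, true, false, false, true, false, true, false, true, false, false, true, false, true, false, true],
   [false, true, false, true, false, true, true, false, true, false, true, false, true, true, false, true, false, true, false, true, true, false, true, false, true, false, true, true],
   [false, true, false, true, true, true, true, false, true, false, true, true, true, true, false, true, false, true, true, true, true, false, true, false, true, true, true, true],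
   [false, false, false, true, false, true, false, false, false, true, false, true, false, false, false, true, false, true, false, false, false, true, false, true, false, false, false, true, false, true],
   [false, false, true, false, true, true, false, false, true, false, true, true, false, false, true, false, true, true, false, false, true, false, true, true, false, false, true, false, true, true],
   [false, false, true, true, false, true, false, false, true, true, false, true, false, false, true, true, false, true, false, false, true, true, false, true, false, false, true, true, false, true],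
   [false, true, false, true, true, true, false, true, false, true, true, true, false, true, false, true, true, true, false, true, false, true, true, true, false, true, false, true, true, true],
   [false, false, false, true, false, true, true, true, false, false, false, true, false, true, true, true, false, false, false, true, false, true, true, true, false, false, false, true, false, true, true, true],
   [false, false, false, true, true, true, false, true, false, false, false, true, true, true, false, true, false, false, false, true, true, true, false, true, false, false, false, true, true, true, false, true],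
   [false, false, false, false, true, false, false, false, false, true, false, false, false, false, true, false, false, false, false, true, false, false, false, false, true, false, false, false, false, true, false, false, false, false, true],
   [false, true, true, true, true, false, true, true, true, true, false, true, true, true, true, false, true, true, true, true, false, true, true, true, true, false, true, true, true, true, false, true, true, true, true],
   [false, false, false, false, true, true, false, true, false, false, false, false, true, true, false, true, false, false, false, false, true, true, false, true, false, false, false, false, true, true, false, true, false, false, false, false, true, true, false, true],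
   [false, false, true, false, false, true, false, true, false, false, true, false, false, true, false, true, false, false, true, false, false, true, false, true, false, false, true, false, false, true, false, true, false, false, true, false, false, true, false, true],
   [false, false, true, false, true, true, true, true, false, false, true, false, true, true, true, true, false, false, true, false, true, true, true, true, false, false, true, false, true, true, true, true, false, false, true, false, true, true, true, true],
   [false, true, false, true, true, false, true, true, false, true, false, true, true, false, true, true, false, true, false, true, true, false, true, true, false, true, false, true, true, false, true, true, false, true, false, true, true, false, true, true],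
   [false, false, false, false, true, true, false, false, false, false, true, true, false, false, false, false, true, true, false, false, false, false, true, true, false, false, false, false, true, true, false, false, false, false, true, true, false, false, false, false, true, true],
   [false, false, true, true, true, true, false, false, true, true, true, true, false, false, true, true, true, true, false, false, true, true, true, true, false, false, true, true, true, true, false, false, true, true, true, true, false, false, true, true, true, true]]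

def certSCombos : List (List ℤ × List (ℤ × (ℕ × ℕ))) :=
  [
   ([182, 0, 0, 0, 0, 0, 0, 0, 0],
    [(13675527415014187686639943142423171, (24, 101)), ((-759751523056343760368885730134103), (8, 727)), (9464, (19, 459)), (3039006092225375041475542920536363, (31, 193)), ((-32364523567542582686142326894396129288149683929119), (2, 1225)), ((-995831494383535115542957176547832843146828444148), (12, 99)), (1991662988742272701124878349100985624947940273338, (5, 133)), (37227824629760844258075400776599117, (17, 396)), ((-6078012184450750082951085841082309), (19, 988)), (497915747191873922984706476400368065575633414856, (0, 323)), (8357266753619781364057743031493942, (10, 1532)), (51783237707980910239825676375774673525008947633384, (2, 93))]),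
   ([0, 0, 0, 182, 0, 0, 0, 0, 0],
    [((-532985030517430201305791290035938093137149641238), (2, 1225)), ((-16399539400496946593282056508673479431278120327), (12, 99)), (32799078800585522822778059585192446014935533123, (5, 133)), (613074782484653885706398159673357, (17, 396)), ((-100093842038310838482677250559191), (19, 988)), ((-12511730254788854810334656319856), (8, 727)), (137629032802677402913681219518717, (10, 1532)), (50046921019155419241338625279382, (31, 193)), (225211144586199386586023813757555, (24, 101)), (8199769700250224938876698694010186567523849114, (0, 323)), (182, (19, 459)), (852776048826451932916133437243168175336096496078, (2, 93))]),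
   ([0, 91, 0, 0, 0, 0, 0, 0, 0],
    [(311905424268517552188295156459390631261718618220, (2, 1225)), (9597089977469809828857559490802405328216983613, (12, 99)), ((-19194179954700639340666210088320988990353678971), (5, 133)), ((-29287700854671882506672589979048), (31, 193)), ((-358774335469730560706739227243611), (17, 396)), (58575401709343765013345179958187, (19, 988)), ((-131794653846023471280026654905807), (24, 101)), ((-4798544988735929983958693261288936204757762536), (0, 323)), (7321925213667970626668147494762, (8, 727)), ((-91), (19, 459)), ((-80541177350347676893349622442564), (10, 1532)), ((-499048678828787501592197440835983376014652794921), (2, 93))]),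
   ([0, 0, 91, 0, 0, 0, 0, 0, 0],
    [(311898703399940106494159836560072298689460572268, (2, 1225)), (9596883181513581226992671472066837912440891475, (12, 99)), ((-19193766362788187286431051686263559046504919749), (5, 133)), ((-358766604680298772500251911533331), (17, 396)), (58574139539640615918408475352427, (19, 988)), (7321767442455076989801059419042, (8, 727)), ((-80539441867005846887811653609644), (10, 1532)), ((-29287069769820307959204237676168), (31, 193)), ((-131791813964191385816419069542847), (24, 101)), ((-4798441590757815660938279446811991104539115667), (0, 323)), ((-91), (19, 459)), ((-499037925439063606594252591310424750958232034812), (2, 93))]),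
   ([0, 0, 0, 0, 91, 0, 0, 0, 0],
    [(3360434330278877955288047691276045452664602, (2, 1225)), (103397979392948036675650668596475377902274, (12, 99)), ((-206795958783321326010643615181713093588343), (5, 133)), ((-3865394763694610084581189638), (17, 396)), (631084859378711850543867696, (19, 988)), (78885607422338981317983462, (8, 727)), ((-867741681645728794497818082), (10, 1532)), ((-315542429689355925271933848), (31, 193)), ((-1419940933602101663723702316), (24, 101)), ((-51698989696485062322864461755622206635817), (0, 323)), ((-5376694928437148392517726555033831741681917), (2, 93))]),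
   ([0, 0, 0, 0, 0, 91, 0, 0, 0],
    [((-27704020591752065354739839549094387), (2, 1225)), ((-852431402821094200541844993237470), (12, 99)), (44326432946728642517147535687534575, (2, 93)), (1704862805620961724311160779472488, (5, 133)), (31867004560615556332, (17, 396)), ((-5202776254794376544), (19, 988)), ((-650347031849297068), (8, 727)), (7153817350342267748, (10, 1532)), (2601388127397188272, (31, 193)), (11706246573287347224, (24, 101)), (426215701410638148855381398208255, (0, 323))]),
   ([(-91), 0, 0, 0, 0, 0, 91, 0, 0],
    [((-6837763707507093308746792140907045), (24, 101)), (379875761528171850485932896716801, (8, 727)), ((-4732), (19, 459)), ((-1519503046112687401943731586867169), (31, 193)), (16182261783771290077949480077715203176644023342303, (2, 1225)), (497915747191767518844657561614041912755651450053, (12, 99)), ((-995831494371136272708797122200073461695428540414), (5, 133)), ((-18613912314880420673810711939137228), (17, 396)), (3039006092225374803887463173739168, (19, 988)), ((-248957873595936942028942724866088986983366286407), (0, 323)), ((-4178633376809890355345261863894177),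 (10, 1532)), ((-25891618853990453095718144800124248333915665539295), (2, 93))]),
   ([(-91), 0, 0, 0, 0, 0, 0, 91, 0],
    [((-6837763707507093852380533934437316), (24, 101)), (379875761528171880687807440801825, (8, 727)), ((-4732), (19, 459)), ((-1519503046112687522751229763207181), (31, 193)), (16182261783771291364513903843290986918307876993862, (2, 1225)), (497915747191767558431255215844422535914428842255, (12, 99)), ((-995831494371136351881992429675075724768593151810), (5, 133)), ((-18613912314880422153702564599302956), (17, 396)), (3039006092225375045502459526419409, (19, 988)), ((-248957873595936961822241551985507560998926885070), (0, 323)), ((-4178633376809890687565881848829224), (10, 1532)), ((-25891618853990455154221222821578224436543423614537), (2, 93))]),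
   ([(-91), 0, 0, (-91), 0, 0, 0, 0, 91],
    [((-6950369279800193536612983478090506), (24, 101)), (386131626655566307589610193226996, (8, 727)), ((-4823), (19, 459)), ((-1544526506622265230358440772907872), (31, 193)), (16448754299030006443724059092216028365790062658004, (2, 1225)), (506115516892016031068119616528252997447411613412, (12, 99)), ((-1012231033771429111973828204343088707798154692308), (5, 133)), ((-18920449706122749071890899468136706), (17, 396)), (3089053013244530460716881545820917, (19, 988)), ((-253057758446062073961791587547189044150757799751), (0, 323)), ((-4247447893211229383485712125506343), (10, 1532)), ((-26318006878403681086370904906508912330407155671312), (2, 93))])]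

/-- The certificate. -/
def certS : CentralTable.Cert where
  deg := 65
  m0 := 7
  m1 := 7
  N := 2240
  rels := certSRels
  P := 9
  g0 := 12659171220766902389722792670658730944092945558795991899337739442579305751296745923573712578268248887654337979686612391505794397700538926
  g1 := 25537134665582796386282034494544749437068337941718721972284049577142353381689098936608675406800463142421833366430520528927482287149931055
  h0 := 5940940497597026504006252456041082110926455027457458524580874002213688705581603450749481663096062625371366518234275709949050450499392192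
  h1 := 5940940497597026504006252456041082110926455027457458524580874002213688705581603450749481663096062625371366518234275709949050450499392192
  next := certSNext
  lab := certSLab
  word := certSWord
  perm := certSPerm
  par := certSPar
  L := certSL
  kind := certSKind
  rank := certSRank
  via := certSVia
  pv := [192, 74, 904, 1596, 1380, 1286, 510, 2278, 540]
  combos := certSCombos

def bit10 : Janko.Tree (Bool) :=
  (.node (.node (.node (.node (.node (.leaf false) (.leaf true)) (.leaf false)) (.node (.leaf false) (.leaf false))) (.node (.node (.leaf false) (.leaf false)) (.node (.leaf false) (.leaf true)))) (.node (.node (.node (.node (.leaf false) (.leaf true)) (.leaf false)) (.node (.leaf false) (.leaf false))) (.node (.node (.leaf false) (.leaf true)) (.node (.leaf false) (.leaf false)))))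

def bit11 : Janko.Tree (Bool) :=
  (.node (.node (.node (.node (.node (.leaf false) (.leaf true)) (.leaf false)) (.node (.leaf false) (.leaf true))) (.node (.node (.leaf false) (.leaf false)) (.node (.leaf false) (.leaf false)))) (.node (.node (.node (.node (.leaf false) (.leaf true)) (.leaf false)) (.node (.leaf false) (.leaf false))) (.node (.node (.leaf false) (.leaf false)) (.node (.leaf false) (.leaf false)))))

def bit12 : Janko.Tree (Bool) :=
  (.node (.node (.node (.node (.node (.leaf false) (.leaf false)) (.leaf false)) (.node (.leaf false) (.leaf false))) (.node (.node (.leaf false) (.leaf false)) (.node (.leaf false) (.leaf false)))) (.node (.node (.node (.node (.leaf false) (.leaf true)) (.leaf false)) (.node (.leaf false) (.leaf true))) (.node (.node (.leaf false) (.leaf false)) (.node (.leaf false) (.leaf false)))))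

def bit13 : Janko.Tree (Bool) :=
  (.node (.node (.node (.node (.node (.leaf false) (.leaf true)) (.leaf false)) (.node (.leaf false) (.leaf true))) (.node (.node (.leaf false) (.leaf false)) (.node (.leaf false) (.leaf false)))) (.node (.node (.node (.node (.leaf false) (.leaf false)) (.leaf false)) (.node (.leaf false) (.leaf false))) (.node (.node (.leaf false) (.leaf false)) (.node (.leaf true) (.leaf true)))))

def bit14 : Janko.Tree (Bool) :=
  (.node (.node (.node (.node (.node (.leaf false) (.leaf false)) (.leaf true)) (.node (.leaf false) (.leaf false))) (.node (.node (.leaf false) (.leaf false)) (.node (.leaf false) (.leaf false)))) (.node (.node (.node (.node (.leaf false) (.leaf false)) (.leaf false)) (.node (.leaf false) (.leaf false))) (.node (.node (.leaf false) (.leaf false)) (.node (.leaf false) (.leaf false)))))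

def bit15 : Janko.Tree (Bool) :=
  (.node (.node (.node (.node (.node (.leaf false) (.leaf false)) (.leaf false)) (.node (.leaf false) (.leaf false))) (.node (.node (.leaf false) (.leaf false)) (.node (.leaf false) (.leaf true)))) (.node (.node (.node (.node (.leaf false) (.leaf true)) (.leaf false)) (.node (.leaf false) (.leaf false))) (.node (.node (.leaf false) (.leaf false)) (.node (.leaf true) (.leaf true)))))

def bit16 : Janko.Tree (Bool) :=
  (.node (.node (.node (.node (.node (.leaf false) (.leaf true)) (.leaf false)) (.node (.leaf false) (.leaf true))) (.node (.node (.leaf false) (.leaf false)) (.node (.leaf true) (.leaf false)))) (.node (.node (.node (.node (.leaf false) (.leaf true)) (.leaf false)) (.node (.leaf false) (.leaf false))) (.node (.node (.leaf false) (.leaf false)) (.node (.leaf true) (.leaf false)))))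

def bit17 : Janko.Tree (Bool) :=
  (.node (.node (.node (.node (.node (.leaf false) (.leaf false)) (.leaf false)) (.node (.leaf false) (.leaf false))) (.node (.node (.leaf false) (.leaf true)) (.node (.leaf true) (.leaf false)))) (.node (.node (.node (.node (.leaf false) (.leaf false)) (.leaf false)) (.node (.leaf true) (.leaf true))) (.node (.node (.leaf false) (.leaf false)) (.node (.leaf false) (.leaf false)))))

def bit18 : Janko.Tree (Bool) :=
  (.node (.node (.node (.node (.node (.leaf false) (.leaf true)) (.leaf false)) (.node (.leaf true) (.leaf false))) (.node (.node (.leaf false) (.leaf false)) (.node (.leaf true) (.leaf false)))) (.node (.node (.node (.node (.leaf false) (.leaf false)) (.leaf false)) (.node (.leaf false) (.leaf false))) (.node (.node (.leaf true) (.leaf false)) (.node (.leaf false) (.leaf false)))))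

def bit19 : Janko.Tree (Bool) :=
  (.node (.node (.node (.node (.node (.leaf false) (.leaf false)) (.leaf false)) (.node (.leaf false) (.leaf false))) (.node (.node (.leaf false) (.leaf false)) (.node (.leaf false) (.leaf false)))) (.node (.node (.node (.node (.leaf false) (.leaf false)) (.leaf false)) (.node (.leaf false) (.leaf false))) (.node (.node (.leaf false) (.leaf false)) (.node (.leaf true) (.leaf false)))))

def bit110 : Janko.Tree (Bool) :=
  (.node (.node (.node (.node (.node (.leaf false) (.leaf false)) (.leaf false)) (.node (.leaf true) (.leaf false))) (.node (.node (.leaf false) (.leaf false)) (.node (.leaf true) (.leaf false)))) (.node (.node (.node (.node (.leaf false) (.leaf false)) (.leaf false)) (.node (.leaf false) (.leaf false))) (.node (.node (.leaf false) (.leaf false)) (.node (.leaf true) (.leaf true)))))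

def bit111 : Janko.Tree (Bool) :=
  (.node (.node (.node (.node (.node (.leaf false) (.leaf false)) (.leaf false)) (.node (.leaf false) (.leaf false))) (.node (.node (.leaf true) (.leaf false)) (.node (.leaf false) (.leaf false)))) (.node (.node (.node (.node (.leaf false) (.leaf false)) (.leaf false)) (.node (.leaf true) (.leaf false))) (.node (.node (.leaf false) (.leaf false)) (.node (.leaf false) (.leaf false)))))

def bit112 : Janko.Tree (Bool) :=
  (.node (.node (.node (.node (.node (.leaf false) (.leaf true)) (.leaf false)) (.node (.leaf false) (.leaf true))) (.node (.node (.leaf false) (.leaf false)) (.node (.leaf false) (.leaf false)))) (.node (.node (.node (.node (.leaf false) (.leaf true)) (.leaf false)) (.node (.leaf false) (.leaf false))) (.node (.node (.leaf false) (.leaf false)) (.node (.leaf false) (.leaf false)))))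

def bit113 : Janko.Tree (Bool) :=
  (.node (.node (.node (.node (.node (.leaf false) (.leaf false)) (.leaf false)) (.node (.leaf false) (.leaf false))) (.node (.node (.leaf false) (.leaf false)) (.node (.leaf false) (.leaf false)))) (.node (.node (.node (.node (.leaf false) (.leaf false)) (.leaf false)) (.node (.leaf false) (.leaf true))) (.node (.node (.leaf false) (.leaf false)) (.node (.leaf false) (.leaf true)))))

def bit114 : Janko.Tree (Bool) :=
  (.node (.node (.node (.node (.node (.leaf false) (.leaf false)) (.leaf true)) (.node (.leaf false) (.leaf false))) (.node (.node (.leaf false) (.leaf false)) (.node (.leaf false) (.leaf false)))) (.node (.node (.node (.node (.leaf false) (.leaf true)) (.leaf false)) (.node (.leaf false) (.leaf true))) (.node (.node (.leaf true) (.leaf true)) (.node (.leaf true) (.leaf false)))))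

def bit115 : Janko.Tree (Bool) :=
  (.node (.node (.node (.node (.node (.leaf false) (.leaf false)) (.leaf false)) (.node (.leaf false) (.leaf false))) (.node (.node (.leaf false) (.leaf true)) (.node (.leaf false) (.leaf true)))) (.node (.node (.node (.node (.leaf false) (.leaf true)) (.leaf false)) (.node (.leaf false) (.leaf true))) (.node (.node (.leaf false) (.leaf false)) (.node (.leaf false) (.leaf true)))))

def bit116 : Janko.Tree (Bool) :=
  (.node (.node (.node (.node (.node (.leaf false) (.leaf true)) (.leaf false)) (.node (.leaf false) (.leaf false))) (.node (.node (.leaf false) (.leaf true)) (.node (.leaf false) (.leaf false)))) (.node (.node (.node (.node (.leaf false) (.leaf false)) (.leaf false)) (.node (.leaf true) (.leaf false))) (.node (.node (.leaf false) (.leaf true)) (.node (.leaf false) (.leaf true)))))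

def bit117 : Janko.Tree (Bool) :=
  (.node (.node (.node (.node (.node (.leaf false) (.leaf true)) (.leaf false)) (.node (.leaf false) (.leaf false))) (.node (.node (.leaf true) (.leaf false)) (.node (.leaf false) (.leaf false)))) (.node (.node (.node (.node (.leaf false) (.leaf false)) (.leaf false)) (.node (.leaf false) (.leaf true))) (.node (.node (.leaf true) (.leaf false)) (.node (.leaf false) (.leaf false)))))

def bit118 : Janko.Tree (Bool) :=
  (.node (.node (.node (.node (.node (.leaf false) (.leaf false)) (.leaf false)) (.node (.leaf false) (.leaf true))) (.node (.node (.leaf false) (.leaf false)) (.node (.leaf false) (.leaf false)))) (.node (.node (.node (.node (.leaf false) (.leaf false)) (.leaf false)) (.node (.leaf false) (.leaf false))) (.node (.node (.leaf false) (.leaf true)) (.node (.leaf false) (.leaf false)))))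

def bit119 : Janko.Tree (Bool) :=
  (.node (.node (.node (.node (.node (.leaf false) (.leaf true)) (.leaf true)) (.node (.leaf false) (.leaf false))) (.node (.node (.leaf false) (.leaf false)) (.node (.leaf false) (.leaf false)))) (.node (.node (.node (.node (.leaf false) (.leaf true)) (.leaf false)) (.node (.leaf false) (.leaf false))) (.node (.node (.leaf false) (.leaf false)) (.node (.leaf true) (.leaf false)))))

def bit120 : Janko.Tree (Bool) :=
  (.node (.node (.node (.node (.node (.leaf false) (.leaf false)) (.leaf false)) (.node (.leaf true) (.leaf true))) (.node (.node (.leaf false) (.leaf false)) (.node (.leaf false) (.leaf true)))) (.node (.node (.node (.node (.leaf false) (.leaf false)) (.leaf false)) (.node (.leaf false) (.leaf false))) (.node (.node (.leaf false) (.leaf false)) (.node (.leaf true) (.leaf false)))))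

def bit121 : Janko.Tree (Bool) :=
  (.node (.node (.node (.node (.node (.leaf false) (.leaf false)) (.leaf false)) (.node (.leaf false) (.leaf false))) (.node (.node (.leaf false) (.leaf true)) (.node (.leaf false) (.leaf true)))) (.node (.node (.node (.node (.leaf false) (.leaf true)) (.leaf true)) (.node (.leaf false) (.leaf false))) (.node (.node (.leaf true) (.leaf true)) (.node (.leaf false) (.leaf false)))))

def bit122 : Janko.Tree (Bool) :=
  (.node (.node (.node (.node (.node (.leaf false) (.leaf false)) (.leaf false)) (.node (.leaf false) (.leaf true))) (.node (.node (.leaf false) (.leaf false)) (.node (.leaf false) (.leaf false)))) (.node (.node (.node (.node (.leaf false) (.leaf false)) (.leaf false)) (.node (.leaf false) (.leaf false))) (.node (.node (.leaf false) (.leaf false)) (.node (.leaf false) (.leaf false)))))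

def bit123 : Janko.Tree (Bool) :=
  (.node (.node (.node (.node (.node (.leaf false) (.leaf false)) (.leaf false)) (.node (.leaf false) (.leaf false))) (.node (.node (.leaf false) (.leaf true)) (.node (.leaf false) (.leaf false)))) (.node (.node (.node (.node (.leaf false) (.leaf true)) (.leaf false)) (.node (.leaf false) (.leaf false))) (.node (.node (.leaf false) (.leaf false)) (.node (.leaf true) (.leaf false)))))

def bit124 : Janko.Tree (Bool) :=
  (.node (.node (.node (.node (.node (.leaf false) (.leaf false)) (.leaf false)) (.node (.leaf false) (.leaf false))) (.node (.node (.leaf false) (.leaf false)) (.node (.leaf false) (.leaf true)))) (.node (.node (.node (.node (.leaf false) (.leaf true)) (.leaf false)) (.node (.leaf false) (.leaf false))) (.node (.node (.leaf false) (.leaf false)) (.node (.leaf false) (.leaf false)))))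

def bit125 : Janko.Tree (Bool) :=
  (.node (.node (.node (.node (.node (.leaf false) (.leaf false)) (.leaf false)) (.node (.leaf false) (.leaf false))) (.node (.node (.leaf false) (.leaf true)) (.node (.leaf false) (.leaf false)))) (.node (.node (.node (.node (.leaf false) (.leaf false)) (.leaf false)) (.node (.leaf false) (.leaf false))) (.node (.node (.leaf false) (.leaf false)) (.node (.leaf false) (.leaf false)))))

def bit126 : Janko.Tree (Bool) :=
  (.node (.node (.node (.node (.node (.leaf false) (.leaf false)) (.leaf false)) (.node (.leaf false) (.leaf false))) (.node (.node (.leaf false) (.leaf false)) (.node (.leaf true) (.leaf true)))) (.node (.node (.node (.node (.leaf false) (.leaf false)) (.leaf false)) (.node (.leaf false) (.leaf false))) (.node (.node (.leaf false) (.leaf false)) (.node (.leaf false) (.leaf false)))))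

def bit127 : Janko.Tree (Bool) :=
  (.node (.node (.node (.node (.node (.leaf false) (.leaf true)) (.leaf true)) (.node (.leaf false) (.leaf true))) (.node (.node (.leaf false) (.leaf true)) (.node (.leaf false) (.leaf false)))) (.node (.node (.node (.node (.leaf false) (.leaf false)) (.leaf false)) (.node (.leaf false) (.leaf false))) (.node (.node (.leaf false) (.leaf false)) (.node (.leaf true) (.leaf false)))))

def bit128 : Janko.Tree (Bool) :=
  (.node (.node (.node (.node (.node (.leaf false) (.leaf true)) (.leaf false)) (.node (.leaf false) (.leaf false))) (.node (.node (.leaf true) (.leaf false)) (.node (.leaf false) (.leaf true)))) (.node (.node (.node (.node (.leaf false) (.leaf false)) (.leaf false)) (.node (.leaf false) (.leaf false))) (.node (.node (.leaf false) (.leaf false)) (.node (.leaf false) (.leaf false)))))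

def bit129 : Janko.Tree (Bool) :=
  (.node (.node (.node (.node (.node (.leaf false) (.leaf true)) (.leaf false)) (.node (.leaf false) (.leaf false))) (.node (.node (.leaf false) (.leaf true)) (.node (.leaf false) (.leaf false)))) (.node (.node (.node (.node (.leaf false) (.leaf true)) (.leaf false)) (.node (.leaf false) (.leaf true))) (.node (.node (.leaf false) (.leaf true)) (.node (.leaf true) (.leaf false)))))

def bit130 : Janko.Tree (Bool) :=
  (.node (.node (.node (.node (.node (.leaf false) (.leaf true)) (.leaf false)) (.node (.leaf false) (.leaf false))) (.node (.node (.leaf false) (.leaf false)) (.node (.leaf false) (.leaf false)))) (.node (.node (.node (.node (.leaf false) (.leaf false)) (.leaf false)) (.node (.leaf false) (.leaf true))) (.node (.node (.leaf false) (.leaf false)) (.node (.leaf false) (.leaf false)))))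

def bit131 : Janko.Tree (Bool) :=
  (.node (.node (.node (.node (.node (.leaf false) (.leaf false)) (.leaf false)) (.node (.leaf false) (.leaf false))) (.node (.node (.leaf false) (.leaf false)) (.node (.leaf false) (.leaf true)))) (.node (.node (.node (.node (.leaf false) (.leaf false)) (.leaf false)) (.node (.leaf false) (.leaf false))) (.node (.node (.leaf false) (.leaf false)) (.node (.leaf true) (.leaf false)))))

def bit132 : Janko.Tree (Bool) :=
  (.node (.node (.node (.node (.node (.leaf false) (.leaf false)) (.leaf false)) (.node (.leaf false) (.leaf false))) (.node (.node (.leaf false) (.leaf false)) (.node (.leaf false) (.leaf false)))) (.node (.node (.node (.node (.leaf false) (.leaf false)) (.leaf true)) (.node (.leaf true) (.leaf false))) (.node (.node (.leaf false) (.leaf false)) (.node (.leaf false) (.leaf false)))))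

def bit133 : Janko.Tree (Bool) :=
  (.node (.node (.node (.node (.node (.leaf false) (.leaf false)) (.leaf false)) (.node (.leaf false) (.leaf false))) (.node (.node (.leaf false) (.leaf false)) (.node (.leaf false) (.leaf false)))) (.node (.node (.node (.node (.leaf false) (.leaf false)) (.leaf true)) (.node (.leaf false) (.leaf false))) (.node (.node (.leaf false) (.leaf false)) (.node (.leaf false) (.leaf false)))))

def bit134 : Janko.Tree (Bool) :=
  (.node (.node (.node (.node (.node (.leaf false) (.leaf true)) (.leaf false)) (.node (.leaf false) (.leaf false))) (.node (.node (.leaf false) (.leaf false)) (.node (.leaf false) (.leaf false)))) (.node (.node (.node (.node (.leaf false) (.leaf false)) (.leaf false)) (.node (.leaf false) (.leaf false))) (.node (.node (.leaf true) (.leaf false)) (.node (.leaf true) (.leaf true)))))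

def bit135 : Janko.Tree (Bool) :=
  (.node (.node (.node (.node (.node (.leaf false) (.leaf false)) (.leaf false)) (.node (.leaf false) (.leaf false))) (.node (.node (.leaf false) (.leaf false)) (.node (.leaf false) (.leaf false)))) (.node (.node (.node (.node (.leaf false) (.leaf false)) (.leaf false)) (.node (.leaf false) (.leaf false))) (.node (.node (.leaf true) (.leaf false)) (.node (.leaf false) (.leaf false)))))

def bit136 : Janko.Tree (Bool) :=
  (.node (.node (.node (.node (.node (.leaf false) (.leaf false)) (.leaf false)) (.node (.leaf false) (.leaf false))) (.node (.node (.leaf false) (.leaf true)) (.node (.leaf false) (.leaf false)))) (.node (.node (.node (.node (.leaf false) (.leaf true)) (.leaf false)) (.node (.leaf false) (.leaf false))) (.node (.node (.leaf false) (.leaf false)) (.node (.leaf true) (.leaf false)))))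

def bit137 : Janko.Tree (Bool) :=
  (.node (.node (.node (.node (.node (.leaf false) (.leaf false)) (.leaf false)) (.node (.leaf false) (.leaf false))) (.node (.node (.leaf false) (.leaf false)) (.node (.leaf false) (.leaf false)))) (.node (.node (.node (.node (.leaf false) (.leaf true)) (.leaf false)) (.node (.leaf false) (.leaf false))) (.node (.node (.leaf false) (.leaf false)) (.node (.leaf false) (.leaf true)))))

def bit138 : Janko.Tree (Bool) :=
  (.node (.node (.node (.node (.node (.leaf false) (.leaf false)) (.leaf false)) (.node (.leaf true) (.leaf false))) (.node (.node (.leaf false) (.leaf false)) (.node (.leaf false) (.leaf false)))) (.node (.node (.node (.node (.leaf false) (.leaf false)) (.leaf false)) (.node (.leaf false) (.leaf false))) (.node (.node (.leaf false) (.leaf false)) (.node (.leaf false) (.leaf true)))))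

def bit139 : Janko.Tree (Bool) :=
  (.node (.node (.node (.node (.node (.leaf false) (.leaf false)) (.leaf true)) (.node (.leaf false) (.leaf false))) (.node (.node (.leaf false) (.leaf false)) (.node (.leaf false) (.leaf false)))) (.node (.node (.node (.node (.leaf false) (.leaf true)) (.leaf false)) (.node (.leaf false) (.leaf false))) (.node (.node (.leaf false) (.leaf true)) (.node (.leaf false) (.leaf false)))))

def bit140 : Janko.Tree (Bool) :=
  (.node (.node (.node (.node (.node (.leaf false) (.leaf false)) (.leaf true)) (.node (.leaf false) (.leaf false))) (.node (.node (.leaf false) (.leaf false)) (.node (.leaf false) (.leaf false)))) (.node (.node (.node (.node (.leaf false) (.leaf false)) (.leaf false)) (.node (.leaf false) (.leaf true))) (.node (.node (.leaf true) (.leaf false)) (.node (.leaf false) (.leaf false)))))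

def bit141 : Janko.Tree (Bool) :=
  (.node (.node (.node (.node (.node (.leaf true) (.leaf true)) (.leaf false)) (.node (.leaf true) (.leaf false))) (.node (.node (.leaf false) (.leaf false)) (.node (.leaf false) (.leaf false)))) (.node (.node (.node (.node (.leaf true) (.leaf false)) (.leaf false)) (.node (.leaf false) (.leaf false))) (.node (.node (.leaf false) (.leaf false)) (.node (.leaf true) (.leaf false)))))

def bit142 : Janko.Tree (Bool) :=
  (.node (.node (.node (.node (.node (.leaf false) (.leaf false)) (.leaf false)) (.node (.leaf true) (.leaf false))) (.node (.node (.leaf false) (.leaf false)) (.node (.leaf false) (.leaf false)))) (.node (.node (.node (.node (.leaf false) (.leaf true)) (.leaf false)) (.node (.leaf false) (.leaf false))) (.node (.node (.leaf false) (.leaf false)) (.node (.leaf false) (.leaf false)))))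

def bit143 : Janko.Tree (Bool) :=
  (.node (.node (.node (.node (.node (.leaf false) (.leaf false)) (.leaf false)) (.node (.leaf false) (.leaf false))) (.node (.node (.leaf false) (.leaf false)) (.node (.leaf false) (.leaf true)))) (.node (.node (.node (.node (.leaf false) (.leaf false)) (.leaf false)) (.node (.leaf false) (.leaf false))) (.node (.node (.leaf false) (.leaf false)) (.node (.leaf false) (.leaf true)))))

def bit144 : Janko.Tree (Bool) :=
  (.node (.node (.node (.node (.node (.leaf false) (.leaf false)) (.leaf false)) (.node (.leaf false) (.leaf false))) (.node (.node (.leaf false) (.leaf false)) (.node (.leaf false) (.leaf false)))) (.node (.node (.node (.node (.leaf false) (.leaf false)) (.leaf false)) (.node (.leaf false) (.leaf true))) (.node (.node (.leaf false) (.leaf false)) (.node (.leaf false) (.leaf false)))))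

def bit145 : Janko.Tree (Bool) :=
  (.node (.node (.node (.node (.node (.leaf false) (.leaf true)) (.leaf false)) (.node (.leaf false) (.leaf false))) (.node (.node (.leaf false) (.leaf false)) (.node (.leaf false) (.leaf false)))) (.node (.node (.node (.node (.leaf false) (.leaf true)) (.leaf false)) (.node (.leaf false) (.leaf false))) (.node (.node (.leaf false) (.leaf false)) (.node (.leaf false) (.leaf true)))))

def bit146 : Janko.Tree (Bool) :=
  (.node (.node (.node (.node (.node (.leaf false) (.leaf true)) (.leaf false)) (.node (.leaf true) (.leaf false))) (.node (.node (.leaf false) (.leaf false)) (.node (.leaf false) (.leaf true)))) (.node (.node (.node (.node (.leaf false) (.leaf false)) (.leaf false)) (.node (.leaf false) (.leaf false))) (.node (.node (.leaf true) (.leaf false)) (.node (.leaf false) (.leaf true)))))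

def bit147 : Janko.Tree (Bool) :=
  (.node (.node (.node (.node (.node (.leaf false) (.leaf false)) (.leaf false)) (.node (.leaf false) (.leaf false))) (.node (.node (.leaf false) (.leaf false)) (.node (.leaf false) (.leaf false)))) (.node (.node (.node (.node (.leaf false) (.leaf false)) (.leaf false)) (.node (.leaf false) (.leaf false))) (.node (.node (.leaf false) (.leaf false)) (.node (.leaf false) (.leaf false)))))

def bit148 : Janko.Tree (Bool) :=
  (.node (.node (.node (.node (.node (.leaf false) (.leaf true)) (.leaf false)) (.node (.leaf false) (.leaf false))) (.node (.node (.leaf false) (.leaf false)) (.node (.leaf true) (.leaf false)))) (.node (.node (.node (.node (.leaf false) (.leaf true)) (.leaf false)) (.node (.leaf false) (.leaf false))) (.node (.node (.leaf false) (.leaf false)) (.node (.leaf false) (.leaf true)))))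

def bit149 : Janko.Tree (Bool) :=
  (.node (.node (.node (.node (.node (.leaf false) (.leaf true)) (.leaf false)) (.node (.leaf false) (.leaf false))) (.node (.node (.leaf false) (.leaf true)) (.node (.leaf false) (.leaf false)))) (.node (.node (.node (.node (.leaf true) (.leaf true)) (.leaf false)) (.node (.leaf false) (.leaf true))) (.node (.node (.leaf false) (.leaf false)) (.node (.leaf false) (.leaf false)))))

def bit150 : Janko.Tree (Bool) :=
  (.node (.node (.node (.node (.node (.leaf false) (.leaf false)) (.leaf false)) (.node (.leaf false) (.leaf true))) (.node (.node (.leaf false) (.leaf false)) (.node (.leaf false) (.leaf false)))) (.node (.node (.node (.node (.leaf false) (.leaf false)) (.leaf false)) (.node (.leaf false) (.leaf true))) (.node (.node (.leaf false) (.leaf false)) (.node (.leaf false) (.leaf false)))))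

def bit151 : Janko.Tree (Bool) :=
  (.node (.node (.node (.node (.node (.leaf false) (.leaf false)) (.leaf false)) (.node (.leaf true) (.leaf false))) (.node (.node (.leaf false) (.leaf true)) (.node (.leaf false) (.leaf false)))) (.node (.node (.node (.node (.leaf false) (.leaf false)) (.leaf false)) (.node (.leaf false) (.leaf true))) (.node (.node (.leaf true) (.leaf false)) (.node (.leaf true) (.leaf false)))))

def bit152 : Janko.Tree (Bool) :=
  (.node (.node (.node (.node (.node (.leaf false) (.leaf true)) (.leaf false)) (.node (.leaf false) (.leaf false))) (.node (.node (.leaf false) (.leaf false)) (.node (.leaf false) (.leaf true)))) (.node (.node (.node (.node (.leaf false) (.leaf false)) (.leaf false)) (.node (.leaf false) (.leaf false))) (.node (.node (.leaf false) (.leaf false)) (.node (.leaf true) (.leaf false)))))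

def bit153 : Janko.Tree (Bool) :=
  (.node (.node (.node (.node (.node (.leaf false) (.leaf false)) (.leaf false)) (.node (.leaf false) (.leaf false))) (.node (.node (.leaf false) (.leaf false)) (.node (.leaf false) (.leaf false)))) (.node (.node (.node (.node (.leaf false) (.leaf true)) (.leaf false)) (.node (.leaf false) (.leaf false))) (.node (.node (.leaf false) (.leaf true)) (.node (.leaf false) (.leaf false)))))

def bit154 : Janko.Tree (Bool) :=
  (.node (.node (.node (.node (.node (.leaf false) (.leaf false)) (.leaf false)) (.node (.leaf false) (.leaf false))) (.node (.node (.leaf false) (.leaf false)) (.node (.leaf true) (.leaf false)))) (.node (.node (.node (.node (.leaf false) (.leaf false)) (.leaf false)) (.node (.leaf false) (.leaf false))) (.node (.node (.leaf false) (.leaf false)) (.node (.leaf false) (.leaf false)))))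

def bit155 : Janko.Tree (Bool) :=
  (.node (.node (.node (.node (.node (.leaf false) (.leaf false)) (.leaf false)) (.node (.leaf false) (.leaf false))) (.node (.node (.leaf false) (.leaf false)) (.node (.leaf false) (.leaf true)))) (.node (.node (.node (.node (.leaf false) (.leaf true)) (.leaf false)) (.node (.leaf false) (.leaf false))) (.node (.node (.leaf false) (.leaf false)) (.node (.leaf false) (.leaf false)))))

def bit156 : Janko.Tree (Bool) :=
  (.node (.node (.node (.node (.node (.leaf false) (.leaf true)) (.leaf false)) (.node (.leaf false) (.leaf false))) (.node (.node (.leaf false) (.leaf false)) (.node (.leaf false) (.leaf false)))) (.node (.node (.node (.node (.leaf false) (.leaf true)) (.leaf true)) (.node (.leaf false) (.leaf true))) (.node (.node (.leaf false) (.leaf true)) (.node (.leaf false) (.leaf false)))))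

def bit157 : Janko.Tree (Bool) :=
  (.node (.node (.node (.node (.node (.leaf false) (.leaf false)) (.leaf false)) (.node (.leaf false) (.leaf false))) (.node (.node (.leaf false) (.leaf false)) (.node (.leaf false) (.leaf true)))) (.node (.node (.node (.node (.leaf false) (.leaf false)) (.leaf false)) (.node (.leaf false) (.leaf false))) (.node (.node (.leaf false) (.leaf false)) (.node (.leaf false) (.leaf false)))))

def bit158 : Janko.Tree (Bool) :=
  (.node (.node (.node (.node (.node (.leaf false) (.leaf true)) (.leaf false)) (.node (.leaf false) (.leaf true))) (.node (.node (.leaf false) (.leaf false)) (.node (.leaf false) (.leaf false)))) (.node (.node (.node (.node (.leaf false) (.leaf false)) (.leaf false)) (.node (.leaf false) (.leaf false))) (.node (.node (.leaf false) (.leaf false)) (.node (.leaf false) (.leaf true)))))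

def bit159 : Janko.Tree (Bool) :=
  (.node (.node (.node (.node (.node (.leaf false) (.leaf true)) (.leaf false)) (.node (.leaf false) (.leaf false))) (.node (.node (.leaf false) (.leaf false)) (.node (.leaf false) (.leaf false)))) (.node (.node (.node (.node (.leaf false) (.leaf true)) (.leaf false)) (.node (.leaf false) (.leaf false))) (.node (.node (.leaf false) (.leaf false)) (.node (.leaf false) (.leaf false)))))

def bit160 : Janko.Tree (Bool) :=
  (.node (.node (.node (.node (.node (.leaf false) (.leaf true)) (.leaf true)) (.node (.leaf true) (.leaf false))) (.node (.node (.leaf false) (.leaf false)) (.node (.leaf false) (.leaf false)))) (.node (.node (.node (.node (.leaf false) (.leaf false)) (.leaf false)) (.node (.leaf false) (.leaf false))) (.node (.node (.leaf false) (.leaf false)) (.node (.leaf false) (.leaf false)))))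

def bit161 : Janko.Tree (Bool) :=
  (.node (.node (.node (.node (.node (.leaf false) (.leaf true)) (.leaf false)) (.node (.leaf true) (.leaf false))) (.node (.node (.leaf false) (.leaf true)) (.node (.leaf false) (.leaf false)))) (.node (.node (.node (.node (.leaf false) (.leaf false)) (.leaf false)) (.node (.leaf false) (.leaf true))) (.node (.node (.leaf false) (.leaf true)) (.node (.leaf true) (.leaf false)))))

def bit162 : Janko.Tree (Bool) :=
  (.node (.node (.node (.node (.node (.leaf false) (.leaf false)) (.leaf false)) (.node (.leaf false) (.leaf false))) (.node (.node (.leaf false) (.leaf false)) (.node (.leaf false) (.leaf false)))) (.node (.node (.node (.node (.leaf false) (.leaf true)) (.leaf false)) (.node (.leaf false) (.leaf false))) (.node (.node (.leaf false) (.leaf true)) (.node (.leaf false) (.leaf false)))))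

def bit163 : Janko.Tree (Bool) :=
  (.node (.node (.node (.node (.node (.leaf false) (.leaf true)) (.leaf true)) (.node (.leaf false) (.leaf false))) (.node (.node (.leaf false) (.leaf false)) (.node (.leaf false) (.leaf true)))) (.node (.node (.node (.node (.leaf false) (.leaf true)) (.leaf false)) (.node (.leaf true) (.leaf true))) (.node (.node (.leaf false) (.leaf false)) (.node (.leaf false) (.leaf false)))))

def bit164 : Janko.Tree (Bool) :=
  (.node (.node (.node (.node (.node (.leaf false) (.leaf false)) (.leaf false)) (.node (.leaf false) (.leaf false))) (.node (.node (.leaf false) (.leaf false)) (.node (.leaf false) (.leaf false)))) (.node (.node (.node (.node (.leaf false) (.leaf true)) (.leaf true)) (.node (.leaf false) (.leaf false))) (.node (.node (.leaf false) (.leaf false)) (.node (.leaf false) (.leaf false)))))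

def bit165 : Janko.Tree (Bool) :=
  (.node (.node (.node (.node (.node (.leaf false) (.leaf false)) (.leaf false)) (.node (.leaf false) (.leaf false))) (.node (.node (.leaf false) (.leaf false)) (.node (.leaf false) (.leaf false)))) (.node (.node (.node (.node (.leaf false) (.leaf true)) (.leaf false)) (.node (.leaf false) (.leaf false))) (.node (.node (.leaf false) (.leaf false)) (.node (.leaf false) (.leaf false)))))

def bit166 : Janko.Tree (Bool) :=
  (.node (.node (.node (.node (.node (.leaf false) (.leaf false)) (.leaf false)) (.node (.leaf true) (.leaf true))) (.node (.node (.leaf false) (.leaf false)) (.node (.leaf false) (.leaf false)))) (.node (.node (.node (.node (.leaf false) (.leaf false)) (.leaf true)) (.node (.leaf false) (.leaf false))) (.node (.node (.leaf false) (.leaf false)) (.node (.leaf false) (.leaf true)))))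

def bit167 : Janko.Tree (Bool) :=
  (.node (.node (.node (.node (.node (.leaf false) (.leaf false)) (.leaf false)) (.node (.leaf false) (.leaf false))) (.node (.node (.leaf false) (.leaf true)) (.node (.leaf false) (.leaf false)))) (.node (.node (.node (.node (.leaf false) (.leaf true)) (.leaf false)) (.node (.leaf false) (.leaf true))) (.node (.node (.leaf false) (.leaf false)) (.node (.leaf false) (.leaf false)))))

def bit168 : Janko.Tree (Bool) :=
  (.node (.node (.node (.node (.node (.leaf false) (.leaf false)) (.leaf false)) (.node (.leaf true) (.leaf true))) (.node (.node (.leaf false) (.leaf false)) (.node (.leaf false) (.leaf false)))) (.node (.node (.node (.node (.leaf false) (.leaf false)) (.leaf true)) (.node (.leaf true) (.leaf false))) (.node (.node (.leaf false) (.leaf false)) (.node (.leaf false) (.leaf false)))))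

def bit169 : Janko.Tree (Bool) :=
  (.node (.node (.node (.node (.node (.leaf false) (.leaf false)) (.leaf false)) (.node (.leaf true) (.leaf false))) (.node (.node (.leaf false) (.leaf false)) (.node (.leaf false) (.leaf true)))) (.node (.node (.node (.node (.leaf false) (.leaf true)) (.leaf false)) (.node (.leaf false) (.leaf false))) (.node (.node (.leaf false) (.leaf false)) (.node (.leaf false) (.leaf false)))))

def bit170 : Janko.Tree (Bool) :=
  (.node (.node (.node (.node (.node (.leaf false) (.leaf true)) (.leaf false)) (.node (.leaf false) (.leaf true))) (.node (.node (.leaf false) (.leaf false)) (.node (.leaf false) (.leaf false)))) (.node (.node (.node (.node (.leaf false) (.leaf false)) (.leaf false)) (.node (.leaf false) (.leaf true))) (.node (.node (.leaf false) (.leaf false)) (.node (.leaf false) (.leaf false)))))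

def bit171 : Janko.Tree (Bool) :=
  (.node (.node (.node (.node (.node (.leaf false) (.leaf false)) (.leaf true)) (.node (.leaf false) (.leaf false))) (.node (.node (.leaf false) (.leaf true)) (.node (.leaf false) (.leaf false)))) (.node (.node (.node (.node (.leaf false) (.leaf true)) (.leaf false)) (.node (.leaf false) (.leaf true))) (.node (.node (.leaf false) (.leaf false)) (.node (.leaf true) (.leaf false)))))

def bit172 : Janko.Tree (Bool) :=
  (.node (.node (.node (.node (.node (.leaf false) (.leaf false)) (.leaf false)) (.node (.leaf false) (.leaf false))) (.node (.node (.leaf false) (.leaf false)) (.node (.leaf false) (.leaf true)))) (.node (.node (.node (.node (.leaf false) (.leaf true)) (.leaf false)) (.node (.leaf false) (.leaf false))) (.node (.node (.leaf false) (.leaf false)) (.node (.leaf false) (.leaf true)))))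

def bit173 : Janko.Tree (Bool) :=
  (.node (.node (.node (.node (.node (.leaf false) (.leaf true)) (.leaf false)) (.node (.leaf false) (.leaf true))) (.node (.node (.leaf false) (.leaf false)) (.node (.leaf false) (.leaf false)))) (.node (.node (.node (.node (.leaf false) (.leaf false)) (.leaf false)) (.node (.leaf false) (.leaf false))) (.node (.node (.leaf false) (.leaf false)) (.node (.leaf false) (.leaf false)))))

def bit174 : Janko.Tree (Bool) :=
  (.node (.node (.node (.node (.node (.leaf false) (.leaf false)) (.leaf false)) (.node (.leaf false) (.leaf true))) (.node (.node (.leaf false) (.leaf false)) (.node (.leaf false) (.leaf false)))) (.node (.node (.node (.node (.leaf false) (.leaf false)) (.leaf false)) (.node (.leaf false) (.leaf false))) (.node (.node (.leaf false) (.leaf false)) (.node (.leaf false) (.leaf false)))))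

def bit175 : Janko.Tree (Bool) :=
  (.node (.node (.node (.node (.node (.leaf false) (.leaf false)) (.leaf false)) (.node (.leaf false) (.leaf false))) (.node (.node (.leaf false) (.leaf false)) (.node (.leaf false) (.leaf false)))) (.node (.node (.node (.node (.leaf false) (.leaf false)) (.leaf false)) (.node (.leaf false) (.leaf true))) (.node (.node (.leaf false) (.leaf false)) (.node (.leaf false) (.leaf true)))))

def bit176 : Janko.Tree (Bool) :=
  (.node (.node (.node (.node (.node (.leaf false) (.leaf false)) (.leaf false)) (.node (.leaf false) (.leaf false))) (.node (.node (.leaf false) (.leaf false)) (.node (.leaf false) (.leaf false)))) (.node (.node (.node (.node (.leaf false) (.leaf true)) (.leaf false)) (.node (.leaf false) (.leaf true))) (.node (.node (.leaf false) (.leaf false)) (.node (.leaf false) (.leaf false)))))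

def bit177 : Janko.Tree (Bool) :=
  (.node (.node (.node (.node (.node (.leaf false) (.leaf true)) (.leaf false)) (.node (.leaf false) (.leaf true))) (.node (.node (.leaf false) (.leaf false)) (.node (.leaf false) (.leaf true)))) (.node (.node (.node (.node (.leaf false) (.leaf true)) (.leaf false)) (.node (.leaf false) (.leaf true))) (.node (.node (.leaf false) (.leaf true)) (.node (.leaf false) (.leaf false)))))

def bit178 : Janko.Tree (Bool) :=
  (.node (.node (.node (.node (.node (.leaf false) (.leaf false)) (.leaf true)) (.node (.leaf false) (.leaf true))) (.node (.node (.leaf false) (.leaf false)) (.node (.leaf false) (.leaf false)))) (.node (.node (.node (.node (.leaf false) (.leaf false)) (.leaf true)) (.node (.leaf false) (.leaf false))) (.node (.node (.leaf false) (.leaf false)) (.node (.leaf false) (.leaf false)))))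

def bit179 : Janko.Tree (Bool) :=
  (.node (.node (.node (.node (.node (.leaf false) (.leaf false)) (.leaf false)) (.node (.leaf false) (.leaf false))) (.node (.node (.leaf false) (.leaf true)) (.node (.leaf false) (.leaf true)))) (.node (.node (.node (.node (.leaf false) (.leaf false)) (.leaf false)) (.node (.leaf false) (.leaf true))) (.node (.node (.leaf false) (.leaf false)) (.node (.leaf false) (.leaf true)))))

def bit180 : Janko.Tree (Bool) :=
  (.node (.node (.node (.node (.node (.leaf false) (.leaf false)) (.leaf true)) (.node (.leaf false) (.leaf false))) (.node (.node (.leaf false) (.leaf false)) (.node (.leaf true) (.leaf true)))) (.node (.node (.node (.node (.leaf false) (.leaf true)) (.leaf false)) (.node (.leaf false) (.leaf false))) (.node (.node (.leaf false) (.leaf false)) (.node (.leaf false) (.leaf false)))))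

def bit181 : Janko.Tree (Bool) :=
  (.node (.node (.node (.node (.node (.leaf false) (.leaf false)) (.leaf false)) (.node (.leaf false) (.leaf false))) (.node (.node (.leaf false) (.leaf false)) (.node (.leaf false) (.leaf true)))) (.node (.node (.node (.node (.leaf false) (.leaf false)) (.leaf false)) (.node (.leaf false) (.leaf true))) (.node (.node (.leaf false) (.leaf false)) (.node (.leaf false) (.leaf false)))))

def bit182 : Janko.Tree (Bool) :=
  (.node (.node (.node (.node (.node (.leaf false) (.leaf false)) (.leaf false)) (.node (.leaf false) (.leaf false))) (.node (.node (.leaf false) (.leaf false)) (.node (.leaf false) (.leaf false)))) (.node (.node (.node (.node (.leaf false) (.leaf true)) (.leaf false)) (.node (.leaf false) (.leaf true))) (.node (.node (.leaf false) (.leaf false)) (.node (.leaf false) (.leaf false)))))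

def bit183 : Janko.Tree (Bool) :=
  (.node (.node (.node (.node (.node (.leaf false) (.leaf true)) (.leaf false)) (.node (.leaf false) (.leaf true))) (.node (.node (.leaf false) (.leaf false)) (.node (.leaf false) (.leaf false)))) (.node (.node (.node (.node (.leaf false) (.leaf false)) (.leaf false)) (.node (.leaf false) (.leaf true))) (.node (.node (.leaf false) (.leaf false)) (.node (.leaf false) (.leaf false)))))

def bit184 : Janko.Tree (Bool) :=
  (.node (.node (.node (.node (.node (.leaf false) (.leaf true)) (.leaf true)) (.node (.leaf true) (.leaf false))) (.node (.node (.leaf false) (.leaf true)) (.node (.leaf false) (.leaf false)))) (.node (.node (.node (.node (.leaf false) (.leaf true)) (.leaf false)) (.node (.leaf false) (.leaf false))) (.node (.node (.leaf false) (.leaf false)) (.node (.leaf false) (.leaf false)))))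

def bit185 : Janko.Tree (Bool) :=
  (.node (.node (.node (.node (.node (.leaf false) (.leaf false)) (.leaf false)) (.node (.leaf false) (.leaf false))) (.node (.node (.leaf false) (.leaf false)) (.node (.leaf false) (.leaf true)))) (.node (.node (.node (.node (.leaf false) (.leaf true)) (.leaf false)) (.node (.leaf false) (.leaf false))) (.node (.node (.leaf false) (.leaf false)) (.node (.leaf false) (.leaf true)))))

def bit186 : Janko.Tree (Bool) :=
  (.node (.node (.node (.node (.node (.leaf false) (.leaf true)) (.leaf true)) (.node (.leaf false) (.leaf true))) (.node (.node (.leaf false) (.leaf false)) (.node (.leaf false) (.leaf false)))) (.node (.node (.node (.node (.leaf false) (.leaf false)) (.leaf false)) (.node (.leaf false) (.leaf false))) (.node (.node (.leaf false) (.leaf false)) (.node (.leaf true) (.leaf true)))))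

def bit187 : Janko.Tree (Bool) :=
  (.node (.node (.node (.node (.node (.leaf false) (.leaf false)) (.leaf false)) (.node (.leaf false) (.leaf false))) (.node (.node (.leaf false) (.leaf false)) (.node (.leaf false) (.leaf false)))) (.node (.node (.node (.node (.leaf false) (.leaf true)) (.leaf false)) (.node (.leaf false) (.leaf false))) (.node (.node (.leaf false) (.leaf false)) (.node (.leaf false) (.leaf false)))))

def bit188 : Janko.Tree (Bool) :=
  (.node (.node (.node (.node (.node (.leaf false) (.leaf true)) (.leaf false)) (.node (.leaf false) (.leaf false))) (.node (.node (.leaf false) (.leaf false)) (.node (.leaf false) (.leaf false)))) (.node (.node (.node (.node (.leaf false) (.leaf true)) (.leaf false)) (.node (.leaf false) (.leaf false))) (.node (.node (.leaf false) (.leaf false)) (.node (.leaf false) (.leaf false)))))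

def bit189 : Janko.Tree (Bool) :=
  (.node (.node (.node (.node (.node (.leaf false) (.leaf false)) (.leaf false)) (.node (.leaf false) (.leaf false))) (.node (.node (.leaf false) (.leaf false)) (.node (.leaf false) (.leaf true)))) (.node (.node (.node (.node (.leaf false) (.leaf true)) (.leaf false)) (.node (.leaf false) (.leaf false))) (.node (.node (.leaf false) (.leaf false)) (.node (.leaf false) (.leaf false)))))

def bit190 : Janko.Tree (Bool) :=
  (.node (.node (.node (.node (.node (.leaf false) (.leaf false)) (.leaf false)) (.node (.leaf false) (.leaf false))) (.node (.node (.leaf false) (.leaf false)) (.node (.leaf true) (.leaf false)))) (.node (.node (.node (.node (.leaf false) (.leaf true)) (.leaf false)) (.node (.leaf false) (.leaf false))) (.node (.node (.leaf false) (.leaf false)) (.node (.leaf true) (.leaf false)))))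

def bit191 : Janko.Tree (Bool) :=
  (.node (.node (.node (.node (.node (.leaf false) (.leaf false)) (.leaf false)) (.node (.leaf true) (.leaf false))) (.node (.node (.leaf false) (.leaf false)) (.node (.leaf false) (.leaf false)))) (.node (.node (.node (.node (.leaf false) (.leaf false)) (.leaf false)) (.node (.leaf false) (.leaf false))) (.node (.node (.leaf false) (.leaf false)) (.node (.leaf false) (.leaf true)))))

def bit192 : Janko.Tree (Bool) :=
  (.node (.node (.node (.node (.node (.leaf false) (.leaf false)) (.leaf false)) (.node (.leaf true) (.leaf false))) (.node (.node (.leaf false) (.leaf false)) (.node (.leaf true) (.leaf true)))) (.node (.node (.node (.node (.leaf false) (.leaf true)) (.leaf false)) (.node (.leaf false) (.leaf true))) (.node (.node (.leaf false) (.leaf true)) (.node (.leaf false) (.leaf true)))))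

def bit193 : Janko.Tree (Bool) :=
  (.node (.node (.node (.node (.node (.leaf false) (.leaf false)) (.leaf false)) (.node (.leaf false) (.leaf false))) (.node (.node (.leaf false) (.leaf true)) (.node (.leaf false) (.leaf false)))) (.node (.node (.node (.node (.leaf false) (.leaf true)) (.leaf false)) (.node (.leaf false) (.leaf false))) (.node (.node (.leaf false) (.leaf false)) (.node (.leaf false) (.leaf false)))))

def bit194 : Janko.Tree (Bool) :=
  (.node (.node (.node (.node (.node (.leaf false) (.leaf false)) (.leaf false)) (.node (.leaf false) (.leaf false))) (.node (.node (.leaf false) (.leaf true)) (.node (.leaf false) (.leaf false)))) (.node (.node (.node (.node (.leaf true) (.leaf false)) (.leaf true)) (.node (.leaf false) (.leaf false))) (.node (.node (.leaf false) (.leaf false)) (.node (.leaf false) (.leaf true)))))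

def bit195 : Janko.Tree (Bool) :=
  (.node (.node (.node (.node (.node (.leaf false) (.leaf true)) (.leaf false)) (.node (.leaf true) (.leaf false))) (.node (.node (.leaf false) (.leaf false)) (.node (.leaf false) (.leaf false)))) (.node (.node (.node (.node (.leaf false) (.leaf false)) (.leaf false)) (.node (.leaf false) (.leaf false))) (.node (.node (.leaf false) (.leaf true)) (.node (.leaf true) (.leaf false)))))

def bit196 : Janko.Tree (Bool) :=
  (.node (.node (.node (.node (.node (.leaf false) (.leaf false)) (.leaf true)) (.node (.leaf false) (.leaf false))) (.node (.node (.leaf false) (.leaf false)) (.node (.leaf false) (.leaf false)))) (.node (.node (.node (.node (.leaf false) (.leaf true)) (.leaf true)) (.node (.leaf false) (.leaf true))) (.node (.node (.leaf false) (.leaf false)) (.node (.leaf false) (.leaf true)))))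

def bit197 : Janko.Tree (Bool) :=
  (.node (.node (.node (.node (.node (.leaf false) (.leaf false)) (.leaf false)) (.node (.leaf false) (.leaf false))) (.node (.node (.leaf false) (.leaf false)) (.node (.leaf false) (.leaf false)))) (.node (.node (.node (.node (.leaf false) (.leaf false)) (.leaf false)) (.node (.leaf false) (.leaf false))) (.node (.node (.leaf false) (.leaf false)) (.node (.leaf false) (.leaf false)))))

def bit198 : Janko.Tree (Bool) :=
  (.node (.node (.node (.node (.node (.leaf false) (.leaf false)) (.leaf false)) (.node (.leaf true) (.leaf true))) (.node (.node (.leaf false) (.leaf false)) (.node (.leaf false) (.leaf false)))) (.node (.node (.node (.node (.leaf false) (.leaf false)) (.leaf false)) (.node (.leaf false) (.leaf true))) (.node (.node (.leaf false) (.leaf false)) (.node (.leaf false) (.leaf true)))))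

def bit199 : Janko.Tree (Bool) :=
  (.node (.node (.node (.node (.node (.leaf false) (.leaf false)) (.leaf false)) (.node (.leaf false) (.leaf true))) (.node (.node (.leaf false) (.leaf true)) (.node (.leaf false) (.leaf true)))) (.node (.node (.node (.node (.leaf false) (.leaf false)) (.leaf true)) (.node (.leaf false) (.leaf false))) (.node (.node (.leaf false) (.leaf false)) (.node (.leaf true) (.leaf false)))))

def bit1100 : Janko.Tree (Bool) :=
  (.node (.node (.node (.node (.node (.leaf false) (.leaf true)) (.leaf false)) (.node (.leaf false) (.leaf false))) (.node (.node (.leaf false) (.leaf false)) (.node (.leaf false) (.leaf true)))) (.node (.node (.node (.node (.leaf false) (.leaf false)) (.leaf false)) (.node (.leaf false) (.leaf false))) (.node (.node (.leaf false) (.leaf false)) (.node (.leaf false) (.leaf false)))))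

def bit1101 : Janko.Tree (Bool) :=
  (.node (.node (.node (.node (.node (.leaf false) (.leaf false)) (.leaf false)) (.node (.leaf true) (.leaf false))) (.node (.node (.leaf false) (.leaf true)) (.node (.leaf false) (.leaf false)))) (.node (.node (.node (.node (.leaf false) (.leaf true)) (.leaf false)) (.node (.leaf false) (.leaf false))) (.node (.node (.leaf false) (.leaf false)) (.node (.leaf false) (.leaf true)))))

def bit1102 : Janko.Tree (Bool) :=
  (.node (.node (.node (.node (.node (.leaf false) (.leaf false)) (.leaf false)) (.node (.leaf false) (.leaf false))) (.node (.node (.leaf false) (.leaf false)) (.node (.leaf false) (.leaf false)))) (.node (.node (.node (.node (.leaf false) (.leaf false)) (.leaf false)) (.node (.leaf false) (.leaf false))) (.node (.node (.leaf false) (.leaf false)) (.node (.leaf false) (.leaf false)))))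

def bit1103 : Janko.Tree (Bool) :=
  (.node (.node (.node (.node (.node (.leaf false) (.leaf false)) (.leaf false)) (.node (.leaf false) (.leaf false))) (.node (.node (.leaf false) (.leaf false)) (.node (.leaf false) (.leaf false)))) (.node (.node (.node (.node (.leaf false) (.leaf false)) (.leaf false)) (.node (.leaf false) (.leaf false))) (.node (.node (.leaf false) (.leaf false)) (.node (.leaf false) (.leaf false)))))

def bit1104 : Janko.Tree (Bool) :=
  (.node (.node (.node (.node (.node (.leaf false) (.leaf true)) (.leaf true)) (.node (.leaf false) (.leaf false))) (.node (.node (.leaf false) (.leaf false)) (.node (.leaf false) (.leaf true)))) (.node (.node (.node (.node (.leaf false) (.leaf true)) (.leaf false)) (.node (.leaf false) (.leaf false))) (.node (.node (.leaf false) (.leaf false)) (.node (.leaf false) (.leaf false)))))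

def bit1105 : Janko.Tree (Bool) :=
  (.node (.node (.node (.node (.node (.leaf false) (.leaf true)) (.leaf false)) (.node (.leaf false) (.leaf false))) (.node (.node (.leaf false) (.leaf false)) (.node (.leaf true) (.leaf true)))) (.node (.node (.node (.node (.leaf false) (.leaf true)) (.leaf false)) (.node (.leaf false) (.leaf false))) (.node (.node (.leaf true) (.leaf true)) (.node (.leaf false) (.leaf false)))))

def bit1106 : Janko.Tree (Bool) :=
  (.node (.node (.node (.node (.node (.leaf false) (.leaf false)) (.leaf false)) (.node (.leaf false) (.leaf true))) (.node (.node (.leaf false) (.leaf true)) (.node (.leaf true) (.leaf false)))) (.node (.node (.node (.node (.leaf false) (.leaf false)) (.leaf false)) (.node (.leaf false) (.leaf true))) (.node (.node (.leaf false) (.leaf false)) (.node (.leaf false) (.leaf true)))))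

def bit1107 : Janko.Tree (Bool) :=
  (.node (.node (.node (.node (.node (.leaf true) (.leaf false)) (.leaf false)) (.node (.leaf false) (.leaf false))) (.node (.node (.leaf false) (.leaf false)) (.node (.leaf false) (.leaf true)))) (.node (.node (.node (.node (.leaf false) (.leaf true)) (.leaf false)) (.node (.leaf false) (.leaf false))) (.node (.node (.leaf false) (.leaf true)) (.node (.leaf false) (.leaf true)))))

def bit1108 : Janko.Tree (Bool) :=
  (.node (.node (.node (.node (.node (.leaf false) (.leaf false)) (.leaf false)) (.node (.leaf false) (.leaf false))) (.node (.node (.leaf true) (.leaf false)) (.node (.leaf false) (.leaf false)))) (.node (.node (.node (.node (.leaf false) (.leaf false)) (.leaf false)) (.node (.leaf false) (.leaf false))) (.node (.node (.leaf false) (.leaf false)) (.node (.leaf false) (.leaf false)))))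

def bit1109 : Janko.Tree (Bool) :=
  (.node (.node (.node (.node (.node (.leaf false) (.leaf true)) (.leaf false)) (.node (.leaf false) (.leaf false))) (.node (.node (.leaf false) (.leaf true)) (.node (.leaf false) (.leaf false)))) (.node (.node (.node (.node (.leaf false) (.leaf true)) (.leaf false)) (.node (.leaf false) (.leaf true))) (.node (.node (.leaf false) (.leaf false)) (.node (.leaf true) (.leaf true)))))

def bit1110 : Janko.Tree (Bool) :=
  (.node (.node (.node (.node (.node (.leaf false) (.leaf false)) (.leaf false)) (.node (.leaf false) (.leaf true))) (.node (.node (.leaf false) (.leaf true)) (.node (.leaf false) (.leaf false)))) (.node (.node (.node (.node (.leaf false) (.leaf true)) (.leaf false)) (.node (.leaf false) (.leaf false))) (.node (.node (.leaf false) (.leaf false)) (.node (.leaf false) (.leaf true)))))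

def bit1111 : Janko.Tree (Bool) :=
  (.node (.node (.node (.node (.node (.leaf false) (.leaf false)) (.leaf false)) (.node (.leaf false) (.leaf true))) (.node (.node (.leaf false) (.leaf true)) (.node (.leaf false) (.leaf false)))) (.node (.node (.node (.node (.leaf false) (.leaf false)) (.leaf false)) (.node (.leaf true) (.leaf true))) (.node (.node (.leaf false) (.leaf false)) (.node (.leaf false) (.leaf true)))))

def bit1112 : Janko.Tree (Bool) :=
  (.node (.node (.node (.node (.node (.leaf false) (.leaf false)) (.leaf false)) (.node (.leaf false) (.leaf false))) (.node (.node (.leaf false) (.leaf true)) (.node (.leaf true) (.leaf false)))) (.node (.node (.node (.node (.leaf false) (.leaf true)) (.leaf false)) (.node (.leaf false) (.leaf true))) (.node (.node (.leaf false) (.leaf false)) (.node (.leaf false) (.leaf false)))))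

def bit1113 : Janko.Tree (Bool) :=
  (.node (.node (.node (.node (.node (.leaf false) (.leaf true)) (.leaf false)) (.node (.leaf false) (.leaf true))) (.node (.node (.leaf false) (.leaf false)) (.node (.leaf false) (.leaf false)))) (.node (.node (.node (.node (.leaf true) (.leaf false)) (.leaf false)) (.node (.leaf false) (.leaf false))) (.node (.node (.leaf false) (.leaf true)) (.node (.leaf true) (.leaf true)))))

def bit1114 : Janko.Tree (Bool) :=
  (.node (.node (.node (.node (.node (.leaf false) (.leaf false)) (.leaf false)) (.node (.leaf false) (.leaf true))) (.node (.node (.leaf false) (.leaf false)) (.node (.leaf false) (.leaf false)))) (.node (.node (.node (.node (.leaf false) (.leaf false)) (.leaf false)) (.node (.leaf false) (.leaf false))) (.node (.node (.leaf false) (.leaf false)) (.node (.leaf true) (.leaf false)))))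

def bit1115 : Janko.Tree (Bool) :=
  (.node (.node (.node (.node (.node (.leaf false) (.leaf false)) (.leaf false)) (.node (.leaf false) (.leaf false))) (.node (.node (.leaf false) (.leaf false)) (.node (.leaf false) (.leaf false)))) (.node (.node (.node (.node (.leaf false) (.leaf true)) (.leaf false)) (.node (.leaf false) (.leaf true))) (.node (.node (.leaf false) (.leaf false)) (.node (.leaf false) (.leaf true)))))

def bit1116 : Janko.Tree (Bool) :=
  (.node (.node (.node (.node (.node (.leaf false) (.leaf false)) (.leaf true)) (.node (.leaf false) (.leaf true))) (.node (.node (.leaf false) (.leaf true)) (.node (.leaf false) (.leaf false)))) (.node (.node (.node (.node (.leaf false) (.leaf true)) (.leaf false)) (.node (.leaf false) (.leaf true))) (.node (.node (.leaf true) (.leaf false)) (.node (.leaf false) (.leaf false)))))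

def bit1117 : Janko.Tree (Bool) :=
  (.node (.node (.node (.node (.node (.leaf false) (.leaf true)) (.leaf false)) (.node (.leaf false) (.leaf false))) (.node (.node (.leaf false) (.leaf false)) (.node (.leaf false) (.leaf false)))) (.node (.node (.node (.node (.leaf false) (.leaf false)) (.leaf false)) (.node (.leaf false) (.leaf false))) (.node (.node (.leaf false) (.leaf false)) (.node (.leaf true) (.leaf true)))))

def bit1118 : Janko.Tree (Bool) :=
  (.node (.node (.node (.node (.node (.leaf false) (.leaf false)) (.leaf false)) (.node (.leaf false) (.leaf false))) (.node (.node (.leaf false) (.leaf false)) (.node (.leaf false) (.leaf true)))) (.node (.node (.node (.node (.leaf false) (.leaf true)) (.leaf false)) (.node (.leaf false) (.leaf false))) (.node (.node (.leaf false) (.leaf false)) (.node (.leaf false) (.leaf true)))))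

def bit1119 : Janko.Tree (Bool) :=
  (.node (.node (.node (.node (.node (.leaf false) (.leaf false)) (.leaf false)) (.node (.leaf false) (.leaf true))) (.node (.node (.leaf false) (.leaf false)) (.node (.leaf false) (.leaf false)))) (.node (.node (.node (.node (.leaf false) (.leaf false)) (.leaf false)) (.node (.leaf false) (.leaf false))) (.node (.node (.leaf false) (.leaf false)) (.node (.leaf false) (.leaf true)))))

def bit1120 : Janko.Tree (Bool) :=
  (.node (.node (.node (.node (.node (.leaf false) (.leaf false)) (.leaf true)) (.node (.leaf false) (.leaf false))) (.node (.node (.leaf false) (.leaf false)) (.node (.leaf false) (.leaf false)))) (.node (.node (.node (.node (.leaf false) (.leaf false)) (.leaf false)) (.node (.leaf false) (.leaf false))) (.node (.node (.leaf false) (.leaf false)) (.node (.leaf false) (.leaf true)))))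

def bit1121 : Janko.Tree (Bool) :=
  (.node (.node (.node (.node (.node (.leaf false) (.leaf false)) (.leaf false)) (.node (.leaf false) (.leaf false))) (.node (.node (.leaf false) (.leaf false)) (.node (.leaf false) (.leaf false)))) (.node (.node (.node (.node (.leaf false) (.leaf true)) (.leaf false)) (.node (.leaf false) (.leaf true))) (.node (.node (.leaf false) (.leaf false)) (.node (.leaf false) (.leaf false)))))

def bit1122 : Janko.Tree (Bool) :=
  (.node (.node (.node (.node (.node (.leaf false) (.leaf false)) (.leaf false)) (.node (.leaf true) (.leaf false))) (.node (.node (.leaf false) (.leaf false)) (.node (.leaf false) (.leaf true)))) (.node (.node (.node (.node (.leaf false) (.leaf false)) (.leaf false)) (.node (.leaf false) (.leaf false))) (.node (.node (.leaf false) (.leaf false)) (.node (.leaf false) (.leaf false)))))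

def bit1123 : Janko.Tree (Bool) :=
  (.node (.node (.node (.node (.node (.leaf false) (.leaf true)) (.leaf false)) (.node (.leaf false) (.leaf true))) (.node (.node (.leaf false) (.leaf false)) (.node (.leaf false) (.leaf false)))) (.node (.node (.node (.node (.leaf false) (.leaf true)) (.leaf false)) (.node (.leaf false) (.leaf false))) (.node (.node (.leaf false) (.leaf false)) (.node (.leaf false) (.leaf false)))))

def bit1124 : Janko.Tree (Bool) :=
  (.node (.node (.node (.node (.node (.leaf false) (.leaf true)) (.leaf true)) (.node (.leaf false) (.leaf false))) (.node (.node (.leaf false) (.leaf false)) (.node (.leaf false) (.leaf false)))) (.node (.node (.node (.node (.leaf false) (.leaf false)) (.leaf true)) (.node (.leaf false) (.leaf true))) (.node (.node (.leaf false) (.leaf false)) (.node (.leaf false) (.leaf false)))))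

def bit1125 : Janko.Tree (Bool) :=
  (.node (.node (.node (.node (.node (.leaf false) (.leaf false)) (.leaf false)) (.node (.leaf false) (.leaf false))) (.node (.node (.leaf false) (.leaf false)) (.node (.leaf false) (.leaf false)))) (.node (.node (.node (.node (.leaf false) (.leaf false)) (.leaf false)) (.node (.leaf true) (.leaf false))) (.node (.node (.leaf false) (.leaf false)) (.node (.leaf false) (.leaf false)))))

def bit1126 : Janko.Tree (Bool) :=
  (.node (.node (.node (.node (.node (.leaf false) (.leaf false)) (.leaf false)) (.node (.leaf true) (.leaf false))) (.node (.node (.leaf false) (.leaf false)) (.node (.leaf false) (.leaf true)))) (.node (.node (.node (.node (.leaf false) (.leaf false)) (.leaf false)) (.node (.leaf false) (.leaf false))) (.node (.node (.leaf false) (.leaf false)) (.node (.leaf false) (.leaf true)))))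

def bit1127 : Janko.Tree (Bool) :=
  (.node (.node (.node (.node (.node (.leaf false) (.leaf false)) (.leaf false)) (.node (.leaf false) (.leaf false))) (.node (.node (.leaf false) (.leaf true)) (.node (.leaf false) (.leaf false)))) (.node (.node (.node (.node (.leaf true) (.leaf false)) (.leaf true)) (.node (.leaf false) (.leaf false))) (.node (.node (.leaf false) (.leaf false)) (.node (.leaf false) (.leaf false)))))

def bit1128 : Janko.Tree (Bool) :=
  (.node (.node (.node (.node (.node (.leaf false) (.leaf true)) (.leaf false)) (.node (.leaf false) (.leaf true))) (.node (.node (.leaf false) (.leaf false)) (.node (.leaf false) (.leaf true)))) (.node (.node (.node (.leaf false) (.leaf false)) (.node (.leaf false) (.leaf false))) (.node (.node (.leaf false) (.leaf true)) (.node (.leaf true) (.leaf true)))))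

def bit1129 : Janko.Tree (Bool) :=
  (.node (.node (.node (.node (.node (.leaf false) (.leaf false)) (.leaf false)) (.node (.leaf false) (.leaf false))) (.node (.node (.leaf false) (.leaf false)) (.node (.leaf false) (.leaf true)))) (.node (.node (.node (.leaf false) (.leaf false)) (.node (.leaf false) (.leaf false))) (.node (.node (.leaf false) (.leaf false)) (.node (.leaf false) (.leaf false)))))

def bit1130 : Janko.Tree (Bool) :=
  (.node (.node (.node (.node (.node (.leaf false) (.leaf false)) (.leaf false)) (.node (.leaf false) (.leaf true))) (.node (.node (.leaf false) (.leaf true)) (.node (.leaf false) (.leaf true)))) (.node (.node (.node (.leaf false) (.leaf false)) (.node (.leaf false) (.leaf false))) (.node (.node (.leaf false) (.leaf false)) (.node (.leaf false) (.leaf false)))))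

def bit1131 : Janko.Tree (Bool) :=
  (.node (.node (.node (.node (.node (.leaf false) (.leaf false)) (.leaf false)) (.node (.leaf false) (.leaf false))) (.node (.node (.leaf false) (.leaf true)) (.node (.leaf false) (.leaf true)))) (.node (.node (.node (.leaf false) (.leaf false)) (.node (.leaf false) (.leaf false))) (.node (.node (.leaf false) (.leaf false)) (.node (.leaf false) (.leaf false)))))

def bit1132 : Janko.Tree (Bool) :=
  (.node (.node (.node (.node (.node (.leaf false) (.leaf false)) (.leaf false)) (.node (.leaf false) (.leaf true))) (.node (.node (.leaf false) (.leaf false)) (.node (.leaf false) (.leaf true)))) (.node (.node (.node (.leaf false) (.leaf false)) (.node (.leaf false) (.leaf false))) (.node (.node (.leaf false) (.leaf false)) (.node (.leaf false) (.leaf true)))))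

def bit1133 : Janko.Tree (Bool) :=
  (.node (.node (.node (.node (.node (.leaf false) (.leaf false)) (.leaf false)) (.node (.leaf false) (.leaf true))) (.node (.node (.leaf true) (.leaf false)) (.node (.leaf false) (.leaf true)))) (.node (.node (.node (.leaf false) (.leaf false)) (.node (.leaf false) (.leaf false))) (.node (.node (.leaf false) (.leaf false)) (.node (.leaf true) (.leaf true)))))

def bit1134 : Janko.Tree (Bool) :=
  (.node (.node (.node (.node (.node (.leaf false) (.leaf true)) (.leaf false)) (.node (.leaf false) (.leaf true))) (.node (.node (.leaf false) (.leaf true)) (.node (.leaf false) (.leaf false)))) (.node (.node (.node (.leaf false) (.leaf false)) (.node (.leaf false) (.leaf false))) (.node (.node (.leaf true) (.leaf true)) (.node (.leaf false) (.leaf false)))))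

def bit1135 : Janko.Tree (Bool) :=
  (.node (.node (.node (.node (.node (.leaf false) (.leaf false)) (.leaf false)) (.node (.leaf false) (.leaf false))) (.node (.node (.leaf false) (.leaf false)) (.node (.leaf false) (.leaf true)))) (.node (.node (.node (.leaf false) (.leaf false)) (.node (.leaf false) (.leaf true))) (.node (.node (.leaf false) (.leaf false)) (.node (.leaf false) (.leaf false)))))

def bit1136 : Janko.Tree (Bool) :=
  (.node (.node (.node (.node (.node (.leaf false) (.leaf false)) (.leaf false)) (.node (.leaf false) (.leaf true))) (.node (.node (.leaf false) (.leaf false)) (.node (.leaf true) (.leaf true)))) (.node (.node (.node (.leaf false) (.leaf true)) (.node (.leaf false) (.leaf false))) (.node (.node (.leaf false) (.leaf false)) (.node (.leaf true) (.leaf false)))))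

def bit1137 : Janko.Tree (Bool) :=
  (.node (.node (.node (.node (.node (.leaf false) (.leaf true)) (.leaf false)) (.node (.leaf false) (.leaf true))) (.node (.node (.leaf false) (.leaf true)) (.node (.leaf false) (.leaf false)))) (.node (.node (.node (.leaf false) (.leaf false)) (.node (.leaf false) (.leaf false))) (.node (.node (.leaf false) (.leaf false)) (.node (.leaf false) (.leaf true)))))

def bit1138 : Janko.Tree (Bool) :=
  (.node (.node (.node (.node (.node (.leaf false) (.leaf true)) (.leaf true)) (.node (.leaf false) (.leaf false))) (.node (.node (.leaf false) (.leaf false)) (.node (.leaf true) (.leaf false)))) (.node (.node (.node (.leaf false) (.leaf false)) (.node (.leaf false) (.leaf false))) (.node (.node (.leaf false) (.leaf false)) (.node (.leaf false) (.leaf false)))))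

def bit1139 : Janko.Tree (Bool) :=
  (.node (.node (.node (.node (.node (.leaf false) (.leaf false)) (.leaf false)) (.node (.leaf true) (.leaf false))) (.node (.node (.leaf true) (.leaf false)) (.node (.leaf false) (.leaf false)))) (.node (.node (.node (.leaf false) (.leaf true)) (.node (.leaf false) (.leaf true))) (.node (.node (.leaf false) (.leaf false)) (.node (.leaf false) (.leaf true)))))

def bit1140 : Janko.Tree (Bool) :=
  (.node (.node (.node (.node (.node (.leaf false) (.leaf true)) (.leaf false)) (.node (.leaf false) (.leaf false))) (.node (.node (.leaf false) (.leaf false)) (.node (.leaf false) (.leaf true)))) (.node (.node (.node (.leaf false) (.leaf false)) (.node (.leaf false) (.leaf true))) (.node (.node (.leaf false) (.leaf false)) (.node (.leaf true) (.leaf false)))))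

def bit1141 : Janko.Tree (Bool) :=
  (.node (.node (.node (.node (.node (.leaf false) (.leaf false)) (.leaf false)) (.node (.leaf false) (.leaf true))) (.node (.node (.leaf false) (.leaf true)) (.node (.leaf true) (.leaf true)))) (.node (.node (.node (.leaf false) (.leaf true)) (.node (.leaf false) (.leaf false))) (.node (.node (.leaf true) (.leaf false)) (.node (.leaf false) (.leaf false)))))

def bit1142 : Janko.Tree (Bool) :=
  (.node (.node (.node (.node (.node (.leaf false) (.leaf false)) (.leaf false)) (.node (.leaf false) (.leaf false))) (.node (.node (.leaf false) (.leaf true)) (.node (.leaf false) (.leaf true)))) (.node (.node (.node (.leaf false) (.leaf false)) (.node (.leaf false) (.leaf false))) (.node (.node (.leaf false) (.leaf false)) (.node (.leaf false) (.leaf false)))))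

def bit1143 : Janko.Tree (Bool) :=
  (.node (.node (.node (.node (.node (.leaf false) (.leaf false)) (.leaf false)) (.node (.leaf false) (.leaf false))) (.node (.node (.leaf false) (.leaf false)) (.node (.leaf false) (.leaf true)))) (.node (.node (.node (.leaf false) (.leaf false)) (.node (.leaf true) (.leaf true))) (.node (.node (.leaf false) (.leaf false)) (.node (.leaf false) (.leaf false)))))

def bit1144 : Janko.Tree (Bool) :=
  (.node (.node (.node (.node (.node (.leaf false) (.leaf true)) (.leaf true)) (.node (.leaf false) (.leaf false))) (.node (.node (.leaf false) (.leaf false)) (.node (.leaf false) (.leaf true)))) (.node (.node (.node (.leaf false) (.leaf false)) (.node (.leaf true) (.leaf true))) (.node (.node (.leaf false) (.leaf true)) (.node (.leaf false) (.leaf true)))))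

def bit1145 : Janko.Tree (Bool) :=
  (.node (.node (.node (.node (.node (.leaf false) (.leaf true)) (.leaf false)) (.node (.leaf false) (.leaf false))) (.node (.node (.leaf false) (.leaf false)) (.node (.leaf false) (.leaf false)))) (.node (.node (.node (.leaf false) (.leaf true)) (.node (.leaf false) (.leaf false))) (.node (.node (.leaf false) (.leaf false)) (.node (.leaf true) (.leaf false)))))

def bit1146 : Janko.Tree (Bool) :=
  (.node (.node (.node (.node (.node (.leaf false) (.leaf false)) (.leaf false)) (.node (.leaf false) (.leaf false))) (.node (.node (.leaf true) (.leaf false)) (.node (.leaf true) (.leaf false)))) (.node (.node (.node (.leaf false) (.leaf false)) (.node (.leaf true) (.leaf false))) (.node (.node (.leaf false) (.leaf true)) (.node (.leaf true) (.leaf true)))))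

def bit1147 : Janko.Tree (Bool) :=
  (.node (.node (.node (.node (.node (.leaf false) (.leaf false)) (.leaf false)) (.node (.leaf false) (.leaf false))) (.node (.node (.leaf false) (.leaf false)) (.node (.leaf true) (.leaf true)))) (.node (.node (.node (.leaf false) (.leaf false)) (.node (.leaf false) (.leaf false))) (.node (.node (.leaf false) (.leaf false)) (.node (.leaf false) (.leaf true)))))

def bit1148 : Janko.Tree (Bool) :=
  (.node (.node (.node (.node (.node (.leaf false) (.leaf false)) (.leaf true)) (.node (.leaf true) (.leaf false))) (.node (.node (.leaf false) (.leaf true)) (.node (.leaf false) (.leaf true)))) (.node (.node (.node (.leaf false) (.leaf true)) (.node (.leaf false) (.leaf false))) (.node (.node (.leaf false) (.leaf false)) (.node (.leaf false) (.leaf true)))))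

def bit1149 : Janko.Tree (Bool) :=
  (.node (.node (.node (.node (.node (.leaf false) (.leaf true)) (.leaf false)) (.node (.leaf false) (.leaf false))) (.node (.node (.leaf false) (.leaf false)) (.node (.leaf false) (.leaf false)))) (.node (.node (.node (.leaf false) (.leaf false)) (.node (.leaf false) (.leaf true))) (.node (.node (.leaf false) (.leaf true)) (.node (.leaf true) (.leaf false)))))

def bit1150 : Janko.Tree (Bool) :=
  (.node (.node (.node (.node (.node (.leaf false) (.leaf false)) (.leaf false)) (.node (.leaf true) (.leaf false))) (.node (.node (.leaf false) (.leaf false)) (.node (.leaf false) (.leaf true)))) (.node (.node (.node (.leaf true) (.leaf true)) (.node (.leaf false) (.leaf false))) (.node (.node (.leaf false) (.leaf false)) (.node (.leaf true) (.leaf true)))))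

def bit1151 : Janko.Tree (Bool) :=
  (.node (.node (.node (.node (.node (.leaf false) (.leaf true)) (.leaf false)) (.node (.leaf false) (.leaf false))) (.node (.node (.leaf true) (.leaf false)) (.node (.leaf true) (.leaf false)))) (.node (.node (.node (.leaf false) (.leaf true)) (.node (.leaf false) (.leaf false))) (.node (.node (.leaf false) (.leaf false)) (.node (.leaf false) (.leaf false)))))

def bit1152 : Janko.Tree (Bool) :=
  (.node (.node (.node (.node (.node (.leaf false) (.leaf false)) (.leaf false)) (.node (.leaf false) (.leaf false))) (.node (.node (.leaf false) (.leaf false)) (.node (.leaf false) (.leaf false)))) (.node (.node (.node (.leaf false) (.leaf false)) (.node (.leaf false) (.leaf false))) (.node (.node (.leaf true) (.leaf false)) (.node (.leaf false) (.leaf false)))))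

def bit1153 : Janko.Tree (Bool) :=
  (.node (.node (.node (.node (.node (.leaf false) (.leaf true)) (.leaf false)) (.node (.leaf false) (.leaf false))) (.node (.node (.leaf false) (.leaf false)) (.node (.leaf true) (.leaf true)))) (.node (.node (.node (.leaf false) (.leaf true)) (.node (.leaf false) (.leaf true))) (.node (.node (.leaf false) (.leaf true)) (.node (.leaf false) (.leaf false)))))

def bit1154 : Janko.Tree (Bool) :=
  (.node (.node (.node (.node (.node (.leaf false) (.leaf false)) (.leaf false)) (.node (.leaf false) (.leaf false))) (.node (.node (.leaf false) (.leaf false)) (.node (.leaf true) (.leaf false)))) (.node (.node (.node (.leaf false) (.leaf true)) (.node (.leaf false) (.leaf false))) (.node (.node (.leaf false) (.leaf true)) (.node (.leaf false) (.leaf true)))))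

def bit1155 : Janko.Tree (Bool) :=
  (.node (.node (.node (.node (.node (.leaf false) (.leaf false)) (.leaf false)) (.node (.leaf false) (.leaf false))) (.node (.node (.leaf false) (.leaf false)) (.node (.leaf false) (.leaf false)))) (.node (.node (.node (.leaf true) (.leaf false)) (.node (.leaf false) (.leaf false))) (.node (.node (.leaf false) (.leaf false)) (.node (.leaf false) (.leaf true)))))

def bit1156 : Janko.Tree (Bool) :=
  (.node (.node (.node (.node (.node (.leaf false) (.leaf false)) (.leaf false)) (.node (.leaf true) (.leaf false))) (.node (.node (.leaf false) (.leaf false)) (.node (.leaf false) (.leaf false)))) (.node (.node (.node (.leaf false) (.leaf false)) (.node (.leaf false) (.leaf false))) (.node (.node (.leaf false) (.leaf false)) (.node (.leaf false) (.leaf true)))))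

def bit1157 : Janko.Tree (Bool) :=
  (.node (.node (.node (.node (.node (.leaf false) (.leaf true)) (.leaf false)) (.node (.leaf false) (.leaf false))) (.node (.node (.leaf false) (.leaf true)) (.node (.leaf true) (.leaf false)))) (.node (.node (.node (.leaf false) (.leaf false)) (.node (.leaf false) (.leaf false))) (.node (.node (.leaf false) (.leaf false)) (.node (.leaf false) (.leaf false)))))

def bit1158 : Janko.Tree (Bool) :=
  (.node (.node (.node (.node (.node (.leaf false) (.leaf false)) (.leaf false)) (.node (.leaf false) (.leaf false))) (.node (.node (.leaf false) (.leaf true)) (.node (.leaf false) (.leaf true)))) (.node (.node (.node (.leaf false) (.leaf false)) (.node (.leaf false) (.leaf false))) (.node (.node (.leaf false) (.leaf false)) (.node (.leaf true) (.leaf false)))))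

def bit1159 : Janko.Tree (Bool) :=
  (.node (.node (.node (.node (.node (.leaf false) (.leaf false)) (.leaf false)) (.node (.leaf false) (.leaf true))) (.node (.node (.leaf false) (.leaf false)) (.node (.leaf false) (.leaf false)))) (.node (.node (.node (.leaf false) (.leaf true)) (.node (.leaf false) (.leaf true))) (.node (.node (.leaf false) (.leaf false)) (.node (.leaf true) (.leaf false)))))

def bit1160 : Janko.Tree (Bool) :=
  (.node (.node (.node (.node (.node (.leaf false) (.leaf false)) (.leaf false)) (.node (.leaf false) (.leaf false))) (.node (.node (.leaf false) (.leaf true)) (.node (.leaf false) (.leaf false)))) (.node (.node (.node (.leaf false) (.leaf false)) (.node (.leaf false) (.leaf false))) (.node (.node (.leaf false) (.leaf false)) (.node (.leaf false) (.leaf false)))))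

def bit1161 : Janko.Tree (Bool) :=
  (.node (.node (.node (.node (.node (.leaf false) (.leaf true)) (.leaf false)) (.node (.leaf true) (.leaf false))) (.node (.node (.leaf false) (.leaf false)) (.node (.leaf false) (.leaf false)))) (.node (.node (.node (.leaf false) (.leaf true)) (.node (.leaf false) (.leaf true))) (.node (.node (.leaf false) (.leaf false)) (.node (.leaf false) (.leaf false)))))

def bit1162 : Janko.Tree (Bool) :=
  (.node (.node (.node (.node (.node (.leaf false) (.leaf false)) (.leaf true)) (.node (.leaf false) (.leaf false))) (.node (.node (.leaf false) (.leaf true)) (.node (.leaf false) (.leaf false)))) (.node (.node (.node (.leaf false) (.leaf false)) (.node (.leaf false) (.leaf true))) (.node (.node (.leaf true) (.leaf false)) (.node (.leaf false) (.leaf false)))))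

def bit1163 : Janko.Tree (Bool) :=
  (.node (.node (.node (.node (.node (.leaf false) (.leaf false)) (.leaf false)) (.node (.leaf false) (.leaf false))) (.node (.node (.leaf false) (.leaf true)) (.node (.leaf false) (.leaf false)))) (.node (.node (.node (.leaf true) (.leaf false)) (.node (.leaf false) (.leaf false))) (.node (.node (.leaf false) (.leaf false)) (.node (.leaf false) (.leaf true)))))

def bit1164 : Janko.Tree (Bool) :=
  (.node (.node (.node (.node (.node (.leaf false) (.leaf false)) (.leaf false)) (.node (.leaf false) (.leaf true))) (.node (.node (.leaf false) (.leaf true)) (.node (.leaf false) (.leaf false)))) (.node (.node (.node (.leaf false) (.leaf false)) (.node (.leaf false) (.leaf true))) (.node (.node (.leaf false) (.leaf false)) (.node (.leaf false) (.leaf false)))))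

def bit1165 : Janko.Tree (Bool) :=
  (.node (.node (.node (.node (.node (.leaf false) (.leaf false)) (.leaf false)) (.node (.leaf false) (.leaf false))) (.node (.node (.leaf false) (.leaf false)) (.node (.leaf false) (.leaf false)))) (.node (.node (.node (.leaf false) (.leaf false)) (.node (.leaf false) (.leaf true))) (.node (.node (.leaf false) (.leaf false)) (.node (.leaf false) (.leaf false)))))

def bit1166 : Janko.Tree (Bool) :=
  (.node (.node (.node (.node (.node (.leaf false) (.leaf false)) (.leaf false)) (.node (.leaf false) (.leaf false))) (.node (.node (.leaf false) (.leaf false)) (.node (.leaf false) (.leaf false)))) (.node (.node (.node (.leaf false) (.leaf false)) (.node (.leaf false) (.leaf true))) (.node (.node (.leaf false) (.leaf false)) (.node (.leaf false) (.leaf false)))))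

def bit1167 : Janko.Tree (Bool) :=
  (.node (.node (.node (.node (.node (.leaf false) (.leaf false)) (.leaf true)) (.node (.leaf false) (.leaf true))) (.node (.node (.leaf false) (.leaf true)) (.node (.leaf false) (.leaf false)))) (.node (.node (.node (.leaf false) (.leaf true)) (.node (.leaf false) (.leaf false))) (.node (.node (.leaf false) (.leaf true)) (.node (.leaf false) (.leaf true)))))

def bit1168 : Janko.Tree (Bool) :=
  (.node (.node (.node (.node (.node (.leaf false) (.leaf false)) (.leaf false)) (.node (.leaf false) (.leaf false))) (.node (.node (.leaf true) (.leaf false)) (.node (.leaf false) (.leaf false)))) (.node (.node (.node (.leaf false) (.leaf false)) (.node (.leaf false) (.leaf true))) (.node (.node (.leaf false) (.leaf false)) (.node (.leaf false) (.leaf false)))))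

def bit1169 : Janko.Tree (Bool) :=
  (.node (.node (.node (.node (.node (.leaf false) (.leaf true)) (.leaf false)) (.node (.leaf true) (.leaf true))) (.node (.node (.leaf false) (.leaf false)) (.node (.leaf false) (.leaf true)))) (.node (.node (.node (.leaf false) (.leaf false)) (.node (.leaf true) (.leaf false))) (.node (.node (.leaf false) (.leaf true)) (.node (.leaf true) (.leaf false)))))

def bit1170 : Janko.Tree (Bool) :=
  (.node (.node (.node (.node (.node (.leaf false) (.leaf false)) (.leaf false)) (.node (.leaf false) (.leaf false))) (.node (.node (.leaf false) (.leaf false)) (.node (.leaf false) (.leaf false)))) (.node (.node (.node (.leaf false) (.leaf false)) (.node (.leaf false) (.leaf false))) (.node (.node (.leaf false) (.leaf false)) (.node (.leaf false) (.leaf false)))))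

def bit1171 : Janko.Tree (Bool) :=
  (.node (.node (.node (.node (.node (.leaf false) (.leaf false)) (.leaf true)) (.node (.leaf false) (.leaf false))) (.node (.node (.leaf false) (.leaf false)) (.node (.leaf false) (.leaf true)))) (.node (.node (.node (.leaf false) (.leaf false)) (.node (.leaf true) (.leaf true))) (.node (.node (.leaf false) (.leaf false)) (.node (.leaf true) (.leaf true)))))

def bit1172 : Janko.Tree (Bool) :=
  (.node (.node (.node (.node (.node (.leaf false) (.leaf false)) (.leaf false)) (.node (.leaf false) (.leaf true))) (.node (.node (.leaf false) (.leaf false)) (.node (.leaf true) (.leaf false)))) (.node (.node (.node (.leaf false) (.leaf false)) (.node (.leaf false) (.leaf true))) (.node (.node (.leaf false) (.leaf true)) (.node (.leaf false) (.leaf false)))))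

def bit1173 : Janko.Tree (Bool) :=
  (.node (.node (.node (.node (.node (.leaf false) (.leaf true)) (.leaf false)) (.node (.leaf false) (.leaf false))) (.node (.node (.leaf false) (.leaf false)) (.node (.leaf false) (.leaf true)))) (.node (.node (.node (.leaf false) (.leaf true)) (.node (.leaf false) (.leaf false))) (.node (.node (.leaf false) (.leaf false)) (.node (.leaf true) (.leaf true)))))

def bit1174 : Janko.Tree (Bool) :=
  (.node (.node (.node (.node (.node (.leaf false) (.leaf false)) (.leaf false)) (.node (.leaf false) (.leaf true))) (.node (.node (.leaf false) (.leaf false)) (.node (.leaf false) (.leaf false)))) (.node (.node (.node (.leaf false) (.leaf false)) (.node (.leaf false) (.leaf false))) (.node (.node (.leaf false) (.leaf false)) (.node (.leaf false) (.leaf true)))))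

def bit1175 : Janko.Tree (Bool) :=
  (.node (.node (.node (.node (.node (.leaf false) (.leaf true)) (.leaf false)) (.node (.leaf false) (.leaf true))) (.node (.node (.leaf false) (.leaf false)) (.node (.leaf false) (.leaf false)))) (.node (.node (.node (.leaf false) (.leaf false)) (.node (.leaf false) (.leaf false))) (.node (.node (.leaf false) (.leaf true)) (.node (.leaf false) (.leaf true)))))

def bit1176 : Janko.Tree (Bool) :=
  (.node (.node (.node (.node (.node (.leaf false) (.leaf false)) (.leaf false)) (.node (.leaf false) (.leaf true))) (.node (.node (.leaf false) (.leaf true)) (.node (.leaf false) (.leaf false)))) (.node (.node (.node (.leaf false) (.leaf false)) (.node (.leaf false) (.leaf false))) (.node (.node (.leaf false) (.leaf false)) (.node (.leaf false) (.leaf true)))))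

def bit1177 : Janko.Tree (Bool) :=
  (.node (.node (.node (.node (.node (.leaf false) (.leaf true)) (.leaf true)) (.node (.leaf false) (.leaf true))) (.node (.node (.leaf false) (.leaf false)) (.node (.leaf false) (.leaf false)))) (.node (.node (.node (.leaf false) (.leaf false)) (.node (.leaf false) (.leaf false))) (.node (.node (.leaf false) (.leaf false)) (.node (.leaf false) (.leaf true)))))

def bit1178 : Janko.Tree (Bool) :=
  (.node (.node (.node (.node (.node (.leaf false) (.leaf false)) (.leaf false)) (.node (.leaf false) (.leaf false))) (.node (.node (.leaf false) (.leaf true)) (.node (.leaf false) (.leaf false)))) (.node (.node (.node (.leaf false) (.leaf true)) (.node (.leaf false) (.leaf false))) (.node (.node (.leaf true) (.leaf true)) (.node (.leaf false) (.leaf true)))))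

def bit1179 : Janko.Tree (Bool) :=
  (.node (.node (.node (.node (.node (.leaf false) (.leaf true)) (.leaf false)) (.node (.leaf true) (.leaf true))) (.node (.node (.leaf false) (.leaf false)) (.node (.leaf false) (.leaf true)))) (.node (.node (.node (.leaf false) (.leaf false)) (.node (.leaf false) (.leaf false))) (.node (.node (.leaf false) (.leaf false)) (.node (.leaf false) (.leaf false)))))

def bit1180 : Janko.Tree (Bool) :=
  (.node (.node (.node (.node (.node (.leaf false) (.leaf true)) (.leaf false)) (.node (.leaf false) (.leaf false))) (.node (.node (.leaf false) (.leaf false)) (.node (.leaf false) (.leaf false)))) (.node (.node (.node (.leaf false) (.leaf false)) (.node (.leaf false) (.leaf true))) (.node (.node (.leaf false) (.leaf false)) (.node (.leaf false) (.leaf true)))))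

def bit1181 : Janko.Tree (Bool) :=
  (.node (.node (.node (.node (.node (.leaf false) (.leaf false)) (.leaf false)) (.node (.leaf false) (.leaf true))) (.node (.node (.leaf false) (.leaf true)) (.node (.leaf false) (.leaf false)))) (.node (.node (.node (.leaf false) (.leaf false)) (.node (.leaf false) (.leaf true))) (.node (.node (.leaf false) (.leaf true)) (.node (.leaf false) (.leaf true)))))

def bit1182 : Janko.Tree (Bool) :=
  (.node (.node (.node (.node (.node (.leaf false) (.leaf false)) (.leaf false)) (.node (.leaf false) (.leaf false))) (.node (.node (.leaf false) (.leaf false)) (.node (.leaf false) (.leaf false)))) (.node (.node (.node (.leaf false) (.leaf false)) (.node (.leaf false) (.leaf false))) (.node (.node (.leaf false) (.leaf true)) (.node (.leaf false) (.leaf false)))))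

def bit1183 : Janko.Tree (Bool) :=
  (.node (.node (.node (.node (.node (.leaf false) (.leaf true)) (.leaf false)) (.node (.leaf false) (.leaf true))) (.node (.node (.leaf false) (.leaf false)) (.node (.leaf false) (.leaf false)))) (.node (.node (.node (.leaf false) (.leaf false)) (.node (.leaf false) (.leaf true))) (.node (.node (.leaf false) (.leaf false)) (.node (.leaf false) (.leaf false)))))

def bit1184 : Janko.Tree (Bool) :=
  (.node (.node (.node (.node (.node (.leaf false) (.leaf true)) (.leaf false)) (.node (.leaf false) (.leaf false))) (.node (.node (.leaf false) (.leaf false)) (.node (.leaf false) (.leaf false)))) (.node (.node (.node (.leaf false) (.leaf false)) (.node (.leaf true) (.leaf false))) (.node (.node (.leaf false) (.leaf false)) (.node (.leaf false) (.leaf false)))))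

def bit1185 : Janko.Tree (Bool) :=
  (.node (.node (.node (.node (.node (.leaf false) (.leaf false)) (.leaf false)) (.node (.leaf true) (.leaf true))) (.node (.node (.leaf false) (.leaf false)) (.node (.leaf false) (.leaf true)))) (.node (.node (.node (.leaf false) (.leaf false)) (.node (.leaf false) (.leaf false))) (.node (.node (.leaf false) (.leaf false)) (.node (.leaf false) (.leaf true)))))

def bit1186 : Janko.Tree (Bool) :=
  (.node (.node (.node (.node (.node (.leaf false) (.leaf true)) (.leaf false)) (.node (.leaf true) (.leaf true))) (.node (.node (.leaf false) (.leaf true)) (.node (.leaf false) (.leaf false)))) (.node (.node (.node (.leaf false) (.leaf false)) (.node (.leaf false) (.leaf false))) (.node (.node (.leaf false) (.leaf false)) (.node (.leaf false) (.leaf true)))))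

def bit1187 : Janko.Tree (Bool) :=
  (.node (.node (.node (.node (.node (.leaf false) (.leaf false)) (.leaf false)) (.node (.leaf false) (.leaf false))) (.node (.node (.leaf false) (.leaf false)) (.node (.leaf false) (.leaf true)))) (.node (.node (.node (.leaf false) (.leaf true)) (.node (.leaf false) (.leaf true))) (.node (.node (.leaf false) (.leaf false)) (.node (.leaf true) (.leaf true)))))

def bit1188 : Janko.Tree (Bool) :=
  (.node (.node (.node (.node (.node (.leaf false) (.leaf true)) (.leaf false)) (.node (.leaf false) (.leaf false))) (.node (.node (.leaf false) (.leaf false)) (.node (.leaf false) (.leaf true)))) (.node (.node (.node (.leaf false) (.leaf true)) (.node (.leaf false) (.leaf true))) (.node (.node (.leaf false) (.leaf false)) (.node (.leaf false) (.leaf true)))))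

def bit1189 : Janko.Tree (Bool) :=
  (.node (.node (.node (.node (.node (.leaf false) (.leaf false)) (.leaf false)) (.node (.leaf false) (.leaf false))) (.node (.node (.leaf true) (.leaf false)) (.node (.leaf false) (.leaf false)))) (.node (.node (.node (.leaf false) (.leaf true)) (.node (.leaf true) (.leaf false))) (.node (.node (.leaf false) (.leaf true)) (.node (.leaf false) (.leaf true)))))

def bit1190 : Janko.Tree (Bool) :=
  (.node (.node (.node (.node (.node (.leaf false) (.leaf false)) (.leaf false)) (.node (.leaf false) (.leaf false))) (.node (.node (.leaf false) (.leaf true)) (.node (.leaf false) (.leaf false)))) (.node (.node (.node (.leaf false) (.leaf false)) (.node (.leaf false) (.leaf false))) (.node (.node (.leaf false) (.leaf false)) (.node (.leaf false) (.leaf true)))))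

def bit1191 : Janko.Tree (Bool) :=
  (.node (.node (.node (.node (.node (.leaf false) (.leaf true)) (.leaf false)) (.node (.leaf false) (.leaf false))) (.node (.node (.leaf false) (.leaf false)) (.node (.leaf false) (.leaf true)))) (.node (.node (.node (.leaf false) (.leaf false)) (.node (.leaf true) (.leaf false))) (.node (.node (.leaf false) (.leaf false)) (.node (.leaf false) (.leaf true)))))

def bit1192 : Janko.Tree (Bool) :=
  (.node (.node (.node (.node (.node (.leaf true) (.leaf true)) (.leaf false)) (.node (.leaf false) (.leaf true))) (.node (.node (.leaf false) (.leaf true)) (.node (.leaf true) (.leaf false)))) (.node (.node (.node (.leaf false) (.leaf false)) (.node (.leaf false) (.leaf false))) (.node (.node (.leaf false) (.leaf true)) (.node (.leaf false) (.leaf false)))))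

def bit1193 : Janko.Tree (Bool) :=
  (.node (.node (.node (.node (.node (.leaf true) (.leaf true)) (.leaf false)) (.node (.leaf false) (.leaf true))) (.node (.node (.leaf false) (.leaf false)) (.node (.leaf false) (.leaf true)))) (.node (.node (.node (.leaf false) (.leaf true)) (.node (.leaf false) (.leaf false))) (.node (.node (.leaf false) (.leaf false)) (.node (.leaf false) (.leaf true)))))

def bit1194 : Janko.Tree (Bool) :=
  (.node (.node (.node (.node (.node (.leaf false) (.leaf false)) (.leaf false)) (.node (.leaf false) (.leaf false))) (.node (.node (.leaf false) (.leaf false)) (.node (.leaf false) (.leaf false)))) (.node (.node (.node (.leaf false) (.leaf false)) (.node (.leaf false) (.leaf false))) (.node (.node (.leaf false) (.leaf true)) (.node (.leaf false) (.leaf false)))))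

def bit1195 : Janko.Tree (Bool) :=
  (.node (.node (.node (.node (.node (.leaf false) (.leaf true)) (.leaf true)) (.node (.leaf false) (.leaf true))) (.node (.node (.leaf false) (.leaf true)) (.node (.leaf false) (.leaf false)))) (.node (.node (.node (.leaf false) (.leaf false)) (.node (.leaf false) (.leaf false))) (.node (.node (.leaf false) (.leaf true)) (.node (.leaf false) (.leaf false)))))

def bit1196 : Janko.Tree (Bool) :=
  (.node (.node (.node (.node (.node (.leaf false) (.leaf false)) (.leaf false)) (.node (.leaf false) (.leaf true))) (.node (.node (.leaf false) (.leaf false)) (.node (.leaf true) (.leaf false)))) (.node (.node (.node (.leaf false) (.leaf true)) (.node (.leaf false) (.leaf false))) (.node (.node (.leaf true) (.leaf false)) (.node (.leaf false) (.leaf true)))))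

def bit1197 : Janko.Tree (Bool) :=
  (.node (.node (.node (.node (.node (.leaf false) (.leaf false)) (.leaf false)) (.node (.leaf false) (.leaf false))) (.node (.node (.leaf false) (.leaf true)) (.node (.leaf false) (.leaf false)))) (.node (.node (.node (.leaf false) (.leaf true)) (.node (.leaf false) (.leaf true))) (.node (.node (.leaf false) (.leaf false)) (.node (.leaf false) (.leaf false)))))

def bit1198 : Janko.Tree (Bool) :=
  (.node (.node (.node (.node (.node (.leaf false) (.leaf true)) (.leaf true)) (.node (.leaf false) (.leaf false))) (.node (.node (.leaf false) (.leaf false)) (.node (.leaf false) (.leaf false)))) (.node (.node (.node (.leaf false) (.leaf false)) (.node (.leaf false) (.leaf true))) (.node (.node (.leaf false) (.leaf true)) (.node (.leaf false) (.leaf true)))))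

def bit1199 : Janko.Tree (Bool) :=
  (.node (.node (.node (.node (.node (.leaf false) (.leaf true)) (.leaf true)) (.node (.leaf false) (.leaf true))) (.node (.node (.leaf false) (.leaf false)) (.node (.leaf false) (.leaf false)))) (.node (.node (.node (.leaf false) (.leaf true)) (.node (.leaf false) (.leaf false))) (.node (.node (.leaf false) (.leaf false)) (.node (.leaf false) (.leaf true)))))

def bit1200 : Janko.Tree (Bool) :=
  (.node (.node (.node (.node (.node (.leaf false) (.leaf false)) (.leaf false)) (.node (.leaf false) (.leaf false))) (.node (.node (.leaf false) (.leaf false)) (.node (.leaf false) (.leaf true)))) (.node (.node (.node (.leaf false) (.leaf true)) (.node (.leaf true) (.leaf false))) (.node (.node (.leaf false) (.leaf false)) (.node (.leaf true) (.leaf true)))))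

def bit1201 : Janko.Tree (Bool) :=
  (.node (.node (.node (.node (.node (.leaf false) (.leaf false)) (.leaf true)) (.node (.leaf false) (.leaf true))) (.node (.node (.leaf true) (.leaf false)) (.node (.leaf false) (.leaf false)))) (.node (.node (.node (.leaf false) (.leaf false)) (.node (.leaf false) (.leaf true))) (.node (.node (.leaf false) (.leaf false)) (.node (.leaf false) (.leaf true)))))

def bit1202 : Janko.Tree (Bool) :=
  (.node (.node (.node (.node (.node (.leaf false) (.leaf true)) (.leaf false)) (.node (.leaf false) (.leaf false))) (.node (.node (.leaf true) (.leaf false)) (.node (.leaf false) (.leaf true)))) (.node (.node (.node (.leaf true) (.leaf true)) (.node (.leaf false) (.leaf false))) (.node (.node (.leaf false) (.leaf false)) (.node (.leaf false) (.leaf false)))))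

def bit1203 : Janko.Tree (Bool) :=
  (.node (.node (.node (.node (.node (.leaf false) (.leaf false)) (.leaf false)) (.node (.leaf false) (.leaf false))) (.node (.node (.leaf false) (.leaf false)) (.node (.leaf false) (.leaf false)))) (.node (.node (.node (.leaf false) (.leaf false)) (.node (.leaf false) (.leaf false))) (.node (.node (.leaf false) (.leaf false)) (.node (.leaf false) (.leaf true)))))

def bit1204 : Janko.Tree (Bool) :=
  (.node (.node (.node (.node (.node (.leaf false) (.leaf false)) (.leaf true)) (.node (.leaf false) (.leaf false))) (.node (.node (.leaf false) (.leaf false)) (.node (.leaf false) (.leaf false)))) (.node (.node (.node (.leaf false) (.leaf true)) (.node (.leaf false) (.leaf true))) (.node (.node (.leaf false) (.leaf false)) (.node (.leaf false) (.leaf false)))))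

def bit1205 : Janko.Tree (Bool) :=
  (.node (.node (.node (.node (.node (.leaf false) (.leaf true)) (.leaf false)) (.node (.leaf false) (.leaf false))) (.node (.node (.leaf true) (.leaf false)) (.node (.leaf false) (.leaf false)))) (.node (.node (.node (.leaf false) (.leaf false)) (.node (.leaf true) (.leaf true))) (.node (.node (.leaf false) (.leaf false)) (.node (.leaf false) (.leaf false)))))

def bit1206 : Janko.Tree (Bool) :=
  (.node (.node (.node (.node (.node (.leaf false) (.leaf false)) (.leaf true)) (.node (.leaf false) (.leaf false))) (.node (.node (.leaf false) (.leaf true)) (.node (.leaf false) (.leaf false)))) (.node (.node (.node (.leaf false) (.leaf true)) (.node (.leaf false) (.leaf false))) (.node (.node (.leaf false) (.leaf false)) (.node (.leaf true) (.leaf false)))))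

def bit1207 : Janko.Tree (Bool) :=
  (.node (.node (.node (.node (.node (.leaf false) (.leaf false)) (.leaf false)) (.node (.leaf false) (.leaf true))) (.node (.node (.leaf false) (.leaf false)) (.node (.leaf false) (.leaf false)))) (.node (.node (.node (.leaf false) (.leaf false)) (.node (.leaf false) (.leaf false))) (.node (.node (.leaf false) (.leaf false)) (.node (.leaf false) (.leaf true)))))

def bit1208 : Janko.Tree (Bool) :=
  (.node (.node (.node (.node (.node (.leaf false) (.leaf false)) (.leaf false)) (.node (.leaf false) (.leaf false))) (.node (.node (.leaf false) (.leaf false)) (.node (.leaf true) (.leaf false)))) (.node (.node (.node (.leaf false) (.leaf false)) (.node (.leaf false) (.leaf false))) (.node (.node (.leaf false) (.leaf true)) (.node (.leaf false) (.leaf true)))))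

def bit1209 : Janko.Tree (Bool) :=
  (.node (.node (.node (.node (.node (.leaf false) (.leaf false)) (.leaf true)) (.node (.leaf false) (.leaf false))) (.node (.node (.leaf false) (.leaf true)) (.node (.leaf false) (.leaf true)))) (.node (.node (.node (.leaf false) (.leaf true)) (.node (.leaf false) (.leaf false))) (.node (.node (.leaf false) (.leaf false)) (.node (.leaf false) (.leaf true)))))

def bit1210 : Janko.Tree (Bool) :=
  (.node (.node (.node (.node (.node (.leaf false) (.leaf true)) (.leaf false)) (.node (.leaf false) (.leaf false))) (.node (.node (.leaf false) (.leaf false)) (.node (.leaf false) (.leaf false)))) (.node (.node (.node (.leaf false) (.leaf false)) (.node (.leaf false) (.leaf false))) (.node (.node (.leaf false) (.leaf false)) (.node (.leaf false) (.leaf false)))))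

def bit1211 : Janko.Tree (Bool) :=
  (.node (.node (.node (.node (.node (.leaf false) (.leaf false)) (.leaf false)) (.node (.leaf false) (.leaf false))) (.node (.node (.leaf false) (.leaf false)) (.node (.leaf true) (.leaf false)))) (.node (.node (.node (.leaf false) (.leaf false)) (.node (.leaf false) (.leaf false))) (.node (.node (.leaf false) (.leaf false)) (.node (.leaf true) (.leaf false)))))

def bit1212 : Janko.Tree (Bool) :=
  (.node (.node (.node (.node (.node (.leaf false) (.leaf false)) (.leaf false)) (.node (.leaf false) (.leaf true))) (.node (.node (.leaf false) (.leaf true)) (.node (.leaf false) (.leaf false)))) (.node (.node (.node (.leaf false) (.leaf false)) (.node (.leaf false) (.leaf false))) (.node (.node (.leaf false) (.leaf false)) (.node (.leaf false) (.leaf false)))))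

def bit1213 : Janko.Tree (Bool) :=
  (.node (.node (.node (.node (.node (.leaf false) (.leaf true)) (.leaf false)) (.node (.leaf false) (.leaf false))) (.node (.node (.leaf false) (.leaf false)) (.node (.leaf false) (.leaf true)))) (.node (.node (.node (.leaf false) (.leaf true)) (.node (.leaf false) (.leaf true))) (.node (.node (.leaf false) (.leaf false)) (.node (.leaf false) (.leaf false)))))

def bit1214 : Janko.Tree (Bool) :=
  (.node (.node (.node (.node (.node (.leaf false) (.leaf false)) (.leaf false)) (.node (.leaf false) (.leaf true))) (.node (.node (.leaf false) (.leaf false)) (.node (.leaf true) (.leaf true)))) (.node (.node (.node (.leaf false) (.leaf false)) (.node (.leaf false) (.leaf true))) (.node (.node (.leaf false) (.leaf false)) (.node (.leaf false) (.leaf false)))))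

def bit1215 : Janko.Tree (Bool) :=
  (.node (.node (.node (.node (.node (.leaf false) (.leaf false)) (.leaf false)) (.node (.leaf false) (.leaf false))) (.node (.node (.leaf false) (.leaf false)) (.node (.leaf false) (.leaf true)))) (.node (.node (.node (.leaf false) (.leaf false)) (.node (.leaf false) (.leaf true))) (.node (.node (.leaf false) (.leaf false)) (.node (.leaf false) (.leaf true)))))

def bit1216 : Janko.Tree (Bool) :=
  (.node (.node (.node (.node (.node (.leaf false) (.leaf true)) (.leaf false)) (.node (.leaf true) (.leaf true))) (.node (.node (.leaf false) (.leaf false)) (.node (.leaf false) (.leaf false)))) (.node (.node (.node (.leaf false) (.leaf false)) (.node (.leaf false) (.leaf false))) (.node (.node (.leaf false) (.leaf false)) (.node (.leaf true) (.leaf false)))))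

def bit1217 : Janko.Tree (Bool) :=
  (.node (.node (.node (.node (.node (.leaf false) (.leaf false)) (.leaf false)) (.node (.leaf false) (.leaf false))) (.node (.node (.leaf false) (.leaf true)) (.node (.leaf false) (.leaf true)))) (.node (.node (.node (.leaf false) (.leaf false)) (.node (.leaf false) (.leaf false))) (.node (.node (.leaf false) (.leaf false)) (.node (.leaf false) (.leaf false)))))

def bit1218 : Janko.Tree (Bool) :=
  (.node (.node (.node (.node (.node (.leaf false) (.leaf true)) (.leaf false)) (.node (.leaf false) (.leaf false))) (.node (.node (.leaf false) (.leaf false)) (.node (.leaf true) (.leaf true)))) (.node (.node (.node (.leaf false) (.leaf true)) (.node (.leaf false) (.leaf false))) (.node (.node (.leaf false) (.leaf false)) (.node (.leaf false) (.leaf true)))))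

def bit1219 : Janko.Tree (Bool) :=
  (.node (.node (.node (.node (.node (.leaf false) (.leaf false)) (.leaf false)) (.node (.leaf false) (.leaf false))) (.node (.node (.leaf false) (.leaf false)) (.node (.leaf false) (.leaf true)))) (.node (.node (.node (.leaf false) (.leaf true)) (.node (.leaf false) (.leaf true))) (.node (.node (.leaf false) (.leaf false)) (.node (.leaf false) (.leaf true)))))

def bit1220 : Janko.Tree (Bool) :=
  (.node (.node (.node (.node (.node (.leaf false) (.leaf false)) (.leaf false)) (.node (.leaf false) (.leaf true))) (.node (.node (.leaf false) (.leaf false)) (.node (.leaf false) (.leaf false)))) (.node (.node (.node (.leaf false) (.leaf false)) (.node (.leaf false) (.leaf true))) (.node (.node (.leaf false) (.leaf false)) (.node (.leaf true) (.leaf true)))))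

def bit1221 : Janko.Tree (Bool) :=
  (.node (.node (.node (.node (.node (.leaf false) (.leaf true)) (.leaf true)) (.node (.leaf false) (.leaf false))) (.node (.node (.leaf false) (.leaf false)) (.node (.leaf true) (.leaf false)))) (.node (.node (.node (.leaf false) (.leaf false)) (.node (.leaf false) (.leaf true))) (.node (.node (.leaf true) (.leaf false)) (.node (.leaf false) (.leaf true)))))

def bit1222 : Janko.Tree (Bool) :=
  (.node (.node (.node (.node (.node (.leaf false) (.leaf false)) (.leaf false)) (.node (.leaf true) (.leaf false))) (.node (.node (.leaf false) (.leaf false)) (.node (.leaf false) (.leaf false)))) (.node (.node (.node (.leaf false) (.leaf false)) (.node (.leaf false) (.leaf false))) (.node (.node (.leaf false) (.leaf false)) (.node (.leaf false) (.leaf false)))))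

def bit1223 : Janko.Tree (Bool) :=
  (.node (.node (.node (.node (.node (.leaf false) (.leaf true)) (.leaf false)) (.node (.leaf false) (.leaf false))) (.node (.node (.leaf false) (.leaf false)) (.node (.leaf true) (.leaf false)))) (.node (.node (.node (.leaf false) (.leaf true)) (.node (.leaf false) (.leaf true))) (.node (.node (.leaf false) (.leaf true)) (.node (.leaf false) (.leaf false)))))

def bit1224 : Janko.Tree (Bool) :=
  (.node (.node (.node (.node (.node (.leaf false) (.leaf false)) (.leaf true)) (.node (.leaf false) (.leaf false))) (.node (.node (.leaf true) (.leaf false)) (.node (.leaf false) (.leaf false)))) (.node (.node (.node (.leaf false) (.leaf true)) (.node (.leaf false) (.leaf false))) (.node (.node (.leaf false) (.leaf false)) (.node (.leaf false) (.leaf true)))))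

def bit1225 : Janko.Tree (Bool) :=
  (.node (.node (.node (.node (.node (.leaf false) (.leaf true)) (.leaf false)) (.node (.leaf false) (.leaf false))) (.node (.node (.leaf false) (.leaf false)) (.node (.leaf false) (.leaf false)))) (.node (.node (.node (.leaf false) (.leaf false)) (.node (.leaf false) (.leaf false))) (.node (.node (.leaf false) (.leaf true)) (.node (.leaf true) (.leaf true)))))

def bit1226 : Janko.Tree (Bool) :=
  (.node (.node (.node (.node (.node (.leaf false) (.leaf false)) (.leaf true)) (.node (.leaf false) (.leaf false))) (.node (.node (.leaf false) (.leaf false)) (.node (.leaf true) (.leaf false)))) (.node (.node (.node (.leaf false) (.leaf false)) (.node (.leaf false) (.leaf false))) (.node (.node (.leaf false) (.leaf true)) (.node (.leaf true) (.leaf false)))))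

def bit1227 : Janko.Tree (Bool) :=
  (.node (.node (.node (.node (.node (.leaf false) (.leaf true)) (.leaf false)) (.node (.leaf false) (.leaf false))) (.node (.node (.leaf false) (.leaf false)) (.node (.leaf false) (.leaf false)))) (.node (.node (.node (.leaf false) (.leaf true)) (.node (.leaf false) (.leaf false))) (.node (.node (.leaf false) (.leaf false)) (.node (.leaf false) (.leaf false)))))

def bit1228 : Janko.Tree (Bool) :=
  (.node (.node (.node (.node (.node (.leaf false) (.leaf false)) (.leaf false)) (.node (.leaf false) (.leaf false))) (.node (.node (.leaf true) (.leaf false)) (.node (.leaf false) (.leaf true)))) (.node (.node (.node (.leaf false) (.leaf false)) (.node (.leaf false) (.leaf false))) (.node (.node (.leaf false) (.leaf false)) (.node (.leaf false) (.leaf false)))))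

def bit1229 : Janko.Tree (Bool) :=
  (.node (.node (.node (.node (.node (.leaf false) (.leaf false)) (.leaf false)) (.node (.leaf false) (.leaf true))) (.node (.node (.leaf false) (.leaf false)) (.node (.leaf false) (.leaf true)))) (.node (.node (.node (.leaf false) (.leaf true)) (.node (.leaf false) (.leaf false))) (.node (.node (.leaf false) (.leaf true)) (.node (.leaf false) (.leaf true)))))

def bit1230 : Janko.Tree (Bool) :=
  (.node (.node (.node (.node (.node (.leaf false) (.leaf true)) (.leaf true)) (.node (.leaf true) (.leaf true))) (.node (.node (.leaf false) (.leaf false)) (.node (.leaf false) (.leaf false)))) (.node (.node (.node (.leaf false) (.leaf false)) (.node (.leaf false) (.leaf false))) (.node (.node (.leaf false) (.leaf false)) (.node (.leaf false) (.leaf false)))))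

def bit1231 : Janko.Tree (Bool) :=
  (.node (.node (.node (.node (.node (.leaf false) (.leaf false)) (.leaf false)) (.node (.leaf false) (.leaf true))) (.node (.node (.leaf false) (.leaf true)) (.node (.leaf false) (.leaf true)))) (.node (.node (.node (.leaf false) (.leaf false)) (.node (.leaf true) (.leaf false))) (.node (.node (.leaf false) (.leaf true)) (.node (.leaf false) (.leaf true)))))

def bit1232 : Janko.Tree (Bool) :=
  (.node (.node (.node (.node (.node (.leaf false) (.leaf true)) (.leaf true)) (.node (.leaf false) (.leaf false))) (.node (.node (.leaf false) (.leaf false)) (.node (.leaf false) (.leaf false)))) (.node (.node (.node (.leaf false) (.leaf false)) (.node (.leaf false) (.leaf true))) (.node (.node (.leaf false) (.leaf false)) (.node (.leaf false) (.leaf false)))))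

def bit1233 : Janko.Tree (Bool) :=
  (.node (.node (.node (.node (.node (.leaf true) (.leaf false)) (.leaf false)) (.node (.leaf false) (.leaf true))) (.node (.node (.leaf false) (.leaf false)) (.node (.leaf false) (.leaf true)))) (.node (.node (.node (.leaf false) (.leaf false)) (.node (.leaf false) (.leaf false))) (.node (.node (.leaf false) (.leaf false)) (.node (.leaf true) (.leaf false)))))

def bit1234 : Janko.Tree (Bool) :=
  (.node (.node (.node (.node (.node (.leaf false) (.leaf false)) (.leaf false)) (.node (.leaf false) (.leaf false))) (.node (.node (.leaf false) (.leaf false)) (.node (.leaf false) (.leaf false)))) (.node (.node (.node (.leaf false) (.leaf false)) (.node (.leaf false) (.leaf false))) (.node (.node (.leaf false) (.leaf false)) (.node (.leaf false) (.leaf false)))))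

def bit1235 : Janko.Tree (Bool) :=
  (.node (.node (.node (.node (.node (.leaf false) (.leaf true)) (.leaf false)) (.node (.leaf false) (.leaf false))) (.node (.node (.leaf true) (.leaf false)) (.node (.leaf false) (.leaf true)))) (.node (.node (.node (.leaf false) (.leaf false)) (.node (.leaf false) (.leaf true))) (.node (.node (.leaf false) (.leaf false)) (.node (.leaf false) (.leaf true)))))

def bit1236 : Janko.Tree (Bool) :=
  (.node (.node (.node (.node (.node (.leaf false) (.leaf false)) (.leaf true)) (.node (.leaf false) (.leaf false))) (.node (.node (.leaf false) (.leaf false)) (.node (.leaf false) (.leaf false)))) (.node (.node (.node (.leaf false) (.leaf false)) (.node (.leaf false) (.leaf false))) (.node (.node (.leaf false) (.leaf false)) (.node (.leaf false) (.leaf false)))))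

def bit1237 : Janko.Tree (Bool) :=
  (.node (.node (.node (.node (.node (.leaf false) (.leaf true)) (.leaf false)) (.node (.leaf false) (.leaf false))) (.node (.node (.leaf false) (.leaf false)) (.node (.leaf false) (.leaf true)))) (.node (.node (.node (.leaf false) (.leaf false)) (.node (.leaf false) (.leaf false))) (.node (.node (.leaf false) (.leaf true)) (.node (.leaf false) (.leaf false)))))

def bit1238 : Janko.Tree (Bool) :=
  (.node (.node (.node (.node (.node (.leaf false) (.leaf false)) (.leaf false)) (.node (.leaf false) (.leaf false))) (.node (.node (.leaf false) (.leaf false)) (.node (.leaf false) (.leaf false)))) (.node (.node (.node (.leaf false) (.leaf false)) (.node (.leaf false) (.leaf false))) (.node (.node (.leaf false) (.leaf false)) (.node (.leaf false) (.leaf false)))))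

def bit1239 : Janko.Tree (Bool) :=
  (.node (.node (.node (.node (.node (.leaf false) (.leaf false)) (.leaf false)) (.node (.leaf false) (.leaf false))) (.node (.node (.leaf false) (.leaf false)) (.node (.leaf true) (.leaf false)))) (.node (.node (.node (.leaf false) (.leaf false)) (.node (.leaf true) (.leaf false))) (.node (.node (.leaf false) (.leaf false)) (.node (.leaf false) (.leaf false)))))

def bit1240 : Janko.Tree (Bool) :=
  (.node (.node (.node (.node (.node (.leaf false) (.leaf true)) (.leaf false)) (.node (.leaf false) (.leaf true))) (.node (.node (.leaf true) (.leaf false)) (.node (.leaf false) (.leaf true)))) (.node (.node (.node (.leaf true) (.leaf false)) (.node (.leaf true) (.leaf false))) (.node (.node (.leaf false) (.leaf false)) (.node (.leaf false) (.leaf false)))))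

def bit1241 : Janko.Tree (Bool) :=
  (.node (.node (.node (.node (.node (.leaf false) (.leaf false)) (.leaf false)) (.node (.leaf false) (.leaf true))) (.node (.node (.leaf false) (.leaf false)) (.node (.leaf false) (.leaf true)))) (.node (.node (.node (.leaf false) (.leaf true)) (.node (.leaf false) (.leaf false))) (.node (.node (.leaf false) (.leaf true)) (.node (.leaf true) (.leaf false)))))

def bit1242 : Janko.Tree (Bool) :=
  (.node (.node (.node (.node (.node (.leaf false) (.leaf false)) (.leaf false)) (.node (.leaf false) (.leaf false))) (.node (.node (.leaf false) (.leaf false)) (.node (.leaf false) (.leaf true)))) (.node (.node (.node (.leaf false) (.leaf false)) (.node (.leaf false) (.leaf false))) (.node (.node (.leaf false) (.leaf false)) (.node (.leaf false) (.leaf false)))))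

def bit1243 : Janko.Tree (Bool) :=
  (.node (.node (.node (.node (.node (.leaf false) (.leaf false)) (.leaf false)) (.node (.leaf false) (.leaf false))) (.node (.node (.leaf false) (.leaf false)) (.node (.leaf false) (.leaf false)))) (.node (.node (.node (.leaf false) (.leaf false)) (.node (.leaf false) (.leaf false))) (.node (.node (.leaf false) (.leaf false)) (.node (.leaf false) (.leaf false)))))

def bit1244 : Janko.Tree (Bool) :=
  (.node (.node (.node (.node (.node (.leaf false) (.leaf false)) (.leaf false)) (.node (.leaf false) (.leaf false))) (.node (.node (.leaf false) (.leaf true)) (.node (.leaf false) (.leaf false)))) (.node (.node (.node (.leaf false) (.leaf false)) (.node (.leaf true) (.leaf true))) (.node (.node (.leaf false) (.leaf false)) (.node (.leaf false) (.leaf false)))))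

def bit1245 : Janko.Tree (Bool) :=
  (.node (.node (.node (.node (.node (.leaf false) (.leaf true)) (.leaf false)) (.node (.leaf false) (.leaf true))) (.node (.node (.leaf false) (.leaf false)) (.node (.leaf true) (.leaf false)))) (.node (.node (.node (.leaf false) (.leaf false)) (.node (.leaf true) (.leaf false))) (.node (.node (.leaf false) (.leaf false)) (.node (.leaf false) (.leaf false)))))

def bit1246 : Janko.Tree (Bool) :=
  (.node (.node (.node (.node (.node (.leaf false) (.leaf false)) (.leaf true)) (.node (.leaf false) (.leaf false))) (.node (.node (.leaf false) (.leaf true)) (.node (.leaf false) (.leaf false)))) (.node (.node (.node (.leaf false) (.leaf false)) (.node (.leaf false) (.leaf false))) (.node (.node (.leaf false) (.leaf false)) (.node (.leaf true) (.leaf true)))))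

def bit1247 : Janko.Tree (Bool) :=
  (.node (.node (.node (.node (.node (.leaf false) (.leaf false)) (.leaf false)) (.node (.leaf false) (.leaf false))) (.node (.node (.leaf false) (.leaf false)) (.node (.leaf false) (.leaf false)))) (.node (.node (.node (.leaf false) (.leaf false)) (.node (.leaf false) (.leaf false))) (.node (.node (.leaf false) (.leaf false)) (.node (.leaf false) (.leaf false)))))

def bit1248 : Janko.Tree (Bool) :=
  (.node (.node (.node (.node (.node (.leaf false) (.leaf false)) (.leaf true)) (.node (.leaf false) (.leaf false))) (.node (.node (.leaf false) (.leaf false)) (.node (.leaf false) (.leaf true)))) (.node (.node (.node (.leaf false) (.leaf false)) (.node (.leaf false) (.leaf true))) (.node (.node (.leaf false) (.leaf false)) (.node (.leaf false) (.leaf false)))))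

def bit1249 : Janko.Tree (Bool) :=
  (.node (.node (.node (.node (.node (.leaf false) (.leaf true)) (.leaf false)) (.node (.leaf false) (.leaf false))) (.node (.node (.leaf false) (.leaf false)) (.node (.leaf false) (.leaf false)))) (.node (.node (.node (.leaf false) (.leaf true)) (.node (.leaf false) (.leaf true))) (.node (.node (.leaf false) (.leaf true)) (.node (.leaf false) (.leaf false)))))

def bit1250 : Janko.Tree (Bool) :=
  (.node (.node (.node (.node (.node (.leaf false) (.leaf false)) (.leaf true)) (.node (.leaf false) (.leaf false))) (.node (.node (.leaf false) (.leaf false)) (.node (.leaf false) (.leaf true)))) (.node (.node (.node (.leaf false) (.leaf false)) (.node (.leaf false) (.leaf false))) (.node (.node (.leaf false) (.leaf false)) (.node (.leaf false) (.leaf false)))))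

def bit1251 : Janko.Tree (Bool) :=
  (.node (.node (.node (.node (.node (.leaf false) (.leaf true)) (.leaf false)) (.node (.leaf false) (.leaf false))) (.node (.node (.leaf false) (.leaf false)) (.node (.leaf false) (.leaf false)))) (.node (.node (.node (.leaf false) (.leaf false)) (.node (.leaf false) (.leaf false))) (.node (.node (.leaf true) (.leaf false)) (.node (.leaf false) (.leaf true)))))

def bit1252 : Janko.Tree (Bool) :=
  (.node (.node (.node (.node (.node (.leaf false) (.leaf true)) (.leaf false)) (.node (.leaf false) (.leaf true))) (.node (.node (.leaf false) (.leaf false)) (.node (.leaf false) (.leaf false)))) (.node (.node (.node (.leaf false) (.leaf false)) (.node (.leaf false) (.leaf false))) (.node (.node (.leaf false) (.leaf false)) (.node (.leaf false) (.leaf false)))))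

def bit1253 : Janko.Tree (Bool) :=
  (.node (.node (.node (.node (.node (.leaf false) (.leaf false)) (.leaf false)) (.node (.leaf false) (.leaf false))) (.node (.node (.leaf false) (.leaf true)) (.node (.leaf false) (.leaf true)))) (.node (.node (.node (.leaf false) (.leaf false)) (.node (.leaf false) (.leaf false))) (.node (.node (.leaf false) (.leaf true)) (.node (.leaf false) (.leaf true)))))

def bit1254 : Janko.Tree (Bool) :=
  (.node (.node (.node (.node (.node (.leaf false) (.leaf true)) (.leaf false)) (.node (.leaf true) (.leaf true))) (.node (.node (.leaf false) (.leaf false)) (.node (.leaf false) (.leaf false)))) (.node (.node (.node (.leaf true) (.leaf false)) (.node (.leaf true) (.leaf false))) (.node (.node (.leaf false) (.leaf false)) (.node (.leaf false) (.leaf true)))))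

def bit1255 : Janko.Tree (Bool) :=
  (.node (.node (.node (.node (.node (.leaf false) (.leaf false)) (.leaf true)) (.node (.leaf true) (.leaf false))) (.node (.node (.leaf false) (.leaf false)) (.node (.leaf false) (.leaf false)))) (.node (.node (.node (.leaf false) (.leaf false)) (.node (.leaf false) (.leaf false))) (.node (.node (.leaf false) (.leaf false)) (.node (.leaf false) (.leaf true)))))

def bit1 : Janko.Tree (Bool) :=
  (.node (.node (.node (.node (.node (.node (.node (.node bit10 bit1128) (.node bit164 bit1192)) (.node (.node bit132 bit1160) (.node bit196 bit1224))) (.node (.node (.node bit116 bit1144) (.node bit180 bit1208)) (.node (.node bit148 bit1176) (.node bit1112 bit1240)))) (.node (.node (.node (.node bit18 bit1136) (.node bit172 bit1200)) (.node (.node bit140 bit1168) (.node bit1104 bit1232))) (.node (.node (.node bit124 bit1152) (.node bit188 bit1216)) (.node (.node bit156 bit1184) (.node bit1120 bit1248))))) (.node (.node (.node (.node (.node bit14 bit1132) (.node bit168 bit1196)) (.node (.node bit136 bit1164) (.node bit1100 bit1228))) (.node (.node (.node bit120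 bit1148) (.node bit184 bit1212)) (.node (.node bit152 bit1180) (.node bit1116 bit1244)))) (.node (.node (.node (.node bit112 bit1140) (.node bit176 bit1204)) (.node (.node bit144 bit1172) (.node bit1108 bit1236))) (.node (.node (.node bit128 bit1156) (.node bit192 bit1220)) (.node (.node bit160 bit1188) (.node bit1124 bit1252)))))) (.node (.node (.node (.node (.node (.node bit12 bit1130) (.node bit166 bit1194)) (.node (.node bit134 bit1162) (.node bit198 bit1226))) (.node (.node (.node bit118 bit1146) (.node bit182 bit1210)) (.node (.node bit150 bit1178) (.node bit1114 bit1242)))) (.node (.node (.node (.node bit110 bit1138) (.node bit174 bit1202)) (.node (.node bit142 bit1170) (.node bit1106 bit1234))) (.node (.node (.node bit126 bit1154) (.node bit190 bit1218)) (.node (.node bit158 bit1186) (.node bit1122 bit1250))))) (.node (.node (.node (.node (.node bit16 bit1134) (.node bit170 bit1198)) (.node (.node bit138 bit1166) (.node bit1102 bit1230))) (.node (.node (.node bit122 bit1150) (.node bit186 bit1214)) (.node (.node bit154 bit1182) (.node bit1118 bit1246)))) (.node (.node (.node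 (.node bit114 bit1142) (.node bit178 bit1206)) (.node (.node bit146 bit1174) (.node bit1110 bit1238))) (.node (.node (.node bit130 bit1158) (.node bit194 bit1222)) (.node (.node bit162 bit1190) (.node bit1126 bit1254))))))) (.node (.node (.node (.node (.node (.node (.node bit11 bit1129) (.node bit165 bit1193)) (.node (.node bit133 bit1161) (.node bit197 bit1225))) (.node (.node (.node bit117 bit1145) (.node bit181 bit1209)) (.node (.node bit149 bit1177) (.node bit1113 bit1241)))) (.node (.node (.node (.node bit19 bit1137) (.node bit173 bit1201)) (.node (.node bit141 bit1169) (.node bit1105 bit1233))) (.node (.node (.node bit125 bit1153) (.node bit189 bit1217)) (.node (.node bit157 bit1185) (.node bit1121 bit1249))))) (.node (.node (.node (.node (.node bit15 bit1133) (.node bit169 bit1197)) (.node (.node bit137 bit1165) (.node bit1101 bit1229))) (.node (.node (.node bit121 bit1149) (.node bit185 bit1213)) (.node (.node bit153 bit1181) (.node bit1117 bit1245)))) (.node (.node (.node (.node bit113 bit1141) (.node bit177 bit1205)) (.node (.node bit145 bit1173) (.node bit1109 bit1237)))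 (.node (.node (.node bit129 bit1157) (.node bit193 bit1221)) (.node (.node bit161 bit1189) (.node bit1125 bit1253)))))) (.node (.node (.node (.node (.node (.node bit13 bit1131) (.node bit167 bit1195)) (.node (.node bit135 bit1163) (.node bit199 bit1227))) (.node (.node (.node bit119 bit1147) (.node bit183 bit1211)) (.node (.node bit151 bit1179) (.node bit1115 bit1243)))) (.node (.node (.node (.node bit111 bit1139) (.node bit175 bit1203)) (.node (.node bit143 bit1171) (.node bit1107 bit1235))) (.node (.node (.node bit127 bit1155) (.node bit191 bit1219)) (.node (.node bit159 bit1187) (.node bit1123 bit1251))))) (.node (.node (.node (.node (.node bit17 bit1135) (.node bit171 bit1199)) (.node (.node bit139 bit1167) (.node bit1103 bit1231))) (.node (.node (.node bit123 bit1151) (.node bit187 bit1215)) (.node (.node bit155 bit1183) (.node bit1119 bit1247)))) (.node (.node (.node (.node bit115 bit1143) (.node bit179 bit1207)) (.node (.node bit147 bit1175) (.node bit1111 bit1239))) (.node (.node (.node bit131 bit1159) (.node bit195 bit1223)) (.node (.node bit163 bit1191) (.node bit1127 bit1255))))))))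

def nbr10 : Janko.Tree (List ℕ) :=
  (.node (.node (.node (.node (.node (.leaf [2, 660, 1317, 2057, 2778, 3041, 3524, 3573, 3663, 3719, 4059, 4131, 4316]) (.leaf [233, 319, 500, 1066, 1568, 1907, 2066, 2620, 2724, 2824, 3940, 3973, 4266])) (.leaf [22, 701, 1161, 1629, 1779, 1807, 1971, 2114, 3615, 3643, 3710, 4175, 4330])) (.node (.leaf [541, 612, 1039, 1069, 1977, 2668, 2984, 3077, 3435, 3796, 3883, 4094, 4405]) (.leaf [205, 308, 885, 988, 1232, 1872, 2968, 2986, 3624, 3829, 3850, 3887, 4379]))) (.node (.node (.leaf [255, 578, 780, 792, 811, 997, 2458, 2464, 2518, 2529, 2823, 2844, 3935]) (.leaf [247, 585, 950, 1029, 1115, 2532, 2717, 3201, 3254, 3512, 3944, 4064, 4430])) (.node (.leaf [157, 193, 327, 333, 746, 798, 2062, 2409, 3403, 3637, 3958, 4235, 4462]) (.leaf [209, 285, 1177, 1364, 1408, 1521, 1904, 1916, 2506, 3553, 4052, 4114, 4170])))) (.node (.node (.node (.node (.leaf [432, 523, 692, 797, 891, 1799, 2053, 2119, 2750, 2770, 4209, 4247, 4439]) (.leaf [62, 194, 666, 737, 770, 1018, 1265, 2031, 2765, 2879, 3136, 3577, 4224])) (.leaf [124, 412, 440, 551, 1632, 2488, 2509, 2738,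 2878, 2945, 3184, 3453, 4142])) (.node (.leaf [341, 571, 1080, 1401, 1853, 1854, 1965, 1984, 2082, 2252, 2267, 3703, 4451]) (.leaf [236, 1022, 1147, 1148, 1272, 1467, 1657, 2166, 2492, 2562, 2612, 3632, 3922]))) (.node (.node (.leaf [622, 807, 857, 1189, 1206, 1213, 1224, 1543, 2041, 2438, 2616, 2708, 3079]) (.leaf [393, 711, 846, 1061, 1254, 1732, 2672, 3422, 3504, 3798, 3994, 4289, 4437])) (.node (.leaf [783, 1053, 1446, 1517, 1575, 1723, 1920, 2240, 3347, 3549, 3692, 3799, 3839]) (.leaf [271, 376, 492, 1218, 1614, 1705, 1967, 2019, 3507, 3575, 4047, 4226, 4353])))))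

def nbr11 : Janko.Tree (List ℕ) :=
  (.node (.node (.node (.node (.node (.leaf [3, 661, 1316, 2056, 2779, 3040, 3525, 3572, 3662, 3718, 4058, 4130, 4317]) (.leaf [232, 318, 501, 1067, 1569, 1906, 2067, 2621, 2725, 2825, 3941, 3972, 4267])) (.leaf [23, 700, 1160, 1628, 1778, 1806, 1970, 2115, 3614, 3642, 3711, 4174, 4331])) (.node (.leaf [540, 613, 1038, 1068, 1976, 2669, 2985, 3076, 3434, 3797, 3882, 4095, 4404]) (.leaf [204, 309, 884, 989, 1233, 1873, 2969, 2987, 3625, 3828, 3851, 3886, 4378]))) (.node (.node (.leaf [254, 579, 781, 793, 810, 996, 2459, 2465, 2519, 2528, 2822, 2845, 3934]) (.leaf [246, 584, 951, 1028, 1114, 2533, 2716, 3200, 3255, 3513, 3945, 4065, 4431])) (.node (.leaf [156, 192, 326, 332, 747, 799, 2063, 2408, 3402, 3636, 3959, 4234, 4463]) (.leaf [208, 284, 1176, 1365, 1409, 1520, 1905, 1917, 2507, 3552, 4053, 4115, 4171])))) (.node (.node (.node (.node (.leaf [433, 522, 693, 796, 890, 1798, 2052, 2118, 2751, 2771, 4208, 4246, 4438]) (.leaf [63, 195, 667, 736, 771, 1019, 1264, 2030, 2764, 2878, 3137, 3576, 4225])) (.leaf [125, 413, 441, 550, 1633, 2489, 2508, 2739,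 2879, 2944, 3185, 3452, 4143])) (.node (.leaf [340, 570, 1081, 1400, 1852, 1855, 1964, 1985, 2083, 2253, 2266, 3702, 4450]) (.leaf [237, 1023, 1146, 1149, 1273, 1466, 1656, 2167, 2493, 2563, 2613, 3633, 3923]))) (.node (.node (.leaf [623, 806, 856, 1188, 1207, 1212, 1225, 1542, 2040, 2439, 2617, 2709, 3078]) (.leaf [392, 710, 847, 1060, 1255, 1733, 2673, 3423, 3505, 3799, 3995, 4288, 4436])) (.node (.leaf [782, 1052, 1447, 1516, 1574, 1722, 1921, 2241, 3346, 3548, 3693, 3798, 3838]) (.leaf [270, 377, 493, 1219, 1615, 1704, 1966, 2018, 3506, 3574, 4046, 4227, 4352])))))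

def nbr12 : Janko.Tree (List ℕ) :=
  (.node (.node (.node (.node (.node (.leaf [6, 949, 1094, 1989, 2648, 3349, 3546, 3600, 3733, 3754, 3760, 3765, 4468]) (.leaf [102, 235, 1068, 2153, 2170, 2251, 2390, 2664, 3253, 3387, 3434, 3808, 4448])) (.leaf [607, 954, 1153, 1227, 1546, 1609, 1701, 2263, 2348, 2449, 3178, 3613, 4018])) (.node (.leaf [5, 28, 1196, 1416, 1466, 2001, 2118, 2346, 3299, 3570, 4091, 4148, 4411]) (.leaf [127, 139, 384, 691, 1003, 1680, 1988, 2196, 2524, 2585, 3164, 3800, 4434]))) (.node (.node (.leaf [476, 676, 794, 1582, 1662, 1870, 2219, 2745, 2820, 3003, 3533, 4091, 4159]) (.leaf [265, 1001, 1011, 1501, 1958, 2060, 2350, 2356, 2848, 3203, 3394, 3654, 3725])) (.node (.leaf [88, 195, 335, 748, 1448, 2064, 2474, 2940, 3639, 3932, 4281, 4340, 4464]) (.leaf [80, 213, 297, 1047, 1599, 1705, 2355, 2451, 2810, 3218, 3462, 4116, 4296])))) (.node (.node (.node (.node (.leaf [434, 557, 647, 799, 2056, 2264, 2548, 2779, 2982, 2989, 3511, 3526, 3696]) (.leaf [159, 296, 775, 818, 1840, 2034, 3281, 3767, 3940, 4015, 4118, 4157, 4351])) (.leaf [442, 469, 516, 620, 865, 1113, 2352,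 2947, 3478, 3574, 3676, 3928, 4124])) (.node (.leaf [366, 628, 919, 1164, 1856, 2111, 2210, 2562, 2613, 2645, 3254, 3558, 3954]) (.leaf [446, 701, 823, 1659, 2466, 3123, 3230, 3377, 3493, 3710, 3791, 3848, 3947]))) (.node (.node (.leaf [465, 528, 1208, 1411, 1730, 2440, 2710, 2769, 2979, 3032, 3184, 3606, 4248]) (.leaf [115, 140, 161, 627, 1007, 2171, 2299, 2664, 2694, 3224, 3506, 4227, 4270])) (.node (.leaf [1065, 1519, 1577, 2242, 2403, 2451, 2465, 2529, 3073, 3349, 4279, 4398, 4469]) (.leaf [294, 496, 764, 1220, 1256, 1782, 1980, 3008, 3248, 3474, 3495, 3966, 4258])))))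

def nbr13 : Janko.Tree (List ℕ) :=
  (.node (.node (.node (.node (.node (.leaf [7, 948, 1095, 1988, 2649, 3348, 3547, 3601, 3732, 3755, 3761, 3764, 4469]) (.leaf [103, 234, 1069, 2152, 2171, 2250, 2391, 2665, 3252, 3386, 3435, 3809, 4449])) (.leaf [606, 955, 1152, 1226, 1547, 1608, 1700, 2262, 2349, 2448, 3179, 3612, 4019])) (.node (.leaf [4, 29, 1197, 1417, 1467, 2000, 2119, 2347, 3298, 3571, 4090, 4149, 4410]) (.leaf [126, 138, 385, 690, 1002, 1681, 1989, 2197, 2525, 2584, 3165, 3801, 4435]))) (.node (.node (.leaf [477, 677, 795, 1583, 1663, 1871, 2218, 2744, 2821, 3002, 3532, 4090, 4158]) (.leaf [264, 1000, 1010, 1500, 1959, 2061, 2351, 2357, 2849, 3202, 3395, 3655, 3724])) (.node (.leaf [89, 194, 334, 749, 1449, 2065, 2475, 2941, 3638, 3933, 4280, 4341, 4465]) (.leaf [81, 212, 296, 1046, 1598, 1704, 2354, 2450, 2811, 3219, 3463, 4117, 4297])))) (.node (.node (.node (.node (.leaf [435, 556, 646, 798, 2057, 2265, 2549, 2778, 2983, 2988, 3510, 3527, 3697]) (.leaf [158, 297, 774, 819, 1841, 2035, 3280, 3766, 3941, 4014, 4119, 4156, 4350])) (.leaf [443, 468, 517, 621, 864, 1112, 2353,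 2946, 3479, 3575, 3677, 3929, 4125])) (.node (.leaf [367, 629, 918, 1165, 1857, 2110, 2211, 2563, 2612, 2644, 3255, 3559, 3955]) (.leaf [447, 700, 822, 1658, 2467, 3122, 3231, 3376, 3492, 3711, 3790, 3849, 3946]))) (.node (.node (.leaf [464, 529, 1209, 1410, 1731, 2441, 2711, 2768, 2978, 3033, 3185, 3607, 4249]) (.leaf [114, 141, 160, 626, 1006, 2170, 2298, 2665, 2695, 3225, 3507, 4226, 4271])) (.node (.leaf [1064, 1518, 1576, 2243, 2402, 2450, 2464, 2528, 3072, 3348, 4278, 4399, 4468]) (.leaf [295, 497, 765, 1221, 1257, 1783, 1981, 3009, 3249, 3475, 3494, 3967, 4259])))))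

def nbr14 : Janko.Tree (List ℕ) :=
  (.node (.node (.node (.node (.node (.leaf [8, 680, 1096, 1713, 1991, 2843, 3053, 3429, 3548, 3636, 3784, 3984, 4407]) (.leaf [1, 249, 1230, 1796, 2371, 2470, 2832, 2900, 3105, 3243, 3402, 4028, 4144])) (.leaf [601, 851, 956, 1229, 1246, 1703, 1734, 2350, 3530, 3615, 3746, 4223, 4433])) (.node (.leaf [571, 1178, 1347, 1418, 1710, 2003, 2292, 2442, 2986, 3001, 3527, 4074, 4374]) (.leaf [62, 740, 1098, 1399, 2133, 2289, 2506, 2583, 2929, 3058, 3178, 3354, 3831]))) (.node (.node (.leaf [648, 796, 849, 1152, 2024, 2348, 2688, 3168, 3387, 4232, 4241, 4247, 4458]) (.leaf [267, 483, 1258, 1366, 2358, 2774, 3086, 3176, 3205, 3482, 3514, 3656, 4066])) (.node (.leaf [816, 887, 1169, 1214, 1293, 2066, 2188, 2501, 2725, 3344, 3680, 3752, 4463]) (.leaf [39, 215, 260, 299, 726, 1049, 2967, 3091, 3486, 3489, 3930, 4118, 4417])))) (.node (.node (.node (.node (.leaf [436, 927, 1703, 1997, 2130, 2172, 2421, 2627, 3627, 3861, 4359, 4433, 4447]) (.leaf [59, 550, 772, 838, 1206, 1683, 2079, 2287, 2525, 2708, 3096, 3735, 3782])) (.leaf [771, 799, 1279, 1482, 1655, 2057,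 2491, 2519, 2704, 2880, 3525, 3934, 4025])) (.node (.leaf [478, 1578, 1757, 1860, 1899, 2003, 2185, 2235, 2443, 2540, 2743, 3873, 4054]) (.leaf [462, 860, 864, 1503, 1872, 1937, 2100, 2360, 2782, 2918, 3414, 3774, 4041]))) (.node (.node (.leaf [76, 132, 218, 569, 591, 1210, 1251, 1880, 2441, 2644, 2930, 3630, 4217]) (.leaf [142, 152, 338, 420, 1268, 1551, 2051, 2063, 2409, 2698, 3042, 3320, 3965])) (.node (.leaf [1210, 1581, 1662, 1707, 2091, 2238, 2441, 2486, 3311, 3619, 3713, 3863, 3894]) (.leaf [257, 372, 761, 1102, 1188, 1213, 1228, 2248, 2320, 3116, 3324, 3447, 3597])))))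

def nbr15 : Janko.Tree (List ℕ) :=
  (.node (.node (.node (.node (.node (.leaf [9, 681, 1097, 1712, 1990, 2842, 3052, 3428, 3549, 3637, 3785, 3985, 4406]) (.leaf [0, 248, 1231, 1797, 2370, 2471, 2833, 2901, 3104, 3242, 3403, 4029, 4145])) (.leaf [600, 850, 957, 1228, 1247, 1702, 1735, 2351, 3531, 3614, 3747, 4222, 4432])) (.node (.leaf [570, 1179, 1346, 1419, 1711, 2002, 2293, 2443, 2987, 3000, 3526, 4075, 4375]) (.leaf [63, 741, 1099, 1398, 2132, 2288, 2507, 2582, 2928, 3059, 3179, 3355, 3830]))) (.node (.node (.leaf [649, 797, 848, 1153, 2025, 2349, 2689, 3169, 3386, 4233, 4240, 4246, 4459]) (.leaf [266, 482, 1259, 1367, 2359, 2775, 3087, 3177, 3204, 3483, 3515, 3657, 4067])) (.node (.leaf [817, 886, 1168, 1215, 1292, 2067, 2189, 2500, 2724, 3345, 3681, 3753, 4462]) (.leaf [38, 214, 261, 298, 727, 1048, 2966, 3090, 3487, 3488, 3931, 4119, 4416])))) (.node (.node (.node (.node (.leaf [437, 926, 1702, 1996, 2131, 2173, 2420, 2626, 3626, 3860, 4358, 4432, 4446]) (.leaf [58, 551, 773, 839, 1207, 1682, 2078, 2286, 2524, 2709, 3097, 3734, 3783])) (.leaf [770, 798, 1278, 1483, 1654, 2056,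 2490, 2518, 2705, 2881, 3524, 3935, 4024])) (.node (.leaf [479, 1579, 1756, 1861, 1898, 2002, 2184, 2234, 2442, 2541, 2742, 3872, 4055]) (.leaf [463, 861, 865, 1502, 1873, 1936, 2101, 2361, 2783, 2919, 3415, 3775, 4040]))) (.node (.node (.leaf [77, 133, 219, 568, 590, 1211, 1250, 1881, 2440, 2645, 2931, 3631, 4216]) (.leaf [143, 153, 339, 421, 1269, 1550, 2050, 2062, 2408, 2699, 3043, 3321, 3964])) (.node (.leaf [1211, 1580, 1663, 1706, 2090, 2239, 2440, 2487, 3310, 3618, 3712, 3862, 3895]) (.leaf [256, 373, 760, 1103, 1189, 1212, 1229, 2249, 2321, 3117, 3325, 3446, 3596])))))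

def nbr16 : Janko.Tree (List ℕ) :=
  (.node (.node (.node (.node (.node (.leaf [14, 271, 412, 1495, 2769, 3446, 3572, 3843, 3917, 4140, 4166, 4244, 4248]) (.leaf [275, 415, 742, 768, 964, 1263, 1473, 2082, 2103, 2267, 2485, 3871, 4371])) (.leaf [49, 279, 817, 1091, 1108, 1394, 1411, 2347, 2586, 2997, 3709, 3853, 4360])) (.node (.leaf [13, 186, 277, 463, 807, 1207, 1293, 1591, 2240, 2287, 2579, 3694, 4175]) (.leaf [83, 610, 977, 1322, 1410, 1669, 2633, 3032, 3146, 3471, 3634, 3973, 4430]))) (.node (.node (.leaf [565, 650, 798, 1427, 2350, 2669, 2973, 2989, 3655, 3869, 4222, 4234, 4404]) (.leaf [287, 335, 931, 1109, 1395, 2097, 2468, 2504, 2762, 2787, 3034, 3305, 4152])) (.node (.leaf [97, 818, 969, 1295, 1586, 1923, 2068, 2074, 3022, 3196, 3682, 3739, 4465]) (.leaf [262, 280, 592, 716, 793, 1156, 1926, 2073, 2285, 3023, 3223, 3488, 3988])))) (.node (.node (.node (.node (.leaf [112, 438, 1347, 1655, 1959, 2517, 2708, 2947, 3231, 3418, 4078, 4233, 4380]) (.leaf [40, 128, 252, 995, 1264, 1321, 1968, 2765, 3112, 3291, 3366, 3581, 4027])) (.leaf [170, 802, 930, 1402, 1627, 1838, 2305, 2447,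 2787, 2793, 4261, 4306, 4396])) (.node (.leaf [101, 480, 1282, 1580, 1862, 2486, 2542, 2809, 2818, 3395, 3883, 4020, 4202]) (.leaf [704, 907, 913, 1430, 1820, 1939, 2311, 3416, 3427, 3598, 3713, 3894, 4112]))) (.node (.node (.leaf [3, 441, 1212, 1632, 1872, 2012, 2580, 3079, 3851, 3915, 3943, 4042, 4219]) (.leaf [144, 154, 340, 2053, 2065, 2600, 2696, 2700, 2940, 3009, 3703, 3967, 3980])) (.node (.leaf [930, 1212, 1326, 1664, 1770, 2784, 3014, 3222, 3621, 3715, 3815, 3865, 4042]) (.leaf [19, 377, 426, 1172, 1473, 2275, 2699, 3083, 3208, 3369, 3970, 4146, 4161])))))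

def nbr17 : Janko.Tree (List ℕ) :=
  (.node (.node (.node (.node (.node (.leaf [15, 270, 413, 1494, 2768, 3447, 3573, 3842, 3916, 4141, 4167, 4245, 4249]) (.leaf [274, 414, 743, 769, 965, 1262, 1472, 2083, 2102, 2266, 2484, 3870, 4370])) (.leaf [48, 278, 816, 1090, 1109, 1395, 1410, 2346, 2587, 2996, 3708, 3852, 4361])) (.node (.leaf [12, 187, 276, 462, 806, 1206, 1292, 1590, 2241, 2286, 2578, 3695, 4174]) (.leaf [82, 611, 976, 1323, 1411, 1668, 2632, 3033, 3147, 3470, 3635, 3972, 4431]))) (.node (.node (.leaf [564, 651, 799, 1426, 2351, 2668, 2972, 2988, 3654, 3868, 4223, 4235, 4405]) (.leaf [286, 334, 930, 1108, 1394, 2096, 2469, 2505, 2763, 2786, 3035, 3304, 4153])) (.node (.leaf [96, 819, 968, 1294, 1587, 1922, 2069, 2075, 3023, 3197, 3683, 3738, 4464]) (.leaf [263, 281, 593, 717, 792, 1157, 1927, 2072, 2284, 3022, 3222, 3489, 3989])))) (.node (.node (.node (.node (.leaf [113, 439, 1346, 1654, 1958, 2516, 2709, 2946, 3230, 3419, 4079, 4232, 4381]) (.leaf [41, 129, 253, 994, 1265, 1320, 1969, 2764, 3113, 3290, 3367, 3580, 4026])) (.leaf [171, 803, 931, 1403, 1626, 1839, 2304, 2446,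 2786, 2792, 4260, 4307, 4397])) (.node (.leaf [100, 481, 1283, 1581, 1863, 2487, 2543, 2808, 2819, 3394, 3882, 4021, 4203]) (.leaf [705, 906, 912, 1431, 1821, 1938, 2310, 3417, 3426, 3599, 3712, 3895, 4113]))) (.node (.node (.leaf [2, 440, 1213, 1633, 1873, 2013, 2581, 3078, 3850, 3914, 3942, 4043, 4218]) (.leaf [145, 155, 341, 2052, 2064, 2601, 2697, 2701, 2941, 3008, 3702, 3966, 3981])) (.node (.leaf [931, 1213, 1327, 1665, 1771, 2785, 3015, 3223, 3620, 3714, 3814, 3864, 4043]) (.leaf [18, 376, 427, 1173, 1472, 2274, 2698, 3082, 3209, 3368, 3971, 4147, 4160])))))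

def nbr18 : Janko.Tree (List ℕ) :=
  (.node (.node (.node (.node (.node (.leaf [16, 433, 620, 1059, 1830, 2685, 2771, 3448, 3935, 4011, 4031, 4164, 4250]) (.leaf [521, 1173, 1317, 1755, 1756, 2224, 2274, 2742, 3037, 4059, 4197, 4254, 4470])) (.leaf [51, 87, 545, 859, 1093, 1231, 1345, 2172, 2344, 2618, 3072, 4176, 4279])) (.node (.leaf [279, 906, 1050, 1063, 1209, 1295, 1411, 1827, 2009, 2242, 2269, 2502, 2902]) (.leaf [458, 901, 927, 965, 1751, 2267, 2626, 2811, 3135, 3345, 3362, 3702, 4140]))) (.node (.node (.leaf [400, 800, 1160, 1426, 1952, 2420, 3194, 3642, 4008, 4207, 4230, 4359, 4378]) (.leaf [444, 933, 1111, 1230, 1274, 1382, 1397, 1804, 2470, 3036, 3258, 3727, 4106])) (.node (.leaf [190, 750, 1162, 1498, 1588, 1866, 2070, 2643, 3192, 3758, 3953, 4185, 4208]) (.leaf [246, 282, 594, 718, 942, 1611, 2199, 2287, 2469, 3350, 3490, 3792, 3867])))) (.node (.node (.node (.node (.leaf [91, 382, 440, 903, 1351, 1763, 1850, 1864, 2026, 2182, 2712, 3775, 4376]) (.leaf [231, 434, 450, 771, 1384, 1397, 1520, 1720, 2761, 3127, 3367, 3996, 4013])) (.leaf [27, 673, 741, 893, 967, 1243, 2101,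 2127, 2829, 2884, 3041, 4277, 4298])) (.node (.leaf [148, 731, 1690, 1866, 2049, 2059, 2070, 2240, 2404, 2564, 3244, 3773, 4102]) (.leaf [344, 1014, 1288, 2090, 2094, 2364, 2691, 2978, 3456, 3509, 3606, 3665, 4210]))) (.node (.node (.leaf [619, 871, 991, 1004, 1253, 1281, 1288, 2663, 2690, 3177, 3331, 4258, 4318]) (.leaf [32, 613, 668, 985, 1157, 1555, 1789, 1876, 2085, 2693, 2807, 2878, 3797])) (.node (.leaf [631, 765, 1381, 1686, 2494, 2565, 3252, 3510, 3546, 3646, 3697, 3764, 4206]) (.leaf [271, 522, 844, 1799, 1904, 1917, 1961, 2286, 3042, 3227, 3782, 3866, 4245])))))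

def nbr19 : Janko.Tree (List ℕ) :=
  (.node (.node (.node (.node (.node (.leaf [17, 432, 621, 1058, 1831, 2684, 2770, 3449, 3934, 4010, 4030, 4165, 4251]) (.leaf [520, 1172, 1316, 1754, 1757, 2225, 2275, 2743, 3036, 4058, 4196, 4255, 4471])) (.leaf [50, 86, 544, 858, 1092, 1230, 1344, 2173, 2345, 2619, 3073, 4177, 4278])) (.node (.leaf [278, 907, 1051, 1062, 1208, 1294, 1410, 1826, 2008, 2243, 2268, 2503, 2903]) (.leaf [459, 900, 926, 964, 1750, 2266, 2627, 2810, 3134, 3344, 3363, 3703, 4141]))) (.node (.node (.leaf [401, 801, 1161, 1427, 1953, 2421, 3195, 3643, 4009, 4206, 4231, 4358, 4379]) (.leaf [445, 932, 1110, 1231, 1275, 1383, 1396, 1805, 2471, 3037, 3259, 3726, 4107])) (.node (.leaf [191, 751, 1163, 1499, 1589, 1867, 2071, 2642, 3193, 3759, 3952, 4184, 4209]) (.leaf [247, 283, 595, 719, 943, 1610, 2198, 2286, 2468, 3351, 3491, 3793, 3866])))) (.node (.node (.node (.node (.leaf [90, 383, 441, 902, 1350, 1762, 1851, 1865, 2027, 2183, 2713, 3774, 4377]) (.leaf [230, 435, 451, 770, 1385, 1396, 1521, 1721, 2760, 3126, 3366, 3997, 4012])) (.leaf [26, 672, 740, 892, 966, 1242, 2100,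 2126, 2828, 2885, 3040, 4276, 4299])) (.node (.leaf [149, 730, 1691, 1867, 2048, 2058, 2071, 2241, 2405, 2565, 3245, 3772, 4103]) (.leaf [345, 1015, 1289, 2091, 2095, 2365, 2690, 2979, 3457, 3508, 3607, 3664, 4211]))) (.node (.node (.leaf [618, 870, 990, 1005, 1252, 1280, 1289, 2662, 2691, 3176, 3330, 4259, 4319]) (.leaf [33, 612, 669, 984, 1156, 1554, 1788, 1877, 2084, 2692, 2806, 2879, 3796])) (.node (.leaf [630, 764, 1380, 1687, 2495, 2564, 3253, 3511, 3547, 3647, 3696, 3765, 4207]) (.leaf [270, 523, 845, 1798, 1905, 1916, 1960, 2287, 3043, 3226, 3783, 3867, 4244])))))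

def nbr110 : Janko.Tree (List ℕ) :=
  (.node (.node (.node (.node (.node (.leaf [18, 267, 1172, 1559, 2479, 2773, 2779, 2983, 3483, 3585, 3613, 4059, 4065]) (.leaf [2, 680, 1069, 1336, 1549, 1566, 1743, 1838, 1873, 2760, 3775, 3829, 4414])) (.leaf [53, 126, 547, 637, 861, 1233, 1532, 1801, 1840, 2728, 3472, 3944, 4395])) (.node (.leaf [87, 203, 731, 1065, 1144, 1452, 2125, 2146, 2643, 3072, 3389, 3639, 4122]) (.leaf [312, 613, 629, 992, 1190, 1742, 1851, 2715, 2806, 2918, 3558, 3775, 4322]))) (.node (.node (.leaf [385, 402, 802, 1221, 1313, 1403, 1428, 1582, 1988, 3405, 3644, 4364, 4384]) (.leaf [675, 987, 1192, 1330, 1356, 1834, 2006, 2472, 3002, 3498, 3503, 3889, 4138])) (.node (.leaf [288, 354, 1085, 1590, 1883, 2072, 2727, 3024, 3510, 3608, 3684, 3965, 4290]) (.leaf [244, 264, 284, 1066, 1086, 1986, 2164, 2502, 2851, 3396, 3492, 3716, 3982])))) (.node (.node (.node (.node (.leaf [442, 695, 1475, 1641, 1765, 1860, 2028, 2184, 3418, 3599, 3886, 4179, 4239]) (.leaf [9, 649, 1129, 1376, 1553, 1693, 1948, 2022, 3196, 3473, 3898, 3984, 4429])) (.leaf [29, 380, 643, 675, 1245, 1913,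 2698, 2886, 3043, 3298, 3712, 3810, 3863])) (.node (.leaf [178, 667, 1019, 1426, 1529, 1868, 2223, 2229, 2445, 2992, 3332, 3602, 4207]) (.leaf [786, 931, 1016, 1147, 1303, 1626, 2096, 2531, 3319, 3674, 3776, 3795, 3856]))) (.node (.node (.leaf [831, 873, 993, 1214, 1303, 1627, 1869, 2433, 3126, 3954, 4206, 4253, 4260]) (.leaf [34, 151, 1159, 1417, 1441, 1821, 1931, 2197, 2246, 2347, 2912, 2996, 4112])) (.node (.leaf [64, 92, 207, 690, 762, 947, 1281, 2223, 2653, 2706, 3448, 3817, 4421]) (.leaf [327, 651, 1145, 1700, 1919, 1965, 2207, 3044, 3403, 3584, 3613, 4008, 4450])))))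

def nbr111 : Janko.Tree (List ℕ) :=
  (.node (.node (.node (.node (.node (.leaf [19, 266, 1173, 1558, 2478, 2772, 2778, 2982, 3482, 3584, 3612, 4058, 4064]) (.leaf [3, 681, 1068, 1337, 1548, 1567, 1742, 1839, 1872, 2761, 3774, 3828, 4415])) (.leaf [52, 127, 546, 636, 860, 1232, 1533, 1800, 1841, 2729, 3473, 3945, 4394])) (.node (.leaf [86, 202, 730, 1064, 1145, 1453, 2124, 2147, 2642, 3073, 3388, 3638, 4123]) (.leaf [313, 612, 628, 993, 1191, 1743, 1850, 2714, 2807, 2919, 3559, 3774, 4323]))) (.node (.node (.leaf [384, 403, 803, 1220, 1312, 1402, 1429, 1583, 1989, 3404, 3645, 4365, 4385]) (.leaf [674, 986, 1193, 1331, 1357, 1835, 2007, 2473, 3003, 3499, 3502, 3888, 4139])) (.node (.leaf [289, 355, 1084, 1591, 1882, 2073, 2726, 3025, 3511, 3609, 3685, 3964, 4291]) (.leaf [245, 265, 285, 1067, 1087, 1987, 2165, 2503, 2850, 3397, 3493, 3717, 3983])))) (.node (.node (.node (.node (.leaf [443, 694, 1474, 1640, 1764, 1861, 2029, 2185, 3419, 3598, 3887, 4178, 4238]) (.leaf [8, 648, 1128, 1377, 1552, 1692, 1949, 2023, 3197, 3472, 3899, 3985, 4428])) (.leaf [28, 381, 642, 674, 1244, 1912,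 2699, 2887, 3042, 3299, 3713, 3811, 3862])) (.node (.leaf [179, 666, 1018, 1427, 1528, 1869, 2222, 2228, 2444, 2993, 3333, 3603, 4206]) (.leaf [787, 930, 1017, 1146, 1302, 1627, 2097, 2530, 3318, 3675, 3777, 3794, 3857]))) (.node (.node (.leaf [830, 872, 992, 1215, 1302, 1626, 1868, 2432, 3127, 3955, 4207, 4252, 4261]) (.leaf [35, 150, 1158, 1416, 1440, 1820, 1930, 2196, 2247, 2346, 2913, 2997, 4113])) (.node (.leaf [65, 93, 206, 691, 763, 946, 1280, 2222, 2652, 2707, 3449, 3816, 4420]) (.leaf [326, 650, 1144, 1701, 1918, 1964, 2206, 3045, 3402, 3585, 3612, 4009, 4451])))))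

def nbr112 : Janko.Tree (List ℕ) :=
  (.node (.node (.node (.node (.node (.leaf [20, 1128, 1706, 1973, 2308, 2481, 2741, 2827, 3310, 3615, 3640, 4182, 4392]) (.leaf [101, 1162, 1283, 1348, 1523, 2218, 2295, 2454, 2483, 3002, 3855, 4077, 4272])) (.leaf [116, 149, 927, 1235, 1269, 1619, 1811, 2870, 3084, 3103, 3135, 3244, 3320])) (.node (.leaf [74, 733, 1067, 1374, 1454, 1532, 1801, 1883, 2148, 2904, 3391, 3570, 3982]) (.leaf [314, 418, 560, 615, 631, 1744, 2311, 2717, 2855, 3419, 3599, 3647, 4431]))) (.node (.node (.leaf [346, 661, 1507, 1780, 2106, 2312, 2347, 2684, 2735, 3047, 3869, 4090, 4372]) (.leaf [389, 989, 1194, 1332, 1358, 1708, 1850, 2200, 2712, 2715, 3167, 3238, 3840])) (.node (.leaf [193, 327, 676, 969, 1349, 1667, 2074, 2218, 2677, 2759, 3142, 3543, 3963]) (.leaf [266, 286, 596, 624, 1395, 1563, 2837, 2853, 3293, 3398, 3769, 4355, 4360])))) (.node (.node (.node (.node (.leaf [113, 434, 444, 918, 1110, 2159, 2209, 2724, 3200, 3513, 3647, 3680, 3951]) (.leaf [182, 515, 916, 1699, 1745, 2040, 2439, 2660, 2717, 2857, 2866, 4243, 4285])) (.leaf [113, 325, 887, 1186, 1347,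 2169, 2723, 2725, 2824, 2987, 3617, 4016, 4264])) (.node (.leaf [889, 1254, 1622, 1733, 1941, 2777, 2985, 3108, 3453, 3919, 4143, 4303, 4389]) (.leaf [271, 1006, 1370, 1799, 1910, 2159, 2202, 2365, 2390, 2599, 3837, 4186, 4326]))) (.node (.node (.leaf [563, 621, 1194, 1216, 1526, 1533, 1956, 2139, 2632, 2883, 3296, 3361, 3841]) (.leaf [36, 204, 665, 1419, 1823, 2214, 2270, 2293, 2796, 2875, 2914, 3624, 4114])) (.node (.leaf [331, 474, 906, 1323, 1343, 1411, 2061, 2303, 2584, 2978, 3347, 3549, 3599]) (.leaf [88, 609, 1575, 1702, 1921, 2474, 2625, 2960, 3405, 3615, 3641, 3983, 4447])))))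

def nbr113 : Janko.Tree (List ℕ) :=
  (.node (.node (.node (.node (.node (.leaf [21, 1129, 1707, 1972, 2309, 2480, 2740, 2826, 3311, 3614, 3641, 4183, 4393]) (.leaf [100, 1163, 1282, 1349, 1522, 2219, 2294, 2455, 2482, 3003, 3854, 4076, 4273])) (.leaf [117, 148, 926, 1234, 1268, 1618, 1810, 2871, 3085, 3102, 3134, 3245, 3321])) (.node (.leaf [75, 732, 1066, 1375, 1455, 1533, 1800, 1882, 2149, 2905, 3390, 3571, 3983]) (.leaf [315, 419, 561, 614, 630, 1745, 2310, 2716, 2854, 3418, 3598, 3646, 4430]))) (.node (.node (.leaf [347, 660, 1506, 1781, 2107, 2313, 2346, 2685, 2734, 3046, 3868, 4091, 4373]) (.leaf [388, 988, 1195, 1333, 1359, 1709, 1851, 2201, 2713, 2714, 3166, 3239, 3841])) (.node (.leaf [192, 326, 677, 968, 1348, 1666, 2075, 2219, 2676, 2758, 3143, 3542, 3962]) (.leaf [267, 287, 597, 625, 1394, 1562, 2836, 2852, 3292, 3399, 3768, 4354, 4361])))) (.node (.node (.node (.node (.leaf [112, 435, 445, 919, 1111, 2158, 2208, 2725, 3201, 3512, 3646, 3681, 3950]) (.leaf [183, 514, 917, 1698, 1744, 2041, 2438, 2661, 2716, 2856, 2867, 4242, 4284])) (.leaf [112, 324, 886, 1187, 1346,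 2168, 2722, 2724, 2825, 2986, 3616, 4017, 4265])) (.node (.leaf [888, 1255, 1623, 1732, 1940, 2776, 2984, 3109, 3452, 3918, 4142, 4302, 4388]) (.leaf [270, 1007, 1371, 1798, 1911, 2158, 2203, 2364, 2391, 2598, 3836, 4187, 4327]))) (.node (.node (.leaf [562, 620, 1195, 1217, 1527, 1532, 1957, 2138, 2633, 2882, 3297, 3360, 3840]) (.leaf [37, 205, 664, 1418, 1822, 2215, 2271, 2292, 2797, 2874, 2915, 3625, 4115])) (.node (.leaf [330, 475, 907, 1322, 1342, 1410, 2060, 2302, 2585, 2979, 3346, 3548, 3598]) (.leaf [89, 608, 1574, 1703, 1920, 2475, 2624, 2961, 3404, 3614, 3640, 3982, 4446])))))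

def nbr114 : Janko.Tree (List ℕ) :=
  (.node (.node (.node (.node (.node (.leaf [30, 479, 706, 1577, 1969, 2385, 2649, 3237, 3872, 4070, 4343, 4438, 4448]) (.leaf [438, 651, 694, 837, 925, 1181, 1198, 1216, 2423, 2972, 3844, 3971, 4079])) (.leaf [273, 279, 431, 1062, 1561, 1565, 2022, 2535, 2617, 3213, 3848, 3852, 4037])) (.node (.leaf [315, 875, 904, 910, 1071, 1666, 1711, 2995, 3412, 3599, 3886, 3938, 4060]) (.leaf [331, 332, 479, 521, 638, 1410, 1757, 3272, 3607, 3635, 3926, 4423, 4439]))) (.node (.node (.leaf [165, 443, 694, 1069, 1497, 1659, 1838, 2299, 2664, 3433, 3680, 3913, 4026]) (.leaf [316, 890, 1040, 1308, 1360, 1800, 2728, 3036, 3399, 3845, 3877, 4335, 4471])) (.node (.leaf [88, 195, 678, 1198, 1849, 2014, 2076, 2223, 3029, 3144, 3844, 3952, 4120]) (.leaf [66, 635, 1108, 1563, 1789, 2293, 2571, 2658, 2879, 2985, 3452, 3485, 4163])))) (.node (.node (.node (.node (.leaf [193, 303, 446, 734, 1453, 2075, 2655, 2799, 2834, 3682, 3762, 4274, 4479]) (.leaf [45, 348, 992, 1691, 1711, 1802, 1850, 2167, 2604, 2866, 3980, 4242, 4286])) (.leaf [89, 296, 611, 818, 1669, 2797, 2888,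 2915, 2960, 3413, 3827, 4281, 4460])) (.node (.leaf [891, 1256, 1725, 1943, 1999, 2427, 3574, 3652, 3929, 4209, 4226, 4270, 4381]) (.leaf [336, 734, 787, 894, 1059, 2435, 3696, 3737, 3818, 4053, 4262, 4295, 4317]))) (.node (.node (.leaf [235, 325, 648, 1218, 1535, 1780, 1901, 1949, 1958, 3289, 4080, 4232, 4329]) (.leaf [38, 376, 1447, 1457, 1561, 1642, 3121, 3565, 3609, 4006, 4047, 4083, 4136])) (.node (.leaf [87, 203, 1385, 1520, 1747, 2269, 2288, 2303, 2305, 3548, 3698, 3757, 3799]) (.leaf [468, 498, 990, 1182, 1291, 1788, 2696, 2714, 2865, 3779, 3929, 4104, 4319])))))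

def nbr115 : Janko.Tree (List ℕ) :=
  (.node (.node (.node (.node (.node (.leaf [31, 478, 707, 1576, 1968, 2384, 2648, 3236, 3873, 4071, 4342, 4439, 4449]) (.leaf [439, 650, 695, 836, 924, 1180, 1199, 1217, 2422, 2973, 3845, 3970, 4078])) (.leaf [272, 278, 430, 1063, 1560, 1564, 2023, 2534, 2616, 3212, 3849, 3853, 4036])) (.node (.leaf [314, 874, 905, 911, 1070, 1667, 1710, 2994, 3413, 3598, 3887, 3939, 4061]) (.leaf [330, 333, 478, 520, 639, 1411, 1756, 3273, 3606, 3634, 3927, 4422, 4438]))) (.node (.node (.leaf [164, 442, 695, 1068, 1496, 1658, 1839, 2298, 2665, 3432, 3681, 3912, 4027]) (.leaf [317, 891, 1041, 1309, 1361, 1801, 2729, 3037, 3398, 3844, 3876, 4334, 4470])) (.node (.leaf [89, 194, 679, 1199, 1848, 2015, 2077, 2222, 3028, 3145, 3845, 3953, 4121]) (.leaf [67, 634, 1109, 1562, 1788, 2292, 2570, 2659, 2878, 2984, 3453, 3484, 4162])))) (.node (.node (.node (.node (.leaf [192, 302, 447, 735, 1452, 2074, 2654, 2798, 2835, 3683, 3763, 4275, 4478]) (.leaf [44, 349, 993, 1690, 1710, 1803, 1851, 2166, 2605, 2867, 3981, 4243, 4287])) (.leaf [88, 297, 610, 819, 1668, 2796, 2889,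 2914, 2961, 3412, 3826, 4280, 4461])) (.node (.leaf [890, 1257, 1724, 1942, 1998, 2426, 3575, 3653, 3928, 4208, 4227, 4271, 4380]) (.leaf [337, 735, 786, 895, 1058, 2434, 3697, 3736, 3819, 4052, 4263, 4294, 4316]))) (.node (.node (.leaf [234, 324, 649, 1219, 1534, 1781, 1900, 1948, 1959, 3288, 4081, 4233, 4328]) (.leaf [39, 377, 1446, 1456, 1560, 1643, 3120, 3564, 3608, 4007, 4046, 4082, 4137])) (.node (.leaf [86, 202, 1384, 1521, 1746, 2268, 2289, 2302, 2304, 3549, 3699, 3756, 3798]) (.leaf [469, 499, 991, 1183, 1290, 1789, 2697, 2715, 2864, 3778, 3928, 4105, 4318])))))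

def nbr116 : Janko.Tree (List ℕ) :=
  (.node (.node (.node (.node (.node (.leaf [32, 481, 708, 1832, 2231, 2256, 2265, 2738, 2929, 3428, 3976, 4021, 4287]) (.leaf [135, 484, 737, 744, 771, 975, 1689, 1698, 1749, 2077, 2220, 2660, 4024])) (.leaf [275, 427, 549, 581, 769, 1155, 1673, 2024, 3033, 3316, 3410, 3742, 4039])) (.node (.leaf [14, 509, 587, 1115, 1422, 1609, 1808, 1890, 1906, 1948, 2066, 2766, 3551]) (.leaf [198, 423, 703, 1266, 2909, 3086, 3183, 3414, 3644, 3711, 3743, 4040, 4179]))) (.node (.node (.leaf [8, 221, 556, 645, 1017, 1303, 1376, 1479, 1866, 2433, 2522, 3299, 4084]) (.leaf [220, 318, 556, 1042, 1362, 1619, 2555, 3226, 3842, 3846, 3972, 4245, 4455])) (.node (.leaf [94, 159, 520, 949, 1354, 2225, 2373, 2406, 2736, 3425, 3761, 3954, 4423]) (.leaf [68, 874, 1025, 1110, 1565, 1791, 2186, 2295, 2353, 2535, 2573, 3575, 3652])))) (.node (.node (.node (.node (.leaf [296, 329, 448, 462, 464, 865, 1112, 1591, 2351, 2889, 3170, 3741, 4277]) (.leaf [98, 1194, 1477, 1646, 1848, 1974, 2076, 2211, 2551, 2980, 3009, 3092, 3600])) (.leaf [300, 314, 615, 973, 985, 1071, 1697, 1876,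 2890, 2973, 3358, 3868, 4394])) (.node (.leaf [1088, 1378, 1534, 1649, 1743, 1872, 2431, 2551, 2865, 2919, 3569, 3691, 4105]) (.leaf [477, 880, 1356, 1563, 2477, 2581, 2697, 2988, 3292, 3511, 3764, 3778, 4305]))) (.node (.node (.leaf [202, 362, 702, 1220, 1403, 1478, 1784, 1867, 2049, 2141, 2456, 2792, 3470]) (.leaf [40, 581, 584, 821, 881, 1064, 2533, 3290, 3567, 3611, 4085, 4267, 4445])) (.node (.leaf [74, 370, 1101, 1801, 2133, 2290, 2307, 3072, 3564, 3649, 3694, 4176, 4398]) (.leaf [24, 248, 552, 941, 1309, 1975, 2210, 2247, 2904, 3521, 4145, 4362, 4402])))))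

def nbr117 : Janko.Tree (List ℕ) :=
  (.node (.node (.node (.node (.node (.leaf [33, 480, 709, 1833, 2230, 2257, 2264, 2739, 2928, 3429, 3977, 4020, 4286]) (.leaf [134, 485, 736, 745, 770, 974, 1688, 1699, 1748, 2076, 2221, 2661, 4025])) (.leaf [274, 426, 548, 580, 768, 1154, 1672, 2025, 3032, 3317, 3411, 3743, 4038])) (.node (.leaf [15, 508, 586, 1114, 1423, 1608, 1809, 1891, 1907, 1949, 2067, 2767, 3550]) (.leaf [199, 422, 702, 1267, 2908, 3087, 3182, 3415, 3645, 3710, 3742, 4041, 4178]))) (.node (.node (.leaf [9, 220, 557, 644, 1016, 1302, 1377, 1478, 1867, 2432, 2523, 3298, 4085]) (.leaf [221, 319, 557, 1043, 1363, 1618, 2554, 3227, 3843, 3847, 3973, 4244, 4454])) (.node (.leaf [95, 158, 521, 948, 1355, 2224, 2372, 2407, 2737, 3424, 3760, 3955, 4422]) (.leaf [69, 875, 1024, 1111, 1564, 1790, 2187, 2294, 2352, 2534, 2572, 3574, 3653])))) (.node (.node (.node (.node (.leaf [297, 328, 449, 463, 465, 864, 1113, 1590, 2350, 2888, 3171, 3740, 4276]) (.leaf [99, 1195, 1476, 1647, 1849, 1975, 2077, 2210, 2550, 2981, 3008, 3093, 3601])) (.leaf [301, 315, 614, 972, 984, 1070, 1696, 1877,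 2891, 2972, 3359, 3869, 4395])) (.node (.leaf [1089, 1379, 1535, 1648, 1742, 1873, 2430, 2550, 2864, 2918, 3568, 3690, 4104]) (.leaf [476, 881, 1357, 1562, 2476, 2580, 2696, 2989, 3293, 3510, 3765, 3779, 4304]))) (.node (.node (.leaf [203, 363, 703, 1221, 1402, 1479, 1785, 1866, 2048, 2140, 2457, 2793, 3471]) (.leaf [41, 580, 585, 820, 880, 1065, 2532, 3291, 3566, 3610, 4084, 4266, 4444])) (.node (.leaf [75, 371, 1100, 1800, 2132, 2291, 2306, 3073, 3565, 3648, 3695, 4177, 4399]) (.leaf [25, 249, 553, 940, 1308, 1974, 2211, 2246, 2905, 3520, 4144, 4363, 4403])))))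

def nbr118 : Janko.Tree (List ℕ) :=
  (.node (.node (.node (.node (.node (.leaf [34, 709, 739, 1663, 2262, 2392, 2600, 3481, 3532, 3543, 3980, 4072, 4325]) (.leaf [27, 137, 490, 730, 1075, 1691, 1751, 2031, 2814, 3050, 3088, 3345, 4459])) (.leaf [527, 805, 1167, 1239, 1943, 2239, 2600, 2931, 3128, 3246, 3279, 4324, 4475])) (.node (.leaf [16, 58, 601, 838, 1073, 1290, 1398, 1424, 1950, 2068, 3148, 3791, 3905]) (.leaf [550, 635, 1051, 1388, 1574, 1754, 1826, 2625, 2710, 3453, 3501, 3693, 4146]))) (.node (.node (.leaf [216, 223, 558, 673, 698, 846, 876, 1305, 1661, 2908, 3001, 3684, 4168]) (.leaf [228, 1547, 1657, 2170, 2319, 2437, 2461, 2493, 3038, 3094, 3430, 3482, 3507])) (.node (.leaf [143, 522, 2078, 2221, 2375, 2408, 2843, 2953, 3302, 3637, 3678, 3783, 3925]) (.leaf [70, 277, 1057, 1534, 1715, 1793, 1835, 2131, 2721, 3155, 3690, 3762, 3769])))) (.node (.node (.node (.node (.leaf [242, 298, 331, 450, 466, 907, 1114, 1609, 2502, 3172, 3515, 3863, 3895]) (.leaf [13, 276, 428, 647, 1562, 1687, 2545, 3484, 3510, 3769, 3851, 4195, 4424])) (.leaf [122, 975, 1671, 1699, 1904, 2300, 2632,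 2688, 2721, 2964, 2975, 3012, 3360])) (.node (.leaf [186, 804, 1092, 1181, 1586, 1874, 2999, 3005, 3276, 3279, 3695, 3970, 4176]) (.leaf [184, 1150, 1188, 1654, 2090, 2444, 2678, 2709, 3325, 3529, 3672, 4220, 4398]))) (.node (.node (.leaf [270, 994, 1222, 1485, 1681, 1768, 1961, 2038, 2599, 3581, 3812, 4141, 4382]) (.leaf [48, 1084, 1266, 1353, 1379, 1799, 2387, 2751, 2908, 3816, 3965, 4391, 4401])) (.node (.leaf [99, 487, 712, 941, 1027, 1227, 2379, 3063, 3159, 3374, 3468, 3687, 3834]) (.leaf [107, 406, 1242, 1432, 1495, 1796, 1800, 2259, 2339, 2358, 2669, 3671, 4335])))))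

def nbr119 : Janko.Tree (List ℕ) :=
  (.node (.node (.node (.node (.node (.leaf [35, 708, 738, 1662, 2263, 2393, 2601, 3480, 3533, 3542, 3981, 4073, 4324]) (.leaf [26, 136, 491, 731, 1074, 1690, 1750, 2030, 2815, 3051, 3089, 3344, 4458])) (.leaf [526, 804, 1166, 1238, 1942, 2238, 2601, 2930, 3129, 3247, 3278, 4325, 4474])) (.node (.leaf [17, 59, 600, 839, 1072, 1291, 1399, 1425, 1951, 2069, 3149, 3790, 3904]) (.leaf [551, 634, 1050, 1389, 1575, 1755, 1827, 2624, 2711, 3452, 3500, 3692, 4147]))) (.node (.node (.leaf [217, 222, 559, 672, 699, 847, 877, 1304, 1660, 2909, 3000, 3685, 4169]) (.leaf [229, 1546, 1656, 2171, 2318, 2436, 2460, 2492, 3039, 3095, 3431, 3483, 3506])) (.node (.leaf [142, 523, 2079, 2220, 2374, 2409, 2842, 2952, 3303, 3636, 3679, 3782, 3924]) (.leaf [71, 276, 1056, 1535, 1714, 1792, 1834, 2130, 2720, 3154, 3691, 3763, 3768])))) (.node (.node (.node (.node (.leaf [243, 299, 330, 451, 467, 906, 1115, 1608, 2503, 3173, 3514, 3862, 3894]) (.leaf [12, 277, 429, 646, 1563, 1686, 2544, 3485, 3511, 3768, 3850, 4194, 4425])) (.leaf [123, 974, 1670, 1698, 1905, 2301, 2633,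 2689, 2720, 2965, 2974, 3013, 3361])) (.node (.leaf [187, 805, 1093, 1180, 1587, 1875, 2998, 3004, 3277, 3278, 3694, 3971, 4177]) (.leaf [185, 1151, 1189, 1655, 2091, 2445, 2679, 2708, 3324, 3528, 3673, 4221, 4399]))) (.node (.node (.leaf [271, 995, 1223, 1484, 1680, 1769, 1960, 2039, 2598, 3580, 3813, 4140, 4383]) (.leaf [49, 1085, 1267, 1352, 1378, 1798, 2386, 2750, 2909, 3817, 3964, 4390, 4400])) (.node (.leaf [98, 486, 713, 940, 1026, 1226, 2378, 3062, 3158, 3375, 3469, 3686, 3835]) (.leaf [106, 407, 1243, 1433, 1494, 1797, 1801, 2258, 2338, 2359, 2668, 3670, 4334])))))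

def nbr120 : Janko.Tree (List ℕ) :=
  (.node (.node (.node (.node (.node (.leaf [36, 537, 741, 1038, 1239, 1665, 1846, 1932, 3029, 3341, 3578, 4092, 4432]) (.leaf [165, 998, 1044, 1202, 1811, 2212, 2227, 2552, 3095, 3195, 4233, 4406, 4459])) (.leaf [196, 807, 1241, 1932, 2155, 2567, 2578, 3223, 3551, 3942, 4093, 4352, 4400])) (.node (.leaf [22, 357, 479, 747, 799, 1861, 1930, 2061, 2646, 3302, 3599, 3655, 4445]) (.leaf [147, 206, 276, 738, 1091, 1209, 1341, 1509, 2721, 2807, 3413, 3708, 4460]))) (.node (.node (.leaf [50, 157, 700, 823, 1231, 1397, 2291, 3195, 3402, 3446, 4167, 4230, 4347]) (.leaf [283, 675, 2329, 2422, 2466, 2469, 2870, 2883, 3034, 3321, 3752, 3840, 4301])) (.node (.leaf [199, 458, 519, 608, 965, 981, 1652, 1725, 1764, 2559, 2927, 4099, 4179]) (.leaf [72, 279, 388, 577, 1003, 1159, 1795, 2023, 2161, 2723, 2981, 2997, 3692])))) (.node (.node (.node (.node (.leaf [202, 300, 452, 474, 512, 1000, 2101, 2303, 2891, 3617, 3823, 3849, 4122]) (.leaf [1165, 1449, 1562, 1809, 2053, 2136, 2283, 2308, 2362, 2409, 2696, 4355, 4476])) (.leaf [82, 352, 386, 1673, 1750, 2737, 2811,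 3050, 3633, 3838, 3845, 3952, 4420])) (.node (.leaf [636, 806, 1050, 1463, 1738, 1876, 2036, 2903, 3007, 3409, 3944, 4146, 4352]) (.leaf [186, 448, 464, 931, 1152, 1310, 2204, 2446, 2680, 2711, 3294, 3780, 4349]))) (.node (.node (.leaf [268, 390, 996, 1058, 1224, 1487, 1963, 2040, 2435, 2856, 3461, 3583, 3934]) (.leaf [337, 895, 1112, 1266, 1518, 1871, 1892, 2121, 2465, 2519, 3162, 4134, 4158])) (.node (.leaf [132, 332, 569, 1755, 1757, 2457, 3255, 3501, 3636, 3940, 4055, 4267, 4430]) (.leaf [111, 267, 679, 841, 897, 1121, 1857, 2671, 2853, 3701, 3835, 4017, 4302])))))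

def nbr121 : Janko.Tree (List ℕ) :=
  (.node (.node (.node (.node (.node (.leaf [37, 536, 740, 1039, 1238, 1664, 1847, 1933, 3028, 3340, 3579, 4093, 4433]) (.leaf [164, 999, 1045, 1203, 1810, 2213, 2226, 2553, 3094, 3194, 4232, 4407, 4458])) (.leaf [197, 806, 1240, 1933, 2154, 2566, 2579, 3222, 3550, 3943, 4092, 4353, 4401])) (.node (.leaf [23, 356, 478, 746, 798, 1860, 1931, 2060, 2647, 3303, 3598, 3654, 4444]) (.leaf [146, 207, 277, 739, 1090, 1208, 1340, 1508, 2720, 2806, 3412, 3709, 4461]))) (.node (.node (.leaf [51, 156, 701, 822, 1230, 1396, 2290, 3194, 3403, 3447, 4166, 4231, 4346]) (.leaf [282, 674, 2328, 2423, 2467, 2468, 2871, 2882, 3035, 3320, 3753, 3841, 4300])) (.node (.leaf [198, 459, 518, 609, 964, 980, 1653, 1724, 1765, 2558, 2926, 4098, 4178]) (.leaf [73, 278, 389, 576, 1002, 1158, 1794, 2022, 2160, 2722, 2980, 2996, 3693])))) (.node (.node (.node (.node (.leaf [203, 301, 453, 475, 513, 1001, 2100, 2302, 2890, 3616, 3822, 3848, 4123]) (.leaf [1164, 1448, 1563, 1808, 2052, 2137, 2282, 2309, 2363, 2408, 2697, 4354, 4477])) (.leaf [83, 353, 387, 1672, 1751, 2736, 2810,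 3051, 3632, 3839, 3844, 3953, 4421])) (.node (.leaf [637, 807, 1051, 1462, 1739, 1877, 2037, 2902, 3006, 3408, 3945, 4147, 4353]) (.leaf [187, 449, 465, 930, 1153, 1311, 2205, 2447, 2681, 2710, 3295, 3781, 4348]))) (.node (.node (.leaf [269, 391, 997, 1059, 1225, 1486, 1962, 2041, 2434, 2857, 3460, 3582, 3935]) (.leaf [336, 894, 1113, 1267, 1519, 1870, 1893, 2120, 2464, 2518, 3163, 4135, 4159])) (.node (.leaf [133, 333, 568, 1754, 1756, 2456, 3254, 3500, 3637, 3941, 4054, 4266, 4431]) (.leaf [110, 266, 678, 840, 896, 1120, 1856, 2670, 2852, 3700, 3834, 4016, 4303])))))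

def nbr122 : Janko.Tree (List ℕ) :=
  (.node (.node (.node (.node (.node (.leaf [38, 299, 466, 473, 1090, 1355, 2297, 2946, 3275, 3439, 3547, 3760, 4124]) (.leaf [167, 300, 747, 1000, 1204, 2229, 2507, 3498, 3553, 3590, 3654, 4235, 4365])) (.leaf [175, 529, 1243, 2087, 2157, 2922, 3130, 3184, 3248, 3553, 3671, 3900, 4259])) (.node (.leaf [26, 795, 861, 1075, 1123, 1663, 1848, 1936, 2217, 2650, 3064, 3318, 4298]) (.leaf [158, 278, 740, 764, 1511, 2208, 2325, 2702, 2723, 2791, 3280, 3646, 4298]))) (.node (.node (.leaf [52, 553, 702, 1233, 1403, 1448, 2055, 2428, 2475, 3448, 4044, 4165, 4365]) (.leaf [556, 1422, 1478, 1636, 1976, 2048, 2544, 3510, 3550, 3772, 4173, 4305, 4315])) (.node (.leaf [201, 507, 510, 682, 1654, 2491, 2545, 2561, 2984, 3455, 3485, 3538, 4142]) (.leaf [98, 1135, 1457, 1896, 1924, 2015, 2037, 2077, 2583, 3199, 3686, 3867, 4428])))) (.node (.node (.node (.node (.leaf [75, 122, 454, 2301, 2904, 3087, 3142, 3174, 3389, 3458, 3649, 3712, 3743]) (.leaf [554, 822, 1142, 2006, 2220, 2371, 2408, 2418, 3067, 3401, 3402, 4354, 4475])) (.leaf [55, 313, 355, 1117, 1619, 2892,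 3090, 3327, 3635, 3679, 4278, 4293, 4422])) (.node (.leaf [151, 452, 654, 732, 1878, 2073, 2147, 2243, 2267, 3355, 3685, 3989, 4123]) (.leaf [606, 767, 1008, 1393, 2348, 2436, 2511, 2676, 2759, 3379, 3914, 4237, 4241]))) (.node (.node (.leaf [1080, 1226, 1369, 1489, 1683, 1784, 1965, 3015, 3158, 3482, 3612, 3734, 3814]) (.leaf [41, 97, 495, 714, 1321, 1623, 2098, 3109, 3155, 3175, 3380, 3763, 4102])) (.node (.leaf [511, 705, 913, 989, 998, 1881, 1957, 2594, 2656, 3455, 3814, 4232, 4455]) (.leaf [25, 115, 343, 657, 683, 1290, 2675, 3485, 3730, 4104, 4194, 4243, 4461])))))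

def nbr123 : Janko.Tree (List ℕ) :=
  (.node (.node (.node (.node (.node (.leaf [39, 298, 467, 472, 1091, 1354, 2296, 2947, 3274, 3438, 3546, 3761, 4125]) (.leaf [166, 301, 746, 1001, 1205, 2228, 2506, 3499, 3552, 3591, 3655, 4234, 4364])) (.leaf [174, 528, 1242, 2086, 2156, 2923, 3131, 3185, 3249, 3552, 3670, 3901, 4258])) (.node (.leaf [27, 794, 860, 1074, 1122, 1662, 1849, 1937, 2216, 2651, 3065, 3319, 4299]) (.leaf [159, 279, 741, 765, 1510, 2209, 2324, 2703, 2722, 2790, 3281, 3647, 4299]))) (.node (.node (.leaf [53, 552, 703, 1232, 1402, 1449, 2054, 2429, 2474, 3449, 4045, 4164, 4364]) (.leaf [557, 1423, 1479, 1637, 1977, 2049, 2545, 3511, 3551, 3773, 4172, 4304, 4314])) (.node (.leaf [200, 506, 511, 683, 1655, 2490, 2544, 2560, 2985, 3454, 3484, 3539, 4143]) (.leaf [99, 1134, 1456, 1897, 1925, 2014, 2036, 2076, 2582, 3198, 3687, 3866, 4429])))) (.node (.node (.node (.node (.leaf [74, 123, 455, 2300, 2905, 3086, 3143, 3175, 3388, 3459, 3648, 3713, 3742]) (.leaf [555, 823, 1143, 2007, 2221, 2370, 2409, 2419, 3066, 3400, 3403, 4355, 4474])) (.leaf [54, 312, 354, 1116, 1618, 2893,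 3091, 3326, 3634, 3678, 4279, 4292, 4423])) (.node (.leaf [150, 453, 655, 733, 1879, 2072, 2146, 2242, 2266, 3354, 3684, 3988, 4122]) (.leaf [607, 766, 1009, 1392, 2349, 2437, 2510, 2677, 2758, 3378, 3915, 4236, 4240]))) (.node (.node (.leaf [1081, 1227, 1368, 1488, 1682, 1785, 1964, 3014, 3159, 3483, 3613, 3735, 3815]) (.leaf [40, 96, 494, 715, 1320, 1622, 2099, 3108, 3154, 3174, 3381, 3762, 4103])) (.node (.leaf [510, 704, 912, 988, 999, 1880, 1956, 2595, 2657, 3454, 3815, 4233, 4454]) (.leaf [24, 114, 342, 656, 682, 1291, 2674, 3484, 3731, 4105, 4195, 4242, 4460])))))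

def nbr124 : Janko.Tree (List ℕ) :=
  (.node (.node (.node (.node (.node (.leaf [40, 84, 475, 1143, 1447, 2209, 2220, 2299, 2405, 3549, 3636, 4026, 4103]) (.leaf [313, 1076, 1331, 1332, 1406, 1649, 1935, 2750, 3024, 3946, 3965, 4423, 4439])) (.leaf [251, 531, 1015, 1245, 1512, 1783, 2159, 2365, 3061, 3156, 3555, 4124, 4261])) (.node (.leaf [28, 1077, 1125, 1431, 1649, 1665, 1810, 1865, 1938, 2652, 2698, 3066, 3320]) (.leaf [139, 447, 720, 1279, 1518, 1576, 2370, 2649, 2704, 3025, 3444, 3650, 3947]))) (.node (.node (.leaf [155, 206, 650, 816, 862, 1833, 2105, 2624, 2739, 3307, 3868, 3933, 4079]) (.leaf [128, 178, 377, 830, 1148, 1239, 1303, 1456, 1943, 2764, 2968, 3019, 3624])) (.node (.leaf [56, 242, 1480, 1983, 1990, 1997, 2080, 2397, 2686, 3803, 3862, 4255, 4442]) (.leaf [189, 403, 582, 911, 967, 1099, 1118, 1490, 2336, 2355, 2884, 2894, 3750])))) (.node (.node (.node (.node (.leaf [131, 365, 456, 522, 724, 1253, 2195, 2415, 2431, 2587, 2824, 3745, 4272]) (.leaf [60, 86, 1120, 1223, 1247, 1573, 2305, 2344, 3351, 3639, 3717, 3835, 4426])) (.leaf [358, 367, 702, 910, 1886, 2277, 2775,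 2894, 2970, 3056, 3087, 3175, 4280])) (.node (.leaf [428, 454, 656, 1055, 1880, 2149, 2199, 2270, 2312, 2905, 3351, 4194, 4216]) (.leaf [367, 1202, 1255, 1638, 1751, 1912, 2686, 2887, 2938, 3095, 3504, 3879, 4280]))) (.node (.node (.leaf [609, 892, 967, 1228, 1491, 1685, 2538, 2826, 3017, 3054, 3614, 3949, 4321]) (.leaf [99, 497, 577, 663, 1705, 1724, 2092, 2100, 2125, 2361, 2980, 4122, 4227])) (.node (.leaf [513, 689, 700, 908, 915, 1000, 1959, 2013, 2275, 2968, 3054, 4234, 4330]) (.leaf [117, 981, 1034, 1150, 1415, 1716, 2138, 2324, 2535, 3275, 3296, 3732, 4037])))))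

def nbr125 : Janko.Tree (List ℕ) :=
  (.node (.node (.node (.node (.node (.leaf [41, 85, 474, 1142, 1446, 2208, 2221, 2298, 2404, 3548, 3637, 4027, 4102]) (.leaf [312, 1077, 1330, 1333, 1407, 1648, 1934, 2751, 3025, 3947, 3964, 4422, 4438])) (.leaf [250, 530, 1014, 1244, 1513, 1782, 2158, 2364, 3060, 3157, 3554, 4125, 4260])) (.node (.leaf [29, 1076, 1124, 1430, 1648, 1664, 1811, 1864, 1939, 2653, 2699, 3067, 3321]) (.leaf [138, 446, 721, 1278, 1519, 1577, 2371, 2648, 2705, 3024, 3445, 3651, 3946]))) (.node (.node (.leaf [154, 207, 651, 817, 863, 1832, 2104, 2625, 2738, 3306, 3869, 3932, 4078]) (.leaf [129, 179, 376, 831, 1149, 1238, 1302, 1457, 1942, 2765, 2969, 3018, 3625])) (.node (.leaf [57, 243, 1481, 1982, 1991, 1996, 2081, 2396, 2687, 3802, 3863, 4254, 4443]) (.leaf [188, 402, 583, 910, 966, 1098, 1119, 1491, 2337, 2354, 2885, 2895, 3751])))) (.node (.node (.node (.node (.leaf [130, 364, 457, 523, 725, 1252, 2194, 2414, 2430, 2586, 2825, 3744, 4273]) (.leaf [61, 87, 1121, 1222, 1246, 1572, 2304, 2345, 3350, 3638, 3716, 3834, 4427])) (.leaf [359, 366, 703, 911, 1887, 2276, 2774,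 2895, 2971, 3057, 3086, 3174, 4281])) (.node (.leaf [429, 455, 657, 1054, 1881, 2148, 2198, 2271, 2313, 2904, 3350, 4195, 4217]) (.leaf [366, 1203, 1254, 1639, 1750, 1913, 2687, 2886, 2939, 3094, 3505, 3878, 4281]))) (.node (.node (.leaf [608, 893, 966, 1229, 1490, 1684, 2539, 2827, 3016, 3055, 3615, 3948, 4320]) (.leaf [98, 496, 576, 662, 1704, 1725, 2093, 2101, 2124, 2360, 2981, 4123, 4226])) (.node (.leaf [512, 688, 701, 909, 914, 1001, 1958, 2012, 2274, 2969, 3055, 4235, 4331]) (.leaf [116, 980, 1035, 1151, 1414, 1717, 2139, 2325, 2534, 3274, 3297, 3733, 4036])))))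

def nbr126 : Janko.Tree (List ℕ) :=
  (.node (.node (.node (.node (.node (.leaf [42, 1746, 1865, 1895, 2468, 2925, 2993, 3102, 3320, 3519, 3603, 3698, 3792]) (.leaf [417, 744, 770, 1265, 2062, 2084, 2105, 2250, 2490, 3535, 3581, 3873, 4194])) (.leaf [144, 378, 487, 943, 1222, 1592, 2730, 3111, 3124, 3569, 3784, 3821, 3835])) (.node (.leaf [3, 257, 999, 1168, 1549, 1621, 2321, 2779, 3260, 3457, 3595, 3720, 3807]) (.leaf [230, 650, 706, 752, 788, 925, 1718, 2576, 2985, 3284, 3371, 3910, 4405]))) (.node (.node (.leaf [158, 517, 818, 1356, 1763, 1835, 2001, 2411, 2961, 3012, 3309, 3371, 4180]) (.leaf [41, 581, 812, 1369, 1444, 2021, 2437, 2847, 3097, 3378, 3482, 3746, 4165])) (.node (.leaf [246, 609, 845, 1099, 1547, 1750, 2037, 2082, 2804, 3017, 3094, 3866, 4010]) (.leaf [7, 191, 643, 1094, 2285, 2467, 2496, 2886, 2896, 2921, 3489, 3752, 4229])))) (.node (.node (.node (.node (.leaf [133, 458, 591, 646, 676, 825, 831, 1493, 3005, 3501, 4339, 4409, 4424]) (.leaf [6, 267, 274, 1204, 1381, 1673, 1755, 1880, 2308, 2655, 3693, 3839, 4355])) (.leaf [360, 369, 1675, 1888, 2092, 2099, 2316, 2718,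 2896, 2920, 3413, 3939, 4282])) (.node (.leaf [276, 557, 996, 1190, 1419, 1708, 2200, 2397, 2915, 2924, 3412, 3846, 4061]) (.leaf [485, 738, 1128, 1368, 2098, 2432, 2826, 3080, 3097, 3412, 3536, 3734, 4014]))) (.node (.node (.leaf [527, 764, 1109, 1281, 2806, 2878, 3199, 3553, 3687, 3708, 4053, 4259, 4312]) (.leaf [83, 167, 755, 915, 1381, 1672, 1806, 1821, 2025, 2796, 3152, 3416, 4330])) (.node (.leaf [921, 986, 1029, 1057, 1127, 1780, 1834, 2313, 2800, 2868, 3291, 3927, 4383]) (.leaf [119, 1094, 1677, 1735, 2107, 2450, 3209, 3231, 3348, 3869, 3971, 4078, 4360])))))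

def nbr127 : Janko.Tree (List ℕ) :=
  (.node (.node (.node (.node (.node (.leaf [43, 1747, 1864, 1894, 2469, 2924, 2992, 3103, 3321, 3518, 3602, 3699, 3793]) (.leaf [416, 745, 771, 1264, 2063, 2085, 2104, 2251, 2491, 3534, 3580, 3872, 4195])) (.leaf [145, 379, 486, 942, 1223, 1593, 2731, 3110, 3125, 3568, 3785, 3820, 3834])) (.node (.leaf [2, 256, 998, 1169, 1548, 1620, 2320, 2778, 3261, 3456, 3594, 3721, 3806]) (.leaf [231, 651, 707, 753, 789, 924, 1719, 2577, 2984, 3285, 3370, 3911, 4404]))) (.node (.node (.leaf [159, 516, 819, 1357, 1762, 1834, 2000, 2410, 2960, 3013, 3308, 3370, 4181]) (.leaf [40, 580, 813, 1368, 1445, 2020, 2436, 2846, 3096, 3379, 3483, 3747, 4164])) (.node (.leaf [247, 608, 844, 1098, 1546, 1751, 2036, 2083, 2805, 3016, 3095, 3867, 4011]) (.leaf [6, 190, 642, 1095, 2284, 2466, 2497, 2887, 2897, 2920, 3488, 3753, 4228])))) (.node (.node (.node (.node (.leaf [132, 459, 590, 647, 677, 824, 830, 1492, 3004, 3500, 4338, 4408, 4425]) (.leaf [7, 266, 275, 1205, 1380, 1672, 1754, 1881, 2309, 2654, 3692, 3838, 4354])) (.leaf [361, 368, 1674, 1889, 2093, 2098, 2317, 2719,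 2897, 2921, 3412, 3938, 4283])) (.node (.leaf [277, 556, 997, 1191, 1418, 1709, 2201, 2396, 2914, 2925, 3413, 3847, 4060]) (.leaf [484, 739, 1129, 1369, 2099, 2433, 2827, 3081, 3096, 3413, 3537, 3735, 4015]))) (.node (.node (.leaf [526, 765, 1108, 1280, 2807, 2879, 3198, 3552, 3686, 3709, 4052, 4258, 4313]) (.leaf [82, 166, 754, 914, 1380, 1673, 1807, 1820, 2024, 2797, 3153, 3417, 4331])) (.node (.leaf [920, 987, 1028, 1056, 1126, 1781, 1835, 2312, 2801, 2869, 3290, 3926, 4382]) (.leaf [118, 1095, 1676, 1734, 2106, 2451, 3208, 3230, 3349, 3868, 3970, 4079, 4361])))))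

def nbr128 : Janko.Tree (List ℕ) :=
  (.node (.node (.node (.node (.node (.leaf [44, 1100, 1266, 2174, 2470, 2753, 3104, 3139, 3277, 3605, 3694, 3980, 4178]) (.leaf [180, 292, 534, 540, 1742, 1851, 1882, 2182, 2604, 3334, 3570, 3865, 4149])) (.leaf [102, 489, 540, 754, 945, 1224, 1792, 1803, 2166, 2732, 3113, 4018, 4308])) (.node (.leaf [5, 96, 259, 471, 1001, 1551, 1623, 1965, 2323, 2530, 3597, 3623, 4392]) (.leaf [207, 232, 238, 708, 927, 1818, 2392, 2961, 3286, 3652, 3861, 4079, 4412]))) (.node (.node (.leaf [820, 1141, 1282, 1348, 1488, 2019, 2163, 2959, 3140, 3191, 3689, 4028, 4050]) (.leaf [146, 216, 644, 755, 1557, 1711, 2166, 2381, 2796, 4074, 4191, 4214, 4460])) (.node (.leaf [248, 313, 511, 1094, 1735, 1956, 2084, 2157, 2682, 2806, 2900, 3520, 3552]) (.leaf [95, 159, 305, 1039, 1127, 1239, 1457, 1835, 2622, 2803, 3564, 3888, 4474])))) (.node (.node (.node (.node (.leaf [135, 460, 593, 804, 1152, 1700, 2015, 2039, 3145, 3343, 3436, 3780, 3990]) (.leaf [131, 479, 639, 653, 1061, 1315, 1443, 1729, 3315, 3628, 4117, 4343, 4377])) (.leaf [18, 248, 406, 711, 718, 1572, 1746, 2359,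 2463, 2637, 2818, 4427, 4455])) (.node (.leaf [278, 375, 418, 559, 1170, 1523, 1524, 2594, 3206, 3276, 4063, 4192, 4299]) (.leaf [49, 597, 785, 1091, 1714, 2553, 2688, 2720, 2948, 3071, 4080, 4233, 4426]))) (.node (.node (.leaf [654, 858, 1049, 1127, 1230, 1777, 2073, 2197, 2801, 2913, 3261, 3489, 4405]) (.leaf [13, 103, 187, 234, 917, 1479, 1875, 2140, 2264, 3477, 3510, 4348, 4466])) (.node (.leaf [499, 693, 1345, 1761, 1800, 2317, 2338, 2718, 3159, 3528, 3536, 3649, 3876]) (.leaf [13, 103, 389, 1003, 1674, 1753, 2111, 2286, 2524, 3807, 3955, 4282, 4423])))))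

def nbr129 : Janko.Tree (List ℕ) :=
  (.node (.node (.node (.node (.node (.leaf [45, 1101, 1267, 2175, 2471, 2752, 3105, 3138, 3276, 3604, 3695, 3981, 4179]) (.leaf [181, 293, 535, 541, 1743, 1850, 1883, 2183, 2605, 3335, 3571, 3864, 4148])) (.leaf [103, 488, 541, 755, 944, 1225, 1793, 1802, 2167, 2733, 3112, 4019, 4309])) (.node (.leaf [4, 97, 258, 470, 1000, 1550, 1622, 1964, 2322, 2531, 3596, 3622, 4393]) (.leaf [206, 233, 239, 709, 926, 1819, 2393, 2960, 3287, 3653, 3860, 4078, 4413]))) (.node (.node (.leaf [821, 1140, 1283, 1349, 1489, 2018, 2162, 2958, 3141, 3190, 3688, 4029, 4051]) (.leaf [147, 217, 645, 754, 1556, 1710, 2167, 2380, 2797, 4075, 4190, 4215, 4461])) (.node (.leaf [249, 312, 510, 1095, 1734, 1957, 2085, 2156, 2683, 2807, 2901, 3521, 3553]) (.leaf [94, 158, 304, 1038, 1126, 1238, 1456, 1834, 2623, 2802, 3565, 3889, 4475])))) (.node (.node (.node (.node (.leaf [134, 461, 592, 805, 1153, 1701, 2014, 2038, 3144, 3342, 3437, 3781, 3991]) (.leaf [130, 478, 638, 652, 1060, 1314, 1442, 1728, 3314, 3629, 4116, 4342, 4376])) (.leaf [19, 249, 407, 710, 719, 1573, 1747, 2358,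 2462, 2636, 2819, 4426, 4454])) (.node (.leaf [279, 374, 419, 558, 1171, 1522, 1525, 2595, 3207, 3277, 4062, 4193, 4298]) (.leaf [48, 596, 784, 1090, 1715, 2552, 2689, 2721, 2949, 3070, 4081, 4232, 4427]))) (.node (.node (.leaf [655, 859, 1048, 1126, 1231, 1776, 2072, 2196, 2800, 2912, 3260, 3488, 4404]) (.leaf [12, 102, 186, 235, 916, 1478, 1874, 2141, 2265, 3476, 3511, 4349, 4467])) (.node (.leaf [498, 692, 1344, 1760, 1801, 2316, 2339, 2719, 3158, 3529, 3537, 3648, 3877]) (.leaf [12, 102, 388, 1002, 1675, 1752, 2110, 2287, 2525, 3806, 3954, 4283, 4422])))))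

def nbr130 : Janko.Tree (List ℕ) :=
  (.node (.node (.node (.node (.node (.leaf [62, 736, 821, 1477, 1975, 2321, 2942, 2970, 3075, 3447, 4312, 4363, 4444]) (.leaf [0, 392, 704, 891, 1896, 2119, 2341, 2932, 2942, 3504, 3867, 4075, 4191])) (.leaf [382, 949, 961, 963, 1228, 1738, 1762, 2170, 2549, 3038, 3117, 3217, 3526])) (.node (.leaf [81, 411, 869, 1163, 1553, 2385, 2512, 2602, 3123, 3836, 3855, 3921, 4088]) (.leaf [372, 949, 1263, 1299, 2216, 2413, 3116, 3289, 3313, 3533, 3654, 3755, 4375]))) (.node (.node (.leaf [822, 905, 993, 1667, 2363, 2409, 2504, 2716, 3255, 3955, 4054, 4290, 4363]) (.leaf [59, 224, 248, 586, 953, 2211, 2342, 2550, 3762, 4109, 4182, 4274, 4427])) (.node (.leaf [1171, 1369, 1462, 1741, 2001, 2086, 2254, 2281, 2707, 3232, 3301, 3371, 3911]) (.leaf [143, 307, 388, 821, 1241, 1352, 1682, 1992, 2079, 3166, 3566, 4050, 4401])))) (.node (.node (.node (.node (.leaf [137, 328, 462, 473, 595, 806, 1702, 2017, 2041, 3467, 3546, 3774, 4222]) (.leaf [328, 425, 697, 798, 1499, 1655, 1930, 2041, 3029, 3953, 4143, 4421, 4463])) (.leaf [20, 185, 542, 1100, 1733, 2162, 2898,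 3081, 3191, 3216, 3324, 4330, 4345])) (.node (.leaf [413, 561, 683, 847, 1192, 1554, 1876, 2037, 3073, 3359, 3502, 4169, 4242]) (.leaf [258, 401, 469, 1133, 1440, 1625, 2249, 2711, 2996, 3340, 3501, 3708, 4369]))) (.node (.node (.leaf [470, 656, 860, 1122, 1232, 1352, 2199, 2203, 2915, 3491, 3624, 4412, 4461]) (.leaf [216, 273, 559, 1425, 1639, 1879, 1927, 1979, 3642, 3791, 3849, 3879, 3988])) (.node (.leaf [449, 501, 1549, 1845, 2555, 2588, 2728, 2778, 2917, 3040, 3973, 4110, 4320]) (.leaf [136, 894, 928, 1164, 1625, 1678, 1726, 2275, 2326, 3255, 3338, 4196, 4403])))))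

def nbr131 : Janko.Tree (List ℕ) :=
  (.node (.node (.node (.node (.node (.leaf [63, 737, 820, 1476, 1974, 2320, 2943, 2971, 3074, 3446, 4313, 4362, 4445]) (.leaf [1, 393, 705, 890, 1897, 2118, 2340, 2933, 2943, 3505, 3866, 4074, 4190])) (.leaf [383, 948, 960, 962, 1229, 1739, 1763, 2171, 2548, 3039, 3116, 3216, 3527])) (.node (.leaf [80, 410, 868, 1162, 1552, 2384, 2513, 2603, 3122, 3837, 3854, 3920, 4089]) (.leaf [373, 948, 1262, 1298, 2217, 2412, 3117, 3288, 3312, 3532, 3655, 3754, 4374]))) (.node (.node (.leaf [823, 904, 992, 1666, 2362, 2408, 2505, 2717, 3254, 3954, 4055, 4291, 4362]) (.leaf [58, 225, 249, 587, 952, 2210, 2343, 2551, 3763, 4108, 4183, 4275, 4426])) (.node (.leaf [1170, 1368, 1463, 1740, 2000, 2087, 2255, 2280, 2706, 3233, 3300, 3370, 3910]) (.leaf [142, 306, 389, 820, 1240, 1353, 1683, 1993, 2078, 3167, 3567, 4051, 4400])))) (.node (.node (.node (.node (.leaf [136, 329, 463, 472, 594, 807, 1703, 2016, 2040, 3466, 3547, 3775, 4223]) (.leaf [329, 424, 696, 799, 1498, 1654, 1931, 2040, 3028, 3952, 4142, 4420, 4462])) (.leaf [21, 184, 543, 1101, 1732, 2163, 2899,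 3080, 3190, 3217, 3325, 4331, 4344])) (.node (.leaf [412, 560, 682, 846, 1193, 1555, 1877, 2036, 3072, 3358, 3503, 4168, 4243]) (.leaf [259, 400, 468, 1132, 1441, 1624, 2248, 2710, 2997, 3341, 3500, 3709, 4368]))) (.node (.node (.leaf [471, 657, 861, 1123, 1233, 1353, 2198, 2202, 2914, 3490, 3625, 4413, 4460]) (.leaf [217, 272, 558, 1424, 1638, 1878, 1926, 1978, 3643, 3790, 3848, 3878, 3989])) (.node (.leaf [448, 500, 1548, 1844, 2554, 2589, 2729, 2779, 2916, 3041, 3972, 4111, 4321]) (.leaf [137, 895, 929, 1165, 1624, 1679, 1727, 2274, 2327, 3254, 3339, 4197, 4402])))))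

def nbr132 : Janko.Tree (List ℕ) :=
  (.node (.node (.node (.node (.node (.leaf [64, 265, 1074, 1203, 2323, 2976, 3195, 3449, 3561, 3717, 3731, 3858, 3939]) (.leaf [228, 394, 557, 701, 1898, 2683, 2924, 3446, 3526, 3561, 3947, 4077, 4312])) (.leaf [830, 1135, 1251, 1329, 1457, 1497, 2003, 2803, 3127, 3424, 3912, 3951, 4396])) (.node (.leaf [261, 285, 413, 867, 1084, 1555, 2094, 2878, 3125, 3976, 4052, 4163, 4442]) (.leaf [1088, 1265, 1301, 1648, 2248, 2415, 2843, 2944, 3052, 3315, 3340, 3656, 4272]))) (.node (.node (.leaf [359, 676, 720, 824, 854, 1483, 1582, 1727, 1820, 1934, 2105, 3790, 3946]) (.leaf [243, 821, 869, 1065, 1085, 1145, 1590, 1985, 2163, 3075, 3804, 4401, 4442])) (.node (.leaf [534, 554, 874, 1029, 1543, 1565, 1675, 2088, 2439, 2781, 3956, 4018, 4308]) (.leaf [27, 197, 295, 420, 1273, 1459, 2211, 2612, 2657, 2814, 3064, 3967, 4402])))) (.node (.node (.node (.node (.leaf [383, 464, 1228, 2194, 2201, 2326, 2500, 2759, 3727, 3747, 3811, 4106, 4346]) (.leaf [89, 627, 1341, 1456, 1805, 2640, 2694, 3121, 3491, 3867, 4011, 4190, 4461])) (.leaf [106, 397, 614, 1071, 1537,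 1979, 1992, 2259, 2619, 2845, 3653, 3885, 4412])) (.node (.leaf [331, 809, 1106, 2143, 2260, 2567, 2619, 2649, 3018, 3024, 3609, 3701, 4438]) (.leaf [189, 296, 403, 1589, 1729, 2746, 2796, 2874, 3280, 3342, 3438, 3503, 4116]))) (.node (.node (.leaf [254, 378, 1234, 1431, 2051, 2687, 3183, 3227, 3321, 3384, 3519, 3996, 4336]) (.leaf [218, 275, 943, 1473, 1544, 1881, 2379, 3098, 3350, 3644, 3743, 3834, 3881])) (.node (.leaf [17, 935, 1237, 1424, 1640, 2071, 2642, 2686, 3456, 3595, 3802, 3878, 4044]) (.leaf [224, 304, 896, 939, 1166, 1405, 1589, 1602, 2277, 2303, 3756, 4185, 4474])))))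

def nbr133 : Janko.Tree (List ℕ) :=
  (.node (.node (.node (.node (.node (.leaf [65, 264, 1075, 1202, 2322, 2977, 3194, 3448, 3560, 3716, 3730, 3859, 3938]) (.leaf [229, 395, 556, 700, 1899, 2682, 2925, 3447, 3527, 3560, 3946, 4076, 4313])) (.leaf [831, 1134, 1250, 1328, 1456, 1496, 2002, 2802, 3126, 3425, 3913, 3950, 4397])) (.node (.leaf [260, 284, 412, 866, 1085, 1554, 2095, 2879, 3124, 3977, 4053, 4162, 4443]) (.leaf [1089, 1264, 1300, 1649, 2249, 2414, 2842, 2945, 3053, 3314, 3341, 3657, 4273]))) (.node (.node (.leaf [358, 677, 721, 825, 855, 1482, 1583, 1726, 1821, 1935, 2104, 3791, 3947]) (.leaf [242, 820, 868, 1064, 1084, 1144, 1591, 1984, 2162, 3074, 3805, 4400, 4443])) (.node (.leaf [535, 555, 875, 1028, 1542, 1564, 1674, 2089, 2438, 2780, 3957, 4019, 4309]) (.leaf [26, 196, 294, 421, 1272, 1458, 2210, 2613, 2656, 2815, 3065, 3966, 4403])))) (.node (.node (.node (.node (.leaf [382, 465, 1229, 2195, 2200, 2327, 2501, 2758, 3726, 3746, 3810, 4107, 4347]) (.leaf [88, 626, 1340, 1457, 1804, 2641, 2695, 3120, 3490, 3866, 4010, 4191, 4460])) (.leaf [107, 396, 615, 1070, 1536,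 1978, 1993, 2258, 2618, 2844, 3652, 3884, 4413])) (.node (.leaf [330, 808, 1107, 2142, 2261, 2566, 2618, 2648, 3019, 3025, 3608, 3700, 4439]) (.leaf [188, 297, 402, 1588, 1728, 2747, 2797, 2875, 3281, 3343, 3439, 3502, 4117]))) (.node (.node (.leaf [255, 379, 1235, 1430, 2050, 2686, 3182, 3226, 3320, 3385, 3518, 3997, 4337]) (.leaf [219, 274, 942, 1472, 1545, 1880, 2378, 3099, 3351, 3645, 3742, 3835, 3880])) (.node (.leaf [16, 934, 1236, 1425, 1641, 2070, 2643, 2687, 3457, 3594, 3803, 3879, 4045]) (.leaf [225, 305, 897, 938, 1167, 1404, 1588, 1603, 2276, 2302, 3757, 4184, 4475])))))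

def nbr134 : Janko.Tree (List ℕ) :=
  (.node (.node (.node (.node (.node (.leaf [66, 823, 1170, 1893, 2602, 3052, 3065, 3308, 3371, 3615, 3711, 4058, 4134]) (.leaf [517, 1324, 1459, 1501, 1586, 1600, 1760, 2459, 2998, 3015, 3159, 3478, 3621])) (.leaf [220, 1139, 1253, 1303, 1433, 1929, 2096, 2219, 2668, 3129, 3246, 3744, 3853])) (.node (.leaf [195, 263, 415, 736, 1026, 1455, 2047, 2077, 2801, 2981, 3687, 3897, 4048]) (.leaf [312, 369, 1204, 1257, 1914, 2110, 3099, 3249, 3553, 3559, 3881, 3947, 4282]))) (.node (.node (.leaf [361, 622, 678, 712, 856, 1404, 1584, 1613, 1822, 2193, 2411, 3835, 4467]) (.leaf [992, 1017, 1032, 1566, 1627, 1743, 2556, 2604, 3111, 3568, 3973, 4055, 4266])) (.node (.leaf [13, 389, 529, 577, 757, 1765, 2092, 2245, 2504, 3860, 4094, 4205, 4333]) (.leaf [390, 394, 483, 489, 939, 2203, 2278, 2399, 2715, 3193, 4184, 4186, 4319])))) (.node (.node (.node (.node (.leaf [374, 466, 1598, 1640, 3119, 3738, 3749, 3756, 3759, 4004, 4045, 4120, 4425]) (.leaf [309, 460, 1072, 1351, 1374, 1455, 1647, 2980, 3109, 3251, 3381, 3963, 4118])) (.leaf [29, 120, 642, 1479, 1592,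 1776, 1983, 2610, 2996, 3820, 4148, 4189, 4212])) (.node (.leaf [149, 811, 958, 1645, 1841, 1884, 2265, 2479, 2569, 2792, 3428, 3611, 3688]) (.leaf [439, 977, 1504, 1627, 1650, 1731, 2122, 2947, 3032, 3200, 3393, 3944, 4348]))) (.node (.node (.leaf [102, 929, 1164, 1875, 2053, 2111, 2174, 2377, 2839, 3386, 3464, 3981, 4072]) (.leaf [37, 487, 611, 727, 921, 1038, 1261, 1679, 2802, 3473, 3785, 3958, 3984])) (.node (.leaf [365, 724, 943, 1285, 1353, 1603, 2109, 2812, 2893, 3689, 4051, 4057, 4413]) (.leaf [2, 560, 1314, 1523, 1787, 1828, 2572, 3003, 3260, 3503, 4058, 4135, 4254])))))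

def nbr135 : Janko.Tree (List ℕ) :=
  (.node (.node (.node (.node (.node (.leaf [67, 822, 1171, 1892, 2603, 3053, 3064, 3309, 3370, 3614, 3710, 4059, 4135]) (.leaf [516, 1325, 1458, 1500, 1587, 1601, 1761, 2458, 2999, 3014, 3158, 3479, 3620])) (.leaf [221, 1138, 1252, 1302, 1432, 1928, 2097, 2218, 2669, 3128, 3247, 3745, 3852])) (.node (.leaf [194, 262, 414, 737, 1027, 1454, 2046, 2076, 2800, 2980, 3686, 3896, 4049]) (.leaf [313, 368, 1205, 1256, 1915, 2111, 3098, 3248, 3552, 3558, 3880, 3946, 4283]))) (.node (.node (.leaf [360, 623, 679, 713, 857, 1405, 1585, 1612, 1823, 2192, 2410, 3834, 4466]) (.leaf [993, 1016, 1033, 1567, 1626, 1742, 2557, 2605, 3110, 3569, 3972, 4054, 4267])) (.node (.leaf [12, 388, 528, 576, 756, 1764, 2093, 2244, 2505, 3861, 4095, 4204, 4332]) (.leaf [391, 395, 482, 488, 938, 2202, 2279, 2398, 2714, 3192, 4185, 4187, 4318])))) (.node (.node (.node (.node (.leaf [375, 467, 1599, 1641, 3118, 3739, 3748, 3757, 3758, 4005, 4044, 4121, 4424]) (.leaf [308, 461, 1073, 1350, 1375, 1454, 1646, 2981, 3108, 3250, 3380, 3962, 4119])) (.leaf [28, 121, 643, 1478, 1593,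 1777, 1982, 2611, 2997, 3821, 4149, 4188, 4213])) (.node (.leaf [148, 810, 959, 1644, 1840, 1885, 2264, 2478, 2568, 2793, 3429, 3610, 3689]) (.leaf [438, 976, 1505, 1626, 1651, 1730, 2123, 2946, 3033, 3201, 3392, 3945, 4349]))) (.node (.node (.leaf [103, 928, 1165, 1874, 2052, 2110, 2175, 2376, 2838, 3387, 3465, 3980, 4073]) (.leaf [36, 486, 610, 726, 920, 1039, 1260, 1678, 2803, 3472, 3784, 3959, 3985])) (.node (.leaf [364, 725, 942, 1284, 1352, 1602, 2108, 2813, 2892, 3688, 4050, 4056, 4412]) (.leaf [3, 561, 1315, 1522, 1786, 1829, 2573, 3002, 3261, 3502, 4059, 4134, 4255])))))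

def nbr136 : Janko.Tree (List ℕ) :=
  (.node (.node (.node (.node (.node (.leaf [68, 553, 867, 1172, 1818, 2511, 2740, 2949, 3027, 3067, 3666, 4126, 4144]) (.leaf [57, 357, 525, 718, 1445, 1931, 2042, 2189, 3381, 3461, 3582, 4355, 4462])) (.leaf [222, 831, 1141, 1199, 1305, 1492, 1537, 1825, 2142, 2567, 2579, 3411, 4107])) (.node (.leaf [265, 419, 692, 1170, 1557, 2335, 2543, 2751, 3024, 3322, 3395, 3444, 3899]) (.leaf [314, 561, 659, 1478, 1513, 2112, 2385, 2610, 2743, 3101, 3555, 4449, 4466]))) (.node (.node (.leaf [128, 363, 520, 722, 826, 923, 970, 1403, 2413, 2429, 3405, 4254, 4375]) (.leaf [35, 150, 395, 1485, 1555, 2024, 2861, 2887, 3121, 3386, 3440, 4082, 4187])) (.node (.leaf [177, 531, 579, 835, 1063, 1937, 1981, 2845, 3356, 3539, 3727, 3800, 4347]) (.leaf [292, 485, 527, 1270, 2141, 2401, 2661, 2717, 3964, 4252, 4263, 4291, 4317])))) (.node (.node (.node (.node (.leaf [222, 468, 741, 892, 1290, 1660, 2870, 3340, 3730, 3975, 3992, 4106, 4321]) (.leaf [165, 311, 462, 695, 1376, 2226, 2360, 3171, 3824, 3844, 3899, 4227, 4471])) (.leaf [968, 1279, 1483, 1515, 1596, 1667, 1778,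 2110, 2123, 3254, 3945, 3946, 4422])) (.node (.leaf [460, 1097, 1858, 1886, 2038, 2571, 2576, 3326, 3485, 3494, 3543, 3911, 4406]) (.leaf [473, 508, 512, 825, 1392, 1396, 1908, 2006, 2832, 3403, 3438, 3544, 4386]))) (.node (.node (.leaf [150, 317, 722, 961, 962, 1098, 1470, 2480, 2813, 3431, 3440, 3750, 4256]) (.leaf [489, 729, 923, 938, 971, 1189, 1683, 1787, 1793, 1993, 2615, 3307, 3932])) (.node (.leaf [349, 591, 945, 1235, 1287, 1605, 2645, 2861, 3440, 3987, 4247, 4339, 4350]) (.leaf [4, 471, 562, 805, 2279, 2740, 3239, 3246, 3257, 3745, 3840, 3970, 4127])))))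

def nbr137 : Janko.Tree (List ℕ) :=
  (.node (.node (.node (.node (.node (.leaf [69, 552, 866, 1173, 1819, 2510, 2741, 2948, 3026, 3066, 3667, 4127, 4145]) (.leaf [56, 356, 524, 719, 1444, 1930, 2043, 2188, 3380, 3460, 3583, 4354, 4463])) (.leaf [223, 830, 1140, 1198, 1304, 1493, 1536, 1824, 2143, 2566, 2578, 3410, 4106])) (.node (.leaf [264, 418, 693, 1171, 1556, 2334, 2542, 2750, 3025, 3323, 3394, 3445, 3898]) (.leaf [315, 560, 658, 1479, 1512, 2113, 2384, 2611, 2742, 3100, 3554, 4448, 4467]))) (.node (.node (.leaf [129, 362, 521, 723, 827, 922, 971, 1402, 2412, 2428, 3404, 4255, 4374]) (.leaf [34, 151, 394, 1484, 1554, 2025, 2860, 2886, 3120, 3387, 3441, 4083, 4186])) (.node (.leaf [176, 530, 578, 834, 1062, 1936, 1980, 2844, 3357, 3538, 3726, 3801, 4346]) (.leaf [293, 484, 526, 1271, 2140, 2400, 2660, 2716, 3965, 4253, 4262, 4290, 4316])))) (.node (.node (.node (.node (.leaf [223, 469, 740, 893, 1291, 1661, 2871, 3341, 3731, 3974, 3993, 4107, 4320]) (.leaf [164, 310, 463, 694, 1377, 2227, 2361, 3170, 3825, 3845, 3898, 4226, 4470])) (.leaf [969, 1278, 1482, 1514, 1597, 1666, 1779,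 2111, 2122, 3255, 3944, 3947, 4423])) (.node (.leaf [461, 1096, 1859, 1887, 2039, 2570, 2577, 3327, 3484, 3495, 3542, 3910, 4407]) (.leaf [472, 509, 513, 824, 1393, 1397, 1909, 2007, 2833, 3402, 3439, 3545, 4387]))) (.node (.node (.leaf [151, 316, 723, 960, 963, 1099, 1471, 2481, 2812, 3430, 3441, 3751, 4257]) (.leaf [488, 728, 922, 939, 970, 1188, 1682, 1786, 1792, 1992, 2614, 3306, 3933])) (.node (.leaf [348, 590, 944, 1234, 1286, 1604, 2644, 2860, 3441, 3986, 4246, 4338, 4351]) (.leaf [5, 470, 563, 804, 2278, 2741, 3238, 3247, 3256, 3744, 3841, 3971, 4126])))))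

def nbr138 : Janko.Tree (List ℕ) :=
  (.node (.node (.node (.node (.node (.leaf [70, 1171, 1217, 1455, 1531, 1905, 2423, 3060, 3206, 3360, 3396, 3982, 4328]) (.leaf [408, 542, 589, 889, 1435, 2044, 2117, 2214, 2360, 3023, 4149, 4189, 4464])) (.leaf [342, 1261, 1508, 1780, 1948, 2414, 2567, 2734, 3135, 3472, 3943, 4418, 4460])) (.node (.leaf [152, 1327, 1420, 1975, 1985, 2082, 2102, 2126, 2785, 2829, 3092, 4029, 4144]) (.leaf [55, 756, 1117, 1160, 1427, 1529, 1809, 1822, 1887, 2282, 2895, 3765, 3903]))) (.node (.node (.leaf [361, 680, 828, 1558, 1615, 1839, 1888, 2019, 2664, 2975, 3719, 4059, 4060]) (.leaf [37, 1217, 1427, 1487, 1856, 2140, 2271, 2533, 2863, 2972, 3559, 4084, 4316])) (.node (.leaf [45, 160, 581, 1065, 1085, 2021, 2094, 2166, 3440, 3604, 3831, 4257, 4300]) (.leaf [392, 487, 1049, 1325, 1501, 1678, 1768, 1829, 2236, 2472, 3141, 3191, 3339])))) (.node (.node (.node (.node (.leaf [188, 381, 951, 1150, 2744, 3119, 3243, 3342, 3384, 3528, 3732, 3810, 4022]) (.leaf [102, 1165, 1274, 1787, 1792, 2372, 2409, 3037, 3242, 3342, 3463, 3954, 4116])) (.leaf [258, 301, 364, 1092,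 2123, 2423, 2534, 2948, 3061, 3590, 3823, 3971, 4126])) (.node (.leaf [462, 1207, 1888, 2040, 2151, 2535, 2573, 3029, 3496, 3590, 3860, 4079, 4131]) (.leaf [758, 1415, 1481, 1872, 1932, 2012, 2080, 2103, 2586, 2824, 3505, 3550, 4378]))) (.node (.node (.leaf [319, 724, 964, 1095, 1236, 1856, 2271, 2559, 2644, 3093, 3420, 3752, 4211]) (.leaf [87, 889, 1307, 1344, 1454, 1883, 1885, 2789, 3035, 3396, 3865, 3874, 3963])) (.node (.leaf [36, 117, 585, 815, 832, 951, 1816, 2871, 2883, 3212, 3852, 4085, 4133]) (.leaf [13, 806, 813, 1040, 1308, 2174, 3078, 3466, 3825, 3851, 3889, 4139, 4200])))))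

def nbr139 : Janko.Tree (List ℕ) :=
  (.node (.node (.node (.node (.node (.leaf [71, 1170, 1216, 1454, 1530, 1904, 2422, 3061, 3207, 3361, 3397, 3983, 4329]) (.leaf [409, 543, 588, 888, 1434, 2045, 2116, 2215, 2361, 3022, 4148, 4188, 4465])) (.leaf [343, 1260, 1509, 1781, 1949, 2415, 2566, 2735, 3134, 3473, 3942, 4419, 4461])) (.node (.leaf [153, 1326, 1421, 1974, 1984, 2083, 2103, 2127, 2784, 2828, 3093, 4028, 4145]) (.leaf [54, 757, 1116, 1161, 1426, 1528, 1808, 1823, 1886, 2283, 2894, 3764, 3902]))) (.node (.node (.leaf [360, 681, 829, 1559, 1614, 1838, 1889, 2018, 2665, 2974, 3718, 4058, 4061]) (.leaf [36, 1216, 1426, 1486, 1857, 2141, 2270, 2532, 2862, 2973, 3558, 4085, 4317])) (.node (.leaf [44, 161, 580, 1064, 1084, 2020, 2095, 2167, 3441, 3605, 3830, 4256, 4301]) (.leaf [393, 486, 1048, 1324, 1500, 1679, 1769, 1828, 2237, 2473, 3140, 3190, 3338])))) (.node (.node (.node (.node (.leaf [189, 380, 950, 1151, 2745, 3118, 3242, 3343, 3385, 3529, 3733, 3811, 4023]) (.leaf [103, 1164, 1275, 1786, 1793, 2373, 2408, 3036, 3243, 3343, 3462, 3955, 4117])) (.leaf [259, 300, 365, 1093,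 2122, 2422, 2535, 2949, 3060, 3591, 3822, 3970, 4127])) (.node (.leaf [463, 1206, 1889, 2041, 2150, 2534, 2572, 3028, 3497, 3591, 3861, 4078, 4130]) (.leaf [759, 1414, 1480, 1873, 1933, 2013, 2081, 2102, 2587, 2825, 3504, 3551, 4379]))) (.node (.node (.leaf [318, 725, 965, 1094, 1237, 1857, 2270, 2558, 2645, 3092, 3421, 3753, 4210]) (.leaf [86, 888, 1306, 1345, 1455, 1882, 1884, 2788, 3034, 3397, 3864, 3875, 3962])) (.node (.leaf [37, 116, 584, 814, 833, 950, 1817, 2870, 2882, 3213, 3853, 4084, 4132]) (.leaf [12, 807, 812, 1041, 1309, 2175, 3079, 3467, 3824, 3850, 3888, 4138, 4201])))))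

def nbr140 : Janko.Tree (List ℕ) :=
  (.node (.node (.node (.node (.node (.leaf [72, 1173, 1219, 2425, 2634, 3062, 3208, 3288, 3363, 3374, 3398, 4360, 4471]) (.leaf [315, 1333, 1612, 1651, 1659, 2264, 2479, 2603, 2982, 3123, 3925, 3967, 4467])) (.leaf [274, 545, 1263, 1345, 1507, 1676, 1967, 2230, 2273, 2789, 3407, 3868, 3991])) (.node (.leaf [104, 1422, 1579, 1977, 2130, 2548, 3148, 3545, 3690, 3904, 3925, 3999, 4035]) (.leaf [57, 680, 1119, 1221, 1429, 1531, 1889, 2897, 2923, 3149, 3357, 3358, 4258]))) (.node (.node (.leaf [458, 556, 830, 905, 1619, 2256, 2975, 3134, 3410, 4061, 4077, 4085, 4168]) (.leaf [74, 217, 698, 977, 1342, 1505, 1888, 2150, 2231, 3057, 3147, 3174, 3643])) (.node (.leaf [162, 583, 1067, 1087, 1254, 1856, 1906, 2096, 2168, 2177, 2558, 4098, 4302]) (.leaf [75, 534, 829, 1021, 1032, 1197, 1559, 1817, 1913, 2439, 2982, 3476, 3570])))) (.node (.node (.node (.node (.leaf [87, 404, 641, 941, 1055, 1543, 1884, 2635, 2837, 2904, 3365, 3374, 3728]) (.leaf [539, 923, 1288, 1787, 2094, 2862, 2986, 3036, 3169, 3851, 3961, 4042, 4255])) (.leaf [123, 548, 590, 636, 2425,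 2950, 3063, 3408, 3438, 3458, 3545, 3592, 4128])) (.node (.leaf [655, 746, 957, 1860, 2029, 2134, 2216, 2476, 3221, 3697, 3737, 3754, 3765]) (.leaf [883, 1336, 1420, 1567, 1596, 1830, 2042, 2604, 2719, 2784, 3334, 3998, 4034]))) (.node (.node (.leaf [37, 857, 969, 1238, 1822, 2113, 2803, 2839, 3009, 3183, 3436, 3981, 4325]) (.leaf [330, 354, 1311, 1779, 2215, 2536, 2979, 3025, 3031, 3929, 4340, 4423, 4465])) (.node (.leaf [7, 525, 1257, 1291, 1788, 1859, 2561, 2759, 3485, 3769, 4106, 4355, 4381]) (.leaf [641, 815, 976, 1042, 1063, 1343, 1410, 1731, 2201, 3167, 3729, 3846, 3853])))))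

def nbr141 : Janko.Tree (List ℕ) :=
  (.node (.node (.node (.node (.node (.leaf [73, 1172, 1218, 2424, 2635, 3063, 3209, 3289, 3362, 3375, 3399, 4361, 4470]) (.leaf [314, 1332, 1613, 1650, 1658, 2265, 2478, 2602, 2983, 3122, 3924, 3966, 4466])) (.leaf [275, 544, 1262, 1344, 1506, 1677, 1966, 2231, 2272, 2788, 3406, 3869, 3990])) (.node (.leaf [105, 1423, 1578, 1976, 2131, 2549, 3149, 3544, 3691, 3905, 3924, 3998, 4034]) (.leaf [56, 681, 1118, 1220, 1428, 1530, 1888, 2896, 2922, 3148, 3356, 3359, 4259]))) (.node (.node (.leaf [459, 557, 831, 904, 1618, 2257, 2974, 3135, 3411, 4060, 4076, 4084, 4169]) (.leaf [75, 216, 699, 976, 1343, 1504, 1889, 2151, 2230, 3056, 3146, 3175, 3642])) (.node (.leaf [163, 582, 1066, 1086, 1255, 1857, 1907, 2097, 2169, 2176, 2559, 4099, 4303]) (.leaf [74, 535, 828, 1020, 1033, 1196, 1558, 1816, 1912, 2438, 2983, 3477, 3571])))) (.node (.node (.node (.node (.leaf [86, 405, 640, 940, 1054, 1542, 1885, 2634, 2836, 2905, 3364, 3375, 3729]) (.leaf [538, 922, 1289, 1786, 2095, 2863, 2987, 3037, 3168, 3850, 3960, 4043, 4254])) (.leaf [122, 549, 591, 637, 2424,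 2951, 3062, 3409, 3439, 3459, 3544, 3593, 4129])) (.node (.leaf [654, 747, 956, 1861, 2028, 2135, 2217, 2477, 3220, 3696, 3736, 3755, 3764]) (.leaf [882, 1337, 1421, 1566, 1597, 1831, 2043, 2605, 2718, 2785, 3335, 3999, 4035]))) (.node (.node (.leaf [36, 856, 968, 1239, 1823, 2112, 2802, 2838, 3008, 3182, 3437, 3980, 4324]) (.leaf [331, 355, 1310, 1778, 2214, 2537, 2978, 3024, 3030, 3928, 4341, 4422, 4464])) (.node (.leaf [6, 524, 1256, 1290, 1789, 1858, 2560, 2758, 3484, 3768, 4107, 4354, 4380]) (.leaf [640, 814, 977, 1043, 1062, 1342, 1411, 1730, 2200, 3166, 3728, 3847, 3852])))))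

def nbr142 : Janko.Tree (List ℕ) :=
  (.node (.node (.node (.node (.node (.leaf [74, 534, 901, 1160, 1779, 1883, 2029, 2427, 2618, 2965, 3024, 3686, 4009]) (.leaf [481, 652, 840, 1659, 1854, 2374, 2467, 2749, 3068, 3488, 3924, 4119, 4157])) (.leaf [547, 1041, 1265, 1678, 1969, 2033, 2728, 3012, 3137, 3407, 3466, 3534, 3658])) (.node (.leaf [173, 616, 1002, 1296, 1424, 1581, 1843, 1979, 2795, 3020, 3210, 3692, 4411]) (.leaf [59, 587, 658, 792, 883, 1891, 2693, 2954, 3420, 3488, 3660, 3753, 4301]))) (.node (.node (.leaf [23, 114, 558, 682, 832, 1629, 2413, 2606, 2882, 2926, 3890, 4063, 4169]) (.leaf [15, 567, 885, 1691, 1907, 1953, 2570, 2593, 2635, 3089, 3363, 3620, 4378])) (.node (.leaf [40, 1069, 1686, 2098, 2298, 2863, 3097, 3235, 3252, 3266, 3828, 3851, 4170]) (.leaf [21, 165, 1973, 2022, 2160, 2178, 2315, 2391, 2665, 3557, 3787, 4036, 4227])))) (.node (.node (.node (.node (.leaf [119, 316, 406, 498, 801, 1057, 1669, 1801, 2114, 2637, 2906, 3011, 3606]) (.leaf [196, 387, 421, 1672, 1704, 2408, 3047, 3202, 3462, 3722, 3725, 4033, 4363])) (.leaf [288, 303, 354, 669, 852, 1580, 2238,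 2542, 3161, 3263, 3825, 3833, 3899])) (.node (.leaf [169, 285, 658, 883, 1204, 1292, 1437, 1538, 1896, 2506, 2784, 2850, 4283]) (.leaf [398, 562, 936, 1026, 1054, 1642, 1833, 2379, 2799, 2928, 3355, 3897, 4288]))) (.node (.node (.leaf [473, 1045, 1240, 1682, 1787, 1847, 2014, 2841, 2923, 3464, 3572, 4092, 4248]) (.leaf [356, 781, 1423, 1885, 1897, 2478, 2596, 2646, 2943, 3372, 3794, 3870, 3925])) (.node (.leaf [9, 589, 1151, 1478, 1790, 2023, 2535, 2590, 3119, 4120, 4130, 4189, 4314]) (.leaf [8, 1046, 1441, 1570, 1630, 1990, 2497, 3660, 3669, 3708, 4069, 4112, 4293])))))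

def nbr143 : Janko.Tree (List ℕ) :=
  (.node (.node (.node (.node (.node (.leaf [75, 535, 900, 1161, 1778, 1882, 2028, 2426, 2619, 2964, 3025, 3687, 4008]) (.leaf [480, 653, 841, 1658, 1855, 2375, 2466, 2748, 3069, 3489, 3925, 4118, 4156])) (.leaf [546, 1040, 1264, 1679, 1968, 2032, 2729, 3013, 3136, 3406, 3467, 3535, 3659])) (.node (.leaf [172, 617, 1003, 1297, 1425, 1580, 1842, 1978, 2794, 3021, 3211, 3693, 4410]) (.leaf [58, 586, 659, 793, 882, 1890, 2692, 2955, 3421, 3489, 3661, 3752, 4300]))) (.node (.node (.leaf [22, 115, 559, 683, 833, 1628, 2412, 2607, 2883, 2927, 3891, 4062, 4168]) (.leaf [14, 566, 884, 1690, 1906, 1952, 2571, 2592, 2634, 3088, 3362, 3621, 4379])) (.node (.leaf [41, 1068, 1687, 2099, 2299, 2862, 3096, 3234, 3253, 3267, 3829, 3850, 4171]) (.leaf [20, 164, 1972, 2023, 2161, 2179, 2314, 2390, 2664, 3556, 3786, 4037, 4226])))) (.node (.node (.node (.node (.leaf [118, 317, 407, 499, 800, 1056, 1668, 1800, 2115, 2636, 2907, 3010, 3607]) (.leaf [197, 386, 420, 1673, 1705, 2409, 3046, 3203, 3463, 3723, 3724, 4032, 4362])) (.leaf [289, 302, 355, 668, 853, 1581, 2239,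 2543, 3160, 3262, 3824, 3832, 3898])) (.node (.leaf [168, 284, 659, 882, 1205, 1293, 1436, 1539, 1897, 2507, 2785, 2851, 4282]) (.leaf [399, 563, 937, 1027, 1055, 1643, 1832, 2378, 2798, 2929, 3354, 3896, 4289]))) (.node (.node (.leaf [472, 1044, 1241, 1683, 1786, 1846, 2015, 2840, 2922, 3465, 3573, 4093, 4249]) (.leaf [357, 780, 1422, 1884, 1896, 2479, 2597, 2647, 2942, 3373, 3795, 3871, 3924])) (.node (.leaf [8, 588, 1150, 1479, 1791, 2022, 2534, 2591, 3118, 4121, 4131, 4188, 4315]) (.leaf [9, 1047, 1440, 1571, 1631, 1991, 2496, 3661, 3668, 3709, 4068, 4113, 4292])))))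

def nbr144 : Janko.Tree (List ℕ) :=
  (.node (.node (.node (.node (.node (.leaf [76, 363, 903, 1221, 1361, 1634, 1637, 1840, 2120, 2479, 2596, 3404, 3766]) (.leaf [120, 166, 559, 877, 1001, 1010, 1428, 1436, 1928, 2990, 3643, 3805, 4330])) (.leaf [70, 171, 1267, 2130, 2465, 2706, 3083, 3139, 3232, 3271, 3420, 3661, 4420])) (.node (.leaf [290, 617, 1795, 1981, 2310, 2940, 3008, 3693, 3727, 3977, 4086, 4268, 4442]) (.leaf [61, 660, 1073, 1121, 1399, 2695, 3197, 3490, 3662, 3793, 3978, 4090, 4303]))) (.node (.node (.leaf [247, 728, 834, 837, 1119, 1557, 1611, 2419, 2543, 2809, 3356, 3833, 4182]) (.leaf [19, 562, 849, 983, 1671, 2210, 2574, 2688, 2799, 3382, 3509, 3601, 4427])) (.node (.leaf [198, 203, 1071, 1242, 1928, 2100, 2124, 2289, 2617, 3237, 3830, 3853, 4132]) (.leaf [17, 351, 620, 1073, 2139, 2665, 2679, 3265, 3274, 3442, 3662, 3672, 3719])))) (.node (.node (.node (.node (.leaf [24, 408, 481, 749, 1367, 1863, 2215, 2648, 3601, 3657, 3730, 3993, 4341]) (.leaf [59, 85, 883, 1570, 1991, 2343, 2449, 3074, 3522, 3636, 3791, 3988, 4431])) (.leaf [45, 1412, 1562, 1612, 2011, 2259, 2293,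 2470, 3048, 3701, 3835, 4256, 4286])) (.node (.leaf [171, 287, 660, 1121, 1294, 1439, 1898, 2106, 2610, 2742, 2786, 2852, 2873]) (.leaf [221, 412, 2281, 2417, 2509, 2901, 2966, 3125, 3250, 3842, 4062, 4102, 4119]))) (.node (.node (.leaf [258, 1242, 1354, 1433, 1789, 2530, 2693, 2710, 2771, 3185, 3453, 3776, 4389]) (.leaf [321, 893, 1887, 2177, 2191, 2732, 2881, 2945, 3700, 3910, 4143, 4201, 4303])) (.node (.leaf [483, 635, 710, 1194, 1223, 1945, 1947, 2037, 2359, 3072, 3207, 4147, 4383]) (.leaf [486, 710, 846, 1048, 1223, 1261, 1572, 1916, 2875, 3068, 3280, 3662, 4114])))))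

def nbr145 : Janko.Tree (List ℕ) :=
  (.node (.node (.node (.node (.node (.leaf [77, 362, 902, 1220, 1360, 1635, 1636, 1841, 2121, 2478, 2597, 3405, 3767]) (.leaf [121, 167, 558, 876, 1000, 1011, 1429, 1437, 1929, 2991, 3642, 3804, 4331])) (.leaf [71, 170, 1266, 2131, 2464, 2707, 3082, 3138, 3233, 3270, 3421, 3660, 4421])) (.node (.leaf [291, 616, 1794, 1980, 2311, 2941, 3009, 3692, 3726, 3976, 4087, 4269, 4443]) (.leaf [60, 661, 1072, 1120, 1398, 2694, 3196, 3491, 3663, 3792, 3979, 4091, 4302]))) (.node (.node (.leaf [246, 729, 835, 836, 1118, 1556, 1610, 2418, 2542, 2808, 3357, 3832, 4183]) (.leaf [18, 563, 848, 982, 1670, 2211, 2575, 2689, 2798, 3383, 3508, 3600, 4426])) (.node (.leaf [199, 202, 1070, 1243, 1929, 2101, 2125, 2288, 2616, 3236, 3831, 3852, 4133]) (.leaf [16, 350, 621, 1072, 2138, 2664, 2678, 3264, 3275, 3443, 3663, 3673, 3718])))) (.node (.node (.node (.node (.leaf [25, 409, 480, 748, 1366, 1862, 2214, 2649, 3600, 3656, 3731, 3992, 4340]) (.leaf [58, 84, 882, 1571, 1990, 2342, 2448, 3075, 3523, 3637, 3790, 3989, 4430])) (.leaf [44, 1413, 1563, 1613, 2010, 2258, 2292,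 2471, 3049, 3700, 3834, 4257, 4287])) (.node (.leaf [170, 286, 661, 1120, 1295, 1438, 1899, 2107, 2611, 2743, 2787, 2853, 2872]) (.leaf [220, 413, 2280, 2416, 2508, 2900, 2967, 3124, 3251, 3843, 4063, 4103, 4118]))) (.node (.node (.leaf [259, 1243, 1355, 1432, 1788, 2531, 2692, 2711, 2770, 3184, 3452, 3777, 4388]) (.leaf [320, 892, 1886, 2176, 2190, 2733, 2880, 2944, 3701, 3911, 4142, 4200, 4302])) (.node (.leaf [482, 634, 711, 1195, 1222, 1944, 1946, 2036, 2358, 3073, 3206, 4146, 4382]) (.leaf [487, 711, 847, 1049, 1222, 1260, 1573, 1917, 2874, 3069, 3281, 3663, 4115])))))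

def nbr146 : Janko.Tree (List ℕ) :=
  (.node (.node (.node (.node (.node (.leaf [78, 529, 715, 796, 809, 1364, 1407, 2039, 2922, 3957, 4019, 4141, 4248]) (.leaf [44, 262, 726, 1258, 1339, 2752, 2801, 2955, 3116, 3133, 3204, 3488, 3968])) (.leaf [74, 686, 951, 1029, 1271, 1674, 2132, 3056, 3143, 3369, 3416, 4023, 4147])) (.node (.leaf [619, 982, 1044, 1983, 2232, 2499, 2528, 2830, 3397, 4004, 4088, 4237, 4452]) (.leaf [5, 209, 1070, 1417, 1550, 1744, 1820, 2027, 3059, 3269, 3598, 3830, 4171]))) (.node (.node (.leaf [249, 836, 1047, 1196, 1559, 1746, 2019, 2419, 2497, 2811, 3189, 4029, 4065]) (.leaf [155, 513, 825, 1061, 1174, 1359, 1832, 1861, 2731, 3487, 3540, 3820, 4055])) (.node (.leaf [8, 415, 1117, 1128, 2012, 2102, 2283, 2523, 2528, 2610, 3534, 4189, 4279]) (.leaf [324, 648, 1142, 1279, 2204, 2667, 2681, 3392, 3400, 3444, 3721, 3898, 4310])))) (.node (.node (.node (.node (.leaf [110, 476, 1195, 1653, 1850, 1947, 1957, 2515, 2577, 2945, 3229, 4091, 4302]) (.leaf [55, 240, 253, 450, 834, 1202, 1581, 1681, 1920, 2809, 3580, 3800, 3975])) (.leaf [321, 809, 958, 1564, 1774, 2177,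 2261, 2295, 2473, 2559, 4018, 4138, 4297])) (.node (.leaf [254, 549, 780, 1422, 1900, 2767, 2970, 3146, 3174, 3743, 3905, 4173, 4391]) (.leaf [182, 503, 883, 2231, 3135, 3262, 3267, 3642, 3786, 3989, 4242, 4286, 4461]))) (.node (.node (.leaf [1244, 1688, 1791, 2057, 2142, 2221, 2562, 2695, 2747, 3438, 3574, 4125, 4270]) (.leaf [323, 380, 959, 977, 1276, 1789, 1889, 1960, 2947, 3861, 3929, 4332, 4381])) (.node (.leaf [184, 485, 1025, 1225, 1532, 1947, 1956, 2708, 2857, 3081, 3209, 3779, 4232]) (.leaf [80, 238, 476, 669, 869, 880, 1594, 1805, 2773, 3120, 3979, 4176, 4367])))))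

def nbr147 : Janko.Tree (List ℕ) :=
  (.node (.node (.node (.node (.node (.leaf [79, 528, 714, 797, 808, 1365, 1406, 2038, 2923, 3956, 4018, 4140, 4249]) (.leaf [45, 263, 727, 1259, 1338, 2753, 2800, 2954, 3117, 3132, 3205, 3489, 3969])) (.leaf [75, 687, 950, 1028, 1270, 1675, 2133, 3057, 3142, 3368, 3417, 4022, 4146])) (.node (.leaf [618, 983, 1045, 1982, 2233, 2498, 2529, 2831, 3396, 4005, 4089, 4236, 4453]) (.leaf [4, 208, 1071, 1416, 1551, 1745, 1821, 2026, 3058, 3268, 3599, 3831, 4170]))) (.node (.node (.leaf [248, 837, 1046, 1197, 1558, 1747, 2018, 2418, 2496, 2810, 3188, 4028, 4064]) (.leaf [154, 512, 824, 1060, 1175, 1358, 1833, 1860, 2730, 3486, 3541, 3821, 4054])) (.node (.leaf [9, 414, 1116, 1129, 2013, 2103, 2282, 2522, 2529, 2611, 3535, 4188, 4278]) (.leaf [325, 649, 1143, 1278, 2205, 2666, 2680, 3393, 3401, 3445, 3720, 3899, 4311])))) (.node (.node (.node (.node (.leaf [111, 477, 1194, 1652, 1851, 1946, 1956, 2514, 2576, 2944, 3228, 4090, 4303]) (.leaf [54, 241, 252, 451, 835, 1203, 1580, 1680, 1921, 2808, 3581, 3801, 3974])) (.leaf [320, 808, 959, 1565, 1775, 2176,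 2260, 2294, 2472, 2558, 4019, 4139, 4296])) (.node (.leaf [255, 548, 781, 1423, 1901, 2766, 2971, 3147, 3175, 3742, 3904, 4172, 4390]) (.leaf [183, 502, 882, 2230, 3134, 3263, 3266, 3643, 3787, 3988, 4243, 4287, 4460]))) (.node (.node (.leaf [1245, 1689, 1790, 2056, 2143, 2220, 2563, 2694, 2746, 3439, 3575, 4124, 4271]) (.leaf [322, 381, 958, 976, 1277, 1788, 1888, 1961, 2946, 3860, 3928, 4333, 4380])) (.node (.leaf [185, 484, 1024, 1224, 1533, 1946, 1957, 2709, 2856, 3080, 3208, 3778, 4233]) (.leaf [81, 239, 477, 668, 868, 881, 1595, 1804, 2772, 3121, 3978, 4177, 4366])))))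

def nbr148 : Janko.Tree (List ℕ) :=
  (.node (.node (.node (.node (.node (.leaf [80, 531, 798, 811, 1704, 2041, 3061, 3122, 3531, 3722, 3934, 3959, 4250]) (.leaf [144, 177, 264, 692, 1235, 1685, 1995, 2178, 3169, 3187, 3492, 3568, 4247])) (.leaf [76, 569, 953, 1273, 1335, 1837, 2134, 2316, 2527, 3145, 3764, 3779, 4108])) (.node (.leaf [396, 707, 1430, 1443, 1577, 1632, 1719, 2326, 2501, 2705, 3884, 4262, 4337]) (.leaf [211, 571, 1299, 1419, 1822, 2029, 2965, 3008, 3509, 3600, 3755, 4099, 4133]))) (.node (.node (.leaf [136, 838, 895, 1903, 2369, 2421, 2525, 2627, 2939, 3328, 3345, 3724, 3904]) (.leaf [11, 623, 755, 1176, 1763, 1834, 1863, 2733, 2817, 3155, 3175, 3911, 4203])) (.node (.leaf [359, 417, 846, 877, 1018, 1119, 1557, 2104, 2126, 3359, 3707, 4191, 4395]) (.leaf [569, 658, 1365, 1521, 1549, 1936, 2100, 2571, 2593, 2671, 2742, 4111, 4299])))) (.node (.node (.node (.node (.leaf [478, 784, 936, 1443, 1657, 2379, 2911, 2949, 3307, 3376, 3469, 3880, 4155]) (.leaf [303, 1107, 1214, 1425, 1581, 1813, 1844, 2189, 2480, 2778, 2836, 3398, 3721])) (.leaf [402, 479, 723, 1098, 1583, 1769,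 1971, 2133, 2228, 2599, 2646, 3306, 3373])) (.node (.leaf [281, 782, 839, 1424, 1902, 1926, 2093, 2377, 2781, 2910, 3021, 3220, 3939]) (.leaf [918, 934, 2138, 2210, 2394, 2441, 2756, 2814, 2859, 2978, 3344, 3508, 4463]))) (.node (.node (.leaf [379, 436, 1222, 1246, 1482, 1514, 2407, 2917, 2959, 3041, 3425, 3524, 4432]) (.leaf [113, 445, 603, 1609, 1891, 2246, 2559, 2898, 2949, 3071, 3881, 4019, 4145])) (.node (.leaf [181, 436, 454, 491, 509, 871, 2011, 2745, 3453, 3461, 3581, 4195, 4199]) (.leaf [411, 544, 1187, 1304, 1568, 2369, 2417, 2630, 2825, 2932, 3001, 3505, 4247])))))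

def nbr149 : Janko.Tree (List ℕ) :=
  (.node (.node (.node (.node (.node (.leaf [81, 530, 799, 810, 1705, 2040, 3060, 3123, 3530, 3723, 3935, 3958, 4251]) (.leaf [145, 176, 265, 693, 1234, 1684, 1994, 2179, 3168, 3186, 3493, 3569, 4246])) (.leaf [77, 568, 952, 1272, 1334, 1836, 2135, 2317, 2526, 3144, 3765, 3778, 4109])) (.node (.leaf [397, 706, 1431, 1442, 1576, 1633, 1718, 2327, 2500, 2704, 3885, 4263, 4336]) (.leaf [210, 570, 1298, 1418, 1823, 2028, 2964, 3009, 3508, 3601, 3754, 4098, 4132]))) (.node (.node (.leaf [137, 839, 894, 1902, 2368, 2420, 2524, 2626, 2938, 3329, 3344, 3725, 3905]) (.leaf [10, 622, 754, 1177, 1762, 1835, 1862, 2732, 2816, 3154, 3174, 3910, 4202])) (.node (.leaf [358, 416, 847, 876, 1019, 1118, 1556, 2105, 2127, 3358, 3706, 4190, 4394]) (.leaf [568, 659, 1364, 1520, 1548, 1937, 2101, 2570, 2592, 2670, 2743, 4110, 4298])))) (.node (.node (.node (.node (.leaf [479, 785, 937, 1442, 1656, 2378, 2910, 2948, 3306, 3377, 3468, 3881, 4154]) (.leaf [302, 1106, 1215, 1424, 1580, 1812, 1845, 2188, 2481, 2779, 2837, 3399, 3720])) (.leaf [403, 478, 722, 1099, 1582, 1768,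 1970, 2132, 2229, 2598, 2647, 3307, 3372])) (.node (.leaf [280, 783, 838, 1425, 1903, 1927, 2092, 2376, 2780, 2911, 3020, 3221, 3938]) (.leaf [919, 935, 2139, 2211, 2395, 2440, 2757, 2815, 2858, 2979, 3345, 3509, 4462]))) (.node (.node (.leaf [378, 437, 1223, 1247, 1483, 1515, 2406, 2916, 2958, 3040, 3424, 3525, 4433]) (.leaf [112, 444, 602, 1608, 1890, 2247, 2558, 2899, 2948, 3070, 3880, 4018, 4144])) (.node (.leaf [180, 437, 455, 490, 508, 870, 2010, 2744, 3452, 3460, 3580, 4194, 4198]) (.leaf [410, 545, 1186, 1305, 1569, 2368, 2416, 2631, 2824, 2933, 3000, 3504, 4246])))))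

def nbr150 : Janko.Tree (List ℕ) :=
  (.node (.node (.node (.node (.node (.leaf [82, 160, 813, 1771, 2171, 2245, 2810, 3014, 3217, 3482, 3884, 4065, 4205]) (.leaf [174, 346, 746, 2061, 2434, 2458, 2585, 2685, 3478, 3499, 3736, 3934, 3959])) (.leaf [334, 481, 523, 916, 1307, 1412, 1884, 2264, 2763, 2818, 3777, 3925, 4151])) (.node (.leaf [56, 243, 547, 669, 1438, 1985, 2389, 2730, 2772, 2872, 3262, 3381, 4028]) (.leaf [169, 484, 526, 1021, 1525, 2433, 3104, 3278, 3456, 3565, 3664, 3695, 4045]))) (.node (.node (.leaf [138, 840, 897, 1922, 1989, 2303, 2371, 2651, 3020, 3248, 3826, 4001, 4067]) (.leaf [342, 457, 516, 962, 1623, 1763, 1865, 1965, 2367, 3134, 3266, 3831, 4257])) (.node (.leaf [305, 352, 641, 1309, 1672, 1886, 2277, 2879, 3046, 3137, 3466, 3603, 4142]) (.leaf [3, 371, 660, 1551, 1938, 2487, 2573, 2673, 2699, 3594, 3713, 3723, 3995])))) (.node (.node (.node (.node (.leaf [480, 1031, 1607, 2152, 2457, 2869, 2951, 3309, 3471, 3940, 4157, 4382, 4448]) (.leaf [307, 534, 617, 1108, 1182, 1590, 1758, 3025, 3301, 3929, 4162, 4441, 4443])) (.leaf [391, 481, 725, 1095, 1585, 2135,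 2191, 2435, 2466, 2648, 3308, 3710, 4307])) (.node (.leaf [20, 699, 911, 973, 985, 1529, 1886, 2530, 2881, 3602, 3623, 3787, 4240]) (.leaf [215, 238, 328, 598, 696, 1344, 1883, 1967, 2182, 3538, 3740, 3775, 4176]))) (.node (.node (.leaf [103, 1224, 1248, 2128, 2192, 2409, 2525, 2557, 2919, 3043, 3725, 3783, 4434]) (.leaf [193, 204, 447, 601, 1175, 1399, 2561, 2951, 3179, 3531, 3809, 3892, 4449])) (.node (.leaf [39, 495, 1174, 1484, 1601, 3027, 3179, 3235, 3349, 3541, 3734, 4082, 4436]) (.leaf [568, 667, 774, 901, 1014, 1030, 1622, 3134, 3623, 3630, 3786, 3940, 4008])))))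

def nbr151 : Janko.Tree (List ℕ) :=
  (.node (.node (.node (.node (.node (.leaf [83, 161, 812, 1770, 2170, 2244, 2811, 3015, 3216, 3483, 3885, 4064, 4204]) (.leaf [175, 347, 747, 2060, 2435, 2459, 2584, 2684, 3479, 3498, 3737, 3935, 3958])) (.leaf [335, 480, 522, 917, 1306, 1413, 1885, 2265, 2762, 2819, 3776, 3924, 4150])) (.node (.leaf [57, 242, 546, 668, 1439, 1984, 2388, 2731, 2773, 2873, 3263, 3380, 4029]) (.leaf [168, 485, 527, 1020, 1524, 2432, 3105, 3279, 3457, 3564, 3665, 3694, 4044]))) (.node (.node (.leaf [139, 841, 896, 1923, 1988, 2302, 2370, 2650, 3021, 3249, 3827, 4000, 4066]) (.leaf [343, 456, 517, 963, 1622, 1762, 1864, 1964, 2366, 3135, 3267, 3830, 4256])) (.node (.leaf [304, 353, 640, 1308, 1673, 1887, 2276, 2878, 3047, 3136, 3467, 3602, 4143]) (.leaf [2, 370, 661, 1550, 1939, 2486, 2572, 2672, 2698, 3595, 3712, 3722, 3994])))) (.node (.node (.node (.node (.leaf [481, 1030, 1606, 2153, 2456, 2868, 2950, 3308, 3470, 3941, 4156, 4383, 4449]) (.leaf [306, 535, 616, 1109, 1183, 1591, 1759, 3024, 3300, 3928, 4163, 4440, 4442])) (.leaf [390, 480, 724, 1094, 1584, 2134,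 2190, 2434, 2467, 2649, 3309, 3711, 4306])) (.node (.leaf [21, 698, 910, 972, 984, 1528, 1887, 2531, 2880, 3603, 3622, 3786, 4241]) (.leaf [214, 239, 329, 599, 697, 1345, 1882, 1966, 2183, 3539, 3741, 3774, 4177]))) (.node (.node (.leaf [102, 1225, 1249, 2129, 2193, 2408, 2524, 2556, 2918, 3042, 3724, 3782, 4435]) (.leaf [192, 205, 446, 600, 1174, 1398, 2560, 2950, 3178, 3530, 3808, 3893, 4448])) (.node (.leaf [38, 494, 1175, 1485, 1600, 3026, 3178, 3234, 3348, 3540, 3735, 4083, 4437]) (.leaf [569, 666, 775, 900, 1015, 1031, 1623, 3135, 3622, 3631, 3787, 3941, 4009])))))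

def nbr152 : Janko.Tree (List ℕ) :=
  (.node (.node (.node (.node (.node (.leaf [55, 162, 815, 835, 1773, 1981, 2173, 2621, 2826, 3016, 3091, 3219, 4182]) (.leaf [50, 701, 784, 1487, 1714, 2435, 3287, 3292, 3468, 3478, 3561, 3590, 3819])) (.leaf [316, 445, 647, 813, 918, 962, 1275, 1309, 1774, 2246, 2563, 2795, 3216])) (.node (.leaf [46, 245, 671, 1284, 1434, 1972, 1987, 2360, 2391, 2629, 2732, 3253, 3264]) (.leaf [27, 171, 197, 673, 1023, 2531, 2903, 3082, 3318, 3567, 4047, 4353, 4457]))) (.node (.node (.leaf [238, 290, 697, 724, 842, 926, 943, 1595, 1611, 1997, 2782, 3421, 3729]) (.leaf [335, 585, 605, 748, 778, 837, 863, 1347, 2107, 2791, 2809, 4079, 4369])) (.node (.leaf [13, 60, 576, 931, 1002, 1146, 1311, 1838, 2196, 3979, 4152, 4180, 4414]) (.leaf [209, 344, 759, 1009, 1715, 2365, 2675, 2959, 3141, 3359, 3819, 3914, 4260])))) (.node (.node (.node (.node (.leaf [199, 390, 422, 482, 504, 996, 1186, 1463, 1653, 2659, 3085, 3408, 4307]) (.leaf [89, 469, 1197, 1684, 1909, 2006, 2014, 2118, 3568, 3730, 3780, 3867, 4105])) (.leaf [33, 826, 985, 1483, 1614, 1696, 1844, 2056, 2235,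 2265, 3041, 3912, 3937])) (.node (.leaf [564, 975, 1012, 1276, 1420, 1531, 1688, 1888, 1904, 2921, 3604, 3619, 3789]) (.leaf [83, 611, 1316, 2057, 2166, 2546, 2797, 3037, 3438, 3605, 3619, 3845, 3981]))) (.node (.node (.leaf [89, 155, 380, 675, 794, 901, 1250, 1838, 2006, 2064, 2744, 3144, 4397]) (.leaf [42, 833, 906, 913, 1240, 1864, 2008, 2585, 2962, 3114, 3514, 3801, 4377])) (.node (.leaf [281, 402, 582, 716, 1200, 2373, 2647, 2942, 3031, 3342, 3732, 3923, 4445]) (.leaf [171, 255, 1100, 1267, 2019, 2162, 2381, 2519, 2881, 3182, 3805, 4006, 4046])))))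

def nbr153 : Janko.Tree (List ℕ) :=
  (.node (.node (.node (.node (.node (.leaf [54, 163, 814, 834, 1772, 1980, 2172, 2620, 2827, 3017, 3090, 3218, 4183]) (.leaf [51, 700, 785, 1486, 1715, 2434, 3286, 3293, 3469, 3479, 3560, 3591, 3818])) (.leaf [317, 444, 646, 812, 919, 963, 1274, 1308, 1775, 2247, 2562, 2794, 3217])) (.node (.leaf [47, 244, 670, 1285, 1435, 1973, 1986, 2361, 2390, 2628, 2733, 3252, 3265]) (.leaf [26, 170, 196, 672, 1022, 2530, 2902, 3083, 3319, 3566, 4046, 4352, 4456]))) (.node (.node (.leaf [239, 291, 696, 725, 843, 927, 942, 1594, 1610, 1996, 2783, 3420, 3728]) (.leaf [334, 584, 604, 749, 779, 836, 862, 1346, 2106, 2790, 2808, 4078, 4368])) (.node (.leaf [12, 61, 577, 930, 1003, 1147, 1310, 1839, 2197, 3978, 4153, 4181, 4415]) (.leaf [208, 345, 758, 1008, 1714, 2364, 2674, 2958, 3140, 3358, 3818, 3915, 4261])))) (.node (.node (.node (.node (.leaf [198, 391, 423, 483, 505, 997, 1187, 1462, 1652, 2658, 3084, 3409, 4306]) (.leaf [88, 468, 1196, 1685, 1908, 2007, 2015, 2119, 3569, 3731, 3781, 3866, 4104])) (.leaf [32, 827, 984, 1482, 1615, 1697, 1845, 2057, 2234,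 2264, 3040, 3913, 3936])) (.node (.leaf [565, 974, 1013, 1277, 1421, 1530, 1689, 1889, 1905, 2920, 3605, 3618, 3788]) (.leaf [82, 610, 1317, 2056, 2167, 2547, 2796, 3036, 3439, 3604, 3618, 3844, 3980]))) (.node (.node (.leaf [88, 154, 381, 674, 795, 900, 1251, 1839, 2007, 2065, 2745, 3145, 4396]) (.leaf [43, 832, 907, 912, 1241, 1865, 2009, 2584, 2963, 3115, 3515, 3800, 4376])) (.node (.leaf [280, 403, 583, 717, 1201, 2372, 2646, 2943, 3030, 3343, 3733, 3922, 4444]) (.leaf [170, 254, 1101, 1266, 2018, 2163, 2380, 2518, 2880, 3183, 3804, 4007, 4047])))))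

def nbr154 : Janko.Tree (List ℕ) :=
  (.node (.node (.node (.node (.node (.leaf [84, 145, 1854, 2526, 2643, 3230, 3266, 3435, 3703, 3759, 3848, 3988, 4123]) (.leaf [5, 373, 1079, 1771, 2701, 3009, 3183, 3256, 3474, 3596, 3715, 3997, 4269])) (.leaf [93, 491, 1277, 1311, 1701, 2059, 2192, 2521, 2556, 2765, 3050, 3936, 4341])) (.node (.leaf [167, 369, 755, 1205, 1436, 1774, 1857, 2176, 2394, 2670, 2804, 2921, 4229]) (.leaf [532, 552, 702, 1027, 1541, 1563, 2457, 2658, 3124, 3666, 3743, 3835, 4467]))) (.node (.node (.leaf [240, 844, 945, 1047, 1597, 1681, 1779, 2115, 2196, 2830, 3979, 4112, 4339]) (.leaf [79, 287, 843, 1805, 2002, 2353, 2695, 2737, 2766, 3425, 3554, 3843, 3979])) (.node (.leaf [578, 781, 933, 955, 1004, 1063, 1148, 1409, 2026, 3180, 3258, 3625, 4170]) (.leaf [211, 721, 787, 1011, 1159, 1716, 3115, 3151, 3361, 3674, 3725, 3900, 4319])))) (.node (.node (.node (.node (.leaf [201, 292, 424, 484, 875, 1465, 1524, 1655, 1667, 2042, 2605, 3770, 4025]) (.leaf [302, 548, 791, 1154, 2071, 2189, 2239, 2336, 2354, 3257, 3773, 4100, 4173])) (.leaf [456, 925, 963, 1616, 1698, 1740,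 1749, 1904, 2058, 2193, 2809, 3043, 3233])) (.node (.leaf [617, 1121, 1387, 1417, 1908, 1952, 1954, 2044, 2786, 3268, 3669, 4111, 4410]) (.leaf [115, 342, 404, 440, 832, 1509, 1865, 3006, 3150, 3352, 3674, 4452, 4473]))) (.node (.node (.leaf [311, 456, 890, 1252, 1617, 2973, 3237, 3845, 3852, 4075, 4083, 4084, 4215]) (.leaf [477, 1059, 1523, 1525, 1767, 1870, 2516, 2536, 2683, 2901, 2966, 3229, 3736])) (.node (.leaf [244, 254, 285, 1293, 1335, 2381, 2500, 2651, 3064, 3367, 3371, 3839, 3997]) (.leaf [644, 949, 1020, 1147, 1303, 1657, 2171, 2380, 3014, 3807, 3839, 3864, 3955])))))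

def nbr155 : Janko.Tree (List ℕ) :=
  (.node (.node (.node (.node (.node (.leaf [85, 144, 1855, 2527, 2642, 3231, 3267, 3434, 3702, 3758, 3849, 3989, 4122]) (.leaf [4, 372, 1078, 1770, 2700, 3008, 3182, 3257, 3475, 3597, 3714, 3996, 4268])) (.leaf [92, 490, 1276, 1310, 1700, 2058, 2193, 2520, 2557, 2764, 3051, 3937, 4340])) (.node (.leaf [166, 368, 754, 1204, 1437, 1775, 1856, 2177, 2395, 2671, 2805, 2920, 4228]) (.leaf [533, 553, 703, 1026, 1540, 1562, 2456, 2659, 3125, 3667, 3742, 3834, 4466]))) (.node (.node (.leaf [241, 845, 944, 1046, 1596, 1680, 1778, 2114, 2197, 2831, 3978, 4113, 4338]) (.leaf [78, 286, 842, 1804, 2003, 2352, 2694, 2736, 2767, 3424, 3555, 3842, 3978])) (.node (.leaf [579, 780, 932, 954, 1005, 1062, 1149, 1408, 2027, 3181, 3259, 3624, 4171]) (.leaf [210, 720, 786, 1010, 1158, 1717, 3114, 3150, 3360, 3675, 3724, 3901, 4318])))) (.node (.node (.node (.node (.leaf [200, 293, 425, 485, 874, 1464, 1525, 1654, 1666, 2043, 2604, 3771, 4024]) (.leaf [303, 549, 790, 1155, 2070, 2188, 2238, 2337, 2355, 3256, 3772, 4101, 4172])) (.leaf [457, 924, 962, 1617, 1699, 1741,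 1748, 1905, 2059, 2192, 2808, 3042, 3232])) (.node (.leaf [616, 1120, 1386, 1416, 1909, 1953, 1955, 2045, 2787, 3269, 3668, 4110, 4411]) (.leaf [114, 343, 405, 441, 833, 1508, 1864, 3007, 3151, 3353, 3675, 4453, 4472]))) (.node (.node (.leaf [310, 457, 891, 1253, 1616, 2972, 3236, 3844, 3853, 4074, 4082, 4085, 4214]) (.leaf [476, 1058, 1522, 1524, 1766, 1871, 2517, 2537, 2682, 2900, 2967, 3228, 3737])) (.node (.leaf [245, 255, 284, 1292, 1334, 2380, 2501, 2650, 3065, 3366, 3370, 3838, 3996]) (.leaf [645, 948, 1021, 1146, 1302, 1656, 2170, 2381, 3015, 3806, 3838, 3865, 3954])))))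

def nbr156 : Janko.Tree (List ℕ) :=
  (.node (.node (.node (.node (.node (.leaf [86, 198, 541, 1069, 1883, 2619, 2659, 2905, 3350, 3609, 3705, 3742, 4220]) (.leaf [410, 458, 935, 1102, 1163, 1911, 2489, 2682, 3702, 3893, 4070, 4076, 4389])) (.leaf [15, 95, 493, 781, 1703, 1853, 2266, 2767, 3232, 3661, 3871, 4141, 4293])) (.node (.leaf [659, 757, 1161, 1191, 1438, 1788, 1859, 2396, 2571, 2611, 2672, 2806, 3587]) (.leaf [0, 318, 1545, 2435, 2459, 2464, 3092, 3286, 3394, 3428, 3563, 3770, 4020]))) (.node (.node (.leaf [583, 947, 1099, 1722, 2421, 2646, 3058, 3347, 3417, 3449, 3598, 3731, 3780]) (.leaf [501, 692, 827, 974, 1105, 1262, 2413, 2684, 3047, 3187, 3445, 3720, 4080])) (.node (.leaf [163, 336, 656, 1663, 1760, 2158, 2263, 2640, 2820, 3075, 3490, 3513, 3522]) (.leaf [210, 286, 370, 761, 1007, 2107, 2504, 3363, 3554, 3723, 4133, 4326, 4362])))) (.node (.node (.node (.node (.leaf [392, 486, 847, 1021, 1542, 1657, 1816, 1884, 2943, 3429, 3430, 3923, 3985]) (.leaf [702, 910, 985, 1421, 1567, 1607, 2153, 2284, 2429, 2828, 2884, 4345, 4415])) (.leaf [55, 220, 970, 1319, 1528, 1618,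 1846, 1906, 2058, 2169, 3620, 4103, 4159])) (.node (.leaf [619, 710, 870, 1298, 1313, 1383, 1389, 1419, 1692, 1910, 2341, 3995, 4375]) (.leaf [433, 818, 1323, 1395, 1413, 1669, 2045, 2302, 2763, 2957, 3823, 4257, 4464]))) (.node (.node (.leaf [583, 814, 888, 967, 1242, 1254, 1752, 2087, 2125, 2826, 2849, 3035, 3748]) (.leaf [91, 598, 1275, 1451, 1897, 2001, 2183, 2233, 2477, 3300, 3571, 3871, 4282])) (.node (.leaf [97, 447, 720, 1297, 1979, 3061, 3157, 3557, 3682, 3791, 3892, 4068, 4328]) (.leaf [594, 707, 916, 1103, 1123, 1212, 1327, 1421, 1831, 2198, 2428, 3948, 4070])))))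

def nbr157 : Janko.Tree (List ℕ) :=
  (.node (.node (.node (.node (.node (.leaf [87, 199, 540, 1068, 1882, 2618, 2658, 2904, 3351, 3608, 3704, 3743, 4221]) (.leaf [411, 459, 934, 1103, 1162, 1910, 2488, 2683, 3703, 3892, 4071, 4077, 4388])) (.leaf [14, 94, 492, 780, 1702, 1852, 2267, 2766, 3233, 3660, 3870, 4140, 4292])) (.node (.leaf [658, 756, 1160, 1190, 1439, 1789, 1858, 2397, 2570, 2610, 2673, 2807, 3586]) (.leaf [1, 319, 1544, 2434, 2458, 2465, 3093, 3287, 3395, 3429, 3562, 3771, 4021]))) (.node (.node (.leaf [582, 946, 1098, 1723, 2420, 2647, 3059, 3346, 3416, 3448, 3599, 3730, 3781]) (.leaf [500, 693, 826, 975, 1104, 1263, 2412, 2685, 3046, 3186, 3444, 3721, 4081])) (.node (.leaf [162, 337, 657, 1662, 1761, 2159, 2262, 2641, 2821, 3074, 3491, 3512, 3523]) (.leaf [211, 287, 371, 760, 1006, 2106, 2505, 3362, 3555, 3722, 4132, 4327, 4363])))) (.node (.node (.node (.node (.leaf [393, 487, 846, 1020, 1543, 1656, 1817, 1885, 2942, 3428, 3431, 3922, 3984]) (.leaf [703, 911, 984, 1420, 1566, 1606, 2152, 2285, 2428, 2829, 2885, 4344, 4414])) (.leaf [54, 221, 971, 1318, 1529, 1619,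 1847, 1907, 2059, 2168, 3621, 4102, 4158])) (.node (.leaf [618, 711, 871, 1299, 1312, 1382, 1388, 1418, 1693, 1911, 2340, 3994, 4374]) (.leaf [432, 819, 1322, 1394, 1412, 1668, 2044, 2303, 2762, 2956, 3822, 4256, 4465]))) (.node (.node (.leaf [582, 815, 889, 966, 1243, 1255, 1753, 2086, 2124, 2827, 2848, 3034, 3749]) (.leaf [90, 599, 1274, 1450, 1896, 2000, 2182, 2232, 2476, 3301, 3570, 3870, 4283])) (.node (.leaf [96, 446, 721, 1296, 1978, 3060, 3156, 3556, 3683, 3790, 3893, 4069, 4329]) (.leaf [595, 706, 917, 1102, 1122, 1213, 1326, 1420, 1830, 2199, 2429, 3949, 4071])))))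

def nbr158 : Janko.Tree (List ℕ) :=
  (.node (.node (.node (.node (.node (.leaf [28, 88, 902, 1922, 2012, 2118, 2968, 3826, 3850, 3961, 3982, 4190, 4212]) (.leaf [224, 351, 560, 628, 2206, 2343, 2674, 2855, 2982, 3477, 3584, 4242, 4466])) (.leaf [336, 903, 1230, 1634, 1761, 1996, 2172, 3260, 3961, 4074, 4255, 4294, 4337])) (.node (.leaf [56, 575, 1438, 1606, 1774, 2195, 2247, 2398, 2687, 2913, 3384, 3630, 4344]) (.leaf [158, 241, 612, 668, 1038, 2196, 2962, 3506, 3579, 3800, 4173, 4181, 4350]))) (.node (.node (.leaf [208, 846, 1222, 1715, 1792, 2150, 2615, 2948, 3072, 3110, 3431, 3591, 3638]) (.leaf [140, 452, 493, 507, 1661, 1955, 2009, 2266, 2485, 3451, 3507, 3812, 4025])) (.node (.leaf [156, 165, 196, 387, 1008, 2351, 2467, 3077, 3169, 3171, 3432, 3492, 4458]) (.leaf [817, 922, 1080, 1633, 1663, 1772, 1785, 2253, 2489, 2500, 2650, 3310, 3933])))) (.node (.node (.node (.node (.leaf [316, 394, 488, 1023, 1031, 1526, 2328, 2614, 3431, 3560, 3607, 3923, 4210]) (.leaf [553, 1086, 1354, 2005, 2368, 2407, 2419, 2630, 3064, 3265, 3275, 3401, 4403])) (.leaf [1140, 1382, 1499, 1516, 2005,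 2471, 2900, 3056, 3142, 3331, 3426, 4124, 4245])) (.node (.leaf [1009, 1021, 1216, 1426, 1527, 1806, 1912, 2350, 2889, 2961, 3279, 3308, 3615]) (.leaf [435, 445, 1134, 1325, 1397, 1436, 1775, 1896, 2340, 2558, 2935, 3458, 3648]))) (.node (.node (.leaf [355, 865, 887, 1258, 1290, 1292, 1591, 2089, 2893, 3149, 3929, 4017, 4136]) (.leaf [396, 1097, 1763, 1901, 1967, 2276, 2789, 2890, 3013, 3175, 3466, 3875, 4238])) (.node (.leaf [295, 421, 496, 1253, 1684, 1928, 2539, 3237, 3283, 3723, 4250, 4272, 4327]) (.leaf [93, 207, 399, 708, 929, 1833, 2620, 3677, 3738, 3757, 3941, 4072, 4403])))))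

def nbr159 : Janko.Tree (List ℕ) :=
  (.node (.node (.node (.node (.node (.leaf [29, 89, 903, 1923, 2013, 2119, 2969, 3827, 3851, 3960, 3983, 4191, 4213]) (.leaf [225, 350, 561, 629, 2207, 2342, 2675, 2854, 2983, 3476, 3585, 4243, 4467])) (.leaf [337, 902, 1231, 1635, 1760, 1997, 2173, 3261, 3960, 4075, 4254, 4295, 4336])) (.node (.leaf [57, 574, 1439, 1607, 1775, 2194, 2246, 2399, 2686, 2912, 3385, 3631, 4345]) (.leaf [159, 240, 613, 669, 1039, 2197, 2963, 3507, 3578, 3801, 4172, 4180, 4351]))) (.node (.node (.leaf [209, 847, 1223, 1714, 1793, 2151, 2614, 2949, 3073, 3111, 3430, 3590, 3639]) (.leaf [141, 453, 492, 506, 1660, 1954, 2008, 2267, 2484, 3450, 3506, 3813, 4024])) (.node (.leaf [157, 164, 197, 386, 1009, 2350, 2466, 3076, 3168, 3170, 3433, 3493, 4459]) (.leaf [816, 923, 1081, 1632, 1662, 1773, 1784, 2252, 2488, 2501, 2651, 3311, 3932])))) (.node (.node (.node (.node (.leaf [317, 395, 489, 1022, 1030, 1527, 2329, 2615, 3430, 3561, 3606, 3922, 4211]) (.leaf [552, 1087, 1355, 2004, 2369, 2406, 2418, 2631, 3065, 3264, 3274, 3400, 4402])) (.leaf [1141, 1383, 1498, 1517, 2004,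 2470, 2901, 3057, 3143, 3330, 3427, 4125, 4244])) (.node (.leaf [1008, 1020, 1217, 1427, 1526, 1807, 1913, 2351, 2888, 2960, 3278, 3309, 3614]) (.leaf [434, 444, 1135, 1324, 1396, 1437, 1774, 1897, 2341, 2559, 2934, 3459, 3649]))) (.node (.node (.leaf [354, 864, 886, 1259, 1291, 1293, 1590, 2088, 2892, 3148, 3928, 4016, 4137]) (.leaf [397, 1096, 1762, 1900, 1966, 2277, 2788, 2891, 3012, 3174, 3467, 3874, 4239])) (.node (.leaf [294, 420, 497, 1252, 1685, 1929, 2538, 3236, 3282, 3722, 4251, 4273, 4326]) (.leaf [92, 206, 398, 709, 928, 1832, 2621, 3676, 3739, 3756, 3940, 4073, 4402])))))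

def nbr160 : Janko.Tree (List ℕ) :=
  (.node (.node (.node (.node (.node (.leaf [90, 359, 1710, 1924, 2970, 3129, 3422, 3527, 3852, 3887, 4214, 4313, 4360]) (.leaf [226, 562, 630, 1574, 1717, 2139, 2309, 2345, 2574, 3392, 3641, 3957, 4096])) (.leaf [826, 970, 1633, 2402, 2491, 2518, 2528, 2738, 3535, 3932, 3942, 4048, 4080])) (.node (.leaf [52, 1507, 1719, 1780, 2153, 3289, 3435, 3654, 3683, 3706, 4368, 4404, 4419]) (.leaf [107, 291, 406, 551, 617, 1125, 1979, 2079, 3302, 3566, 3611, 3668, 4454]))) (.node (.node (.leaf [213, 458, 608, 630, 959, 1645, 2254, 2915, 3312, 3640, 4297, 4393, 4408]) (.leaf [185, 489, 761, 1188, 1224, 1526, 2203, 2876, 2899, 3071, 3283, 4311, 4326])) (.node (.leaf [42, 167, 1010, 1449, 1541, 1563, 2259, 2668, 3173, 3326, 3434, 3515, 3655]) (.leaf [819, 1252, 1327, 1665, 2001, 2255, 2539, 2652, 3330, 3479, 3677, 3738, 3949])))) (.node (.node (.node (.node (.leaf [133, 490, 981, 1017, 1341, 1659, 1725, 1934, 2031, 2556, 3433, 3492, 4212]) (.leaf [90, 188, 1178, 1803, 1910, 2017, 2682, 2713, 3275, 3526, 3547, 3733, 4356])) (.leaf [268, 936, 1249, 1584, 1766,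 1991, 1997, 2190, 2192, 2485, 2517, 2597, 3891])) (.node (.leaf [234, 1011, 1023, 1218, 1428, 1609, 1808, 1914, 2511, 2963, 3514, 4144, 4352]) (.leaf [1429, 1574, 1611, 1755, 1914, 2308, 3356, 3404, 3513, 3522, 3646, 3859, 4430]))) (.node (.node (.leaf [603, 611, 738, 892, 1176, 1260, 1296, 2095, 2167, 2732, 3976, 4287, 4461]) (.leaf [398, 1041, 1130, 1343, 1765, 1903, 1969, 2092, 2151, 2300, 2719, 3877, 4200])) (.node (.leaf [204, 260, 734, 1457, 1475, 1973, 2214, 2933, 2968, 3062, 4052, 4137, 4191]) (.leaf [135, 267, 326, 1153, 1339, 1880, 2305, 2446, 2774, 3188, 3336, 3612, 3815])))))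

def nbr161 : Janko.Tree (List ℕ) :=
  (.node (.node (.node (.node (.node (.leaf [91, 358, 1711, 1925, 2971, 3128, 3423, 3526, 3853, 3886, 4215, 4312, 4361]) (.leaf [227, 563, 631, 1575, 1716, 2138, 2308, 2344, 2575, 3393, 3640, 3956, 4097])) (.leaf [827, 971, 1632, 2403, 2490, 2519, 2529, 2739, 3534, 3933, 3943, 4049, 4081])) (.node (.leaf [53, 1506, 1718, 1781, 2152, 3288, 3434, 3655, 3682, 3707, 4369, 4405, 4418]) (.leaf [106, 290, 407, 550, 616, 1124, 1978, 2078, 3303, 3567, 3610, 3669, 4455]))) (.node (.node (.leaf [212, 459, 609, 631, 958, 1644, 2255, 2914, 3313, 3641, 4296, 4392, 4409]) (.leaf [184, 488, 760, 1189, 1225, 1527, 2202, 2877, 2898, 3070, 3282, 4310, 4327])) (.node (.leaf [43, 166, 1011, 1448, 1540, 1562, 2258, 2669, 3172, 3327, 3435, 3514, 3654]) (.leaf [818, 1253, 1326, 1664, 2000, 2254, 2538, 2653, 3331, 3478, 3676, 3739, 3948])))) (.node (.node (.node (.node (.leaf [132, 491, 980, 1016, 1340, 1658, 1724, 1935, 2030, 2557, 3432, 3493, 4213]) (.leaf [91, 189, 1179, 1802, 1911, 2016, 2683, 2712, 3274, 3527, 3546, 3732, 4357])) (.leaf [269, 937, 1248, 1585, 1767,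 1990, 1996, 2191, 2193, 2484, 2516, 2596, 3890])) (.node (.leaf [235, 1010, 1022, 1219, 1429, 1608, 1809, 1915, 2510, 2962, 3515, 4145, 4353]) (.leaf [1428, 1575, 1610, 1754, 1915, 2309, 3357, 3405, 3512, 3523, 3647, 3858, 4431]))) (.node (.node (.leaf [602, 610, 739, 893, 1177, 1261, 1297, 2094, 2166, 2733, 3977, 4286, 4460]) (.leaf [399, 1040, 1131, 1342, 1764, 1902, 1968, 2093, 2150, 2301, 2718, 3876, 4201])) (.node (.leaf [205, 261, 735, 1456, 1474, 1972, 2215, 2932, 2969, 3063, 4053, 4136, 4190]) (.leaf [134, 266, 327, 1152, 1338, 1881, 2304, 2447, 2775, 3189, 3337, 3613, 3814])))))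

def nbr162 : Janko.Tree (List ℕ) :=
  (.node (.node (.node (.node (.node (.leaf [122, 475, 619, 1323, 2209, 2633, 2755, 3127, 3718, 3823, 3951, 4071, 4389]) (.leaf [98, 712, 1169, 1898, 1925, 2002, 2479, 2779, 3285, 3527, 3719, 4327, 4357])) (.leaf [56, 344, 1984, 2094, 2103, 2257, 2266, 3134, 3358, 3496, 3631, 4287, 4442])) (.node (.leaf [206, 772, 817, 1442, 2033, 2248, 2619, 3656, 3686, 3708, 4117, 4154, 4413]) (.leaf [475, 622, 637, 1164, 1448, 2668, 2833, 3077, 3100, 3105, 3153, 3545, 3670]))) (.node (.node (.leaf [152, 215, 510, 682, 848, 961, 1099, 1391, 2083, 2594, 3314, 4397, 4416]) (.leaf [187, 235, 464, 763, 1270, 2769, 3557, 3809, 3818, 3893, 3969, 4263, 4450])) (.node (.leaf [984, 1018, 1144, 1453, 1529, 1555, 1709, 2397, 2923, 3358, 3840, 3857, 4443]) (.leaf [175, 954, 990, 1004, 1311, 1935, 2227, 2557, 2681, 2762, 3031, 4153, 4311])))) (.node (.node (.node (.node (.leaf [492, 533, 1563, 1613, 1661, 1853, 2545, 2791, 2984, 3078, 3435, 4214, 4369]) (.leaf [82, 161, 1084, 1199, 2484, 3004, 3239, 3822, 3891, 3952, 3971, 4100, 4162])) (.leaf [582, 618, 827, 1379, 1983, 2428,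 2885, 3330, 3568, 3749, 3781, 3995, 4045])) (.node (.leaf [99, 211, 571, 933, 1226, 1545, 1918, 1964, 2137, 3771, 4041, 4251, 4326]) (.leaf [1047, 1576, 1630, 1746, 2102, 2304, 2385, 2523, 2586, 2798, 3463, 4274, 4426]))) (.node (.node (.leaf [21, 112, 742, 973, 1262, 1285, 1298, 1693, 2391, 2685, 2898, 3869, 4310]) (.leaf [400, 599, 907, 1644, 1767, 1841, 2226, 2269, 2537, 2597, 3031, 3472, 4379])) (.node (.leaf [549, 907, 1209, 2592, 2734, 2978, 3031, 3256, 3592, 3664, 3800, 4152, 4180]) (.leaf [310, 374, 688, 808, 1252, 1280, 2508, 2658, 2878, 3125, 3316, 3609, 4005])))))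

def nbr163 : Janko.Tree (List ℕ) :=
  (.node (.node (.node (.node (.node (.leaf [123, 474, 618, 1322, 2208, 2632, 2754, 3126, 3719, 3822, 3950, 4070, 4388]) (.leaf [99, 713, 1168, 1899, 1924, 2003, 2478, 2778, 3284, 3526, 3718, 4326, 4356])) (.leaf [57, 345, 1985, 2095, 2102, 2256, 2267, 3135, 3359, 3497, 3630, 4286, 4443])) (.node (.leaf [207, 773, 816, 1443, 2032, 2249, 2618, 3657, 3687, 3709, 4116, 4155, 4412]) (.leaf [474, 623, 636, 1165, 1449, 2669, 2832, 3076, 3101, 3104, 3152, 3544, 3671]))) (.node (.node (.leaf [153, 214, 511, 683, 849, 960, 1098, 1390, 2082, 2595, 3315, 4396, 4417]) (.leaf [186, 234, 465, 762, 1271, 2768, 3556, 3808, 3819, 3892, 3968, 4262, 4451])) (.node (.leaf [985, 1019, 1145, 1452, 1528, 1554, 1708, 2396, 2922, 3359, 3841, 3856, 4442]) (.leaf [174, 955, 991, 1005, 1310, 1934, 2226, 2556, 2680, 2763, 3030, 4152, 4310])))) (.node (.node (.node (.node (.leaf [493, 532, 1562, 1612, 1660, 1852, 2544, 2790, 2985, 3079, 3434, 4215, 4368]) (.leaf [83, 160, 1085, 1198, 2485, 3005, 3238, 3823, 3890, 3953, 3970, 4101, 4163])) (.leaf [583, 619, 826, 1378, 1982, 2429,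 2884, 3331, 3569, 3748, 3780, 3994, 4044])) (.node (.leaf [98, 210, 570, 932, 1227, 1544, 1919, 1965, 2136, 3770, 4040, 4250, 4327]) (.leaf [1046, 1577, 1631, 1747, 2103, 2305, 2384, 2522, 2587, 2799, 3462, 4275, 4427]))) (.node (.node (.leaf [20, 113, 743, 972, 1263, 1284, 1299, 1692, 2390, 2684, 2899, 3868, 4311]) (.leaf [401, 598, 906, 1645, 1766, 1840, 2227, 2268, 2536, 2596, 3030, 3473, 4378])) (.node (.leaf [548, 906, 1208, 2593, 2735, 2979, 3030, 3257, 3593, 3665, 3801, 4153, 4181]) (.leaf [311, 375, 689, 809, 1253, 1281, 2509, 2659, 2879, 3124, 3317, 3608, 4004])))))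

def nbr164 : Janko.Tree (List ℕ) :=
  (.node (.node (.node (.node (.node (.leaf [124, 1169, 1214, 1325, 1453, 1569, 2739, 3388, 3458, 3720, 4081, 4270, 4479]) (.leaf [48, 385, 403, 527, 1647, 2076, 2349, 3167, 3198, 3251, 3578, 4092, 4400])) (.leaf [115, 1434, 1986, 2096, 2105, 2926, 3360, 3397, 3674, 3850, 4139, 4152, 4195])) (.node (.leaf [215, 791, 1318, 1466, 1471, 1524, 1634, 1721, 1955, 2860, 2966, 4063, 4410]) (.leaf [498, 626, 990, 2109, 2672, 2886, 2893, 3120, 3443, 3504, 3672, 3909, 4047]))) (.node (.node (.leaf [514, 539, 593, 618, 716, 850, 1111, 2330, 3036, 3177, 3342, 3951, 4285]) (.leaf [163, 583, 717, 1901, 2262, 2277, 2444, 2970, 3333, 3969, 4229, 4356, 4450])) (.node (.leaf [271, 425, 662, 997, 1419, 1461, 1704, 1868, 1911, 2514, 3016, 3351, 3867]) (.leaf [73, 424, 684, 1173, 2390, 2685, 3076, 3153, 3557, 3666, 3771, 4010, 4094])))) (.node (.node (.node (.node (.leaf [128, 494, 565, 1005, 1017, 1149, 1321, 1466, 2953, 3299, 3678, 3788, 3907]) (.leaf [96, 307, 665, 889, 1443, 2378, 2405, 3024, 3157, 3686, 3897, 3918, 4465])) (.leaf [70, 190, 878, 1416, 1835, 2242,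 2284, 2660, 2817, 2902, 3214, 3988, 4328])) (.node (.leaf [257, 608, 759, 998, 1228, 1516, 1547, 1920, 2455, 3039, 3427, 3651, 3818]) (.leaf [73, 278, 683, 838, 1282, 1488, 1561, 1683, 2295, 2594, 3281, 3455, 3663]))) (.node (.node (.leaf [192, 744, 975, 1264, 1287, 1300, 1421, 1695, 2252, 3013, 3892, 4294, 4451]) (.leaf [194, 1236, 1913, 2206, 2556, 2734, 3031, 3278, 3477, 3516, 3879, 4341, 4434])) (.node (.leaf [594, 618, 851, 1579, 1910, 2129, 3622, 3783, 3866, 3900, 3925, 4070, 4319]) (.leaf [913, 1284, 2163, 2280, 2392, 2538, 2813, 2854, 2977, 3048, 3115, 3217, 3846])))))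

def nbr165 : Janko.Tree (List ℕ) :=
  (.node (.node (.node (.node (.node (.leaf [125, 1168, 1215, 1324, 1452, 1568, 2738, 3389, 3459, 3721, 4080, 4271, 4478]) (.leaf [49, 384, 402, 526, 1646, 2077, 2348, 3166, 3199, 3250, 3579, 4093, 4401])) (.leaf [114, 1435, 1987, 2097, 2104, 2927, 3361, 3396, 3675, 3851, 4138, 4153, 4194])) (.node (.leaf [214, 790, 1319, 1467, 1470, 1525, 1635, 1720, 1954, 2861, 2967, 4062, 4411]) (.leaf [499, 627, 991, 2108, 2673, 2887, 2892, 3121, 3442, 3505, 3673, 3908, 4046]))) (.node (.node (.leaf [515, 538, 592, 619, 717, 851, 1110, 2331, 3037, 3176, 3343, 3950, 4284]) (.leaf [162, 582, 716, 1900, 2263, 2276, 2445, 2971, 3332, 3968, 4228, 4357, 4451])) (.node (.leaf [270, 424, 663, 996, 1418, 1460, 1705, 1869, 1910, 2515, 3017, 3350, 3866]) (.leaf [72, 425, 685, 1172, 2391, 2684, 3077, 3152, 3556, 3667, 3770, 4011, 4095])))) (.node (.node (.node (.node (.leaf [129, 495, 564, 1004, 1016, 1148, 1320, 1467, 2952, 3298, 3679, 3789, 3906]) (.leaf [97, 306, 664, 888, 1442, 2379, 2404, 3025, 3156, 3687, 3896, 3919, 4464])) (.leaf [71, 191, 879, 1417, 1834, 2243,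 2285, 2661, 2816, 2903, 3215, 3989, 4329])) (.node (.leaf [256, 609, 758, 999, 1229, 1517, 1546, 1921, 2454, 3038, 3426, 3650, 3819]) (.leaf [72, 279, 682, 839, 1283, 1489, 1560, 1682, 2294, 2595, 3280, 3454, 3662]))) (.node (.node (.leaf [193, 745, 974, 1265, 1286, 1301, 1420, 1694, 2253, 3012, 3893, 4295, 4450]) (.leaf [195, 1237, 1912, 2207, 2557, 2735, 3030, 3279, 3476, 3517, 3878, 4340, 4435])) (.node (.leaf [595, 619, 850, 1578, 1911, 2128, 3623, 3782, 3867, 3901, 3924, 4071, 4318]) (.leaf [912, 1285, 2162, 2281, 2393, 2539, 2812, 2855, 2976, 3049, 3114, 3216, 3847])))))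

def nbr166 : Janko.Tree (List ℕ) :=
  (.node (.node (.node (.node (.node (.leaf [126, 338, 471, 1232, 1680, 1813, 1845, 3129, 3744, 3886, 4073, 4076, 4231]) (.leaf [188, 500, 992, 1105, 1151, 1423, 1567, 1790, 2679, 2716, 2867, 3275, 4252])) (.leaf [69, 865, 1172, 1559, 1578, 2088, 2101, 2438, 2452, 2742, 3133, 3622, 4276])) (.node (.leaf [653, 793, 871, 1723, 1813, 1854, 2862, 2986, 3083, 3266, 3421, 4161, 4375]) (.leaf [38, 383, 440, 513, 645, 1175, 1184, 2316, 2526, 3299, 3586, 4473, 4479]))) (.node (.node (.leaf [220, 302, 329, 595, 718, 852, 935, 1215, 1433, 2433, 3633, 4463, 4479]) (.leaf [370, 464, 857, 1210, 1895, 2183, 2205, 2290, 2776, 3713, 3740, 3810, 4411])) (.node (.leaf [484, 1020, 1086, 1202, 1217, 1254, 1368, 1463, 1533, 2245, 3364, 3581, 3983]) (.leaf [588, 688, 979, 1477, 1637, 1748, 2021, 2127, 2884, 2937, 3092, 4235, 4315])))) (.node (.node (.node (.node (.leaf [496, 567, 663, 1661, 1868, 2547, 2824, 2955, 2986, 2994, 3001, 3132, 4378]) (.leaf [348, 501, 993, 2205, 2533, 2751, 3254, 3444, 3474, 3559, 3946, 3986, 4266])) (.leaf [72, 276, 388, 1054, 1372, 1418,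 2286, 2727, 2814, 2865, 3350, 3374, 4094])) (.node (.leaf [12, 860, 987, 1922, 1988, 1994, 2092, 2197, 2360, 4173, 4201, 4322, 4468]) (.leaf [77, 572, 925, 1199, 1533, 1713, 2143, 2632, 2780, 2910, 2930, 3635, 3779]))) (.node (.node (.leaf [591, 636, 894, 1266, 1316, 1390, 1604, 2222, 3671, 3845, 4197, 4316, 4421]) (.leaf [917, 1477, 1637, 1919, 2438, 2727, 2813, 2818, 3510, 3770, 3883, 4056, 4094])) (.node (.leaf [853, 1215, 1323, 1581, 1759, 2489, 2682, 2738, 2795, 3156, 3618, 3737, 4252]) (.leaf [94, 288, 405, 541, 1122, 1976, 2224, 2753, 3334, 3565, 3608, 4035, 4471])))))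

def nbr167 : Janko.Tree (List ℕ) :=
  (.node (.node (.node (.node (.node (.leaf [127, 339, 470, 1233, 1681, 1812, 1844, 3128, 3745, 3887, 4072, 4077, 4230]) (.leaf [189, 501, 993, 1104, 1150, 1422, 1566, 1791, 2678, 2717, 2866, 3274, 4253])) (.leaf [68, 864, 1173, 1558, 1579, 2089, 2100, 2439, 2453, 2743, 3132, 3623, 4277])) (.node (.leaf [652, 792, 870, 1722, 1812, 1855, 2863, 2987, 3082, 3267, 3420, 4160, 4374]) (.leaf [39, 382, 441, 512, 644, 1174, 1185, 2317, 2527, 3298, 3587, 4472, 4478]))) (.node (.node (.leaf [221, 303, 328, 594, 719, 853, 934, 1214, 1432, 2432, 3632, 4462, 4478]) (.leaf [371, 465, 856, 1211, 1894, 2182, 2204, 2291, 2777, 3712, 3741, 3811, 4410])) (.node (.leaf [485, 1021, 1087, 1203, 1216, 1255, 1369, 1462, 1532, 2244, 3365, 3580, 3982]) (.leaf [589, 689, 978, 1476, 1636, 1749, 2020, 2126, 2885, 2936, 3093, 4234, 4314])))) (.node (.node (.node (.node (.leaf [497, 566, 662, 1660, 1869, 2546, 2825, 2954, 2987, 2995, 3000, 3133, 4379]) (.leaf [349, 500, 992, 2204, 2532, 2750, 3255, 3445, 3475, 3558, 3947, 3987, 4267])) (.leaf [73, 277, 389, 1055, 1373, 1419,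 2287, 2726, 2815, 2864, 3351, 3375, 4095])) (.node (.leaf [13, 861, 986, 1923, 1989, 1995, 2093, 2196, 2361, 4172, 4200, 4323, 4469]) (.leaf [76, 573, 924, 1198, 1532, 1712, 2142, 2633, 2781, 2911, 2931, 3634, 3778]))) (.node (.node (.leaf [590, 637, 895, 1267, 1317, 1391, 1605, 2223, 3670, 3844, 4196, 4317, 4420]) (.leaf [916, 1476, 1636, 1918, 2439, 2726, 2812, 2819, 3511, 3771, 3882, 4057, 4095])) (.node (.leaf [852, 1214, 1322, 1580, 1758, 2488, 2683, 2739, 2794, 3157, 3619, 3736, 4253]) (.leaf [95, 289, 404, 540, 1123, 1977, 2225, 2752, 3335, 3564, 3609, 4034, 4470])))))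

def nbr168 : Janko.Tree (List ℕ) :=
  (.node (.node (.node (.node (.node (.leaf [128, 135, 269, 842, 1238, 1402, 1492, 1748, 2579, 2600, 2936, 3891, 3909]) (.leaf [130, 136, 1061, 1623, 1726, 2307, 2571, 2577, 2984, 3089, 3329, 3369, 4157])) (.leaf [508, 570, 825, 1493, 1582, 1854, 2744, 2936, 2987, 3169, 3411, 3616, 3849])) (.node (.leaf [638, 1052, 1410, 1444, 1465, 1957, 2043, 2514, 2551, 2632, 2864, 3778, 4343]) (.leaf [40, 442, 698, 1069, 1177, 1186, 1548, 1640, 2021, 3001, 3175, 3588, 3897]))) (.node (.node (.leaf [244, 854, 1223, 1434, 1482, 1681, 2110, 2381, 2880, 3206, 3397, 3744, 3864]) (.leaf [921, 1445, 1465, 1487, 3211, 3242, 3384, 3516, 3583, 3630, 3746, 3749, 4264])) (.node (.leaf [27, 118, 966, 1022, 1204, 1219, 1256, 1465, 1535, 1981, 3583, 4355, 4361]) (.leaf [520, 827, 889, 1005, 1928, 2402, 2539, 2613, 3022, 3331, 3393, 4096, 4469])))) (.node (.node (.node (.node (.leaf [392, 498, 1103, 1432, 2108, 2257, 2633, 2864, 3032, 3140, 3316, 3689, 4388]) (.leaf [107, 301, 617, 980, 1182, 1696, 1764, 1843, 1934, 2185, 2234, 2681, 4087])) (.leaf [96, 516, 864, 1193, 1454,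 1587, 1964, 2048, 2398, 2912, 3381, 3391, 3896])) (.node (.leaf [704, 977, 989, 1062, 1430, 1713, 1924, 1926, 1937, 1990, 3018, 3624, 4431]) (.leaf [120, 166, 391, 1549, 1736, 1863, 1893, 2020, 2670, 2936, 3101, 3152, 4185]))) (.node (.node (.leaf [420, 638, 896, 1268, 1318, 1392, 1603, 1619, 2224, 2338, 2365, 3915, 4423]) (.leaf [138, 313, 683, 902, 1923, 2196, 2490, 2926, 3091, 3261, 3705, 3934, 4195])) (.node (.leaf [848, 1144, 1461, 1880, 1943, 2270, 2594, 2874, 2931, 3044, 3207, 3662, 4131]) (.leaf [661, 1509, 1540, 1947, 2009, 2359, 2502, 2852, 3047, 3514, 4033, 4126, 4303])))))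

def nbr169 : Janko.Tree (List ℕ) :=
  (.node (.node (.node (.node (.node (.leaf [129, 134, 268, 843, 1239, 1403, 1493, 1749, 2578, 2601, 2937, 3890, 3908]) (.leaf [131, 137, 1060, 1622, 1727, 2306, 2570, 2576, 2985, 3088, 3328, 3368, 4156])) (.leaf [509, 571, 824, 1492, 1583, 1855, 2745, 2937, 2986, 3168, 3410, 3617, 3848])) (.node (.leaf [639, 1053, 1411, 1445, 1464, 1956, 2042, 2515, 2550, 2633, 2865, 3779, 4342]) (.leaf [41, 443, 699, 1068, 1176, 1187, 1549, 1641, 2020, 3000, 3174, 3589, 3896]))) (.node (.node (.leaf [245, 855, 1222, 1435, 1483, 1680, 2111, 2380, 2881, 3207, 3396, 3745, 3865]) (.leaf [920, 1444, 1464, 1486, 3210, 3243, 3385, 3517, 3582, 3631, 3747, 3748, 4265])) (.node (.leaf [26, 119, 967, 1023, 1205, 1218, 1257, 1464, 1534, 1980, 3582, 4354, 4360]) (.leaf [521, 826, 888, 1004, 1929, 2403, 2538, 2612, 3023, 3330, 3392, 4097, 4468])))) (.node (.node (.node (.node (.leaf [393, 499, 1102, 1433, 2109, 2256, 2632, 2865, 3033, 3141, 3317, 3688, 4389]) (.leaf [106, 300, 616, 981, 1183, 1697, 1765, 1842, 1935, 2184, 2235, 2680, 4086])) (.leaf [97, 517, 865, 1192, 1455,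 1586, 1965, 2049, 2399, 2913, 3380, 3390, 3897])) (.node (.leaf [705, 976, 988, 1063, 1431, 1712, 1925, 1927, 1936, 1991, 3019, 3625, 4430]) (.leaf [121, 167, 390, 1548, 1737, 1862, 1892, 2021, 2671, 2937, 3100, 3153, 4184]))) (.node (.node (.leaf [421, 639, 897, 1269, 1319, 1393, 1602, 1618, 2225, 2339, 2364, 3914, 4422]) (.leaf [139, 312, 682, 903, 1922, 2197, 2491, 2927, 3090, 3260, 3704, 3935, 4194])) (.node (.leaf [849, 1145, 1460, 1881, 1942, 2271, 2595, 2875, 2930, 3045, 3206, 3663, 4130]) (.leaf [660, 1508, 1541, 1946, 2008, 2358, 2503, 2853, 3046, 3515, 4032, 4127, 4302])))))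

def nbr170 : Janko.Tree (List ℕ) :=
  (.node (.node (.node (.node (.node (.leaf [130, 1278, 1327, 1666, 2370, 2414, 2677, 2993, 3400, 3584, 3761, 3813, 4025]) (.leaf [134, 974, 981, 1402, 1414, 1621, 1671, 2305, 2575, 2921, 3165, 4155, 4192])) (.leaf [623, 1351, 1495, 1584, 2218, 2454, 2607, 2668, 2938, 3143, 3743, 3904, 4220])) (.node (.leaf [89, 302, 636, 1129, 1233, 1448, 1844, 2223, 2432, 2523, 2915, 3641, 4275]) (.leaf [28, 42, 341, 344, 908, 1460, 2212, 2931, 2956, 3067, 3829, 4474, 4477]))) (.node (.node (.leaf [268, 411, 596, 856, 1225, 1277, 1492, 2112, 2192, 2933, 3208, 3399, 4335]) (.leaf [308, 827, 889, 923, 1614, 3234, 3386, 3748, 3851, 3963, 4083, 4148, 4212])) (.node (.leaf [862, 956, 1333, 1708, 2106, 2229, 2334, 2630, 3306, 3613, 3755, 4132, 4291]) (.leaf [108, 1273, 1554, 2693, 2759, 2770, 3211, 3356, 3516, 3962, 4186, 4237, 4347])))) (.node (.node (.node (.node (.leaf [115, 348, 394, 500, 573, 2143, 2518, 2866, 3440, 4081, 4105, 4271, 4318]) (.leaf [109, 123, 619, 1105, 1263, 1613, 1698, 1918, 2808, 2985, 3538, 3883, 4089])) (.leaf [98, 518, 608, 986, 1195, 1502,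 1878, 2037, 2360, 2400, 2914, 3894, 4470])) (.node (.leaf [538, 603, 716, 1064, 1926, 1979, 1992, 2094, 2357, 2590, 3020, 3567, 3877]) (.leaf [146, 293, 495, 1160, 1255, 1551, 2245, 2672, 2938, 3027, 3130, 3902, 3965]))) (.node (.node (.leaf [640, 699, 756, 802, 1270, 1394, 1886, 2045, 2786, 2853, 3057, 3331, 4441]) (.leaf [140, 315, 470, 506, 1696, 1925, 2764, 3296, 3625, 3833, 3887, 3936, 4036])) (.node (.leaf [2012, 2272, 2275, 2625, 2734, 2876, 3209, 3229, 3551, 3868, 3942, 3982, 4310]) (.leaf [264, 676, 838, 882, 894, 1469, 2850, 3186, 3440, 3791, 3939, 4158, 4301])))))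

def nbr171 : Janko.Tree (List ℕ) :=
  (.node (.node (.node (.node (.node (.leaf [131, 1279, 1326, 1667, 2371, 2415, 2676, 2992, 3401, 3585, 3760, 3812, 4024]) (.leaf [135, 975, 980, 1403, 1415, 1620, 1670, 2304, 2574, 2920, 3164, 4154, 4193])) (.leaf [622, 1350, 1494, 1585, 2219, 2455, 2606, 2669, 2939, 3142, 3742, 3905, 4221])) (.node (.leaf [88, 303, 637, 1128, 1232, 1449, 1845, 2222, 2433, 2522, 2914, 3640, 4274]) (.leaf [29, 43, 340, 345, 909, 1461, 2213, 2930, 2957, 3066, 3828, 4475, 4476]))) (.node (.node (.leaf [269, 410, 597, 857, 1224, 1276, 1493, 2113, 2193, 2932, 3209, 3398, 4334]) (.leaf [309, 826, 888, 922, 1615, 3235, 3387, 3749, 3850, 3962, 4082, 4149, 4213])) (.node (.leaf [863, 957, 1332, 1709, 2107, 2228, 2335, 2631, 3307, 3612, 3754, 4133, 4290]) (.leaf [109, 1272, 1555, 2692, 2758, 2771, 3210, 3357, 3517, 3963, 4187, 4236, 4346])))) (.node (.node (.node (.node (.leaf [114, 349, 395, 501, 572, 2142, 2519, 2867, 3441, 4080, 4104, 4270, 4319]) (.leaf [108, 122, 618, 1104, 1262, 1612, 1699, 1919, 2809, 2984, 3539, 3882, 4088])) (.leaf [99, 519, 609, 987, 1194, 1503,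 1879, 2036, 2361, 2401, 2915, 3895, 4471])) (.node (.leaf [539, 602, 717, 1065, 1927, 1978, 1993, 2095, 2356, 2591, 3021, 3566, 3876]) (.leaf [147, 292, 494, 1161, 1254, 1550, 2244, 2673, 2939, 3026, 3131, 3903, 3964]))) (.node (.node (.leaf [641, 698, 757, 803, 1271, 1395, 1887, 2044, 2787, 2852, 3056, 3330, 4440]) (.leaf [141, 314, 471, 507, 1697, 1924, 2765, 3297, 3624, 3832, 3886, 3937, 4037])) (.node (.leaf [2013, 2273, 2274, 2624, 2735, 2877, 3208, 3228, 3550, 3869, 3943, 3983, 4311]) (.leaf [265, 677, 839, 883, 895, 1468, 2851, 3187, 3441, 3790, 3938, 4159, 4300])))))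

def nbr172 : Janko.Tree (List ℕ) :=
  (.node (.node (.node (.node (.node (.leaf [132, 491, 1266, 1329, 1700, 1848, 2223, 3402, 3460, 3637, 3641, 3817, 4408]) (.leaf [190, 1475, 1757, 2185, 2427, 2456, 2680, 2793, 2817, 2869, 3927, 4208, 4307])) (.leaf [1053, 1386, 1418, 1711, 2057, 2241, 2287, 2746, 2796, 3129, 3413, 3559, 4283])) (.node (.leaf [91, 153, 262, 638, 672, 877, 1450, 1749, 2046, 2127, 2225, 2594, 3908]) (.leaf [44, 343, 776, 910, 1710, 2507, 2934, 3228, 3674, 3831, 3942, 4086, 4401]))) (.node (.node (.leaf [51, 216, 858, 1048, 1208, 2184, 2207, 2231, 2674, 2734, 3977, 4417, 4461]) (.leaf [895, 996, 1036, 1390, 2327, 2434, 2925, 3103, 3400, 3561, 4174, 4306, 4332])) (.node (.leaf [146, 1140, 1321, 1507, 1556, 1825, 2108, 3131, 3155, 3367, 3707, 4050, 4373]) (.leaf [352, 827, 1216, 1746, 2056, 2695, 3234, 3602, 3828, 3845, 4044, 4120, 4317])))) (.node (.node (.node (.node (.leaf [339, 420, 502, 737, 788, 897, 2363, 2436, 2998, 3151, 4231, 4363, 4403]) (.leaf [54, 775, 978, 1981, 1988, 2395, 2757, 3644, 3741, 3801, 3921, 4001, 4276])) (.leaf [290, 810, 1026, 1333, 1673,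 1881, 2478, 2714, 2918, 3414, 3612, 3742, 4454])) (.node (.leaf [167, 369, 1068, 1242, 1928, 2085, 2098, 2250, 2668, 2827, 3101, 3552, 4220]) (.leaf [31, 232, 451, 614, 947, 1722, 1920, 2707, 3368, 3385, 3433, 3652, 4023]))) (.node (.node (.leaf [499, 898, 1012, 1272, 1383, 1396, 1888, 2317, 2340, 3126, 3357, 3673, 3719]) (.leaf [120, 171, 1138, 1505, 1627, 1929, 2611, 2622, 3100, 3487, 3534, 3930, 4049])) (.node (.leaf [196, 766, 1009, 1111, 2352, 3280, 3555, 3647, 3767, 3858, 3954, 4261, 4362]) (.leaf [346, 809, 866, 1331, 1406, 2094, 2102, 2690, 2784, 3079, 4043, 4138, 4214])))))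

def nbr173 : Janko.Tree (List ℕ) :=
  (.node (.node (.node (.node (.node (.leaf [133, 490, 1267, 1328, 1701, 1849, 2222, 3403, 3461, 3636, 3640, 3816, 4409]) (.leaf [191, 1474, 1756, 2184, 2426, 2457, 2681, 2792, 2816, 2868, 3926, 4209, 4306])) (.leaf [1052, 1387, 1419, 1710, 2056, 2240, 2286, 2747, 2797, 3128, 3412, 3558, 4282])) (.node (.leaf [90, 152, 263, 639, 673, 876, 1451, 1748, 2047, 2126, 2224, 2595, 3909]) (.leaf [45, 342, 777, 911, 1711, 2506, 2935, 3229, 3675, 3830, 3943, 4087, 4400]))) (.node (.node (.leaf [50, 217, 859, 1049, 1209, 2185, 2206, 2230, 2675, 2735, 3976, 4416, 4460]) (.leaf [894, 997, 1037, 1391, 2326, 2435, 2924, 3102, 3401, 3560, 4175, 4307, 4333])) (.node (.leaf [147, 1141, 1320, 1506, 1557, 1824, 2109, 3130, 3154, 3366, 3706, 4051, 4372]) (.leaf [353, 826, 1217, 1747, 2057, 2694, 3235, 3603, 3829, 3844, 4045, 4121, 4316])))) (.node (.node (.node (.node (.leaf [338, 421, 503, 736, 789, 896, 2362, 2437, 2999, 3150, 4230, 4362, 4402]) (.leaf [55, 774, 979, 1980, 1989, 2394, 2756, 3645, 3740, 3800, 3920, 4000, 4277])) (.leaf [291, 811, 1027, 1332, 1672,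 1880, 2479, 2715, 2919, 3415, 3613, 3743, 4455])) (.node (.leaf [166, 368, 1069, 1243, 1929, 2084, 2099, 2251, 2669, 2826, 3100, 3553, 4221]) (.leaf [30, 233, 450, 615, 946, 1723, 1921, 2706, 3369, 3384, 3432, 3653, 4022]))) (.node (.node (.leaf [498, 899, 1013, 1273, 1382, 1397, 1889, 2316, 2341, 3127, 3356, 3672, 3718]) (.leaf [121, 170, 1139, 1504, 1626, 1928, 2610, 2623, 3101, 3486, 3535, 3931, 4048])) (.node (.leaf [197, 767, 1008, 1110, 2353, 3281, 3554, 3646, 3766, 3859, 3955, 4260, 4363]) (.leaf [347, 808, 867, 1330, 1407, 2095, 2103, 2691, 2785, 3078, 4042, 4139, 4215])))))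

def nbr174 : Janko.Tree (List ℕ) :=
  (.node (.node (.node (.node (.node (.leaf [134, 299, 929, 1391, 2224, 2594, 2959, 3425, 3518, 3815, 3915, 3991, 4196]) (.leaf [55, 163, 355, 716, 1086, 1201, 2187, 3006, 3408, 3459, 3580, 3812, 4284])) (.leaf [561, 1388, 1522, 1528, 1827, 2059, 2241, 2243, 2403, 2579, 2742, 3855, 4298])) (.node (.leaf [156, 267, 327, 1093, 1110, 1230, 1754, 1761, 2676, 2912, 3177, 3513, 3585]) (.leaf [61, 226, 1072, 2047, 2213, 2344, 2552, 2761, 2981, 3191, 4029, 4345, 4414]))) (.node (.node (.leaf [53, 218, 860, 1400, 1575, 1717, 2202, 2324, 2499, 2703, 3659, 3797, 3882]) (.leaf [282, 607, 1081, 1369, 1853, 2323, 2329, 2488, 2898, 3285, 3371, 3561, 4096])) (.node (.leaf [485, 497, 737, 859, 1666, 2093, 2307, 2800, 3133, 3329, 3413, 3664, 4290]) (.leaf [1453, 1461, 1944, 2397, 2705, 2957, 3206, 3240, 3332, 3588, 3626, 3745, 3863])))) (.node (.node (.node (.node (.leaf [340, 504, 743, 1075, 1402, 1462, 1621, 2086, 2145, 2392, 2601, 2976, 4474]) (.leaf [263, 528, 756, 1137, 1190, 1450, 1454, 1531, 2609, 3334, 3969, 4101, 4323])) (.leaf [196, 463, 794, 831, 1238,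 1503, 1702, 2350, 2578, 2960, 3861, 4261, 4396])) (.node (.leaf [34, 847, 855, 1260, 1296, 1434, 1930, 2104, 2672, 3121, 3542, 3872, 3984]) (.leaf [33, 613, 949, 1334, 2451, 2527, 2689, 2737, 3387, 3435, 3839, 4172, 4468]))) (.node (.node (.leaf [2, 225, 335, 2438, 2522, 2819, 3078, 3502, 3639, 3888, 4202, 4243, 4427]) (.leaf [148, 833, 951, 1201, 1469, 1494, 1509, 1539, 2009, 2569, 2607, 3118, 3323])) (.node (.leaf [153, 389, 1704, 2078, 2409, 2525, 2585, 2980, 3092, 3108, 3958, 4109, 4211]) (.leaf [265, 324, 471, 1151, 1878, 1958, 2444, 2977, 3491, 3523, 3832, 3894, 3898])))))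

def nbr175 : Janko.Tree (List ℕ) :=
  (.node (.node (.node (.node (.node (.leaf [135, 298, 928, 1390, 2225, 2595, 2958, 3424, 3519, 3814, 3914, 3990, 4197]) (.leaf [54, 162, 354, 717, 1087, 1200, 2186, 3007, 3409, 3458, 3581, 3813, 4285])) (.leaf [560, 1389, 1523, 1529, 1826, 2058, 2240, 2242, 2402, 2578, 2743, 3854, 4299])) (.node (.leaf [157, 266, 326, 1092, 1111, 1231, 1755, 1760, 2677, 2913, 3176, 3512, 3584]) (.leaf [60, 227, 1073, 2046, 2212, 2345, 2553, 2760, 2980, 3190, 4028, 4344, 4415]))) (.node (.node (.leaf [52, 219, 861, 1401, 1574, 1716, 2203, 2325, 2498, 2702, 3658, 3796, 3883]) (.leaf [283, 606, 1080, 1368, 1852, 2322, 2328, 2489, 2899, 3284, 3370, 3560, 4097])) (.node (.leaf [484, 496, 736, 858, 1667, 2092, 2306, 2801, 3132, 3328, 3412, 3665, 4291]) (.leaf [1452, 1460, 1945, 2396, 2704, 2956, 3207, 3241, 3333, 3589, 3627, 3744, 3862])))) (.node (.node (.node (.node (.leaf [341, 505, 742, 1074, 1403, 1463, 1620, 2087, 2144, 2393, 2600, 2977, 4475]) (.leaf [262, 529, 757, 1136, 1191, 1451, 1455, 1530, 2608, 3335, 3968, 4100, 4322])) (.leaf [197, 462, 795, 830, 1239,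 1502, 1703, 2351, 2579, 2961, 3860, 4260, 4397])) (.node (.leaf [35, 846, 854, 1261, 1297, 1435, 1931, 2105, 2673, 3120, 3543, 3873, 3985]) (.leaf [32, 612, 948, 1335, 2450, 2526, 2688, 2736, 3386, 3434, 3838, 4173, 4469]))) (.node (.node (.leaf [3, 224, 334, 2439, 2523, 2818, 3079, 3503, 3638, 3889, 4203, 4242, 4426]) (.leaf [149, 832, 950, 1200, 1468, 1495, 1508, 1538, 2008, 2568, 2606, 3119, 3322])) (.node (.leaf [152, 388, 1705, 2079, 2408, 2524, 2584, 2981, 3093, 3109, 3959, 4108, 4210]) (.leaf [264, 325, 470, 1150, 1879, 1959, 2445, 2976, 3490, 3522, 3833, 3895, 3899])))))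

def nbr176 : Janko.Tree (List ℕ) :=
  (.node (.node (.node (.node (.node (.leaf [84, 136, 305, 1393, 1602, 2175, 2275, 3055, 3303, 3466, 3725, 3783, 3901]) (.leaf [457, 522, 891, 1251, 1712, 1824, 1868, 2931, 3044, 3126, 3215, 3866, 4071])) (.leaf [1669, 1707, 1776, 2249, 2321, 2636, 2748, 3251, 3261, 3821, 3843, 3916, 4455])) (.node (.leaf [664, 772, 1448, 1452, 1709, 2333, 2676, 2914, 3378, 3626, 4164, 4281, 4413]) (.leaf [76, 372, 1103, 1532, 2135, 2217, 2429, 2554, 2902, 2917, 3566, 3944, 4349]))) (.node (.node (.leaf [66, 817, 862, 1078, 1346, 1401, 2033, 2253, 2293, 2314, 3013, 3049, 4033]) (.leaf [31, 851, 967, 1818, 2296, 2331, 3287, 3478, 3563, 3892, 3948, 4068, 4071])) (.node (.leaf [34, 854, 886, 1550, 1821, 1939, 2034, 2110, 3226, 3320, 3596, 3676, 4072]) (.leaf [80, 553, 804, 858, 2054, 2456, 2713, 3238, 3538, 3727, 3907, 3976, 4177])))) (.node (.node (.node (.node (.leaf [25, 116, 506, 1472, 1890, 1948, 2415, 2608, 2883, 3297, 3813, 4161, 4301]) (.leaf [43, 1410, 1935, 2009, 2347, 2468, 2568, 3046, 3077, 3187, 3493, 3790, 4342])) (.leaf [756, 790, 803, 1038, 1060, 1389,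 1729, 3531, 3723, 3994, 4094, 4100, 4156])) (.node (.leaf [6, 405, 525, 719, 1903, 2446, 2718, 3335, 3587, 3939, 4432, 4447, 4473]) (.leaf [39, 480, 1367, 1561, 2435, 2582, 2950, 3007, 3178, 3205, 3394, 4167, 4473]))) (.node (.node (.leaf [4, 227, 876, 1274, 1731, 2138, 2440, 3166, 3217, 3570, 3841, 4204, 4345]) (.leaf [408, 553, 588, 1460, 1975, 2126, 2666, 3041, 3066, 3400, 3588, 4130, 4371])) (.node (.leaf [105, 1560, 1770, 1800, 2245, 2289, 2358, 2637, 2719, 3179, 3565, 4035, 4332]) (.leaf [35, 114, 223, 646, 812, 831, 1600, 1815, 3851, 4006, 4082, 4168, 4170])))))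

def nbr177 : Janko.Tree (List ℕ) :=
  (.node (.node (.node (.node (.node (.leaf [85, 137, 304, 1392, 1603, 2174, 2274, 3054, 3302, 3467, 3724, 3782, 3900]) (.leaf [456, 523, 890, 1250, 1713, 1825, 1869, 2930, 3045, 3127, 3214, 3867, 4070])) (.leaf [1668, 1706, 1777, 2248, 2320, 2637, 2749, 3250, 3260, 3820, 3842, 3917, 4454])) (.node (.leaf [665, 773, 1449, 1453, 1708, 2332, 2677, 2915, 3379, 3627, 4165, 4280, 4412]) (.leaf [77, 373, 1102, 1533, 2134, 2216, 2428, 2555, 2903, 2916, 3567, 3945, 4348]))) (.node (.node (.leaf [67, 816, 863, 1079, 1347, 1400, 2032, 2252, 2292, 2315, 3012, 3048, 4032]) (.leaf [30, 850, 966, 1819, 2297, 2330, 3286, 3479, 3562, 3893, 3949, 4069, 4070])) (.node (.leaf [35, 855, 887, 1551, 1820, 1938, 2035, 2111, 3227, 3321, 3597, 3677, 4073]) (.leaf [81, 552, 805, 859, 2055, 2457, 2712, 3239, 3539, 3726, 3906, 3977, 4176])))) (.node (.node (.node (.node (.leaf [24, 117, 507, 1473, 1891, 1949, 2414, 2609, 2882, 3296, 3812, 4160, 4300]) (.leaf [42, 1411, 1934, 2008, 2346, 2469, 2569, 3047, 3076, 3186, 3492, 3791, 4343])) (.leaf [757, 791, 802, 1039, 1061, 1388,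 1728, 3530, 3722, 3995, 4095, 4101, 4157])) (.node (.leaf [7, 404, 524, 718, 1902, 2447, 2719, 3334, 3586, 3938, 4433, 4446, 4472]) (.leaf [38, 481, 1366, 1560, 2434, 2583, 2951, 3006, 3179, 3204, 3395, 4166, 4472]))) (.node (.node (.leaf [5, 226, 877, 1275, 1730, 2139, 2441, 3167, 3216, 3571, 3840, 4205, 4344]) (.leaf [409, 552, 589, 1461, 1974, 2127, 2667, 3040, 3067, 3401, 3589, 4131, 4370])) (.node (.leaf [104, 1561, 1771, 1801, 2244, 2288, 2359, 2636, 2718, 3178, 3564, 4034, 4333]) (.leaf [34, 115, 222, 647, 813, 830, 1601, 1814, 3850, 4007, 4083, 4169, 4171])))))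

def nbr178 : Janko.Tree (List ℕ) :=
  (.node (.node (.node (.node (.node (.leaf [33, 138, 183, 841, 1279, 2179, 2465, 3070, 3541, 3936, 4020, 4036, 4311]) (.leaf [208, 751, 776, 1155, 1651, 1815, 2239, 2440, 2542, 3032, 3111, 3268, 4007])) (.leaf [252, 976, 1202, 1778, 2122, 2245, 2382, 2426, 2939, 3290, 3885, 3929, 4407])) (.node (.leaf [666, 691, 774, 1171, 1450, 1454, 1753, 2222, 2335, 2595, 3035, 4283, 4350]) (.leaf [183, 431, 460, 533, 632, 1670, 2917, 2958, 3071, 3854, 3991, 4015, 4119]))) (.node (.node (.leaf [620, 821, 864, 1073, 1291, 1956, 2048, 2749, 3090, 3260, 3489, 3521, 4362]) (.leaf [1324, 1344, 1366, 1412, 1885, 1971, 3072, 3348, 3388, 3540, 3600, 3648, 3794])) (.node (.leaf [48, 290, 725, 1300, 1353, 1360, 1638, 2120, 2587, 3162, 3166, 3437, 4324]) (.leaf [252, 260, 555, 806, 860, 1474, 2438, 2498, 3132, 3945, 4004, 4285, 4323])))) (.node (.node (.node (.node (.leaf [508, 1034, 1398, 1570, 1595, 1900, 1940, 1949, 1950, 2251, 3460, 4303, 4409]) (.leaf [303, 622, 754, 1135, 1448, 1452, 1529, 1775, 2054, 2295, 2607, 3283, 3332])) (.leaf [117, 406, 442, 980, 1445, 1511,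 1620, 2021, 3106, 3451, 4178, 4301, 4387])) (.node (.leaf [8, 407, 543, 589, 2021, 2670, 3165, 3240, 3589, 3668, 3826, 4110, 4434]) (.leaf [285, 287, 867, 869, 1331, 1333, 1804, 2047, 2602, 2639, 2641, 3513, 4274]))) (.node (.node (.leaf [324, 435, 503, 1278, 1387, 1753, 2057, 2252, 2725, 3521, 3650, 3761, 3937]) (.leaf [556, 759, 996, 1075, 1317, 1460, 1462, 1715, 1739, 1933, 1977, 2548, 3561])) (.node (.leaf [580, 616, 1772, 1981, 2291, 2555, 3080, 3211, 3324, 3567, 3747, 4111, 4346]) (.leaf [133, 225, 232, 421, 991, 1602, 1700, 1858, 2039, 2557, 2893, 4266, 4338])))))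

def nbr179 : Janko.Tree (List ℕ) :=
  (.node (.node (.node (.node (.node (.leaf [32, 139, 182, 840, 1278, 2178, 2464, 3071, 3540, 3937, 4021, 4037, 4310]) (.leaf [209, 750, 777, 1154, 1650, 1814, 2238, 2441, 2543, 3033, 3110, 3269, 4006])) (.leaf [253, 977, 1203, 1779, 2123, 2244, 2383, 2427, 2938, 3291, 3884, 3928, 4406])) (.node (.leaf [667, 690, 775, 1170, 1451, 1455, 1752, 2223, 2334, 2594, 3034, 4282, 4351]) (.leaf [182, 430, 461, 532, 633, 1671, 2916, 2959, 3070, 3855, 3990, 4014, 4118]))) (.node (.node (.leaf [621, 820, 865, 1072, 1290, 1957, 2049, 2748, 3091, 3261, 3488, 3520, 4363]) (.leaf [1325, 1345, 1367, 1413, 1884, 1970, 3073, 3349, 3389, 3541, 3601, 3649, 3795])) (.node (.leaf [49, 291, 724, 1301, 1352, 1361, 1639, 2121, 2586, 3163, 3167, 3436, 4325]) (.leaf [253, 261, 554, 807, 861, 1475, 2439, 2499, 3133, 3944, 4005, 4284, 4322])))) (.node (.node (.node (.node (.leaf [509, 1035, 1399, 1571, 1594, 1901, 1941, 1948, 1951, 2250, 3461, 4302, 4408]) (.leaf [302, 623, 755, 1134, 1449, 1453, 1528, 1774, 2055, 2294, 2606, 3282, 3333])) (.leaf [116, 407, 443, 981, 1444, 1510,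 1621, 2020, 3107, 3450, 4179, 4300, 4386])) (.node (.leaf [9, 406, 542, 588, 2020, 2671, 3164, 3241, 3588, 3669, 3827, 4111, 4435]) (.leaf [284, 286, 866, 868, 1330, 1332, 1805, 2046, 2603, 2638, 2640, 3512, 4275]))) (.node (.node (.leaf [325, 434, 502, 1279, 1386, 1752, 2056, 2253, 2724, 3520, 3651, 3760, 3936]) (.leaf [557, 758, 997, 1074, 1316, 1461, 1463, 1714, 1738, 1932, 1976, 2549, 3560])) (.node (.leaf [581, 617, 1773, 1980, 2290, 2554, 3081, 3210, 3325, 3566, 3746, 4110, 4347]) (.leaf [132, 224, 233, 420, 990, 1603, 1701, 1859, 2038, 2556, 2892, 4267, 4339])))))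

def nbr180 : Janko.Tree (List ℕ) :=
  (.node (.node (.node (.node (.node (.leaf [140, 925, 1701, 2170, 2181, 2263, 2318, 2757, 3232, 3808, 3910, 4038, 4450]) (.leaf [121, 802, 1272, 1339, 1354, 1429, 1615, 1837, 1889, 2297, 2447, 2693, 3496])) (.leaf [1170, 1331, 1403, 1414, 1462, 1932, 2457, 2750, 3254, 3308, 3512, 4306, 4352])) (.node (.leaf [412, 546, 668, 776, 1456, 1805, 1877, 2583, 3268, 3270, 3424, 4166, 4394]) (.leaf [229, 308, 922, 988, 1062, 1613, 2201, 3123, 3231, 3258, 3726, 3759, 4088]))) (.node (.node (.leaf [179, 367, 377, 866, 1172, 1477, 2210, 2668, 3374, 3383, 4095, 4234, 4463]) (.leaf [317, 1368, 1532, 1774, 2191, 2398, 2729, 2916, 3285, 3390, 3785, 3911, 4407])) (.node (.leaf [156, 472, 825, 1092, 1235, 1362, 2122, 2830, 3099, 3102, 3168, 4093, 4338]) (.leaf [224, 249, 313, 1308, 1333, 1372, 1762, 1850, 1863, 1914, 2276, 2818, 3992])))) (.node (.node (.node (.node (.leaf [510, 643, 915, 1094, 1257, 1967, 2298, 2560, 2644, 3815, 3990, 4227, 4239]) (.leaf [629, 886, 1101, 1193, 1551, 1964, 2207, 2617, 3277, 3595, 3831, 4176, 4323])) (.leaf [175, 1515, 1545, 1556,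 2111, 2380, 2434, 2582, 3098, 3270, 3806, 4051, 4429])) (.node (.leaf [10, 409, 740, 1177, 1404, 1461, 1932, 2871, 2928, 3496, 3896, 4287, 4477]) (.leaf [525, 977, 1013, 1230, 1276, 1351, 1383, 2027, 2525, 2823, 2901, 2939, 4063]))) (.node (.node (.leaf [11, 379, 437, 703, 1280, 1834, 2131, 2284, 2687, 3593, 4164, 4280, 4421]) (.leaf [558, 721, 1077, 1159, 1319, 1464, 1524, 1843, 1935, 1979, 2515, 3228, 3563])) (.node (.leaf [86, 307, 640, 1343, 1604, 1759, 2277, 2303, 3057, 3157, 3874, 3992, 4066]) (.leaf [90, 903, 954, 1360, 1546, 1638, 1646, 1767, 2970, 3057, 3336, 3364, 4357])))))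

def nbr181 : Janko.Tree (List ℕ) :=
  (.node (.node (.node (.node (.node (.leaf [141, 924, 1700, 2171, 2180, 2262, 2319, 2756, 3233, 3809, 3911, 4039, 4451]) (.leaf [120, 803, 1273, 1338, 1355, 1428, 1614, 1836, 1888, 2296, 2446, 2692, 3497])) (.leaf [1171, 1330, 1402, 1415, 1463, 1933, 2456, 2751, 3255, 3309, 3513, 4307, 4353])) (.node (.leaf [413, 547, 669, 777, 1457, 1804, 1876, 2582, 3269, 3271, 3425, 4167, 4395]) (.leaf [228, 309, 923, 989, 1063, 1612, 2200, 3122, 3230, 3259, 3727, 3758, 4089]))) (.node (.node (.leaf [178, 366, 376, 867, 1173, 1476, 2211, 2669, 3375, 3382, 4094, 4235, 4462]) (.leaf [316, 1369, 1533, 1775, 2190, 2399, 2728, 2917, 3284, 3391, 3784, 3910, 4406])) (.node (.leaf [157, 473, 824, 1093, 1234, 1363, 2123, 2831, 3098, 3103, 3169, 4092, 4339]) (.leaf [225, 248, 312, 1309, 1332, 1373, 1763, 1851, 1862, 1915, 2277, 2819, 3993])))) (.node (.node (.node (.node (.leaf [511, 642, 914, 1095, 1256, 1966, 2299, 2561, 2645, 3814, 3991, 4226, 4238]) (.leaf [628, 887, 1100, 1192, 1550, 1965, 2206, 2616, 3276, 3594, 3830, 4177, 4322])) (.leaf [174, 1514, 1544, 1557,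 2110, 2381, 2435, 2583, 3099, 3271, 3807, 4050, 4428])) (.node (.leaf [11, 408, 741, 1176, 1405, 1460, 1933, 2870, 2929, 3497, 3897, 4286, 4476]) (.leaf [524, 976, 1012, 1231, 1277, 1350, 1382, 2026, 2524, 2822, 2900, 2938, 4062]))) (.node (.node (.leaf [10, 378, 436, 702, 1281, 1835, 2130, 2285, 2686, 3592, 4165, 4281, 4420]) (.leaf [559, 720, 1076, 1158, 1318, 1465, 1525, 1842, 1934, 1978, 2514, 3229, 3562])) (.node (.leaf [87, 306, 641, 1342, 1605, 1758, 2276, 2302, 3056, 3156, 3875, 3993, 4067]) (.leaf [91, 902, 955, 1361, 1547, 1639, 1647, 1766, 2971, 3056, 3337, 3365, 4356])))))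

def nbr182 : Janko.Tree (List ℕ) :=
  (.node (.node (.node (.node (.node (.leaf [142, 298, 1319, 2545, 2967, 3043, 3229, 3432, 3772, 3810, 4023, 4026, 4102]) (.leaf [43, 303, 1010, 1895, 2355, 2798, 2952, 2976, 3115, 3203, 3283, 3463, 3907])) (.leaf [91, 298, 971, 1134, 1436, 1529, 1608, 2325, 2594, 2962, 3423, 4283, 4298])) (.node (.leaf [47, 620, 670, 778, 820, 1298, 2633, 2638, 2721, 2846, 3443, 3782, 4164]) (.leaf [322, 537, 606, 616, 1109, 2328, 2849, 3034, 3238, 3256, 3340, 3949, 4100]))) (.node (.node (.leaf [369, 868, 880, 1203, 1537, 1669, 1706, 2212, 2383, 2844, 3805, 4280, 4465]) (.leaf [338, 354, 853, 1258, 1415, 3027, 3164, 3881, 3950, 3964, 4145, 4253, 4352])) (.node (.leaf [259, 297, 464, 763, 1088, 1598, 2322, 2944, 3184, 3436, 3449, 3781, 4104]) (.leaf [272, 652, 848, 1237, 1343, 1505, 1843, 1968, 2199, 2271, 3315, 3367, 3407])))) (.node (.node (.node (.node (.leaf [203, 512, 645, 1096, 1478, 1886, 1969, 2580, 2591, 3055, 3467, 4201, 4305]) (.leaf [608, 631, 968, 1103, 1195, 1575, 3009, 3033, 3597, 3944, 4098, 4147, 4430])) (.leaf [61, 602, 605, 841, 1151, 1279, 1297,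 1544, 2889, 3020, 3835, 3899, 4428])) (.node (.leaf [1, 12, 920, 986, 1406, 1934, 2505, 3229, 3242, 3811, 4086, 4139, 4152]) (.leaf [90, 153, 511, 1357, 1577, 2450, 2476, 2585, 2587, 2962, 3165, 4144, 4361]))) (.node (.node (.leaf [439, 713, 1003, 1181, 1567, 1581, 1597, 1626, 1680, 2189, 2516, 3772, 4253]) (.leaf [169, 179, 253, 837, 1746, 1939, 1983, 2463, 2992, 3317, 3802, 4004, 4044])) (.node (.leaf [25, 2045, 2214, 2415, 2517, 2536, 2596, 2730, 3161, 3170, 3263, 3625, 4460]) (.leaf [230, 232, 613, 615, 1603, 1605, 2339, 2589, 2688, 4197, 4350, 4404, 4413])))))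

def nbr183 : Janko.Tree (List ℕ) :=
  (.node (.node (.node (.node (.node (.leaf [143, 299, 1318, 2544, 2966, 3042, 3228, 3433, 3773, 3811, 4022, 4027, 4103]) (.leaf [42, 302, 1011, 1894, 2354, 2799, 2953, 2977, 3114, 3202, 3282, 3462, 3906])) (.leaf [90, 299, 970, 1135, 1437, 1528, 1609, 2324, 2595, 2963, 3422, 4282, 4299])) (.node (.leaf [46, 621, 671, 779, 821, 1299, 2632, 2639, 2720, 2847, 3442, 3783, 4165]) (.leaf [323, 536, 607, 617, 1108, 2329, 2848, 3035, 3239, 3257, 3341, 3948, 4101]))) (.node (.node (.leaf [368, 869, 881, 1202, 1536, 1668, 1707, 2213, 2382, 2845, 3804, 4281, 4464]) (.leaf [339, 355, 852, 1259, 1414, 3026, 3165, 3880, 3951, 3965, 4144, 4252, 4353])) (.node (.leaf [258, 296, 465, 762, 1089, 1599, 2323, 2945, 3185, 3437, 3448, 3780, 4105]) (.leaf [273, 653, 849, 1236, 1342, 1504, 1842, 1969, 2198, 2270, 3314, 3366, 3406])))) (.node (.node (.node (.node (.leaf [202, 513, 644, 1097, 1479, 1887, 1968, 2581, 2590, 3054, 3466, 4200, 4304]) (.leaf [609, 630, 969, 1102, 1194, 1574, 3008, 3032, 3596, 3945, 4099, 4146, 4431])) (.leaf [60, 603, 604, 840, 1150, 1278, 1296,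 1545, 2888, 3021, 3834, 3898, 4429])) (.node (.leaf [0, 13, 921, 987, 1407, 1935, 2504, 3228, 3243, 3810, 4087, 4138, 4153]) (.leaf [91, 152, 510, 1356, 1576, 2451, 2477, 2584, 2586, 2963, 3164, 4145, 4360]))) (.node (.node (.leaf [438, 712, 1002, 1180, 1566, 1580, 1596, 1627, 1681, 2188, 2517, 3773, 4252]) (.leaf [168, 178, 252, 836, 1747, 1938, 1982, 2462, 2993, 3316, 3803, 4005, 4045])) (.node (.leaf [24, 2044, 2215, 2414, 2516, 2537, 2597, 2731, 3160, 3171, 3262, 3624, 4461]) (.leaf [231, 233, 612, 614, 1602, 1604, 2338, 2588, 2689, 4196, 4351, 4405, 4412])))))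

def nbr184 : Janko.Tree (List ℕ) :=
  (.node (.node (.node (.node (.node (.leaf [120, 319, 501, 802, 1437, 1732, 1796, 2160, 2555, 2805, 3325, 3414, 3777]) (.leaf [25, 951, 1381, 1472, 2051, 2495, 2724, 2840, 2894, 3369, 3385, 3520, 3902])) (.leaf [256, 291, 575, 587, 1109, 1138, 1300, 1610, 2329, 2469, 4183, 4264, 4443])) (.node (.leaf [672, 832, 1181, 1304, 1320, 1458, 1569, 1587, 1870, 2855, 2952, 3114, 4384]) (.leaf [89, 137, 1128, 1341, 2012, 2307, 2368, 3055, 3240, 3338, 3412, 3614, 4223]))) (.node (.node (.leaf [315, 342, 471, 657, 910, 973, 2855, 3150, 3522, 3847, 4230, 4419, 4446]) (.leaf [281, 402, 673, 832, 1600, 1817, 3223, 3319, 3379, 3503, 3750, 3856, 4169])) (.node (.leaf [462, 535, 634, 1673, 2757, 2919, 3328, 3466, 3724, 3809, 3825, 4162, 4277]) (.leaf [700, 914, 929, 982, 1823, 1970, 2755, 3183, 3601, 3714, 3765, 3814, 4115])))) (.node (.node (.node (.node (.leaf [171, 184, 379, 542, 2464, 2670, 2742, 2868, 3070, 3101, 3855, 4221, 4273]) (.leaf [511, 573, 848, 1044, 1576, 2014, 2550, 3437, 3485, 3778, 4104, 4232, 4427])) (.leaf [20, 582, 911, 2277, 2372, 2412, 2429,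 2607, 2685, 2741, 3247, 3449, 3557])) (.node (.leaf [570, 745, 853, 1015, 1089, 1516, 1598, 1689, 2843, 3509, 4005, 4125, 4251]) (.leaf [396, 536, 760, 849, 1152, 1337, 1546, 1719, 1874, 2082, 2839, 3337, 3437]))) (.node (.node (.leaf [269, 423, 715, 995, 1005, 1320, 1417, 1459, 1738, 1909, 3014, 3023, 3989]) (.leaf [116, 364, 574, 1510, 1872, 2430, 2535, 2609, 2909, 3684, 4041, 4128, 4390])) (.node (.leaf [994, 1034, 1371, 2325, 2340, 2598, 2732, 2942, 3163, 3172, 3265, 3372, 4409]) (.leaf [125, 252, 353, 808, 1107, 1214, 1265, 1920, 2810, 2879, 3345, 3652, 3885])))))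

def nbr185 : Janko.Tree (List ℕ) :=
  (.node (.node (.node (.node (.node (.leaf [121, 318, 500, 803, 1436, 1733, 1797, 2161, 2554, 2804, 3324, 3415, 3776]) (.leaf [24, 950, 1380, 1473, 2050, 2494, 2725, 2841, 2895, 3368, 3384, 3521, 3903])) (.leaf [257, 290, 574, 586, 1108, 1139, 1301, 1611, 2328, 2468, 4182, 4265, 4442])) (.node (.leaf [673, 833, 1180, 1305, 1321, 1459, 1568, 1586, 1871, 2854, 2953, 3115, 4385]) (.leaf [88, 136, 1129, 1340, 2013, 2306, 2369, 3054, 3241, 3339, 3413, 3615, 4222]))) (.node (.node (.leaf [314, 343, 470, 656, 911, 972, 2854, 3151, 3523, 3846, 4231, 4418, 4447]) (.leaf [280, 403, 672, 833, 1601, 1816, 3222, 3318, 3378, 3502, 3751, 3857, 4168])) (.node (.leaf [463, 534, 635, 1672, 2756, 2918, 3329, 3467, 3725, 3808, 3824, 4163, 4276]) (.leaf [701, 915, 928, 983, 1822, 1971, 2754, 3182, 3600, 3715, 3764, 3815, 4114])))) (.node (.node (.node (.node (.leaf [170, 185, 378, 543, 2465, 2671, 2743, 2869, 3071, 3100, 3854, 4220, 4272]) (.leaf [510, 572, 849, 1045, 1577, 2015, 2551, 3436, 3484, 3779, 4105, 4233, 4426])) (.leaf [21, 583, 910, 2276, 2373, 2413, 2428,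 2606, 2684, 2740, 3246, 3448, 3556])) (.node (.leaf [571, 744, 852, 1014, 1088, 1517, 1599, 1688, 2842, 3508, 4004, 4124, 4250]) (.leaf [397, 537, 761, 848, 1153, 1336, 1547, 1718, 1875, 2083, 2838, 3336, 3436]))) (.node (.node (.leaf [268, 422, 714, 994, 1004, 1321, 1416, 1458, 1739, 1908, 3015, 3022, 3988]) (.leaf [117, 365, 575, 1511, 1873, 2431, 2534, 2608, 2908, 3685, 4040, 4129, 4391])) (.node (.leaf [995, 1035, 1370, 2324, 2341, 2599, 2733, 2943, 3162, 3173, 3264, 3373, 4408]) (.leaf [124, 253, 352, 809, 1106, 1215, 1264, 1921, 2811, 2878, 3344, 3653, 3884])))))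

def nbr186 : Janko.Tree (List ℕ) :=
  (.node (.node (.node (.node (.node (.leaf [146, 629, 898, 1379, 1439, 1798, 2492, 2563, 2663, 2807, 3416, 3780, 4208]) (.leaf [103, 602, 1249, 1601, 2485, 2999, 3004, 3111, 3179, 3471, 3973, 4019, 4448])) (.leaf [258, 1046, 1073, 1092, 1111, 1140, 1440, 2331, 2471, 2831, 3396, 3963, 4028])) (.node (.leaf [662, 674, 1192, 1460, 1468, 1738, 1944, 2037, 2366, 2574, 2954, 3116, 4301]) (.leaf [91, 359, 2126, 2217, 2302, 2370, 2791, 3057, 3347, 3798, 4145, 4185, 4299]))) (.node (.node (.leaf [43, 208, 344, 1222, 1541, 1916, 1945, 1960, 2453, 3125, 3203, 3481, 4268]) (.leaf [199, 512, 588, 1478, 1724, 2100, 2300, 3041, 3087, 3299, 3554, 3789, 4149])) (.node (.leaf [907, 1024, 1117, 1343, 1635, 1997, 2187, 2310, 2651, 3626, 3729, 3863, 4067]) (.leaf [934, 1247, 1482, 1582, 1681, 1778, 1970, 1989, 2483, 2515, 2757, 3350, 4076])))) (.node (.node (.node (.node (.leaf [103, 186, 392, 2108, 2319, 2487, 2672, 3004, 3130, 3295, 3808, 4057, 4163]) (.leaf [300, 472, 513, 575, 1566, 1833, 2016, 2535, 2552, 3275, 3868, 4234, 4345])) (.leaf [7, 941, 1420, 1985, 2252,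 2374, 2414, 2431, 2566, 2609, 2718, 2921, 3760])) (.node (.leaf [23, 151, 655, 747, 1165, 1940, 2197, 2604, 2697, 2927, 3105, 3243, 3980]) (.leaf [80, 652, 772, 839, 859, 2173, 2185, 2421, 3068, 3281, 4075, 4117, 4375]))) (.node (.node (.leaf [441, 821, 832, 1137, 1282, 1499, 1569, 1682, 1740, 2005, 3782, 4377, 4479]) (.leaf [110, 600, 1573, 1629, 2762, 2888, 3053, 3068, 3615, 3835, 3878, 4150, 4257])) (.node (.leaf [24, 703, 1220, 1797, 1809, 1890, 2191, 2269, 2596, 2894, 3645, 3667, 4144]) (.leaf [86, 199, 396, 545, 576, 1196, 2125, 2788, 3189, 3336, 3717, 3728, 4263])))))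

def nbr187 : Janko.Tree (List ℕ) :=
  (.node (.node (.node (.node (.node (.leaf [147, 628, 899, 1378, 1438, 1799, 2493, 2562, 2662, 2806, 3417, 3781, 4209]) (.leaf [102, 603, 1248, 1600, 2484, 2998, 3005, 3110, 3178, 3470, 3972, 4018, 4449])) (.leaf [259, 1047, 1072, 1093, 1110, 1141, 1441, 2330, 2470, 2830, 3397, 3962, 4029])) (.node (.leaf [663, 675, 1193, 1461, 1469, 1739, 1945, 2036, 2367, 2575, 2955, 3117, 4300]) (.leaf [90, 358, 2127, 2216, 2303, 2371, 2790, 3056, 3346, 3799, 4144, 4184, 4298]))) (.node (.node (.leaf [42, 209, 345, 1223, 1540, 1917, 1944, 1961, 2452, 3124, 3202, 3480, 4269]) (.leaf [198, 513, 589, 1479, 1725, 2101, 2301, 3040, 3086, 3298, 3555, 3788, 4148])) (.node (.leaf [906, 1025, 1116, 1342, 1634, 1996, 2186, 2311, 2650, 3627, 3728, 3862, 4066]) (.leaf [935, 1246, 1483, 1583, 1680, 1779, 1971, 1988, 2482, 2514, 2756, 3351, 4077])))) (.node (.node (.node (.node (.leaf [102, 187, 393, 2109, 2318, 2486, 2673, 3005, 3131, 3294, 3809, 4056, 4162]) (.leaf [301, 473, 512, 574, 1567, 1832, 2017, 2534, 2553, 3274, 3869, 4235, 4344])) (.leaf [6, 940, 1421, 1984, 2253,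 2375, 2415, 2430, 2567, 2608, 2719, 2920, 3761])) (.node (.leaf [22, 150, 654, 746, 1164, 1941, 2196, 2605, 2696, 2926, 3104, 3242, 3981]) (.leaf [81, 653, 773, 838, 858, 2172, 2184, 2420, 3069, 3280, 4074, 4116, 4374]))) (.node (.node (.leaf [440, 820, 833, 1136, 1283, 1498, 1568, 1683, 1741, 2004, 3783, 4376, 4478]) (.leaf [111, 601, 1572, 1628, 2763, 2889, 3052, 3069, 3614, 3834, 3879, 4151, 4256])) (.node (.leaf [25, 702, 1221, 1796, 1808, 1891, 2190, 2268, 2597, 2895, 3644, 3666, 4145]) (.leaf [87, 198, 397, 544, 577, 1197, 2124, 2789, 3188, 3337, 3716, 3729, 4262])))))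

def nbr188 : Janko.Tree (List ℕ) :=
  (.node (.node (.node (.node (.node (.leaf [116, 148, 351, 574, 629, 1857, 2049, 2140, 2395, 2521, 2912, 3275, 4252]) (.leaf [789, 932, 1148, 1304, 1321, 1661, 1688, 2423, 2563, 3285, 3320, 3450, 4106])) (.leaf [222, 311, 330, 728, 1814, 2154, 2233, 2542, 2566, 2954, 3211, 3825, 4237])) (.node (.leaf [324, 484, 518, 1143, 1462, 1699, 1740, 1879, 1900, 2857, 3461, 3628, 4355]) (.leaf [565, 974, 1036, 1337, 1520, 2077, 2304, 2548, 2761, 2973, 3359, 3998, 4261]))) (.node (.node (.leaf [348, 545, 577, 663, 765, 1509, 1558, 1782, 2033, 3322, 3709, 4032, 4246]) (.leaf [201, 217, 858, 2099, 2544, 3001, 3043, 3174, 3505, 3713, 3907, 4075, 4379])) (.node (.leaf [11, 58, 926, 1655, 1836, 2090, 2130, 3154, 3421, 3496, 4079, 4109, 4211]) (.leaf [465, 526, 1020, 1197, 1253, 1270, 1685, 1795, 1995, 2000, 2194, 3246, 3309])))) (.node (.node (.node (.node (.leaf [190, 309, 329, 383, 449, 953, 1152, 1351, 2526, 3121, 3386, 3758, 3985]) (.leaf [152, 338, 873, 1460, 1869, 1919, 2367, 2461, 2525, 2822, 3044, 3165, 3241])) (.leaf [270, 292, 502, 1524, 1614, 2117, 2437,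 2769, 2858, 2978, 3456, 3936, 4148])) (.node (.leaf [25, 309, 507, 657, 749, 1167, 1846, 1942, 1954, 2270, 2678, 3624, 4456]) (.leaf [127, 260, 774, 841, 861, 1989, 2789, 3070, 3283, 3883, 4077, 4119, 4272]))) (.node (.node (.leaf [161, 265, 443, 901, 1192, 1684, 1758, 2007, 2356, 3025, 3897, 4238, 4301]) (.leaf [213, 784, 2031, 2064, 2411, 2764, 2890, 3051, 3583, 3706, 3999, 4020, 4037])) (.node (.leaf [1035, 1174, 1398, 1674, 1799, 1960, 2081, 2089, 2133, 2452, 2598, 2896, 3149]) (.leaf [246, 404, 551, 728, 738, 1122, 1341, 1663, 2176, 2944, 3096, 3490, 4091])))))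

def nbr189 : Janko.Tree (List ℕ) :=
  (.node (.node (.node (.node (.node (.leaf [117, 149, 350, 575, 628, 1856, 2048, 2141, 2394, 2520, 2913, 3274, 4253]) (.leaf [788, 933, 1149, 1305, 1320, 1660, 1689, 2422, 2562, 3284, 3321, 3451, 4107])) (.leaf [223, 310, 331, 729, 1815, 2155, 2232, 2543, 2567, 2955, 3210, 3824, 4236])) (.node (.leaf [325, 485, 519, 1142, 1463, 1698, 1741, 1878, 1901, 2856, 3460, 3629, 4354]) (.leaf [564, 975, 1037, 1336, 1521, 2076, 2305, 2549, 2760, 2972, 3358, 3999, 4260]))) (.node (.node (.leaf [349, 544, 576, 662, 764, 1508, 1559, 1783, 2032, 3323, 3708, 4033, 4247]) (.leaf [200, 216, 859, 2098, 2545, 3000, 3042, 3175, 3504, 3712, 3906, 4074, 4378])) (.node (.leaf [10, 59, 927, 1654, 1837, 2091, 2131, 3155, 3420, 3497, 4078, 4108, 4210]) (.leaf [464, 527, 1021, 1196, 1252, 1271, 1684, 1794, 1994, 2001, 2195, 3247, 3308])))) (.node (.node (.node (.node (.leaf [191, 308, 328, 382, 448, 952, 1153, 1350, 2527, 3120, 3387, 3759, 3984]) (.leaf [153, 339, 872, 1461, 1868, 1918, 2366, 2460, 2524, 2823, 3045, 3164, 3240])) (.leaf [271, 293, 503, 1525, 1615, 2116, 2436,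 2768, 2859, 2979, 3457, 3937, 4149])) (.node (.leaf [24, 308, 506, 656, 748, 1166, 1847, 1943, 1955, 2271, 2679, 3625, 4457]) (.leaf [126, 261, 775, 840, 860, 1988, 2788, 3071, 3282, 3882, 4076, 4118, 4273]))) (.node (.node (.leaf [160, 264, 442, 900, 1193, 1685, 1759, 2006, 2357, 3024, 3896, 4239, 4300]) (.leaf [212, 785, 2030, 2065, 2410, 2765, 2891, 3050, 3582, 3707, 3998, 4021, 4036])) (.node (.leaf [1034, 1175, 1399, 1675, 1798, 1961, 2080, 2088, 2132, 2453, 2599, 2897, 3148]) (.leaf [247, 405, 550, 729, 739, 1123, 1340, 1662, 2177, 2945, 3097, 3491, 4090])))))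

def nbr190 : Janko.Tree (List ℕ) :=
  (.node (.node (.node (.node (.node (.leaf [150, 631, 1143, 1441, 1458, 1859, 1879, 1940, 2397, 2612, 2914, 3392, 3661]) (.leaf [26, 1311, 1316, 1637, 1902, 1977, 2969, 3051, 3335, 3998, 4095, 4101, 4234])) (.leaf [440, 645, 801, 1161, 1364, 1740, 1836, 1887, 2027, 2427, 2570, 2939, 4003])) (.node (.leaf [27, 326, 901, 1145, 1464, 1881, 1902, 2117, 2859, 3344, 3454, 3630, 4189]) (.leaf [370, 567, 947, 1843, 2306, 2975, 3059, 3089, 3114, 3269, 3361, 4410, 4459]))) (.node (.node (.leaf [350, 476, 547, 579, 767, 1488, 1511, 1784, 2035, 2773, 2988, 3281, 3311]) (.leaf [610, 1030, 1148, 1593, 2169, 2495, 2547, 2565, 2931, 2986, 3635, 3828, 3923])) (.node (.leaf [91, 955, 1798, 1810, 1910, 2027, 2132, 2306, 2474, 3058, 3244, 3417, 4390]) (.leaf [311, 331, 451, 695, 1069, 1640, 2533, 2614, 2727, 2761, 2972, 3608, 4222])))) (.node (.node (.node (.node (.leaf [382, 445, 514, 1575, 1976, 2241, 2562, 2807, 3559, 3587, 3796, 3880, 3950]) (.leaf [119, 165, 957, 1363, 1735, 1768, 1860, 2316, 3098, 3339, 3887, 3938, 4473])) (.leaf [62, 195, 603, 605, 1027, 1177,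 2590, 2928, 3379, 3468, 3516, 3626, 3747])) (.node (.leaf [77, 751, 1023, 1179, 1467, 1634, 1915, 2309, 2329, 2441, 2442, 3310, 4097]) (.leaf [341, 345, 794, 831, 1251, 1824, 2256, 3005, 3650, 3819, 3969, 4269, 4357]))) (.node (.node (.leaf [112, 321, 434, 1284, 1571, 1972, 2214, 2271, 2532, 2558, 2761, 2777, 4302]) (.leaf [79, 215, 2152, 2170, 2182, 2300, 2766, 3708, 4039, 4148, 4292, 4369, 4411])) (.node (.leaf [356, 738, 1060, 1175, 1459, 1601, 1727, 2600, 3494, 3966, 4343, 4449, 4478]) (.leaf [77, 129, 589, 656, 1881, 1943, 2137, 2308, 2601, 3405, 3645, 3789, 4001])))))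

def nbr191 : Janko.Tree (List ℕ) :=
  (.node (.node (.node (.node (.node (.leaf [151, 630, 1142, 1440, 1459, 1858, 1878, 1941, 2396, 2613, 2915, 3393, 3660]) (.leaf [27, 1310, 1317, 1636, 1903, 1976, 2968, 3050, 3334, 3999, 4094, 4100, 4235])) (.leaf [441, 644, 800, 1160, 1365, 1741, 1837, 1886, 2026, 2426, 2571, 2938, 4002])) (.node (.leaf [26, 327, 900, 1144, 1465, 1880, 1903, 2116, 2858, 3345, 3455, 3631, 4188]) (.leaf [371, 566, 946, 1842, 2307, 2974, 3058, 3088, 3115, 3268, 3360, 4411, 4458]))) (.node (.node (.leaf [351, 477, 546, 578, 766, 1489, 1510, 1785, 2034, 2772, 2989, 3280, 3310]) (.leaf [611, 1031, 1149, 1592, 2168, 2494, 2546, 2564, 2930, 2987, 3634, 3829, 3922])) (.node (.leaf [90, 954, 1799, 1811, 1911, 2026, 2133, 2307, 2475, 3059, 3245, 3416, 4391]) (.leaf [310, 330, 450, 694, 1068, 1641, 2532, 2615, 2726, 2760, 2973, 3609, 4223])))) (.node (.node (.node (.node (.leaf [383, 444, 515, 1574, 1977, 2240, 2563, 2806, 3558, 3586, 3797, 3881, 3951]) (.leaf [118, 164, 956, 1362, 1734, 1769, 1861, 2317, 3099, 3338, 3886, 3939, 4472])) (.leaf [63, 194, 602, 604, 1026, 1176,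 2591, 2929, 3378, 3469, 3517, 3627, 3746])) (.node (.leaf [76, 750, 1022, 1178, 1466, 1635, 1914, 2308, 2328, 2440, 2443, 3311, 4096]) (.leaf [340, 344, 795, 830, 1250, 1825, 2257, 3004, 3651, 3818, 3968, 4268, 4356]))) (.node (.node (.leaf [113, 320, 435, 1285, 1570, 1973, 2215, 2270, 2533, 2559, 2760, 2776, 4303]) (.leaf [78, 214, 2153, 2171, 2183, 2301, 2767, 3709, 4038, 4149, 4293, 4368, 4410])) (.node (.leaf [357, 739, 1061, 1174, 1458, 1600, 1726, 2601, 3495, 3967, 4342, 4448, 4479]) (.leaf [76, 128, 588, 657, 1880, 1942, 2136, 2309, 2600, 3404, 3644, 3788, 4000])))))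

def nbr192 : Janko.Tree (List ℕ) :=
  (.node (.node (.node (.node (.node (.leaf [152, 872, 893, 1036, 1296, 1756, 2050, 2117, 3700, 3873, 4260, 4307, 4438]) (.leaf [143, 298, 722, 1134, 3202, 3283, 3481, 3824, 3889, 4196, 4255, 4277, 4324])) (.leaf [333, 347, 746, 776, 835, 1341, 1399, 2031, 2235, 2507, 2576, 4007, 4091])) (.node (.leaf [518, 624, 676, 1033, 1374, 2510, 2558, 2759, 3108, 3570, 3768, 4211, 4425]) (.leaf [306, 627, 821, 1072, 1140, 1191, 1498, 1708, 1899, 2333, 2541, 2610, 3442]))) (.node (.node (.leaf [662, 759, 870, 1738, 2319, 2756, 3039, 3140, 3301, 3452, 4147, 4161, 4162]) (.leaf [970, 1032, 2167, 2219, 2546, 2759, 3355, 3830, 3923, 3942, 4151, 4159, 4241])) (.node (.leaf [29, 344, 493, 781, 793, 871, 1811, 2341, 2690, 3085, 3373, 4214, 4391]) (.leaf [218, 414, 634, 765, 964, 2627, 2702, 3258, 3329, 3687, 4206, 4358, 4429])))) (.node (.node (.node (.node (.leaf [456, 516, 1018, 2000, 2195, 2346, 2520, 2765, 2912, 3215, 3677, 3706, 4372]) (.leaf [532, 808, 867, 963, 1671, 2308, 2480, 2603, 2794, 3124, 3921, 3957, 4477])) (.leaf [64, 599, 607, 691, 920, 1029, 2505,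 3034, 3146, 3179, 3234, 3470, 3749])) (.node (.leaf [149, 239, 983, 1092, 1325, 1344, 1761, 2237, 2520, 2783, 3102, 3397, 4367]) (.leaf [123, 975, 1104, 2061, 2252, 2259, 2567, 3062, 3388, 3650, 3701, 3719, 4357]))) (.node (.node (.leaf [192, 323, 1286, 1573, 1974, 1999, 2273, 2343, 2560, 2655, 2942, 3059, 4380]) (.leaf [84, 137, 1382, 1389, 2299, 2326, 2897, 3240, 3252, 3356, 3522, 3547, 4174])) (.node (.leaf [131, 343, 744, 1015, 1076, 1339, 1465, 1622, 1932, 3525, 3579, 4024, 4400]) (.leaf [1, 393, 640, 976, 987, 1126, 1230, 1542, 2261, 2473, 3018, 3080, 4288])))))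

def nbr193 : Janko.Tree (List ℕ) :=
  (.node (.node (.node (.node (.node (.leaf [153, 873, 892, 1037, 1297, 1757, 2051, 2116, 3701, 3872, 4261, 4306, 4439]) (.leaf [142, 299, 723, 1135, 3203, 3282, 3480, 3825, 3888, 4197, 4254, 4276, 4325])) (.leaf [332, 346, 747, 777, 834, 1340, 1398, 2030, 2234, 2506, 2577, 4006, 4090])) (.node (.leaf [519, 625, 677, 1032, 1375, 2511, 2559, 2758, 3109, 3571, 3769, 4210, 4424]) (.leaf [307, 626, 820, 1073, 1141, 1190, 1499, 1709, 1898, 2332, 2540, 2611, 3443]))) (.node (.node (.leaf [663, 758, 871, 1739, 2318, 2757, 3038, 3141, 3300, 3453, 4146, 4160, 4163]) (.leaf [971, 1033, 2166, 2218, 2547, 2758, 3354, 3831, 3922, 3943, 4150, 4158, 4240])) (.node (.leaf [28, 345, 492, 780, 792, 870, 1810, 2340, 2691, 3084, 3372, 4215, 4390]) (.leaf [219, 415, 635, 764, 965, 2626, 2703, 3259, 3328, 3686, 4207, 4359, 4428])))) (.node (.node (.node (.node (.leaf [457, 517, 1019, 2001, 2194, 2347, 2521, 2764, 2913, 3214, 3676, 3707, 4373]) (.leaf [533, 809, 866, 962, 1670, 2309, 2481, 2602, 2795, 3125, 3920, 3956, 4476])) (.leaf [65, 598, 606, 690, 921, 1028, 2504,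 3035, 3147, 3178, 3235, 3471, 3748])) (.node (.leaf [148, 238, 982, 1093, 1324, 1345, 1760, 2236, 2521, 2782, 3103, 3396, 4366]) (.leaf [122, 974, 1105, 2060, 2253, 2258, 2566, 3063, 3389, 3651, 3700, 3718, 4356]))) (.node (.node (.leaf [193, 322, 1287, 1572, 1975, 1998, 2272, 2342, 2561, 2654, 2943, 3058, 4381]) (.leaf [85, 136, 1383, 1388, 2298, 2327, 2896, 3241, 3253, 3357, 3523, 3546, 4175])) (.node (.leaf [130, 342, 745, 1014, 1077, 1338, 1464, 1623, 1933, 3524, 3578, 4025, 4401]) (.leaf [0, 392, 641, 977, 986, 1127, 1231, 1543, 2260, 2472, 3019, 3081, 4289])))))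

def nbr194 : Janko.Tree (List ℕ) :=
  (.node (.node (.node (.node (.node (.leaf [154, 380, 947, 959, 1181, 1226, 2052, 2119, 2265, 2819, 3115, 3770, 4020]) (.leaf [85, 145, 537, 724, 1136, 1602, 3167, 3204, 3728, 3744, 3863, 3969, 4093])) (.leaf [80, 145, 177, 668, 1132, 1137, 1283, 2513, 2731, 2817, 3161, 3454, 3538])) (.node (.leaf [626, 678, 1146, 1376, 1466, 1561, 2022, 2442, 2512, 2560, 3454, 4120, 4226]) (.leaf [413, 546, 677, 823, 1193, 1468, 1666, 2371, 2989, 3003, 3262, 3446, 3946]))) (.node (.node (.leaf [477, 721, 872, 1579, 1595, 1996, 2131, 2187, 2514, 2691, 3575, 3779, 4318]) (.leaf [164, 543, 1068, 2021, 2323, 2360, 2391, 2899, 3077, 3097, 3101, 3194, 4386])) (.node (.leaf [497, 888, 1614, 1654, 1667, 1837, 1901, 1928, 1959, 2125, 2445, 2789, 2994]) (.leaf [206, 1006, 1042, 2317, 2990, 2993, 3338, 3413, 3536, 3585, 3664, 3816, 4187])))) (.node (.node (.node (.node (.leaf [70, 277, 458, 518, 2002, 2292, 2767, 2803, 2914, 3660, 3708, 4033, 4424]) (.leaf [304, 586, 625, 1138, 1204, 1274, 1457, 1496, 1774, 1897, 3271, 3498, 4344])) (.leaf [66, 1079, 1285, 1383, 1557, 1692,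 1804, 2108, 2487, 2583, 3252, 3394, 3672])) (.node (.leaf [297, 471, 755, 1437, 1830, 2322, 2444, 2785, 3170, 3324, 4010, 4331, 4461]) (.leaf [145, 496, 642, 675, 1375, 1592, 1794, 2800, 2954, 2981, 3009, 3752, 4211]))) (.node (.node (.leaf [397, 447, 561, 935, 1577, 1641, 1978, 2243, 2564, 3589, 3646, 4448, 4478]) (.leaf [346, 954, 1331, 2227, 2332, 2506, 2628, 3059, 3193, 3472, 3498, 3899, 4170])) (.node (.leaf [80, 176, 467, 530, 1179, 1624, 1650, 2602, 3275, 3738, 4012, 4059, 4403]) (.leaf [147, 878, 1161, 1258, 1439, 1472, 1630, 1825, 2850, 2895, 3087, 3644, 4371])))))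

def nbr195 : Janko.Tree (List ℕ) :=
  (.node (.node (.node (.node (.node (.leaf [155, 381, 946, 958, 1180, 1227, 2053, 2118, 2264, 2818, 3114, 3771, 4021]) (.leaf [84, 144, 536, 725, 1137, 1603, 3166, 3205, 3729, 3745, 3862, 3968, 4092])) (.leaf [81, 144, 176, 669, 1133, 1136, 1282, 2512, 2730, 2816, 3160, 3455, 3539])) (.node (.leaf [627, 679, 1147, 1377, 1467, 1560, 2023, 2443, 2513, 2561, 3455, 4121, 4227]) (.leaf [412, 547, 676, 822, 1192, 1469, 1667, 2370, 2988, 3002, 3263, 3447, 3947]))) (.node (.node (.leaf [476, 720, 873, 1578, 1594, 1997, 2130, 2186, 2515, 2690, 3574, 3778, 4319]) (.leaf [165, 542, 1069, 2020, 2322, 2361, 2390, 2898, 3076, 3096, 3100, 3195, 4387])) (.node (.leaf [496, 889, 1615, 1655, 1666, 1836, 1900, 1929, 1958, 2124, 2444, 2788, 2995]) (.leaf [207, 1007, 1043, 2316, 2991, 2992, 3339, 3412, 3537, 3584, 3665, 3817, 4186])))) (.node (.node (.node (.node (.leaf [71, 276, 459, 519, 2003, 2293, 2766, 2802, 2915, 3661, 3709, 4032, 4425]) (.leaf [305, 587, 624, 1139, 1205, 1275, 1456, 1497, 1775, 1896, 3270, 3499, 4345])) (.leaf [67, 1078, 1284, 1382, 1556, 1693,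 1805, 2109, 2486, 2582, 3253, 3395, 3673])) (.node (.leaf [296, 470, 754, 1436, 1831, 2323, 2445, 2784, 3171, 3325, 4011, 4330, 4460]) (.leaf [144, 497, 643, 674, 1374, 1593, 1795, 2801, 2955, 2980, 3008, 3753, 4210]))) (.node (.node (.leaf [396, 446, 560, 934, 1576, 1640, 1979, 2242, 2565, 3588, 3647, 4449, 4479]) (.leaf [347, 955, 1330, 2226, 2333, 2507, 2629, 3058, 3192, 3473, 3499, 3898, 4171])) (.node (.leaf [81, 177, 466, 531, 1178, 1625, 1651, 2603, 3274, 3739, 4013, 4058, 4402]) (.leaf [146, 879, 1160, 1259, 1438, 1473, 1631, 1824, 2851, 2894, 3086, 3645, 4370])))))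

def nbr196 : Janko.Tree (List ℕ) :=
  (.node (.node (.node (.node (.node (.leaf [48, 113, 402, 1298, 1313, 1816, 2262, 2631, 2821, 3071, 3533, 4133, 4228]) (.leaf [21, 880, 1335, 1595, 1706, 2250, 2277, 2701, 3085, 3333, 3409, 3778, 3916])) (.leaf [55, 516, 844, 1087, 1141, 1198, 1823, 2005, 2169, 2411, 2499, 2831, 3634])) (.node (.leaf [148, 522, 845, 1468, 1713, 2052, 2264, 2564, 3634, 3678, 3697, 3966, 4348]) (.leaf [47, 111, 553, 621, 679, 1195, 1848, 2991, 3239, 3264, 3448, 3816, 4467]))) (.node (.node (.leaf [780, 874, 1062, 1612, 1654, 2193, 2516, 2816, 2995, 3154, 3539, 3690, 3925]) (.leaf [51, 351, 1772, 2207, 2239, 2290, 2640, 2827, 2849, 3278, 3311, 3949, 4177])) (.node (.leaf [146, 216, 632, 962, 1209, 1671, 2068, 2180, 2654, 2663, 3232, 3682, 4152]) (.leaf [201, 385, 1282, 2193, 2809, 2850, 3538, 3645, 3666, 3801, 3906, 4135, 4159])))) (.node (.node (.node (.node (.leaf [357, 524, 823, 1128, 1458, 1859, 1973, 2664, 2991, 3064, 3265, 3537, 3586]) (.leaf [374, 498, 978, 1082, 1289, 1345, 1412, 2115, 2387, 3169, 3317, 3411, 4192])) (.leaf [68, 348, 1081, 1287, 1385, 1559,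 1694, 1771, 2204, 2289, 2639, 2846, 3482])) (.node (.leaf [135, 299, 757, 1387, 1439, 2297, 2324, 2446, 2787, 2895, 3172, 3520, 3781]) (.leaf [565, 1199, 1467, 2169, 2195, 2246, 2312, 2346, 3923, 4017, 4099, 4120, 4158]))) (.node (.node (.leaf [451, 642, 947, 1280, 1288, 1581, 1982, 2615, 3563, 3593, 3862, 4021, 4210]) (.leaf [949, 1657, 2086, 2132, 2145, 2475, 3039, 3083, 3564, 3875, 4045, 4147, 4456])) (.node (.leaf [178, 260, 867, 1143, 1162, 1446, 1457, 1588, 2462, 2741, 3740, 3921, 4474]) (.leaf [738, 764, 1220, 1261, 1372, 1509, 2062, 2080, 2099, 2251, 2852, 2897, 3252])))))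

def nbr197 : Janko.Tree (List ℕ) :=
  (.node (.node (.node (.node (.node (.leaf [49, 112, 403, 1299, 1312, 1817, 2263, 2630, 2820, 3070, 3532, 4132, 4229]) (.leaf [20, 881, 1334, 1594, 1707, 2251, 2276, 2700, 3084, 3332, 3408, 3779, 3917])) (.leaf [54, 517, 845, 1086, 1140, 1199, 1822, 2004, 2168, 2410, 2498, 2830, 3635])) (.node (.leaf [149, 523, 844, 1469, 1712, 2053, 2265, 2565, 3635, 3679, 3696, 3967, 4349]) (.leaf [46, 110, 552, 620, 678, 1194, 1849, 2990, 3238, 3265, 3449, 3817, 4466]))) (.node (.node (.leaf [781, 875, 1063, 1613, 1655, 2192, 2517, 2817, 2994, 3155, 3538, 3691, 3924]) (.leaf [50, 350, 1773, 2206, 2238, 2291, 2641, 2826, 2848, 3279, 3310, 3948, 4176])) (.node (.leaf [147, 217, 633, 963, 1208, 1670, 2069, 2181, 2655, 2662, 3233, 3683, 4153]) (.leaf [200, 384, 1283, 2192, 2808, 2851, 3539, 3644, 3667, 3800, 3907, 4134, 4158])))) (.node (.node (.node (.node (.leaf [356, 525, 822, 1129, 1459, 1858, 1972, 2665, 2990, 3065, 3264, 3536, 3587]) (.leaf [375, 499, 979, 1083, 1288, 1344, 1413, 2114, 2386, 3168, 3316, 3410, 4193])) (.leaf [69, 349, 1080, 1286, 1384, 1558,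 1695, 1770, 2205, 2288, 2638, 2847, 3483])) (.node (.leaf [134, 298, 756, 1386, 1438, 2296, 2325, 2447, 2786, 2894, 3173, 3521, 3780]) (.leaf [564, 1198, 1466, 2168, 2194, 2247, 2313, 2347, 3922, 4016, 4098, 4121, 4159]))) (.node (.node (.leaf [450, 643, 946, 1281, 1289, 1580, 1983, 2614, 3562, 3592, 3863, 4020, 4211]) (.leaf [948, 1656, 2087, 2133, 2144, 2474, 3038, 3082, 3565, 3874, 4044, 4146, 4457])) (.node (.leaf [179, 261, 866, 1142, 1163, 1447, 1456, 1589, 2463, 2740, 3741, 3920, 4475]) (.leaf [739, 765, 1221, 1260, 1373, 1508, 2063, 2081, 2098, 2250, 2853, 2896, 3253])))))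

def nbr198 : Janko.Tree (List ℕ) :=
  (.node (.node (.node (.node (.node (.leaf [156, 193, 822, 1300, 1315, 2328, 2466, 2823, 3340, 3586, 3809, 4135, 4432]) (.leaf [48, 724, 929, 1306, 1378, 2553, 2722, 2824, 2838, 2997, 3254, 3308, 3940])) (.leaf [101, 108, 345, 711, 871, 1363, 1812, 2757, 3383, 3508, 3883, 4076, 4245])) (.node (.leaf [33, 684, 810, 1027, 1112, 2366, 2450, 2464, 2575, 3026, 3164, 3428, 3667]) (.leaf [67, 948, 1275, 1334, 1563, 1687, 2217, 2372, 2456, 2791, 3065, 3726, 3765]))) (.node (.node (.leaf [140, 493, 784, 878, 1861, 2216, 2443, 2902, 3541, 3654, 4037, 4226, 4238]) (.leaf [661, 865, 1073, 1578, 1898, 2061, 2350, 3131, 3148, 3676, 3718, 3900, 4372])) (.node (.leaf [131, 555, 1442, 1450, 1675, 1752, 2430, 2477, 3377, 3761, 3908, 4046, 4322]) (.leaf [161, 252, 387, 2081, 2088, 2811, 2852, 3133, 3225, 3803, 4017, 4127, 4140])))) (.node (.node (.node (.node (.leaf [304, 367, 703, 894, 944, 1159, 1225, 2518, 2687, 3182, 3441, 3725, 4345]) (.leaf [334, 585, 929, 1203, 1413, 1665, 2376, 2553, 3716, 3739, 4042, 4427, 4464])) (.leaf [98, 135, 571, 609, 1688, 1724, 2082,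 2296, 3009, 3086, 3436, 3439, 3619])) (.node (.leaf [208, 275, 565, 742, 1894, 1944, 2290, 2313, 2801, 3032, 3073, 3358, 3868]) (.leaf [21, 544, 1305, 1335, 2315, 2372, 2736, 2767, 3050, 4032, 4109, 4182, 4240]))) (.node (.node (.leaf [16, 453, 886, 1290, 1313, 1583, 2573, 2636, 3260, 3312, 3532, 3595, 3616]) (.leaf [991, 1014, 1031, 2134, 2477, 2691, 2843, 3085, 3524, 3566, 3779, 3877, 4047])) (.node (.leaf [180, 746, 782, 872, 1626, 1710, 2604, 2925, 3221, 3675, 3793, 4061, 4306]) (.leaf [381, 1189, 1285, 1603, 1728, 1793, 2064, 2486, 2732, 3342, 3863, 4021, 4409])))))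

def nbr199 : Janko.Tree (List ℕ) :=
  (.node (.node (.node (.node (.node (.leaf [157, 192, 823, 1301, 1314, 2329, 2467, 2822, 3341, 3587, 3808, 4134, 4433]) (.leaf [49, 725, 928, 1307, 1379, 2552, 2723, 2825, 2839, 2996, 3255, 3309, 3941])) (.leaf [100, 109, 344, 710, 870, 1362, 1813, 2756, 3382, 3509, 3882, 4077, 4244])) (.node (.leaf [32, 685, 811, 1026, 1113, 2367, 2451, 2465, 2574, 3027, 3165, 3429, 3666]) (.leaf [66, 949, 1274, 1335, 1562, 1686, 2216, 2373, 2457, 2790, 3064, 3727, 3764]))) (.node (.node (.leaf [141, 492, 785, 879, 1860, 2217, 2442, 2903, 3540, 3655, 4036, 4227, 4239]) (.leaf [660, 864, 1072, 1579, 1899, 2060, 2351, 3130, 3149, 3677, 3719, 3901, 4373])) (.node (.leaf [130, 554, 1443, 1451, 1674, 1753, 2431, 2476, 3376, 3760, 3909, 4047, 4323]) (.leaf [160, 253, 386, 2080, 2089, 2810, 2853, 3132, 3224, 3802, 4016, 4126, 4141])))) (.node (.node (.node (.node (.leaf [305, 366, 702, 895, 945, 1158, 1224, 2519, 2686, 3183, 3440, 3724, 4344]) (.leaf [335, 584, 928, 1202, 1412, 1664, 2377, 2552, 3717, 3738, 4043, 4426, 4465])) (.leaf [99, 134, 570, 608, 1689, 1725, 2083,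 2297, 3008, 3087, 3437, 3438, 3618])) (.node (.leaf [209, 274, 564, 743, 1895, 1945, 2291, 2312, 2800, 3033, 3072, 3359, 3869]) (.leaf [20, 545, 1304, 1334, 2314, 2373, 2737, 2766, 3051, 4033, 4108, 4183, 4241]))) (.node (.node (.leaf [17, 452, 887, 1291, 1312, 1582, 2572, 2637, 3261, 3313, 3533, 3594, 3617]) (.leaf [990, 1015, 1030, 2135, 2476, 2690, 2842, 3084, 3525, 3567, 3778, 3876, 4046])) (.node (.leaf [181, 747, 783, 873, 1627, 1711, 2605, 2924, 3220, 3674, 3792, 4060, 4307]) (.leaf [380, 1188, 1284, 1602, 1729, 1792, 2065, 2487, 2733, 3343, 3862, 4020, 4408])))))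

def nbr1100 : Janko.Tree (List ℕ) :=
  (.node (.node (.node (.node (.node (.leaf [158, 296, 741, 1317, 1461, 1705, 1725, 2946, 3041, 3438, 3575, 3578, 4320]) (.leaf [482, 1084, 1145, 1366, 1476, 1555, 1863, 2021, 2485, 2615, 2727, 2999, 3073])) (.leaf [83, 185, 352, 843, 873, 1997, 2383, 3153, 3675, 3857, 3885, 3891, 4030])) (.node (.leaf [686, 925, 1029, 1060, 1114, 1470, 1652, 2089, 2319, 2577, 3430, 3487, 3495]) (.leaf [69, 680, 829, 1336, 1565, 1649, 2374, 2438, 2540, 2616, 2842, 3067, 4005]))) (.node (.node (.leaf [621, 884, 1327, 1746, 1895, 2186, 2635, 3462, 3676, 3757, 3812, 4121, 4160]) (.leaf [52, 1167, 1504, 1603, 1717, 1858, 1928, 2364, 2589, 2991, 3392, 3901, 4187])) (.node (.leaf [30, 343, 347, 615, 1731, 2138, 2338, 2365, 2585, 2674, 2734, 2854, 2979]) (.leaf [155, 177, 1146, 2178, 2226, 2940, 2966, 3094, 3540, 3932, 4001, 4226, 4414])))) (.node (.node (.node (.node (.leaf [306, 369, 665, 896, 1674, 1857, 2111, 2236, 2332, 2520, 2768, 3465, 4066]) (.leaf [454, 587, 1452, 2124, 2148, 2424, 2745, 3106, 3242, 3458, 3762, 4117, 4265])) (.leaf [106, 183, 295, 1361, 1635,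 1745, 1955, 2185, 2443, 3418, 3668, 4074, 4335])) (.node (.leaf [210, 567, 573, 744, 1122, 1533, 1946, 2315, 2429, 2752, 3012, 3360, 3535]) (.leaf [218, 861, 1582, 2092, 2100, 3002, 3133, 3224, 3703, 3714, 3849, 3947, 4076]))) (.node (.node (.leaf [455, 471, 968, 1150, 1278, 1315, 1585, 3143, 3256, 3314, 3325, 3341, 3597]) (.leaf [686, 941, 1707, 2088, 2252, 2258, 2537, 2749, 2845, 3039, 3520, 3903, 4295])) (.node (.leaf [105, 727, 756, 2011, 2187, 2245, 2608, 2672, 3248, 3580, 3723, 4066, 4160]) (.leaf [128, 589, 1184, 1303, 1434, 2018, 2380, 2629, 3127, 3188, 3298, 3367, 4050])))))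

def nbr1101 : Janko.Tree (List ℕ) :=
  (.node (.node (.node (.node (.node (.leaf [159, 297, 740, 1316, 1460, 1704, 1724, 2947, 3040, 3439, 3574, 3579, 4321]) (.leaf [483, 1085, 1144, 1367, 1477, 1554, 1862, 2020, 2484, 2614, 2726, 2998, 3072])) (.leaf [82, 184, 353, 842, 872, 1996, 2382, 3152, 3674, 3856, 3884, 3890, 4031])) (.node (.leaf [687, 924, 1028, 1061, 1115, 1471, 1653, 2088, 2318, 2576, 3431, 3486, 3494]) (.leaf [68, 681, 828, 1337, 1564, 1648, 2375, 2439, 2541, 2617, 2843, 3066, 4004]))) (.node (.node (.leaf [620, 885, 1326, 1747, 1894, 2187, 2634, 3463, 3677, 3756, 3813, 4120, 4161]) (.leaf [53, 1166, 1505, 1602, 1716, 1859, 1929, 2365, 2588, 2990, 3393, 3900, 4186])) (.node (.leaf [31, 342, 346, 614, 1730, 2139, 2339, 2364, 2584, 2675, 2735, 2855, 2978]) (.leaf [154, 176, 1147, 2179, 2227, 2941, 2967, 3095, 3541, 3933, 4000, 4227, 4415])))) (.node (.node (.node (.node (.leaf [307, 368, 664, 897, 1675, 1856, 2110, 2237, 2333, 2521, 2769, 3464, 4067]) (.leaf [455, 586, 1453, 2125, 2149, 2425, 2744, 3107, 3243, 3459, 3763, 4116, 4264])) (.leaf [107, 182, 294, 1360, 1634,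 1744, 1954, 2184, 2442, 3419, 3669, 4075, 4334])) (.node (.leaf [211, 566, 572, 745, 1123, 1532, 1947, 2314, 2428, 2753, 3013, 3361, 3534]) (.leaf [219, 860, 1583, 2093, 2101, 3003, 3132, 3225, 3702, 3715, 3848, 3946, 4077]))) (.node (.node (.leaf [454, 470, 969, 1151, 1279, 1314, 1584, 3142, 3257, 3315, 3324, 3340, 3596]) (.leaf [687, 940, 1706, 2089, 2253, 2259, 2536, 2748, 2844, 3038, 3521, 3902, 4294])) (.node (.leaf [104, 726, 757, 2010, 2186, 2244, 2609, 2673, 3249, 3581, 3722, 4067, 4161]) (.leaf [129, 588, 1185, 1302, 1435, 2019, 2381, 2628, 3126, 3189, 3299, 3366, 4051])))))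

def nbr1102 : Janko.Tree (List ℕ) :=
  (.node (.node (.node (.node (.node (.leaf [107, 300, 698, 1124, 1149, 1347, 1865, 2169, 2228, 2908, 3199, 3419, 3602]) (.leaf [626, 732, 1162, 1456, 1475, 1495, 1560, 1801, 3529, 4167, 4209, 4270, 4399])) (.leaf [155, 246, 674, 879, 1307, 1330, 1751, 1756, 1860, 1913, 2275, 3254, 3302])) (.node (.leaf [164, 366, 1472, 1855, 2082, 2526, 2862, 3087, 3095, 3096, 3098, 3168, 3482]) (.leaf [168, 782, 1019, 1471, 1525, 2319, 2376, 2460, 2520, 2993, 3577, 3793, 3937]))) (.node (.node (.leaf [325, 726, 886, 1100, 1329, 1594, 2188, 2637, 2753, 2802, 3461, 3564, 4137]) (.leaf [284, 324, 1218, 1805, 2189, 2355, 2501, 2977, 3398, 3717, 4106, 4354, 4366])) (.node (.leaf [32, 649, 787, 863, 981, 1082, 1400, 1717, 2575, 2588, 2688, 3540, 3794]) (.leaf [162, 255, 854, 1662, 2091, 2881, 3091, 3327, 3543, 3673, 3934, 4128, 4390])))) (.node (.node (.node (.node (.leaf [2, 371, 607, 856, 931, 947, 1212, 1226, 1742, 2363, 2437, 2505, 3456]) (.leaf [338, 665, 734, 872, 889, 2050, 2215, 2516, 2776, 3220, 3737, 4253, 4469])) (.leaf [118, 169, 178, 426, 1436, 1768, 1828,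 2160, 2395, 2445, 2935, 3741, 3971])) (.node (.leaf [488, 685, 761, 915, 941, 1485, 2025, 2321, 2749, 3026, 3364, 4308, 4363]) (.leaf [1431, 1584, 1632, 1663, 1937, 3238, 3705, 3713, 3743, 3891, 4040, 4390, 4466]))) (.node (.node (.leaf [816, 1122, 1292, 1421, 1904, 2332, 2422, 2507, 2650, 3013, 3590, 4079, 4413]) (.leaf [169, 801, 1837, 2090, 2254, 2260, 2444, 2691, 2784, 3373, 3522, 4230, 4258])) (.node (.leaf [687, 834, 914, 1341, 1485, 2013, 2165, 2332, 2610, 3386, 3416, 3465, 4213]) (.leaf [68, 750, 850, 1072, 1110, 1578, 1818, 2416, 2540, 3091, 3181, 3953, 4119])))))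

def nbr1103 : Janko.Tree (List ℕ) :=
  (.node (.node (.node (.node (.node (.leaf [106, 301, 699, 1125, 1148, 1346, 1864, 2168, 2229, 2909, 3198, 3418, 3603]) (.leaf [627, 733, 1163, 1457, 1474, 1494, 1561, 1800, 3528, 4166, 4208, 4271, 4398])) (.leaf [154, 247, 675, 878, 1306, 1331, 1750, 1757, 1861, 1912, 2274, 3255, 3303])) (.node (.leaf [165, 367, 1473, 1854, 2083, 2527, 2863, 3086, 3094, 3097, 3099, 3169, 3483]) (.leaf [169, 783, 1018, 1470, 1524, 2318, 2377, 2461, 2521, 2992, 3576, 3792, 3936]))) (.node (.node (.leaf [324, 727, 887, 1101, 1328, 1595, 2189, 2636, 2752, 2803, 3460, 3565, 4136]) (.leaf [285, 325, 1219, 1804, 2188, 2354, 2500, 2976, 3399, 3716, 4107, 4355, 4367])) (.node (.leaf [33, 648, 786, 862, 980, 1083, 1401, 1716, 2574, 2589, 2689, 3541, 3795]) (.leaf [163, 254, 855, 1663, 2090, 2880, 3090, 3326, 3542, 3672, 3935, 4129, 4391])))) (.node (.node (.node (.node (.leaf [3, 370, 606, 857, 930, 946, 1213, 1227, 1743, 2362, 2436, 2504, 3457]) (.leaf [339, 664, 735, 873, 888, 2051, 2214, 2517, 2777, 3221, 3736, 4252, 4468])) (.leaf [119, 168, 179, 427, 1437, 1769, 1829,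 2161, 2394, 2444, 2934, 3740, 3970])) (.node (.leaf [489, 684, 760, 914, 940, 1484, 2024, 2320, 2748, 3027, 3365, 4309, 4362]) (.leaf [1430, 1585, 1633, 1662, 1936, 3239, 3704, 3712, 3742, 3890, 4041, 4391, 4467]))) (.node (.node (.leaf [817, 1123, 1293, 1420, 1905, 2333, 2423, 2506, 2651, 3012, 3591, 4078, 4412]) (.leaf [168, 800, 1836, 2091, 2255, 2261, 2445, 2690, 2785, 3372, 3523, 4231, 4259])) (.node (.leaf [686, 835, 915, 1340, 1484, 2012, 2164, 2333, 2611, 3387, 3417, 3464, 4212]) (.leaf [69, 751, 851, 1073, 1111, 1579, 1819, 2417, 2541, 3090, 3180, 3952, 4118])))))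

def nbr1104 : Janko.Tree (List ℕ) :=
  (.node (.node (.node (.node (.node (.leaf [109, 122, 1009, 1013, 1349, 1625, 1807, 2547, 2759, 3382, 3604, 3710, 4178]) (.leaf [626, 956, 1484, 1694, 1768, 2216, 2332, 2443, 2554, 2769, 3307, 3531, 3892])) (.leaf [75, 131, 217, 364, 1675, 1879, 2438, 2452, 2538, 2613, 2812, 3629, 3685])) (.node (.leaf [696, 1476, 1642, 1863, 2120, 2937, 3382, 3538, 3600, 3883, 3918, 4143, 4200]) (.leaf [945, 1546, 1632, 1766, 2013, 2080, 2250, 2781, 2869, 3100, 3535, 4019, 4449]))) (.node (.node (.leaf [151, 540, 637, 733, 795, 860, 1165, 1502, 1728, 1793, 2914, 3312, 4477]) (.leaf [195, 243, 970, 1226, 1609, 1682, 1779, 2015, 2382, 3687, 3755, 4374, 4465])) (.node (.leaf [34, 114, 395, 1007, 1120, 1352, 1507, 1677, 1952, 2106, 2203, 2856, 3659]) (.leaf [591, 604, 749, 1512, 1597, 2189, 2652, 3138, 3256, 3477, 3593, 4034, 4420])))) (.node (.node (.node (.node (.leaf [4, 373, 743, 851, 933, 949, 1228, 1744, 2087, 2531, 3185, 3726, 4249]) (.leaf [212, 296, 1091, 1092, 1651, 2947, 2948, 3004, 3111, 3343, 3990, 4015, 4408])) (.leaf [120, 171, 242, 390, 633, 1438,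 2279, 2397, 2447, 2663, 3333, 3408, 3804])) (.node (.leaf [118, 687, 763, 801, 1271, 1426, 1487, 1886, 2323, 2444, 2976, 3495, 4366]) (.leaf [344, 502, 1015, 1689, 2057, 2627, 3085, 3129, 3135, 3284, 3526, 4025, 4076]))) (.node (.node (.leaf [818, 1124, 1130, 1294, 1953, 2107, 2334, 2424, 2652, 3362, 3592, 4180, 4350]) (.leaf [673, 1569, 1832, 2004, 2046, 2471, 2552, 2624, 3000, 3501, 3897, 3940, 4286])) (.node (.leaf [31, 202, 538, 1722, 1874, 2140, 2330, 2590, 2617, 2986, 3277, 3549, 3848]) (.leaf [147, 898, 1341, 1617, 1630, 1839, 2221, 2299, 2593, 2695, 3241, 3829, 4152])))))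

def nbr1105 : Janko.Tree (List ℕ) :=
  (.node (.node (.node (.node (.node (.leaf [108, 123, 1008, 1012, 1348, 1624, 1806, 2546, 2758, 3383, 3605, 3711, 4179]) (.leaf [627, 957, 1485, 1695, 1769, 2217, 2333, 2442, 2555, 2768, 3306, 3530, 3893])) (.leaf [74, 130, 216, 365, 1674, 1878, 2439, 2453, 2539, 2612, 2813, 3628, 3684])) (.node (.leaf [697, 1477, 1643, 1862, 2121, 2936, 3383, 3539, 3601, 3882, 3919, 4142, 4201]) (.leaf [944, 1547, 1633, 1767, 2012, 2081, 2251, 2780, 2868, 3101, 3534, 4018, 4448]))) (.node (.node (.leaf [150, 541, 636, 732, 794, 861, 1164, 1503, 1729, 1792, 2915, 3313, 4476]) (.leaf [194, 242, 971, 1227, 1608, 1683, 1778, 2014, 2383, 3686, 3754, 4375, 4464])) (.node (.leaf [35, 115, 394, 1006, 1121, 1353, 1506, 1676, 1953, 2107, 2202, 2857, 3658]) (.leaf [590, 605, 748, 1513, 1596, 2188, 2653, 3139, 3257, 3476, 3592, 4035, 4421])))) (.node (.node (.node (.node (.leaf [5, 372, 742, 850, 932, 948, 1229, 1745, 2086, 2530, 3184, 3727, 4248]) (.leaf [213, 297, 1090, 1093, 1650, 2946, 2949, 3005, 3110, 3342, 3991, 4014, 4409])) (.leaf [121, 170, 243, 391, 632, 1439,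 2278, 2396, 2446, 2662, 3332, 3409, 3805])) (.node (.leaf [119, 686, 762, 800, 1270, 1427, 1486, 1887, 2322, 2445, 2977, 3494, 4367]) (.leaf [345, 503, 1014, 1688, 2056, 2626, 3084, 3128, 3134, 3285, 3527, 4024, 4077]))) (.node (.node (.leaf [819, 1125, 1131, 1295, 1952, 2106, 2335, 2425, 2653, 3363, 3593, 4181, 4351]) (.leaf [672, 1568, 1833, 2005, 2047, 2470, 2553, 2625, 3001, 3500, 3896, 3941, 4287])) (.node (.leaf [30, 203, 539, 1723, 1875, 2141, 2331, 2591, 2616, 2987, 3276, 3548, 3849]) (.leaf [146, 899, 1340, 1616, 1631, 1838, 2220, 2298, 2592, 2694, 3240, 3828, 4153])))))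

def nbr1106 : Janko.Tree (List ℕ) :=
  (.node (.node (.node (.node (.node (.leaf [160, 265, 1491, 2164, 2416, 2628, 3192, 3322, 3441, 3724, 3952, 4247, 4319]) (.leaf [363, 578, 665, 725, 1300, 2237, 2415, 2722, 2823, 3624, 4196, 4265, 4413])) (.leaf [365, 861, 1080, 1211, 1284, 1662, 2539, 2776, 3002, 4041, 4217, 4273, 4468])) (.node (.leaf [2, 178, 1480, 1829, 1869, 2487, 2522, 2794, 2955, 3210, 3316, 3573, 3618]) (.leaf [46, 438, 1326, 1490, 1895, 1973, 2538, 2777, 2990, 2992, 3283, 3393, 4325]))) (.node (.node (.leaf [107, 429, 639, 912, 1167, 1430, 1795, 1865, 2270, 2595, 3314, 3518, 4086]) (.leaf [245, 599, 601, 1228, 1292, 1684, 1897, 2017, 2195, 2596, 3052, 3767, 4273])) (.node (.leaf [36, 66, 116, 337, 1234, 1313, 1679, 1693, 2033, 2140, 2858, 4263, 4337]) (.leaf [271, 1434, 2019, 2377, 2390, 2611, 2880, 3017, 3091, 3387, 3487, 4148, 4279])))) (.node (.node (.node (.node (.leaf [71, 123, 410, 585, 1587, 1904, 2353, 2809, 3605, 3738, 3837, 3843, 4388]) (.leaf [104, 107, 756, 1270, 1553, 1794, 2168, 2237, 2769, 3530, 4264, 4332, 4366])) (.leaf [17, 31, 181, 783, 839, 2079, 2584,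 2627, 3068, 3663, 3873, 3934, 4195])) (.node (.leaf [586, 769, 952, 1288, 1787, 1940, 1948, 2329, 3243, 3411, 4134, 4168, 4300]) (.leaf [138, 491, 504, 1017, 1691, 2059, 2483, 2579, 2605, 2927, 3286, 3674, 3891]))) (.node (.node (.leaf [1078, 1296, 1367, 1580, 1782, 2802, 3156, 3394, 3514, 3720, 3895, 3898, 4033]) (.leaf [230, 450, 628, 1378, 1550, 1749, 2918, 3043, 3227, 3974, 3995, 4022, 4392])) (.node (.leaf [33, 75, 1432, 1876, 2219, 2612, 3033, 3073, 3146, 3633, 3742, 4147, 4468]) (.leaf [400, 708, 1132, 1135, 1491, 1818, 2238, 3949, 3953, 4101, 4325, 4396, 4417])))))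

def nbr1107 : Janko.Tree (List ℕ) :=
  (.node (.node (.node (.node (.node (.leaf [161, 264, 1490, 2165, 2417, 2629, 3193, 3323, 3440, 3725, 3953, 4246, 4318]) (.leaf [362, 579, 664, 724, 1301, 2236, 2414, 2723, 2822, 3625, 4197, 4264, 4412])) (.leaf [364, 860, 1081, 1210, 1285, 1663, 2538, 2777, 3003, 4040, 4216, 4272, 4469])) (.node (.leaf [3, 179, 1481, 1828, 1868, 2486, 2523, 2795, 2954, 3211, 3317, 3572, 3619]) (.leaf [47, 439, 1327, 1491, 1894, 1972, 2539, 2776, 2991, 2993, 3282, 3392, 4324]))) (.node (.node (.leaf [106, 428, 638, 913, 1166, 1431, 1794, 1864, 2271, 2594, 3315, 3519, 4087]) (.leaf [244, 598, 600, 1229, 1293, 1685, 1896, 2016, 2194, 2597, 3053, 3766, 4272])) (.node (.leaf [37, 67, 117, 336, 1235, 1312, 1678, 1692, 2032, 2141, 2859, 4262, 4336]) (.leaf [270, 1435, 2018, 2376, 2391, 2610, 2881, 3016, 3090, 3386, 3486, 4149, 4278])))) (.node (.node (.node (.node (.leaf [70, 122, 411, 584, 1586, 1905, 2352, 2808, 3604, 3739, 3836, 3842, 4389]) (.leaf [105, 106, 757, 1271, 1552, 1795, 2169, 2236, 2768, 3531, 4265, 4333, 4367])) (.leaf [16, 30, 180, 782, 838, 2078, 2585,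 2626, 3069, 3662, 3872, 3935, 4194])) (.node (.leaf [587, 768, 953, 1289, 1786, 1941, 1949, 2328, 3242, 3410, 4135, 4169, 4301]) (.leaf [139, 490, 505, 1016, 1690, 2058, 2482, 2578, 2604, 2926, 3287, 3675, 3890]))) (.node (.node (.leaf [1079, 1297, 1366, 1581, 1783, 2803, 3157, 3395, 3515, 3721, 3894, 3899, 4032]) (.leaf [231, 451, 629, 1379, 1551, 1748, 2919, 3042, 3226, 3975, 3994, 4023, 4393])) (.node (.leaf [32, 74, 1433, 1877, 2218, 2613, 3032, 3072, 3147, 3632, 3743, 4146, 4469]) (.leaf [401, 709, 1133, 1134, 1490, 1819, 2239, 3948, 3952, 4100, 4324, 4397, 4416])))))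

def nbr1108 : Janko.Tree (List ℕ) :=
  (.node (.node (.node (.node (.node (.leaf [162, 267, 355, 1857, 2630, 2773, 2989, 3263, 3293, 4067, 4228, 4252, 4290]) (.leaf [365, 667, 1092, 1370, 1602, 2676, 2993, 3577, 3962, 4187, 4338, 4350, 4409])) (.leaf [347, 570, 649, 834, 878, 1082, 2332, 2442, 2541, 3168, 3219, 4043, 4329])) (.node (.leaf [4, 826, 876, 1482, 1771, 1871, 2278, 2459, 2518, 2684, 3620, 3804, 4091]) (.leaf [953, 972, 1034, 1335, 2053, 2075, 2251, 2283, 2896, 3387, 3522, 4241, 4259]))) (.node (.node (.leaf [171, 538, 542, 641, 1062, 1101, 1877, 2616, 2903, 3019, 3138, 3236, 4386]) (.leaf [48, 112, 324, 554, 797, 1811, 2406, 3400, 3760, 3957, 4232, 4285, 4370])) (.node (.leaf [48, 265, 325, 1108, 1301, 1752, 1759, 2641, 2722, 2849, 3305, 3444, 4080]) (.leaf [1059, 1277, 1556, 2417, 2900, 2933, 2973, 3155, 3271, 3833, 4074, 4295, 4395])))) (.node (.node (.node (.node (.leaf [73, 125, 412, 587, 1457, 1907, 2037, 2355, 2811, 3362, 4011, 4053, 4271]) (.leaf [101, 109, 385, 430, 451, 770, 1348, 1749, 2331, 2706, 2808, 3577, 3963])) (.leaf [19, 416, 705, 1025, 1029, 2288, 2311,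 2359, 2656, 3147, 3482, 4147, 4431])) (.node (.leaf [309, 771, 1072, 1303, 1942, 1950, 2331, 2607, 2760, 2882, 3246, 4126, 4302]) (.leaf [627, 1128, 1396, 1564, 1804, 2022, 2665, 3010, 3672, 3820, 3842, 4166, 4188]))) (.node (.node (.leaf [594, 943, 1082, 1298, 1432, 2918, 3125, 3160, 3316, 3467, 3743, 3783, 3921]) (.leaf [224, 1700, 1848, 1909, 2014, 2113, 2128, 2192, 2551, 2596, 3544, 3925, 4466])) (.node (.leaf [39, 206, 1281, 1367, 1519, 1734, 2316, 2614, 2649, 2806, 3176, 3348, 3609]) (.leaf [418, 660, 1221, 1557, 1791, 2572, 3206, 3252, 3357, 3474, 3588, 3646, 4131])))))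

def nbr1109 : Janko.Tree (List ℕ) :=
  (.node (.node (.node (.node (.node (.leaf [163, 266, 354, 1856, 2631, 2772, 2988, 3262, 3292, 4066, 4229, 4253, 4291]) (.leaf [364, 666, 1093, 1371, 1603, 2677, 2992, 3576, 3963, 4186, 4339, 4351, 4408])) (.leaf [346, 571, 648, 835, 879, 1083, 2333, 2443, 2540, 3169, 3218, 4042, 4328])) (.node (.leaf [5, 827, 877, 1483, 1770, 1870, 2279, 2458, 2519, 2685, 3621, 3805, 4090]) (.leaf [952, 973, 1035, 1334, 2052, 2074, 2250, 2282, 2897, 3386, 3523, 4240, 4258]))) (.node (.node (.leaf [170, 539, 543, 640, 1063, 1100, 1876, 2617, 2902, 3018, 3139, 3237, 4387]) (.leaf [49, 113, 325, 555, 796, 1810, 2407, 3401, 3761, 3956, 4233, 4284, 4371])) (.node (.leaf [49, 264, 324, 1109, 1300, 1753, 1758, 2640, 2723, 2848, 3304, 3445, 4081]) (.leaf [1058, 1276, 1557, 2416, 2901, 2932, 2972, 3154, 3270, 3832, 4075, 4294, 4394])))) (.node (.node (.node (.node (.leaf [72, 124, 413, 586, 1456, 1906, 2036, 2354, 2810, 3363, 4010, 4052, 4270]) (.leaf [100, 108, 384, 431, 450, 771, 1349, 1748, 2330, 2707, 2809, 3576, 3962])) (.leaf [18, 417, 704, 1024, 1028, 2289, 2310,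 2358, 2657, 3146, 3483, 4146, 4430])) (.node (.leaf [308, 770, 1073, 1302, 1943, 1951, 2330, 2606, 2761, 2883, 3247, 4127, 4303]) (.leaf [626, 1129, 1397, 1565, 1805, 2023, 2664, 3011, 3673, 3821, 3843, 4167, 4189]))) (.node (.node (.leaf [595, 942, 1083, 1299, 1433, 2919, 3124, 3161, 3317, 3466, 3742, 3782, 3920]) (.leaf [225, 1701, 1849, 1908, 2015, 2112, 2129, 2193, 2550, 2597, 3545, 3924, 4467])) (.node (.leaf [38, 207, 1280, 1366, 1518, 1735, 2317, 2615, 2648, 2807, 3177, 3349, 3608]) (.leaf [419, 661, 1220, 1556, 1790, 2573, 3207, 3253, 3356, 3475, 3589, 3647, 4130])))))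

def nbr1110 : Janko.Tree (List ℕ) :=
  (.node (.node (.node (.node (.node (.leaf [164, 358, 462, 1673, 1679, 1727, 1768, 2160, 3137, 3415, 3681, 4038, 4225]) (.leaf [287, 327, 624, 1338, 1776, 2639, 2693, 3022, 3118, 3488, 3738, 3842, 4189])) (.leaf [100, 651, 753, 836, 863, 1138, 1372, 2334, 2454, 2543, 2669, 3375, 3931])) (.node (.leaf [105, 1484, 1759, 1852, 2310, 2488, 2769, 2940, 3702, 4001, 4066, 4141, 4437]) (.leaf [140, 350, 1002, 1006, 1869, 1955, 2445, 2678, 2794, 2994, 3585, 4252, 4450]))) (.node (.node (.leaf [6, 643, 890, 1015, 1244, 1256, 1288, 1374, 1754, 2828, 3037, 3177, 4082]) (.leaf [328, 382, 464, 1286, 1391, 1604, 1771, 1794, 2170, 2183, 3519, 3864, 4333])) (.node (.leaf [54, 187, 845, 1180, 1293, 1681, 2423, 2620, 2724, 2892, 3450, 3812, 3903]) (.leaf [905, 1469, 1571, 1608, 1950, 2569, 3273, 3613, 3634, 3754, 3790, 4293, 4315])))) (.node (.node (.node (.node (.leaf [526, 805, 986, 1144, 1590, 1995, 2146, 2401, 2713, 3454, 3694, 3841, 4372]) (.leaf [393, 898, 1033, 1724, 1816, 2297, 2340, 2556, 2559, 3294, 3480, 3781, 3995])) (.leaf [21, 700, 785, 908, 983, 2290,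 2337, 2826, 2911, 3081, 3779, 4108, 4427])) (.node (.leaf [34, 773, 1416, 1674, 1905, 1952, 2287, 2333, 2430, 2887, 2921, 3298, 4170]) (.leaf [273, 559, 962, 1843, 2058, 2309, 2362, 2483, 2655, 2991, 3212, 4341, 4392]))) (.node (.node (.leaf [753, 945, 1300, 1323, 1342, 1759, 2143, 2311, 2518, 2781, 3162, 4309, 4442]) (.leaf [173, 528, 639, 1166, 1450, 1537, 2259, 2364, 3131, 3388, 3837, 3903, 4456])) (.node (.leaf [41, 158, 1021, 1369, 1548, 1736, 2432, 3201, 3428, 3611, 3647, 3785, 3954]) (.leaf [19, 1079, 1559, 1747, 2070, 2289, 2453, 2734, 2798, 3208, 3257, 3476, 4288])))))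

def nbr1111 : Janko.Tree (List ℕ) :=
  (.node (.node (.node (.node (.node (.leaf [165, 359, 463, 1672, 1678, 1726, 1769, 2161, 3136, 3414, 3680, 4039, 4224]) (.leaf [286, 326, 625, 1339, 1777, 2638, 2692, 3023, 3119, 3489, 3739, 3843, 4188])) (.leaf [101, 650, 752, 837, 862, 1139, 1373, 2335, 2455, 2542, 2668, 3374, 3930])) (.node (.leaf [104, 1485, 1758, 1853, 2311, 2489, 2768, 2941, 3703, 4000, 4067, 4140, 4436]) (.leaf [141, 351, 1003, 1007, 1868, 1954, 2444, 2679, 2795, 2995, 3584, 4253, 4451]))) (.node (.node (.leaf [7, 642, 891, 1014, 1245, 1257, 1289, 1375, 1755, 2829, 3036, 3176, 4083]) (.leaf [329, 383, 465, 1287, 1390, 1605, 1770, 1795, 2171, 2182, 3518, 3865, 4332])) (.node (.leaf [55, 186, 844, 1181, 1292, 1680, 2422, 2621, 2725, 2893, 3451, 3813, 3902]) (.leaf [904, 1468, 1570, 1609, 1951, 2568, 3272, 3612, 3635, 3755, 3791, 4292, 4314])))) (.node (.node (.node (.node (.leaf [527, 804, 987, 1145, 1591, 1994, 2147, 2400, 2712, 3455, 3695, 3840, 4373]) (.leaf [392, 899, 1032, 1725, 1817, 2296, 2341, 2557, 2558, 3295, 3481, 3780, 3994])) (.leaf [20, 701, 784, 909, 982, 2291,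 2336, 2827, 2910, 3080, 3778, 4109, 4426])) (.node (.leaf [35, 772, 1417, 1675, 1904, 1953, 2286, 2332, 2431, 2886, 2920, 3299, 4171]) (.leaf [272, 558, 963, 1842, 2059, 2308, 2363, 2482, 2654, 2990, 3213, 4340, 4393]))) (.node (.node (.leaf [752, 944, 1301, 1322, 1343, 1758, 2142, 2310, 2519, 2780, 3163, 4308, 4443]) (.leaf [172, 529, 638, 1167, 1451, 1536, 2258, 2365, 3130, 3389, 3836, 3902, 4457])) (.node (.leaf [40, 159, 1020, 1368, 1549, 1737, 2433, 3200, 3429, 3610, 3646, 3784, 3955]) (.leaf [18, 1078, 1558, 1746, 2071, 2288, 2452, 2735, 2799, 3209, 3256, 3477, 4289])))))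

def nbr1112 : Janko.Tree (List ℕ) :=
  (.node (.node (.node (.node (.node (.leaf [166, 360, 390, 401, 907, 938, 1117, 1404, 2421, 2663, 3417, 3683, 4418]) (.leaf [122, 455, 1260, 1372, 1625, 1949, 2424, 3258, 3288, 3340, 3657, 3993, 4429])) (.leaf [287, 621, 869, 1086, 1217, 2096, 2186, 2352, 2498, 3074, 3397, 4309, 4363])) (.node (.leaf [30, 982, 1480, 1486, 1761, 2232, 2771, 3211, 3478, 3536, 3704, 3934, 4439]) (.leaf [144, 390, 492, 532, 674, 2064, 2134, 2642, 3084, 3332, 3582, 3639, 3863]))) (.node (.node (.leaf [10, 271, 437, 523, 1223, 1371, 1481, 1868, 2825, 2881, 3327, 3911, 4439]) (.leaf [51, 330, 466, 1393, 1641, 1773, 2172, 2174, 2185, 2338, 4236, 4335, 4347])) (.node (.leaf [58, 191, 326, 1424, 1683, 1741, 2147, 2427, 2643, 3454, 3488, 3814, 3988]) (.leaf [933, 1138, 1329, 1497, 1773, 2469, 2787, 3017, 3054, 3184, 3617, 4040, 4335])))) (.node (.node (.node (.node (.leaf [197, 807, 988, 1474, 2148, 2503, 2656, 2902, 2969, 3019, 3982, 4033, 4329]) (.leaf [395, 536, 1466, 1686, 1720, 1853, 2299, 2328, 2544, 2561, 2925, 3547, 3997])) (.leaf [25, 231, 342, 789, 1309, 2339,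 2679, 2795, 3157, 3525, 3877, 3992, 4220])) (.node (.leaf [36, 569, 775, 1313, 1418, 1827, 2335, 2571, 3000, 3363, 3500, 3559, 4132]) (.leaf [592, 607, 616, 1515, 1908, 3022, 3141, 3301, 3425, 3806, 3914, 4097, 4423]))) (.node (.node (.leaf [690, 1302, 1433, 1722, 1796, 1812, 2331, 2386, 2706, 3776, 3798, 4184, 4437]) (.leaf [377, 501, 752, 1303, 1775, 1797, 2050, 2518, 2606, 2669, 2687, 2729, 3368])) (.node (.leaf [350, 477, 1518, 1648, 2120, 2581, 2616, 2690, 2945, 3078, 4176, 4201, 4399]) (.leaf [688, 700, 929, 943, 978, 1222, 1371, 1714, 1938, 2958, 3317, 3689, 4426])))))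

def nbr1113 : Janko.Tree (List ℕ) :=
  (.node (.node (.node (.node (.node (.leaf [167, 361, 391, 400, 906, 939, 1116, 1405, 2420, 2662, 3416, 3682, 4419]) (.leaf [123, 454, 1261, 1373, 1624, 1948, 2425, 3259, 3289, 3341, 3656, 3992, 4428])) (.leaf [286, 620, 868, 1087, 1216, 2097, 2187, 2353, 2499, 3075, 3396, 4308, 4362])) (.node (.leaf [31, 983, 1481, 1487, 1760, 2233, 2770, 3210, 3479, 3537, 3705, 3935, 4438]) (.leaf [145, 391, 493, 533, 675, 2065, 2135, 2643, 3085, 3333, 3583, 3638, 3862]))) (.node (.node (.leaf [11, 270, 436, 522, 1222, 1370, 1480, 1869, 2824, 2880, 3326, 3910, 4438]) (.leaf [50, 331, 467, 1392, 1640, 1772, 2173, 2175, 2184, 2339, 4237, 4334, 4346])) (.node (.leaf [59, 190, 327, 1425, 1682, 1740, 2146, 2426, 2642, 3455, 3489, 3815, 3989]) (.leaf [932, 1139, 1328, 1496, 1772, 2468, 2786, 3016, 3055, 3185, 3616, 4041, 4334])))) (.node (.node (.node (.node (.leaf [196, 806, 989, 1475, 2149, 2502, 2657, 2903, 2968, 3018, 3983, 4032, 4328]) (.leaf [394, 537, 1467, 1687, 1721, 1852, 2298, 2329, 2545, 2560, 2924, 3546, 3996])) (.leaf [24, 230, 343, 788, 1308, 2338,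 2678, 2794, 3156, 3524, 3876, 3993, 4221])) (.node (.leaf [37, 568, 774, 1312, 1419, 1826, 2334, 2570, 3001, 3362, 3501, 3558, 4133]) (.leaf [593, 606, 617, 1514, 1909, 3023, 3140, 3300, 3424, 3807, 3915, 4096, 4422]))) (.node (.node (.leaf [691, 1303, 1432, 1723, 1797, 1813, 2330, 2387, 2707, 3777, 3799, 4185, 4436]) (.leaf [376, 500, 753, 1302, 1774, 1796, 2051, 2519, 2607, 2668, 2686, 2728, 3369])) (.node (.leaf [351, 476, 1519, 1649, 2121, 2580, 2617, 2691, 2944, 3079, 4177, 4200, 4398]) (.leaf [689, 701, 928, 942, 979, 1223, 1370, 1715, 1939, 2959, 3316, 3688, 4427])))))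

def nbr1114 : Janko.Tree (List ℕ) :=
  (.node (.node (.node (.node (.node (.leaf [58, 168, 575, 856, 2090, 2463, 2708, 3051, 3457, 3740, 3936, 4128, 4182]) (.leaf [929, 1665, 1696, 1939, 2038, 2781, 3221, 3426, 3676, 3715, 3812, 3957, 4285])) (.leaf [111, 235, 884, 953, 1351, 1373, 1633, 1808, 1851, 1949, 2250, 3238, 4218])) (.node (.leaf [68, 1024, 1058, 1488, 1831, 2011, 2730, 2773, 3170, 3482, 3960, 4066, 4198]) (.leaf [186, 790, 1386, 1388, 2180, 2241, 2337, 2654, 2725, 2834, 2894, 3212, 3692]))) (.node (.node (.leaf [12, 647, 677, 895, 1059, 1206, 1225, 1276, 1483, 1870, 2264, 2524, 3860]) (.leaf [229, 332, 778, 1400, 1915, 2065, 2474, 3231, 3404, 3703, 3927, 3947, 4364])) (.node (.leaf [60, 89, 900, 1545, 1637, 1685, 1883, 2149, 2726, 2969, 3054, 3350, 3490]) (.leaf [311, 1305, 1948, 2567, 2609, 2888, 3050, 3058, 3550, 3632, 3899, 4128, 4380])))) (.node (.node (.node (.node (.leaf [532, 667, 715, 809, 994, 1031, 1265, 2251, 2659, 2869, 3085, 4215, 4221]) (.leaf [355, 403, 668, 716, 1038, 1136, 1729, 3223, 3796, 3950, 4093, 4229, 4376])) (.leaf [97, 99, 998, 1000, 1169, 2099,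 2101, 2755, 3087, 3426, 3712, 3714, 4040])) (.node (.leaf [373, 546, 563, 777, 805, 1144, 1532, 1985, 2930, 3215, 3534, 3630, 4009]) (.leaf [359, 866, 982, 1118, 2210, 2783, 2833, 2894, 3092, 3421, 3765, 4108, 4144]))) (.node (.node (.leaf [520, 843, 1304, 1798, 2050, 2142, 2562, 2736, 3632, 3964, 4399, 4439, 4468]) (.leaf [67, 587, 607, 829, 1109, 1274, 1349, 2019, 2811, 3301, 3370, 4116, 4180])) (.node (.leaf [176, 427, 579, 665, 1005, 2025, 2227, 2529, 2662, 2677, 2748, 2797, 4237]) (.leaf [30, 342, 608, 707, 1987, 2085, 2255, 2454, 3704, 3948, 4195, 4221, 4447])))))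

def nbr1115 : Janko.Tree (List ℕ) :=
  (.node (.node (.node (.node (.node (.leaf [59, 169, 574, 857, 2091, 2462, 2709, 3050, 3456, 3741, 3937, 4129, 4183]) (.leaf [928, 1664, 1697, 1938, 2039, 2780, 3220, 3427, 3677, 3714, 3813, 3956, 4284])) (.leaf [110, 234, 885, 952, 1350, 1372, 1632, 1809, 1850, 1948, 2251, 3239, 4219])) (.node (.leaf [69, 1025, 1059, 1489, 1830, 2010, 2731, 2772, 3171, 3483, 3961, 4067, 4199]) (.leaf [187, 791, 1387, 1389, 2181, 2240, 2336, 2655, 2724, 2835, 2895, 3213, 3693]))) (.node (.node (.leaf [13, 646, 676, 894, 1058, 1207, 1224, 1277, 1482, 1871, 2265, 2525, 3861]) (.leaf [228, 333, 779, 1401, 1914, 2064, 2475, 3230, 3405, 3702, 3926, 3946, 4365])) (.node (.leaf [61, 88, 901, 1544, 1636, 1684, 1882, 2148, 2727, 2968, 3055, 3351, 3491]) (.leaf [310, 1304, 1949, 2566, 2608, 2889, 3051, 3059, 3551, 3633, 3898, 4129, 4381])))) (.node (.node (.node (.node (.leaf [533, 666, 714, 808, 995, 1030, 1264, 2250, 2658, 2868, 3084, 4214, 4220]) (.leaf [354, 402, 669, 717, 1039, 1137, 1728, 3222, 3797, 3951, 4092, 4228, 4377])) (.leaf [96, 98, 999, 1001, 1168, 2098,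 2100, 2754, 3086, 3427, 3713, 3715, 4041])) (.node (.leaf [372, 547, 562, 776, 804, 1145, 1533, 1984, 2931, 3214, 3535, 3631, 4008]) (.leaf [358, 867, 983, 1119, 2211, 2782, 2832, 2895, 3093, 3420, 3764, 4109, 4145]))) (.node (.node (.leaf [521, 842, 1305, 1799, 2051, 2143, 2563, 2737, 3633, 3965, 4398, 4438, 4469]) (.leaf [66, 586, 606, 828, 1108, 1275, 1348, 2018, 2810, 3300, 3371, 4117, 4181])) (.node (.leaf [177, 426, 578, 664, 1004, 2024, 2226, 2528, 2663, 2676, 2749, 2796, 4236]) (.leaf [31, 343, 609, 706, 1986, 2084, 2254, 2455, 3705, 3949, 4194, 4220, 4446])))))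

def nbr1116 : Janko.Tree (List ℕ) :=
  (.node (.node (.node (.node (.node (.leaf [60, 170, 243, 931, 1440, 2162, 2530, 2710, 3232, 3273, 4029, 4249, 4292]) (.leaf [53, 1507, 2079, 2199, 2202, 2313, 2364, 3291, 3367, 3508, 3610, 4124, 4244])) (.leaf [113, 237, 695, 886, 1951, 2761, 3148, 3419, 3677, 3680, 3999, 4012, 4285])) (.node (.leaf [321, 502, 1386, 1490, 1973, 2238, 2336, 2732, 2826, 3128, 3172, 3536, 3787]) (.leaf [188, 876, 1018, 1359, 1566, 1833, 2240, 2279, 2337, 2403, 3694, 3773, 3840]))) (.node (.node (.leaf [1, 139, 597, 704, 977, 1025, 1577, 2464, 2823, 3165, 3826, 4232, 4407]) (.leaf [199, 980, 1197, 1208, 1242, 1341, 2177, 2234, 2497, 3041, 4229, 4386, 4416])) (.node (.leaf [7, 457, 1215, 1381, 1802, 2381, 2430, 2887, 3127, 3547, 3997, 4047, 4083]) (.leaf [414, 768, 792, 1050, 1388, 2074, 2243, 2284, 2529, 2896, 3698, 4048, 4358])))) (.node (.node (.node (.node (.leaf [213, 534, 811, 875, 996, 1033, 1316, 1704, 2605, 3295, 3998, 4056, 4061]) (.leaf [16, 59, 475, 488, 1182, 1993, 2079, 2398, 3104, 3457, 3617, 4199, 4211])) (.leaf [347, 693, 797, 974, 1171, 1451, 1531,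 2095, 2224, 2364, 3169, 3358, 4192])) (.node (.leaf [47, 277, 779, 807, 1089, 1534, 1780, 1987, 3404, 3707, 3851, 3943, 3982]) (.leaf [361, 680, 868, 984, 1174, 2212, 2496, 2896, 3094, 3837, 3979, 4113, 4415]))) (.node (.node (.leaf [604, 1095, 1249, 2516, 2556, 2900, 3110, 3125, 3155, 3480, 3517, 3797, 4078]) (.leaf [109, 722, 790, 1362, 1699, 1721, 1769, 2554, 2783, 2965, 3225, 3415, 3750])) (.node (.leaf [44, 1161, 1207, 1259, 1451, 1537, 1543, 1565, 2261, 2618, 3657, 3735, 4175]) (.leaf [356, 396, 671, 719, 1992, 2356, 2466, 2468, 3077, 3518, 3586, 4238, 4479])))))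

def nbr1117 : Janko.Tree (List ℕ) :=
  (.node (.node (.node (.node (.node (.leaf [61, 171, 242, 930, 1441, 2163, 2531, 2711, 3233, 3272, 4028, 4248, 4293]) (.leaf [52, 1506, 2078, 2198, 2203, 2312, 2365, 3290, 3366, 3509, 3611, 4125, 4245])) (.leaf [112, 236, 694, 887, 1950, 2760, 3149, 3418, 3676, 3681, 3998, 4013, 4284])) (.node (.leaf [320, 503, 1387, 1491, 1972, 2239, 2337, 2733, 2827, 3129, 3173, 3537, 3786]) (.leaf [189, 877, 1019, 1358, 1567, 1832, 2241, 2278, 2336, 2402, 3695, 3772, 3841]))) (.node (.node (.leaf [0, 138, 596, 705, 976, 1024, 1576, 2465, 2822, 3164, 3827, 4233, 4406]) (.leaf [198, 981, 1196, 1209, 1243, 1340, 2176, 2235, 2496, 3040, 4228, 4387, 4417])) (.node (.leaf [6, 456, 1214, 1380, 1803, 2380, 2431, 2886, 3126, 3546, 3996, 4046, 4082]) (.leaf [415, 769, 793, 1051, 1389, 2075, 2242, 2285, 2528, 2897, 3699, 4049, 4359])))) (.node (.node (.node (.node (.leaf [212, 535, 810, 874, 997, 1032, 1317, 1705, 2604, 3294, 3999, 4057, 4060]) (.leaf [17, 58, 474, 489, 1183, 1992, 2078, 2399, 3105, 3456, 3616, 4198, 4210])) (.leaf [346, 692, 796, 975, 1170, 1450, 1530,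 2094, 2225, 2365, 3168, 3359, 4193])) (.node (.leaf [46, 276, 778, 806, 1088, 1535, 1781, 1986, 3405, 3706, 3850, 3942, 3983]) (.leaf [360, 681, 869, 985, 1175, 2213, 2497, 2897, 3095, 3836, 3978, 4112, 4414]))) (.node (.node (.leaf [605, 1094, 1248, 2517, 2557, 2901, 3111, 3124, 3154, 3481, 3516, 3796, 4079]) (.leaf [108, 723, 791, 1363, 1698, 1720, 1768, 2555, 2782, 2964, 3224, 3414, 3751])) (.node (.leaf [45, 1160, 1206, 1258, 1450, 1536, 1542, 1564, 2260, 2619, 3656, 3734, 4174]) (.leaf [357, 397, 670, 718, 1993, 2357, 2467, 2469, 3076, 3519, 3587, 4239, 4478])))))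

def nbr1118 : Janko.Tree (List ℕ) :=
  (.node (.node (.node (.node (.node (.leaf [172, 475, 623, 1910, 2054, 2474, 2712, 3174, 3836, 3875, 3904, 4102, 4388]) (.leaf [545, 786, 1443, 1676, 2033, 2066, 2179, 2315, 2405, 3750, 3857, 4031, 4262])) (.leaf [338, 525, 735, 1414, 1665, 1844, 2304, 2822, 3337, 3512, 3717, 4274, 4433])) (.node (.leaf [222, 646, 876, 1492, 1604, 1770, 1854, 1984, 2718, 2785, 3216, 3993, 4330]) (.leaf [354, 599, 782, 791, 1292, 1525, 1882, 2241, 2536, 3160, 3881, 4282, 4299]))) (.node (.node (.leaf [141, 229, 701, 979, 1061, 1832, 2319, 2337, 3422, 3577, 3591, 4166, 4234]) (.leaf [63, 310, 366, 2272, 2492, 2612, 2656, 2775, 3058, 3192, 3382, 3482, 3961])) (.node (.leaf [9, 411, 459, 1552, 1569, 1587, 1874, 2283, 3500, 3549, 3559, 4085, 4267]) (.leaf [351, 404, 530, 579, 2260, 2341, 2620, 2691, 2905, 3265, 3353, 4138, 4402])))) (.node (.node (.node (.node (.leaf [534, 536, 814, 1040, 1542, 1816, 2447, 2458, 3295, 3336, 3728, 3809, 4433]) (.leaf [336, 870, 1159, 1445, 1510, 1723, 1910, 1930, 2159, 2386, 2514, 4318, 4391])) (.leaf [205, 554, 801, 1035, 1175, 2212,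 2906, 2977, 3191, 3195, 3523, 3847, 4475])) (.node (.leaf [182, 748, 1181, 1320, 1954, 2137, 2464, 3138, 3277, 3450, 3771, 3854, 4063]) (.leaf [353, 363, 391, 724, 792, 1378, 1723, 3152, 3344, 3417, 3752, 4113, 4391]))) (.node (.node (.leaf [396, 536, 577, 606, 995, 1097, 1184, 1485, 1853, 3112, 3235, 4181, 4309]) (.leaf [159, 341, 612, 1357, 1401, 1511, 2035, 2065, 2393, 2588, 3048, 3889, 4321])) (.node (.leaf [739, 893, 1155, 1209, 1220, 1539, 1757, 1840, 2176, 2269, 2793, 3606, 4015]) (.leaf [398, 409, 543, 1540, 1994, 2175, 2259, 2358, 2470, 3305, 3588, 3897, 4200])))))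

def nbr1119 : Janko.Tree (List ℕ) :=
  (.node (.node (.node (.node (.node (.leaf [173, 474, 622, 1911, 2055, 2475, 2713, 3175, 3837, 3874, 3905, 4103, 4389]) (.leaf [544, 787, 1442, 1677, 2032, 2067, 2178, 2314, 2404, 3751, 3856, 4030, 4263])) (.leaf [339, 524, 734, 1415, 1664, 1845, 2305, 2823, 3336, 3513, 3716, 4275, 4432])) (.node (.leaf [223, 647, 877, 1493, 1605, 1771, 1855, 1985, 2719, 2784, 3217, 3992, 4331]) (.leaf [355, 598, 783, 790, 1293, 1524, 1883, 2240, 2537, 3161, 3880, 4283, 4298]))) (.node (.node (.leaf [140, 228, 700, 978, 1060, 1833, 2318, 2336, 3423, 3576, 3590, 4167, 4235]) (.leaf [62, 311, 367, 2273, 2493, 2613, 2657, 2774, 3059, 3193, 3383, 3483, 3960])) (.node (.leaf [8, 410, 458, 1553, 1568, 1586, 1875, 2282, 3501, 3548, 3558, 4084, 4266]) (.leaf [350, 405, 531, 578, 2261, 2340, 2621, 2690, 2904, 3264, 3352, 4139, 4403])))) (.node (.node (.node (.node (.leaf [535, 537, 815, 1041, 1543, 1817, 2446, 2459, 3294, 3337, 3729, 3808, 4432]) (.leaf [337, 871, 1158, 1444, 1511, 1722, 1911, 1931, 2158, 2387, 2515, 4319, 4390])) (.leaf [204, 555, 800, 1034, 1174, 2213,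 2907, 2976, 3190, 3194, 3522, 3846, 4474])) (.node (.leaf [183, 749, 1180, 1321, 1955, 2136, 2465, 3139, 3276, 3451, 3770, 3855, 4062]) (.leaf [352, 362, 390, 725, 793, 1379, 1722, 3153, 3345, 3416, 3753, 4112, 4390]))) (.node (.node (.leaf [397, 537, 576, 607, 994, 1096, 1185, 1484, 1852, 3113, 3234, 4180, 4308]) (.leaf [158, 340, 613, 1356, 1400, 1510, 2034, 2064, 2392, 2589, 3049, 3888, 4320])) (.node (.leaf [738, 892, 1154, 1208, 1221, 1538, 1756, 1841, 2177, 2268, 2792, 3607, 4014]) (.leaf [399, 408, 542, 1541, 1995, 2174, 2258, 2359, 2471, 3304, 3589, 3896, 4201])))))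

def nbr1120 : Janko.Tree (List ℕ) :=
  (.node (.node (.node (.node (.node (.leaf [174, 529, 1475, 2093, 2476, 3020, 3388, 3737, 3877, 4052, 4122, 4271, 4323]) (.leaf [178, 1149, 1481, 1762, 2001, 2181, 2229, 2233, 3267, 3553, 3910, 4171, 4305])) (.leaf [589, 625, 737, 1497, 1726, 1749, 2047, 2306, 2600, 3339, 3576, 4275, 4435])) (.node (.leaf [878, 951, 1494, 1772, 1986, 2338, 2787, 2894, 3213, 3218, 3529, 4110, 4220]) (.leaf [356, 479, 793, 1294, 1360, 2243, 2464, 2699, 2743, 3082, 3162, 3372, 4449]))) (.node (.node (.leaf [143, 231, 343, 614, 706, 1359, 2183, 2777, 3167, 3579, 4022, 4297, 4325]) (.leaf [65, 368, 904, 908, 2382, 2494, 2826, 2930, 3129, 3136, 3413, 3754, 4290])) (.node (.leaf [11, 184, 461, 805, 1589, 2285, 2383, 2747, 3129, 3173, 3215, 3326, 3698]) (.leaf [406, 1626, 2200, 2462, 2622, 2792, 2907, 2924, 2992, 3107, 3392, 3400, 4475])))) (.node (.node (.node (.node (.leaf [538, 1042, 1288, 1634, 1721, 2114, 2328, 2460, 3241, 3338, 3607, 3626, 4435]) (.leaf [60, 469, 775, 841, 892, 1209, 1242, 1684, 1759, 1826, 2178, 2711, 4000])) (.leaf [63, 332, 803, 1037, 1177, 1339,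 2305, 2507, 3193, 3415, 4193, 4365, 4400])) (.node (.leaf [484, 1465, 1740, 1748, 1956, 2401, 2707, 2901, 3142, 3228, 3242, 3454, 4022]) (.leaf [293, 365, 1380, 1923, 2893, 3196, 3220, 3765, 3793, 3902, 4115, 4339, 4469]))) (.node (.node (.leaf [303, 755, 1154, 1204, 1274, 1673, 2233, 2419, 2543, 2810, 3462, 4202, 4205]) (.leaf [240, 260, 285, 438, 671, 882, 1409, 1596, 1973, 2532, 2638, 2693, 3944])) (.node (.leaf [254, 978, 1204, 1292, 1423, 1636, 1981, 2067, 2597, 2620, 3248, 3544, 3591]) (.leaf [316, 408, 782, 1424, 1898, 2481, 2599, 2649, 2794, 3284, 3561, 3873, 4307])))))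

def nbr1121 : Janko.Tree (List ℕ) :=
  (.node (.node (.node (.node (.node (.leaf [175, 528, 1474, 2092, 2477, 3021, 3389, 3736, 3876, 4053, 4123, 4270, 4322]) (.leaf [179, 1148, 1480, 1763, 2000, 2180, 2228, 2232, 3266, 3552, 3911, 4170, 4304])) (.leaf [588, 624, 736, 1496, 1727, 1748, 2046, 2307, 2601, 3338, 3577, 4274, 4434])) (.node (.leaf [879, 950, 1495, 1773, 1987, 2339, 2786, 2895, 3212, 3219, 3528, 4111, 4221]) (.leaf [357, 478, 792, 1295, 1361, 2242, 2465, 2698, 2742, 3083, 3163, 3373, 4448]))) (.node (.node (.leaf [142, 230, 342, 615, 707, 1358, 2182, 2776, 3166, 3578, 4023, 4296, 4324]) (.leaf [64, 369, 905, 909, 2383, 2495, 2827, 2931, 3128, 3137, 3412, 3755, 4291])) (.node (.leaf [10, 185, 460, 804, 1588, 2284, 2382, 2746, 3128, 3172, 3214, 3327, 3699]) (.leaf [407, 1627, 2201, 2463, 2623, 2793, 2906, 2925, 2993, 3106, 3393, 3401, 4474])))) (.node (.node (.node (.node (.leaf [539, 1043, 1289, 1635, 1720, 2115, 2329, 2461, 3240, 3339, 3606, 3627, 4434]) (.leaf [61, 468, 774, 840, 893, 1208, 1243, 1685, 1758, 1827, 2179, 2710, 4001])) (.leaf [62, 333, 802, 1036, 1176, 1338,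 2304, 2506, 3192, 3414, 4192, 4364, 4401])) (.node (.leaf [485, 1464, 1741, 1749, 1957, 2400, 2706, 2900, 3143, 3229, 3243, 3455, 4023]) (.leaf [292, 364, 1381, 1922, 2892, 3197, 3221, 3764, 3792, 3903, 4114, 4338, 4468]))) (.node (.node (.leaf [302, 754, 1155, 1205, 1275, 1672, 2232, 2418, 2542, 2811, 3463, 4203, 4204]) (.leaf [241, 261, 284, 439, 670, 883, 1408, 1597, 1972, 2533, 2639, 2692, 3945])) (.node (.leaf [255, 979, 1205, 1293, 1422, 1637, 1980, 2066, 2596, 2621, 3249, 3545, 3590]) (.leaf [317, 409, 783, 1425, 1899, 2480, 2598, 2648, 2795, 3285, 3560, 3872, 4306])))))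

def nbr1122 : Janko.Tree (List ℕ) :=
  (.node (.node (.node (.node (.node (.leaf [0, 813, 1035, 1369, 2245, 2943, 3300, 3429, 3529, 3732, 3871, 4015, 4406]) (.leaf [199, 1483, 1764, 2003, 2235, 2547, 3555, 3643, 3711, 3804, 3861, 4133, 4359])) (.leaf [197, 347, 693, 2339, 2503, 2916, 3047, 3123, 3492, 3524, 3566, 3966, 4111])) (.node (.leaf [304, 1496, 1699, 2041, 2136, 2754, 2782, 2803, 3183, 3460, 3958, 4040, 4462]) (.leaf [180, 323, 1697, 1743, 2038, 2279, 2457, 2715, 2864, 3238, 3926, 4266, 4383]))) (.node (.node (.leaf [145, 233, 708, 981, 1999, 2185, 2526, 2689, 2817, 3169, 3433, 4092, 4416]) (.leaf [67, 121, 1096, 1679, 1737, 2658, 3013, 3408, 3487, 3785, 3821, 3917, 4181])) (.node (.leaf [49, 596, 705, 1287, 1395, 1975, 2289, 2630, 2932, 3304, 3400, 4295, 4333]) (.leaf [60, 86, 317, 597, 602, 892, 1065, 2190, 2269, 3010, 3055, 4279, 4335])))) (.node (.node (.node (.node (.leaf [540, 645, 795, 1044, 1122, 1147, 1376, 1851, 2167, 2226, 3197, 4091, 4237]) (.leaf [618, 692, 1104, 1111, 1422, 1578, 1635, 1761, 2186, 2479, 2502, 3397, 3718])) (.leaf [227, 341, 613, 993, 1604, 1702,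 1852, 2041, 3078, 3671, 3987, 4131, 4243])) (.node (.leaf [898, 1314, 1392, 1397, 1527, 2328, 2558, 2898, 3257, 3570, 3841, 3997, 4377]) (.leaf [696, 904, 1020, 1070, 1643, 1885, 2343, 2975, 3058, 3347, 3365, 3611, 3838]))) (.node (.node (.leaf [263, 726, 757, 835, 1117, 1156, 2235, 2419, 2541, 2610, 3091, 4065, 4204]) (.leaf [287, 422, 1007, 1120, 1908, 1975, 2343, 2389, 2551, 2640, 2695, 3075, 3305])) (.node (.leaf [172, 1294, 1425, 1512, 1638, 1983, 2069, 2377, 2599, 2610, 2622, 2686, 3593]) (.leaf [210, 371, 1101, 1210, 1227, 1261, 1916, 2636, 2932, 3062, 3115, 3288, 3594])))))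

def nbr1123 : Janko.Tree (List ℕ) :=
  (.node (.node (.node (.node (.node (.leaf [1, 812, 1034, 1368, 2244, 2942, 3301, 3428, 3528, 3733, 3870, 4014, 4407]) (.leaf [198, 1482, 1765, 2002, 2234, 2546, 3554, 3642, 3710, 3805, 3860, 4132, 4358])) (.leaf [196, 346, 692, 2338, 2502, 2917, 3046, 3122, 3493, 3525, 3567, 3967, 4110])) (.node (.leaf [305, 1497, 1698, 2040, 2137, 2755, 2783, 2802, 3182, 3461, 3959, 4041, 4463]) (.leaf [181, 322, 1696, 1742, 2039, 2278, 2456, 2714, 2865, 3239, 3927, 4267, 4382]))) (.node (.node (.leaf [144, 232, 709, 980, 1998, 2184, 2527, 2688, 2816, 3168, 3432, 4093, 4417]) (.leaf [66, 120, 1097, 1678, 1736, 2659, 3012, 3409, 3486, 3784, 3820, 3916, 4180])) (.node (.leaf [48, 597, 704, 1286, 1394, 1974, 2288, 2631, 2933, 3305, 3401, 4294, 4332]) (.leaf [61, 87, 316, 596, 603, 893, 1064, 2191, 2268, 3011, 3054, 4278, 4334])))) (.node (.node (.node (.node (.leaf [541, 644, 794, 1045, 1123, 1146, 1377, 1850, 2166, 2227, 3196, 4090, 4236]) (.leaf [619, 693, 1105, 1110, 1423, 1579, 1634, 1760, 2187, 2478, 2503, 3396, 3719])) (.leaf [226, 340, 612, 992, 1605, 1703,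 1853, 2040, 3079, 3670, 3986, 4130, 4242])) (.node (.leaf [899, 1315, 1393, 1396, 1526, 2329, 2559, 2899, 3256, 3571, 3840, 3996, 4376]) (.leaf [697, 905, 1021, 1071, 1642, 1884, 2342, 2974, 3059, 3346, 3364, 3610, 3839]))) (.node (.node (.leaf [262, 727, 756, 834, 1116, 1157, 2234, 2418, 2540, 2611, 3090, 4064, 4205]) (.leaf [286, 423, 1006, 1121, 1909, 1974, 2342, 2388, 2550, 2641, 2694, 3074, 3304])) (.node (.leaf [173, 1295, 1424, 1513, 1639, 1982, 2068, 2376, 2598, 2611, 2623, 2687, 3592]) (.leaf [211, 370, 1100, 1211, 1226, 1260, 1917, 2637, 2933, 3063, 3114, 3289, 3595])))))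

def nbr1124 : Janko.Tree (List ℕ) :=
  (.node (.node (.node (.node (.node (.leaf [228, 448, 815, 967, 1037, 1578, 1981, 3431, 3560, 3590, 3873, 3985, 4277]) (.leaf [281, 593, 1400, 1971, 2646, 2702, 3180, 3258, 3318, 3595, 3795, 3802, 3806])) (.leaf [43, 863, 1563, 2557, 2589, 2778, 2836, 2918, 3049, 3125, 3569, 3995, 4477])) (.node (.leaf [306, 758, 1168, 1498, 1682, 2116, 2979, 3344, 3426, 3464, 3932, 4112, 4464]) (.leaf [119, 372, 562, 763, 1008, 1013, 1526, 1829, 3256, 3338, 3606, 3665, 4289]))) (.node (.node (.leaf [888, 1307, 1412, 1566, 1959, 2045, 2402, 2516, 2553, 2866, 4080, 4212, 4287]) (.leaf [79, 374, 508, 1397, 1941, 2249, 2508, 3118, 3410, 3447, 3453, 3842, 4038])) (.node (.leaf [467, 509, 709, 1135, 1393, 1608, 1998, 2295, 2511, 2558, 3481, 3652, 3757]) (.leaf [319, 381, 955, 1067, 1800, 1961, 2133, 2805, 3057, 3178, 4166, 4245, 4395])))) (.node (.node (.node (.node (.leaf [21, 398, 542, 881, 937, 1046, 1968, 2073, 2212, 2581, 2911, 3236, 3978]) (.leaf [112, 439, 454, 695, 1183, 2313, 2532, 3170, 3200, 3432, 3773, 4017, 4199])) (.leaf [344, 502, 759, 1121, 1246, 1803,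 2733, 2757, 2979, 3650, 3700, 4202, 4286])) (.node (.leaf [994, 1096, 1388, 1501, 1678, 1692, 1960, 2327, 2848, 3163, 3984, 4095, 4333]) (.leaf [119, 317, 1022, 1628, 1778, 2345, 2413, 2965, 3291, 3349, 3751, 3754, 4278]))) (.node (.node (.leaf [18, 377, 397, 719, 934, 1611, 1967, 2070, 2211, 2644, 3146, 3235, 3421]) (.leaf [147, 245, 293, 634, 2043, 2109, 2661, 2851, 3207, 3240, 3252, 3334, 4207])) (.node (.leaf [83, 582, 798, 1426, 1806, 2097, 2218, 2547, 2970, 2983, 3146, 3643, 4444]) (.leaf [663, 1468, 1517, 1690, 2393, 2425, 2546, 2565, 2745, 3119, 3287, 3452, 3980])))))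

def nbr1125 : Janko.Tree (List ℕ) :=
  (.node (.node (.node (.node (.node (.leaf [229, 449, 814, 966, 1036, 1579, 1980, 3430, 3561, 3591, 3872, 3984, 4276]) (.leaf [280, 592, 1401, 1970, 2647, 2703, 3181, 3259, 3319, 3594, 3794, 3803, 3807])) (.leaf [42, 862, 1562, 2556, 2588, 2779, 2837, 2919, 3048, 3124, 3568, 3994, 4476])) (.node (.leaf [307, 759, 1169, 1499, 1683, 2117, 2978, 3345, 3427, 3465, 3933, 4113, 4465]) (.leaf [118, 373, 563, 762, 1009, 1012, 1527, 1828, 3257, 3339, 3607, 3664, 4288]))) (.node (.node (.leaf [889, 1306, 1413, 1567, 1958, 2044, 2403, 2517, 2552, 2867, 4081, 4213, 4286]) (.leaf [78, 375, 509, 1396, 1940, 2248, 2509, 3119, 3411, 3446, 3452, 3843, 4039])) (.node (.leaf [466, 508, 708, 1134, 1392, 1609, 1999, 2294, 2510, 2559, 3480, 3653, 3756]) (.leaf [318, 380, 954, 1066, 1801, 1960, 2132, 2804, 3056, 3179, 4167, 4244, 4394])))) (.node (.node (.node (.node (.leaf [20, 399, 543, 880, 936, 1047, 1969, 2072, 2213, 2580, 2910, 3237, 3979]) (.leaf [113, 438, 455, 694, 1182, 2312, 2533, 3171, 3201, 3433, 3772, 4016, 4198])) (.leaf [345, 503, 758, 1120, 1247, 1802,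 2732, 2756, 2978, 3651, 3701, 4203, 4287])) (.node (.leaf [995, 1097, 1389, 1500, 1679, 1693, 1961, 2326, 2849, 3162, 3985, 4094, 4332]) (.leaf [118, 316, 1023, 1629, 1779, 2344, 2412, 2964, 3290, 3348, 3750, 3755, 4279]))) (.node (.node (.leaf [19, 376, 396, 718, 935, 1610, 1966, 2071, 2210, 2645, 3147, 3234, 3420]) (.leaf [146, 244, 292, 635, 2042, 2108, 2660, 2850, 3206, 3241, 3253, 3335, 4206])) (.node (.leaf [82, 583, 799, 1427, 1807, 2096, 2219, 2546, 2971, 2982, 3147, 3642, 4445]) (.leaf [662, 1469, 1516, 1691, 2392, 2424, 2547, 2564, 2744, 3118, 3286, 3453, 3981])))))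

def nbr1126 : Janko.Tree (List ℕ) :=
  (.node (.node (.node (.node (.node (.leaf [45, 230, 1565, 1803, 1852, 2311, 3010, 3370, 3997, 4086, 4296, 4309, 4393]) (.leaf [710, 1260, 1290, 1652, 1854, 1946, 2088, 2636, 2697, 2749, 2852, 3799, 3993])) (.leaf [683, 1654, 2737, 2957, 3127, 3145, 3663, 3673, 3822, 3935, 3953, 4012, 4397])) (.node (.leaf [71, 1267, 1316, 1428, 1531, 1870, 2225, 2447, 3334, 3604, 3711, 3804, 4384]) (.leaf [121, 235, 593, 885, 1010, 1088, 1355, 1781, 2278, 3319, 3776, 3927, 4185]))) (.node (.node (.leaf [890, 995, 1309, 1416, 1774, 2340, 2394, 2775, 2912, 3215, 3499, 4139, 4214]) (.leaf [54, 294, 1617, 2059, 2282, 2309, 2512, 2740, 3236, 3494, 3629, 3921, 4343])) (.node (.leaf [109, 469, 619, 711, 1624, 1733, 2179, 2379, 2831, 3569, 3751, 3993, 4331]) (.leaf [151, 215, 631, 961, 1967, 2072, 2549, 2581, 3312, 3406, 3467, 3511, 3931])))) (.node (.node (.node (.node (.leaf [392, 883, 1048, 1126, 1408, 1421, 1504, 1607, 2199, 2230, 2257, 2507, 4383]) (.leaf [21, 592, 1081, 1101, 1210, 1400, 2072, 2291, 2800, 3310, 3916, 3926, 4097])) (.leaf [504, 721, 959, 1248, 1553,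 1692, 1997, 3353, 3674, 3794, 4138, 4204, 4333])) (.node (.leaf [483, 939, 996, 1694, 1962, 2150, 2615, 2844, 3103, 3176, 3698, 3757, 4347]) (.leaf [567, 1429, 1536, 2961, 2975, 2991, 3013, 3346, 3514, 3657, 4280, 4340, 4413]))) (.node (.node (.leaf [100, 289, 1162, 1327, 1593, 1813, 1873, 2103, 2331, 2384, 2987, 4042, 4070]) (.leaf [635, 1051, 1123, 1690, 1830, 1851, 1946, 1952, 2424, 2857, 3335, 4358, 4446])) (.node (.leaf [659, 911, 1293, 1629, 2373, 2578, 2829, 3052, 3065, 3942, 4241, 4299, 4418]) (.leaf [111, 453, 476, 1350, 1519, 1846, 3121, 3251, 3355, 3506, 3575, 3579, 4158])))))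

def nbr1127 : Janko.Tree (List ℕ) :=
  (.node (.node (.node (.node (.node (.leaf [44, 231, 1564, 1802, 1853, 2310, 3011, 3371, 3996, 4087, 4297, 4308, 4392]) (.leaf [711, 1261, 1291, 1653, 1855, 1947, 2089, 2637, 2696, 2748, 2853, 3798, 3992])) (.leaf [682, 1655, 2736, 2956, 3126, 3144, 3662, 3672, 3823, 3934, 3952, 4013, 4396])) (.node (.leaf [70, 1266, 1317, 1429, 1530, 1871, 2224, 2446, 3335, 3605, 3710, 3805, 4385]) (.leaf [120, 234, 592, 884, 1011, 1089, 1354, 1780, 2279, 3318, 3777, 3926, 4184]))) (.node (.node (.leaf [891, 994, 1308, 1417, 1775, 2341, 2395, 2774, 2913, 3214, 3498, 4138, 4215]) (.leaf [55, 295, 1616, 2058, 2283, 2308, 2513, 2741, 3237, 3495, 3628, 3920, 4342])) (.node (.leaf [108, 468, 618, 710, 1625, 1732, 2178, 2378, 2830, 3568, 3750, 3992, 4330]) (.leaf [150, 214, 630, 960, 1966, 2073, 2548, 2580, 3313, 3407, 3466, 3510, 3930])))) (.node (.node (.node (.node (.leaf [393, 882, 1049, 1127, 1409, 1420, 1505, 1606, 2198, 2231, 2256, 2506, 4382]) (.leaf [20, 593, 1080, 1100, 1211, 1401, 2073, 2290, 2801, 3311, 3917, 3927, 4096])) (.leaf [505, 720, 958, 1249, 1552,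 1693, 1996, 3352, 3675, 3795, 4139, 4205, 4332])) (.node (.leaf [482, 938, 997, 1695, 1963, 2151, 2614, 2845, 3102, 3177, 3699, 3756, 4346]) (.leaf [566, 1428, 1537, 2960, 2974, 2990, 3012, 3347, 3515, 3656, 4281, 4341, 4412]))) (.node (.node (.leaf [101, 288, 1163, 1326, 1592, 1812, 1872, 2102, 2330, 2385, 2986, 4043, 4071]) (.leaf [634, 1050, 1122, 1691, 1831, 1850, 1947, 1953, 2425, 2856, 3334, 4359, 4447])) (.node (.leaf [658, 910, 1292, 1628, 2372, 2579, 2828, 3053, 3064, 3943, 4240, 4298, 4419]) (.leaf [110, 452, 477, 1351, 1518, 1847, 3120, 3250, 3354, 3507, 3574, 3578, 4159])))))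

def nbr1128 : Janko.Tree (List ℕ) :=
  (.node (.node (.node (.node (.node (.leaf [30, 232, 983, 1155, 1553, 1819, 1874, 2083, 2177, 2805, 4088, 4367, 4417]) (.leaf [382, 645, 1711, 1850, 1867, 1915, 2700, 3000, 3558, 3702, 3714, 3758, 3865])) (.leaf [365, 722, 1363, 1639, 1813, 1872, 2122, 2453, 2481, 2586, 2598, 3203, 3886])) (.node (.leaf [73, 1269, 1318, 1631, 1906, 1944, 2366, 2634, 2850, 3241, 3302, 3666, 3669]) (.leaf [44, 537, 974, 1040, 1238, 1451, 2174, 2259, 2549, 2838, 3186, 3407, 3969]))) (.node (.node (.leaf [355, 1311, 1568, 2204, 2934, 3297, 3458, 3678, 3741, 3775, 3936, 4310, 4377]) (.leaf [326, 551, 729, 969, 1103, 1597, 1682, 2004, 2116, 3023, 3325, 3567, 4445])) (.node (.leaf [185, 189, 353, 1214, 1588, 1803, 2181, 2833, 2869, 2895, 3529, 3753, 4209]) (.leaf [205, 319, 446, 814, 965, 1190, 2459, 2541, 2564, 2835, 3213, 3219, 3846])))) (.node (.node (.node (.leaf [212, 254, 544, 663, 997, 2066, 2124, 2230, 2643, 2767, 2824, 3583, 4265]) (.leaf [358, 854, 1734, 1768, 2237, 2783, 2928, 3131, 3531, 3676, 3706, 3999, 4056])) (.node (.leaf [864, 960, 1369, 1503, 1645,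 1964, 2020, 2323, 2793, 3107, 3312, 4257, 4397]) (.leaf [262, 843, 911, 1116, 1529, 1619, 2284, 2579, 3205, 3675, 3729, 3847, 4060]))) (.node (.node (.leaf [82, 291, 842, 1085, 1139, 1329, 1821, 2105, 2167, 2218, 2738, 3632, 3977]) (.leaf [605, 954, 1079, 1346, 1408, 1692, 3138, 3199, 3244, 3337, 3898, 4310, 4381])) (.node (.leaf [565, 661, 1295, 1890, 2008, 2346, 2375, 2699, 2921, 2949, 3067, 3298, 4155]) (.leaf [1381, 1551, 1642, 1745, 1755, 2024, 2075, 2531, 2676, 2798, 3026, 4082, 4240])))))

def nbr1129 : Janko.Tree (List ℕ) :=
  (.node (.node (.node (.node (.node (.leaf [31, 233, 982, 1154, 1552, 1818, 1875, 2082, 2176, 2804, 4089, 4366, 4416]) (.leaf [383, 644, 1710, 1851, 1866, 1914, 2701, 3001, 3559, 3703, 3715, 3759, 3864])) (.leaf [364, 723, 1362, 1638, 1812, 1873, 2123, 2452, 2480, 2587, 2599, 3202, 3887])) (.node (.leaf [72, 1268, 1319, 1630, 1907, 1945, 2367, 2635, 2851, 3240, 3303, 3667, 3668]) (.leaf [45, 536, 975, 1041, 1239, 1450, 2175, 2258, 2548, 2839, 3187, 3406, 3968]))) (.node (.node (.leaf [354, 1310, 1569, 2205, 2935, 3296, 3459, 3679, 3740, 3774, 3937, 4311,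 4376]) (.leaf [327, 550, 728, 968, 1102, 1596, 1683, 2005, 2117, 3022, 3324, 3566, 4444])) (.node (.leaf [184, 188, 352, 1215, 1589, 1802, 2180, 2832, 2868, 2894, 3528, 3752, 4208]) (.leaf [204, 318, 447, 815, 964, 1191, 2458, 2540, 2565, 2834, 3212, 3218, 3847])))) (.node (.node (.node (.leaf [213, 255, 545, 662, 996, 2067, 2125, 2231, 2642, 2766, 2825, 3582, 4264]) (.leaf [359, 855, 1735, 1769, 2236, 2782, 2929, 3130, 3530, 3677, 3707, 3998, 4057])) (.node (.leaf [865, 961, 1368, 1502, 1644, 1965, 2021, 2322, 2792, 3106, 3313, 4256, 4396]) (.leaf [263, 842, 910, 1117, 1528, 1618, 2285, 2578, 3204, 3674, 3728, 3846, 4061]))) (.node (.node (.leaf [83, 290, 843, 1084, 1138, 1328, 1820, 2104, 2166, 2219, 2739, 3633, 3976]) (.leaf [604, 955, 1078, 1347, 1409, 1693, 3139, 3198, 3245, 3336, 3899, 4311, 4380])) (.node (.leaf [564, 660, 1294, 1891, 2009, 2347, 2374, 2698, 2920, 2948, 3066, 3299, 4154]) (.leaf [1380, 1550, 1643, 1744, 1754, 2025, 2074, 2530, 2677, 2799, 3027, 4083, 4241])))))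

def nbr1130 : Janko.Tree (List ℕ) :=
  (.node (.node (.node (.node (.node (.leaf [234, 592, 805, 1686, 1874, 2055, 2330, 2442, 2560, 3875, 3892, 4238, 4329]) (.leaf [217, 563, 661, 1515, 1557, 1671, 2486, 2928, 3130, 3573, 3906, 3957, 3976])) (.leaf [965, 1236, 1598, 1641, 1764, 1842, 2172, 2483, 2514, 2690, 2843, 2945, 3219])) (.node (.leaf [315, 513, 1096, 1184, 1500, 1737, 1958, 2159, 2890, 3191, 3522, 3554, 3647]) (.leaf [15, 589, 933, 1209, 1497, 2136, 2206, 2763, 3030, 3188, 3233, 3271, 4248]))) (.node (.node (.leaf [872, 894, 905, 993, 1036, 1105, 1578, 1727, 1919, 3047, 3136, 3790, 3905]) (.leaf [61, 88, 1797, 1838, 1849, 1909, 2269, 2305, 2694, 2761, 3225, 3402, 3414])) (.node (.leaf [282, 445, 758, 1169, 1977, 2876, 2898, 2922, 3149, 3551, 3680, 3840, 3901]) (.leaf [63, 418, 769, 1026, 1288, 2461, 2491, 2492, 2543, 3354, 3931, 4049, 4192])))) (.node (.node (.node (.leaf [214, 476, 546, 676, 839, 1375, 1525, 1883, 2068, 2377, 3658, 3962, 4148]) (.leaf [420, 561, 1219, 1429, 1614, 1787, 1858, 1928, 2273, 2342, 2612, 2974, 4168])) (.node (.leaf [1097, 1146, 1858, 1966, 2273,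 2490, 2492, 2561, 2580, 3095, 3196, 3978, 4339]) (.leaf [101, 236, 258, 667, 1148, 1592, 2771, 2997, 3035, 3321, 3603, 3623, 3962]))) (.node (.node (.leaf [104, 305, 641, 1166, 1239, 1847, 1877, 2113, 2548, 2841, 2972, 3271, 4441]) (.leaf [607, 655, 956, 1006, 1009, 1081, 1348, 1694, 3140, 3339, 3612, 4314, 4451])) (.node (.leaf [272, 438, 680, 883, 1359, 1505, 1564, 1567, 2664, 2679, 2991, 3642, 4055]) (.leaf [162, 437, 699, 1838, 2745, 2787, 2820, 2880, 2936, 3017, 3304, 4060, 4200])))))

def nbr1131 : Janko.Tree (List ℕ) :=
  (.node (.node (.node (.node (.node (.leaf [235, 593, 804, 1687, 1875, 2054, 2331, 2443, 2561, 3874, 3893, 4239, 4328]) (.leaf [216, 562, 660, 1514, 1556, 1670, 2487, 2929, 3131, 3572, 3907, 3956, 3977])) (.leaf [964, 1237, 1599, 1640, 1765, 1843, 2173, 2482, 2515, 2691, 2842, 2944, 3218])) (.node (.leaf [314, 512, 1097, 1185, 1501, 1736, 1959, 2158, 2891, 3190, 3523, 3555, 3646]) (.leaf [14, 588, 932, 1208, 1496, 2137, 2207, 2762, 3031, 3189, 3232, 3270, 4249]))) (.node (.node (.leaf [873, 895, 904, 992, 1037, 1104, 1579, 1726, 1918, 3046, 3137, 3791, 3904])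 (.leaf [60, 89, 1796, 1839, 1848, 1908, 2268, 2304, 2695, 2760, 3224, 3403, 3415])) (.node (.leaf [283, 444, 759, 1168, 1976, 2877, 2899, 2923, 3148, 3550, 3681, 3841, 3900]) (.leaf [62, 419, 768, 1027, 1289, 2460, 2490, 2493, 2542, 3355, 3930, 4048, 4193])))) (.node (.node (.node (.leaf [215, 477, 547, 677, 838, 1374, 1524, 1882, 2069, 2376, 3659, 3963, 4149]) (.leaf [421, 560, 1218, 1428, 1615, 1786, 1859, 1929, 2272, 2343, 2613, 2975, 4169])) (.node (.leaf [1096, 1147, 1859, 1967, 2272, 2491, 2493, 2560, 2581, 3094, 3197, 3979, 4338]) (.leaf [100, 237, 259, 666, 1149, 1593, 2770, 2996, 3034, 3320, 3602, 3622, 3963]))) (.node (.node (.leaf [105, 304, 640, 1167, 1238, 1846, 1876, 2112, 2549, 2840, 2973, 3270, 4440]) (.leaf [606, 654, 957, 1007, 1008, 1080, 1349, 1695, 3141, 3338, 3613, 4315, 4450])) (.node (.leaf [273, 439, 681, 882, 1358, 1504, 1565, 1566, 2665, 2678, 2990, 3643, 4054]) (.leaf [163, 436, 698, 1839, 2744, 2786, 2821, 2881, 2937, 3016, 3305, 4061, 4201])))))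

def nbr1132 : Janko.Tree (List ℕ) :=
  (.node (.node (.node (.node (.node (.leaf [100, 236, 594, 807, 1876, 2591, 2617, 3375, 3468, 3633, 3877, 4200, 4322]) (.leaf [78, 714, 1229, 1265, 1611, 1920, 2248, 2353, 2808, 3049, 3216, 3858, 4369])) (.leaf [38, 126, 1262, 1627, 1643, 1966, 2485, 2491, 2516, 2947, 3110, 3538, 3931])) (.node (.leaf [482, 494, 734, 1186, 1670, 2150, 2300, 2304, 2774, 2799, 3175, 3193, 3907]) (.leaf [17, 445, 758, 1499, 1516, 1574, 2368, 2626, 2647, 2702, 3442, 3504, 4250]))) (.node (.node (.leaf [896, 947, 1107, 1181, 1404, 1580, 1629, 1921, 2854, 3021, 3049, 3835, 4419]) (.leaf [350, 452, 1552, 1846, 1954, 2139, 2169, 2177, 2394, 2855, 3418, 3855, 4138])) (.node (.leaf [198, 504, 1120, 2138, 2325, 2757, 2926, 3265, 3350, 3645, 3658, 3789, 4139]) (.leaf [129, 141, 269, 386, 521, 1005, 1060, 1990, 3540, 3625, 3802, 4000, 4437])))) (.node (.node (.node (.leaf [216, 548, 846, 1152, 2024, 2070, 2734, 3120, 3147, 3505, 3878, 4137, 4190]) (.leaf [340, 563, 1616, 1630, 1776, 1824, 2344, 2412, 2882, 2930, 3137, 3246, 4131])) (.node (.leaf [1148, 1408, 1505, 1968, 2151,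 2494, 2590, 2764, 3137, 3198, 3553, 3670, 4131]) (.leaf [4, 506, 1318, 1467, 1660, 2545, 2587, 3167, 3621, 3745, 3853, 3886, 4378]))) (.node (.node (.leaf [285, 374, 1082, 1141, 1320, 1382, 1470, 2411, 2603, 3124, 3370, 4063, 4106]) (.leaf [192, 960, 1083, 1265, 1350, 1373, 1383, 1762, 2062, 3142, 3341, 3467, 4027])) (.node (.leaf [208, 274, 422, 1121, 1154, 1417, 1507, 2666, 2681, 2817, 3644, 4203, 4371]) (.leaf [134, 571, 593, 806, 1492, 1780, 1985, 2566, 2661, 3408, 4128, 4285, 4329])))))

def nbr1133 : Janko.Tree (List ℕ) :=
  (.node (.node (.node (.node (.node (.leaf [101, 237, 595, 806, 1877, 2590, 2616, 3374, 3469, 3632, 3876, 4201, 4323]) (.leaf [79, 715, 1228, 1264, 1610, 1921, 2249, 2352, 2809, 3048, 3217, 3859, 4368])) (.leaf [39, 127, 1263, 1626, 1642, 1967, 2484, 2490, 2517, 2946, 3111, 3539, 3930])) (.node (.leaf [483, 495, 735, 1187, 1671, 2151, 2301, 2305, 2775, 2798, 3174, 3192, 3906]) (.leaf [16, 444, 759, 1498, 1517, 1575, 2369, 2627, 2646, 2703, 3443, 3505, 4251]))) (.node (.node (.leaf [897, 946, 1106, 1180, 1405, 1581, 1628, 1920, 2855, 3020, 3048, 3834, 4418])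 (.leaf [351, 453, 1553, 1847, 1955, 2138, 2168, 2176, 2395, 2854, 3419, 3854, 4139])) (.node (.leaf [199, 505, 1121, 2139, 2324, 2756, 2927, 3264, 3351, 3644, 3659, 3788, 4138]) (.leaf [128, 140, 268, 387, 520, 1004, 1061, 1991, 3541, 3624, 3803, 4001, 4436])))) (.node (.node (.node (.leaf [217, 549, 847, 1153, 2025, 2071, 2735, 3121, 3146, 3504, 3879, 4136, 4191]) (.leaf [341, 562, 1617, 1631, 1777, 1825, 2345, 2413, 2883, 2931, 3136, 3247, 4130])) (.node (.leaf [1149, 1409, 1504, 1969, 2150, 2495, 2591, 2765, 3136, 3199, 3552, 3671, 4130]) (.leaf [5, 507, 1319, 1466, 1661, 2544, 2586, 3166, 3620, 3744, 3852, 3887, 4379]))) (.node (.node (.leaf [284, 375, 1083, 1140, 1321, 1383, 1471, 2410, 2602, 3125, 3371, 4062, 4107]) (.leaf [193, 961, 1082, 1264, 1351, 1372, 1382, 1763, 2063, 3143, 3340, 3466, 4026])) (.node (.leaf [209, 275, 423, 1120, 1155, 1416, 1506, 2667, 2680, 2816, 3645, 4202, 4370]) (.leaf [135, 570, 592, 807, 1493, 1781, 1984, 2567, 2660, 3409, 4129, 4284, 4328])))))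

def nbr1134 : Janko.Tree (List ℕ) :=
  (.node (.node (.node (.node (.node (.leaf [175, 238, 477, 1356, 1441, 1882, 2035, 2110, 2226, 2528, 2537, 3396, 3498]) (.leaf [803, 847, 1313, 1391, 1394, 1573, 1817, 2573, 3503, 3638, 3994, 4256, 4397])) (.leaf [281, 572, 583, 771, 1117, 1157, 1427, 2420, 2518, 2606, 2780, 3332, 3535])) (.node (.leaf [908, 957, 993, 1502, 1645, 1691, 1703, 2547, 3688, 3774, 3829, 4358, 4379]) (.leaf [478, 520, 850, 923, 2372, 2911, 3037, 3237, 3628, 3727, 3746, 4082, 4109]))) (.node (.node (.leaf [131, 387, 898, 1315, 1584, 1631, 1944, 1990, 2080, 2453, 2466, 2587, 3376]) (.leaf [454, 648, 870, 1182, 1554, 1789, 2200, 2396, 2574, 2759, 3383, 3393, 4163])) (.node (.leaf [234, 319, 1020, 1032, 1146, 1270, 1592, 2140, 2331, 3563, 3776, 3922, 4210]) (.leaf [154, 1061, 1180, 1653, 1871, 1921, 2600, 2625, 2706, 3228, 3576, 3799, 4001])))) (.node (.node (.node (.leaf [220, 550, 739, 1016, 1600, 1906, 2097, 3158, 3303, 3533, 3734, 3973, 4445]) (.leaf [650, 1138, 1681, 1896, 1924, 2422, 2506, 2934, 3129, 3206, 3285, 4049, 4383])) (.node (.leaf [882, 1098, 1359, 1830,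 1970, 2198, 2514, 2582, 2730, 3180, 3730, 3866, 4461]) (.leaf [109, 433, 1244, 1536, 1733, 1798, 2143, 2261, 2365, 2555, 2589, 3080, 4245]))) (.node (.node (.leaf [79, 287, 376, 662, 753, 866, 1384, 1819, 3119, 3323, 3420, 4161, 4308]) (.leaf [194, 213, 694, 752, 1237, 1342, 1385, 1764, 2064, 2643, 3144, 3343, 4012])) (.node (.leaf [276, 440, 458, 556, 647, 1509, 1569, 1715, 1871, 2624, 2683, 2738, 3943]) (.leaf [136, 595, 817, 1410, 1494, 1987, 2042, 2455, 2568, 2815, 3273, 3375, 4463])))))

def nbr1135 : Janko.Tree (List ℕ) :=
  (.node (.node (.node (.node (.node (.leaf [174, 239, 476, 1357, 1440, 1883, 2034, 2111, 2227, 2529, 2536, 3397, 3499]) (.leaf [802, 846, 1312, 1390, 1395, 1572, 1816, 2572, 3502, 3639, 3995, 4257, 4396])) (.leaf [280, 573, 582, 770, 1116, 1156, 1426, 2421, 2519, 2607, 2781, 3333, 3534])) (.node (.leaf [909, 956, 992, 1503, 1644, 1690, 1702, 2546, 3689, 3775, 3828, 4359, 4378]) (.leaf [479, 521, 851, 922, 2373, 2910, 3036, 3236, 3629, 3726, 3747, 4083, 4108]))) (.node (.node (.leaf [130, 386, 899, 1314, 1585, 1630, 1945, 1991, 2081, 2452, 2467, 2586, 3377])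 (.leaf [455, 649, 871, 1183, 1555, 1788, 2201, 2397, 2575, 2758, 3382, 3392, 4162])) (.node (.leaf [235, 318, 1021, 1033, 1147, 1271, 1593, 2141, 2330, 3562, 3777, 3923, 4211]) (.leaf [155, 1060, 1181, 1652, 1870, 1920, 2601, 2624, 2707, 3229, 3577, 3798, 4000])))) (.node (.node (.node (.leaf [221, 551, 738, 1017, 1601, 1907, 2096, 3159, 3302, 3532, 3735, 3972, 4444]) (.leaf [651, 1139, 1680, 1897, 1925, 2423, 2507, 2935, 3128, 3207, 3284, 4048, 4382])) (.node (.leaf [883, 1099, 1358, 1831, 1971, 2199, 2515, 2583, 2731, 3181, 3731, 3867, 4460]) (.leaf [108, 432, 1245, 1537, 1732, 1799, 2142, 2260, 2364, 2554, 2588, 3081, 4244]))) (.node (.node (.leaf [78, 286, 377, 663, 752, 867, 1385, 1818, 3118, 3322, 3421, 4160, 4309]) (.leaf [195, 212, 695, 753, 1236, 1343, 1384, 1765, 2065, 2642, 3145, 3342, 4013])) (.node (.leaf [277, 441, 459, 557, 646, 1508, 1568, 1714, 1870, 2625, 2682, 2739, 3942]) (.leaf [137, 594, 816, 1411, 1495, 1986, 2043, 2454, 2569, 2814, 3272, 3374, 4462])))))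

def nbr1136 : Janko.Tree (List ℕ) :=
  (.node (.node (.node (.node (.node (.leaf [240, 251, 439, 1018, 1358, 1360, 1708, 2112, 2228, 2875, 3373, 3398, 4325]) (.leaf [5, 843, 932, 1138, 1274, 1611, 2001, 2563, 2695, 3234, 3792, 4114, 4170])) (.leaf [6, 283, 574, 1119, 1429, 1610, 1988, 2520, 2608, 2782, 3050, 3334, 3706])) (.node (.leaf [734, 1058, 1716, 2119, 2403, 2517, 2847, 2933, 3115, 3171, 3772, 4246, 4459]) (.leaf [221, 480, 522, 852, 1253, 1607, 2256, 2374, 3630, 3748, 4004, 4084, 4414]))) (.node (.node (.leaf [443, 699, 802, 900, 1221, 1636, 1839, 1888, 2028, 2573, 3249, 3723, 4002]) (.leaf [204, 309, 318, 689, 1958, 2141, 2271, 2400, 2761, 2859, 3191, 3395, 3418])) (.node (.leaf [516, 1031, 1067, 2125, 2169, 2194, 2824, 3106, 3309, 3431, 3639, 3716, 4257]) (.leaf [11, 1357, 1480, 1655, 1739, 1762, 1932, 2367, 2450, 2736, 3230, 4398, 4420])))) (.node (.node (.node (.leaf [224, 552, 743, 1629, 1849, 2211, 2854, 2940, 2952, 2976, 3064, 3727, 4202]) (.leaf [268, 632, 1140, 1898, 2106, 2424, 2579, 2857, 2959, 2961, 3208, 3287, 4373])) (.node (.leaf [684, 900, 967, 1014, 1173,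 1464, 1579, 1818, 2003, 2627, 2737, 3860, 4397]) (.leaf [337, 437, 870, 1005, 1459, 1870, 2446, 2458, 2681, 2821, 3392, 3641, 4446]))) (.node (.node (.leaf [27, 294, 491, 791, 1311, 1849, 1955, 2044, 2537, 3038, 3083, 3225, 4212]) (.leaf [33, 511, 708, 981, 1395, 1696, 2890, 3164, 3294, 3822, 3951, 4037, 4397])) (.node (.leaf [15, 383, 514, 960, 978, 1422, 1790, 1963, 2592, 3800, 4026, 4315, 4347]) (.leaf [250, 411, 1546, 1559, 2112, 2128, 2348, 2437, 2846, 3101, 3442, 3623, 4246])))))

def nbr1137 : Janko.Tree (List ℕ) :=
  (.node (.node (.node (.node (.node (.leaf [241, 250, 438, 1019, 1359, 1361, 1709, 2113, 2229, 2874, 3372, 3399, 4324]) (.leaf [4, 842, 933, 1139, 1275, 1610, 2000, 2562, 2694, 3235, 3793, 4115, 4171])) (.leaf [7, 282, 575, 1118, 1428, 1611, 1989, 2521, 2609, 2783, 3051, 3335, 3707])) (.node (.leaf [735, 1059, 1717, 2118, 2402, 2516, 2846, 2932, 3114, 3170, 3773, 4247, 4458]) (.leaf [220, 481, 523, 853, 1252, 1606, 2257, 2375, 3631, 3749, 4005, 4085, 4415]))) (.node (.node (.leaf [442, 698, 803, 901, 1220, 1637, 1838, 1889, 2029, 2572, 3248, 3722, 4003]) (.leaf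 [205, 308, 319, 688, 1959, 2140, 2270, 2401, 2760, 2858, 3190, 3394, 3419])) (.node (.leaf [517, 1030, 1066, 2124, 2168, 2195, 2825, 3107, 3308, 3430, 3638, 3717, 4256]) (.leaf [10, 1356, 1481, 1654, 1738, 1763, 1933, 2366, 2451, 2737, 3231, 4399, 4421])))) (.node (.node (.node (.leaf [225, 553, 742, 1628, 1848, 2210, 2855, 2941, 2953, 2977, 3065, 3726, 4203]) (.leaf [269, 633, 1141, 1899, 2107, 2425, 2578, 2856, 2958, 2960, 3209, 3286, 4372])) (.node (.leaf [685, 901, 966, 1015, 1172, 1465, 1578, 1819, 2002, 2626, 2736, 3861, 4396]) (.leaf [336, 436, 871, 1004, 1458, 1871, 2447, 2459, 2680, 2820, 3393, 3640, 4447]))) (.node (.node (.leaf [26, 295, 490, 790, 1310, 1848, 1954, 2045, 2536, 3039, 3082, 3224, 4213]) (.leaf [32, 510, 709, 980, 1394, 1697, 2891, 3165, 3295, 3823, 3950, 4036, 4396])) (.node (.leaf [14, 382, 515, 961, 979, 1423, 1791, 1962, 2593, 3801, 4027, 4314, 4346]) (.leaf [251, 410, 1547, 1558, 2113, 2129, 2349, 2436, 2847, 3100, 3443, 3622, 4247])))))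

def nbr1138 : Janko.Tree (List ℕ) :=
  (.node (.node (.node (.node (.node (.leaf [242, 373, 467, 1213, 1999, 2184, 2206, 2428, 2752, 3714, 3759, 4249, 4375]) (.leaf [571, 845, 1047, 1140, 1517, 2003, 2541, 2565, 3139, 3236, 3244, 4132, 4327])) (.leaf [191, 629, 1106, 1142, 1152, 1416, 1424, 1459, 2070, 2210, 2394, 2680, 2854])) (.node (.leaf [51, 562, 784, 1504, 1716, 2031, 2689, 3137, 3360, 3432, 3534, 3680, 4458]) (.leaf [124, 353, 885, 1011, 1589, 1809, 1906, 2382, 3667, 3952, 4120, 4143, 4159]))) (.node (.node (.leaf [898, 902, 1012, 1513, 1638, 2027, 2121, 2453, 2592, 3256, 3918, 4002, 4269]) (.leaf [159, 475, 972, 1127, 1298, 1355, 1433, 1737, 2633, 2891, 3012, 3347, 4185])) (.node (.leaf [580, 1037, 1644, 1721, 2761, 3030, 3324, 3414, 3446, 3775, 4039, 4222, 4445]) (.leaf [38, 1017, 1091, 1518, 1601, 1691, 2030, 2404, 2454, 3110, 3651, 3856, 4007])))) (.node (.node (.node (.leaf [226, 554, 745, 1338, 1811, 1890, 2213, 2232, 2575, 2954, 3066, 4004, 4204]) (.leaf [206, 258, 666, 714, 739, 1459, 1622, 2249, 2392, 2944, 3159, 3452, 3537])) (.node (.leaf [138, 643, 669, 686, 902,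 1016, 1282, 1581, 1707, 3679, 3800, 4213, 4376]) (.leaf [4, 96, 208, 930, 1297, 1425, 2680, 3220, 3714, 3720, 4114, 4248, 4307]))) (.node (.node (.leaf [730, 776, 1092, 1324, 1659, 1769, 2030, 2935, 2999, 3072, 3110, 3681, 4382]) (.leaf [513, 925, 1039, 1060, 1397, 1698, 1720, 2300, 2984, 3459, 4039, 4376, 4479])) (.node (.leaf [21, 184, 427, 673, 936, 2179, 2531, 2799, 2934, 3208, 3857, 4311, 4385]) (.leaf [125, 958, 1106, 1367, 2254, 2261, 2321, 2569, 3088, 3353, 3390, 3721, 4472])))))

def nbr1139 : Janko.Tree (List ℕ) :=
  (.node (.node (.node (.node (.node (.leaf [243, 372, 466, 1212, 1998, 2185, 2207, 2429, 2753, 3715, 3758, 4248, 4374]) (.leaf [570, 844, 1046, 1141, 1516, 2002, 2540, 2564, 3138, 3237, 3245, 4133, 4326])) (.leaf [190, 628, 1107, 1143, 1153, 1417, 1425, 1458, 2071, 2211, 2395, 2681, 2855])) (.node (.leaf [50, 563, 785, 1505, 1717, 2030, 2688, 3136, 3361, 3433, 3535, 3681, 4459]) (.leaf [125, 352, 884, 1010, 1588, 1808, 1907, 2383, 3666, 3953, 4121, 4142, 4158]))) (.node (.node (.leaf [899, 903, 1013, 1512, 1639, 2026, 2120, 2452, 2593, 3257, 3919, 4003, 4268])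 (.leaf [158, 474, 973, 1126, 1299, 1354, 1432, 1736, 2632, 2890, 3013, 3346, 4184])) (.node (.leaf [581, 1036, 1645, 1720, 2760, 3031, 3325, 3415, 3447, 3774, 4038, 4223, 4444]) (.leaf [39, 1016, 1090, 1519, 1600, 1690, 2031, 2405, 2455, 3111, 3650, 3857, 4006])))) (.node (.node (.node (.leaf [227, 555, 744, 1339, 1810, 1891, 2212, 2233, 2574, 2955, 3067, 4005, 4205]) (.leaf [207, 259, 667, 715, 738, 1458, 1623, 2248, 2393, 2945, 3158, 3453, 3536])) (.node (.leaf [139, 642, 668, 687, 903, 1017, 1283, 1580, 1706, 3678, 3801, 4212, 4377]) (.leaf [5, 97, 209, 931, 1296, 1424, 2681, 3221, 3715, 3721, 4115, 4249, 4306]))) (.node (.node (.leaf [731, 777, 1093, 1325, 1658, 1768, 2031, 2934, 2998, 3073, 3111, 3680, 4383]) (.leaf [512, 924, 1038, 1061, 1396, 1699, 1721, 2301, 2985, 3458, 4038, 4377, 4478])) (.node (.leaf [20, 185, 426, 672, 937, 2178, 2530, 2798, 2935, 3209, 3856, 4310, 4384]) (.leaf [124, 959, 1107, 1366, 2255, 2260, 2320, 2568, 3089, 3352, 3391, 3720, 4473])))))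

def nbr1140 : Janko.Tree (List ℕ) :=
  (.node (.node (.node (.node (.node (.leaf [244, 551, 1089, 1446, 1574, 1977, 2430, 3184, 3609, 3882, 4040, 4251, 4272]) (.leaf [1019, 1054, 1067, 1533, 1712, 1832, 2318, 3201, 3214, 3486, 3784, 4349, 4395])) (.leaf [631, 1144, 1418, 1461, 1545, 1645, 1919, 2072, 2212, 2396, 2575, 2726, 4222])) (.node (.leaf [661, 1220, 1508, 1539, 1720, 1783, 1866, 2301, 2965, 3298, 3713, 3907, 4411]) (.leaf [132, 805, 824, 855, 1211, 1222, 1261, 1541, 1687, 1947, 2039, 2456, 3327]))) (.node (.node (.leaf [904, 1642, 1940, 1950, 2491, 2508, 2880, 2908, 2926, 3603, 4006, 4143, 4169]) (.leaf [143, 494, 974, 1131, 1300, 1352, 2142, 2220, 2301, 3349, 3388, 3965, 4081])) (.node (.leaf [684, 737, 788, 1660, 2129, 2146, 2163, 2321, 2538, 3117, 3132, 3684, 4320]) (.leaf [257, 834, 855, 1522, 1610, 1695, 1921, 2034, 2065, 2536, 2844, 3404, 3706])))) (.node (.node (.node (.leaf [556, 988, 998, 1317, 1637, 1898, 2148, 2480, 2779, 3202, 3888, 4056, 4321]) (.leaf [154, 180, 747, 1392, 1731, 2006, 2119, 2409, 2476, 2584, 2697, 3303, 3571])) (.node (.leaf [539, 1182, 1241,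 1497, 1786, 1934, 1993, 3031, 3077, 3343, 3432, 3810, 4434]) (.leaf [411, 584, 1102, 1269, 1276, 2108, 2164, 2376, 2417, 2521, 2851, 3465, 4266]))) (.node (.node (.leaf [53, 1326, 1575, 2429, 2829, 3177, 3223, 3330, 3392, 3512, 3945, 3951, 4353]) (.leaf [207, 233, 421, 789, 1509, 2033, 2063, 2338, 2625, 2735, 3046, 3158, 3940])) (.node (.leaf [76, 219, 979, 1013, 1344, 1507, 2093, 2317, 2592, 2911, 3645, 3659, 3665]) (.leaf [242, 252, 451, 862, 869, 1983, 2383, 2498, 3328, 3369, 3930, 3995, 4290])))))

def nbr1141 : Janko.Tree (List ℕ) :=
  (.node (.node (.node (.node (.node (.leaf [245, 550, 1088, 1447, 1575, 1976, 2431, 3185, 3608, 3883, 4041, 4250, 4273]) (.leaf [1018, 1055, 1066, 1532, 1713, 1833, 2319, 3200, 3215, 3487, 3785, 4348, 4394])) (.leaf [630, 1145, 1419, 1460, 1544, 1644, 1918, 2073, 2213, 2397, 2574, 2727, 4223])) (.node (.leaf [660, 1221, 1509, 1538, 1721, 1782, 1867, 2300, 2964, 3299, 3712, 3906, 4410]) (.leaf [133, 804, 825, 854, 1210, 1223, 1260, 1540, 1686, 1946, 2038, 2457, 3326]))) (.node (.node (.leaf [905, 1643, 1941, 1951, 2490, 2509, 2881, 2909, 2927, 3602,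 4007, 4142, 4168]) (.leaf [142, 495, 975, 1130, 1301, 1353, 2143, 2221, 2300, 3348, 3389, 3964, 4080])) (.node (.leaf [685, 736, 789, 1661, 2128, 2147, 2162, 2320, 2539, 3116, 3133, 3685, 4321]) (.leaf [256, 835, 854, 1523, 1611, 1694, 1920, 2035, 2064, 2537, 2845, 3405, 3707])))) (.node (.node (.node (.leaf [557, 989, 999, 1316, 1636, 1899, 2149, 2481, 2778, 3203, 3889, 4057, 4320]) (.leaf [155, 181, 746, 1393, 1730, 2007, 2118, 2408, 2477, 2585, 2696, 3302, 3570])) (.node (.leaf [538, 1183, 1240, 1496, 1787, 1935, 1992, 3030, 3076, 3342, 3433, 3811, 4435]) (.leaf [410, 585, 1103, 1268, 1277, 2109, 2165, 2377, 2416, 2520, 2850, 3464, 4267]))) (.node (.node (.leaf [52, 1327, 1574, 2428, 2828, 3176, 3222, 3331, 3393, 3513, 3944, 3950, 4352]) (.leaf [206, 232, 420, 788, 1508, 2032, 2062, 2339, 2624, 2734, 3047, 3159, 3941])) (.node (.leaf [77, 218, 978, 1012, 1345, 1506, 2092, 2316, 2593, 2910, 3644, 3658, 3664]) (.leaf [243, 253, 450, 863, 868, 1982, 2382, 2499, 3329, 3368, 3931, 3994, 4291])))))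

def nbr1142 : Janko.Tree (List ℕ) :=
  (.node (.node (.node (.node (.node (.leaf [246, 530, 835, 1922, 1995, 2001, 2620, 3739, 3793, 4042, 4064, 4090, 4373]) (.leaf [624, 954, 1224, 1248, 1692, 1766, 1801, 2306, 2898, 3473, 3571, 4019, 4345])) (.leaf [293, 428, 535, 635, 638, 1109, 1465, 1534, 2400, 2858, 3686, 4117, 4265])) (.node (.leaf [363, 859, 1078, 1510, 1722, 1785, 2452, 2872, 3000, 3132, 3684, 3715, 4374]) (.leaf [136, 472, 510, 998, 1044, 1691, 2085, 2099, 2299, 2454, 2545, 3620, 4102]))) (.node (.node (.leaf [377, 463, 1107, 1181, 1218, 1293, 2070, 2188, 2625, 2961, 3209, 4079, 4136]) (.leaf [24, 1042, 1240, 1449, 1809, 1955, 2536, 3514, 3584, 3813, 3902, 4340, 4434])) (.node (.leaf [686, 1075, 1250, 1662, 2148, 2165, 2323, 2392, 2489, 2744, 2945, 4023, 4217]) (.leaf [352, 387, 1156, 1217, 1236, 1255, 1857, 1912, 2063, 2085, 2852, 2873, 3046])))) (.node (.node (.node (.leaf [558, 688, 1000, 1319, 1639, 1646, 2860, 3093, 3166, 3204, 3394, 4022, 4392]) (.leaf [182, 749, 1082, 1762, 2443, 2678, 2712, 2940, 3526, 3541, 3875, 3992, 4055])) (.node (.leaf [248, 406, 469, 740,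 1124, 1196, 1243, 1347, 1665, 1788, 2791, 2946, 3337]) (.leaf [14, 348, 413, 586, 2697, 2853, 3262, 3270, 3293, 3661, 4104, 4243, 4440]))) (.node (.node (.leaf [1328, 1443, 1577, 2431, 2433, 2469, 2550, 3045, 3127, 3298, 4275, 4342, 4479]) (.leaf [211, 425, 1157, 1418, 1693, 1919, 2032, 2063, 2081, 3535, 4009, 4095, 4204])) (.node (.leaf [885, 1549, 1607, 1633, 1872, 1936, 2033, 2081, 2687, 2729, 3319, 3595, 4337]) (.leaf [432, 448, 769, 953, 1372, 1382, 1395, 2588, 2896, 3294, 3330, 3930, 3994])))))

def nbr1143 : Janko.Tree (List ℕ) :=
  (.node (.node (.node (.node (.node (.leaf [247, 531, 834, 1923, 1994, 2000, 2621, 3738, 3792, 4043, 4065, 4091, 4372]) (.leaf [625, 955, 1225, 1249, 1693, 1767, 1800, 2307, 2899, 3472, 3570, 4018, 4344])) (.leaf [292, 429, 534, 634, 639, 1108, 1464, 1535, 2401, 2859, 3687, 4116, 4264])) (.node (.leaf [362, 858, 1079, 1511, 1723, 1784, 2453, 2873, 3001, 3133, 3685, 3714, 4375]) (.leaf [137, 473, 511, 999, 1045, 1690, 2084, 2098, 2298, 2455, 2544, 3621, 4103]))) (.node (.node (.leaf [376, 462, 1106, 1180, 1219, 1292, 2071, 2189, 2624, 2960, 3208, 4078,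 4137]) (.leaf [25, 1043, 1241, 1448, 1808, 1954, 2537, 3515, 3585, 3812, 3903, 4341, 4435])) (.node (.leaf [687, 1074, 1251, 1663, 2149, 2164, 2322, 2393, 2488, 2745, 2944, 4022, 4216]) (.leaf [353, 386, 1157, 1216, 1237, 1254, 1856, 1913, 2062, 2084, 2853, 2872, 3047])))) (.node (.node (.node (.leaf [559, 689, 1001, 1318, 1638, 1647, 2861, 3092, 3167, 3205, 3395, 4023, 4393]) (.leaf [183, 748, 1083, 1763, 2442, 2679, 2713, 2941, 3527, 3540, 3874, 3993, 4054])) (.node (.leaf [249, 407, 468, 741, 1125, 1197, 1242, 1346, 1664, 1789, 2790, 2947, 3336]) (.leaf [15, 349, 412, 587, 2696, 2852, 3263, 3271, 3292, 3660, 4105, 4242, 4441]))) (.node (.node (.leaf [1329, 1442, 1576, 2430, 2432, 2468, 2551, 3044, 3126, 3299, 4274, 4343, 4478]) (.leaf [210, 424, 1156, 1419, 1692, 1918, 2033, 2062, 2080, 3534, 4008, 4094, 4205])) (.node (.leaf [884, 1548, 1606, 1632, 1873, 1937, 2032, 2080, 2686, 2728, 3318, 3594, 4336]) (.leaf [433, 449, 768, 952, 1373, 1383, 1394, 2589, 2897, 3295, 3331, 3931, 3995])))))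

def nbr1144 : Janko.Tree (List ℕ) :=
  (.node (.node (.node (.node (.node (.leaf [248, 837, 1139, 1346, 1456, 1924, 2003, 2462, 2622, 3019, 3138, 4032, 4183]) (.leaf [288, 695, 722, 752, 924, 1156, 1471, 1813, 1927, 2757, 2780, 3825, 4161])) (.leaf [119, 165, 178, 556, 998, 1009, 1427, 1668, 2522, 2862, 2989, 4304, 4454])) (.node (.leaf [46, 111, 400, 567, 840, 1491, 1814, 1952, 2629, 2995, 3069, 3268, 4171]) (.leaf [117, 163, 202, 337, 436, 2049, 2173, 2666, 2751, 3245, 4198, 4305, 4390]))) (.node (.node (.leaf [880, 906, 1295, 1357, 1644, 1738, 1777, 2072, 2963, 3022, 3917, 4180, 4445]) (.leaf [871, 1035, 1451, 2387, 3149, 3187, 3372, 3460, 3641, 3734, 3870, 4259, 4437])) (.node (.leaf [110, 433, 917, 1091, 1109, 1519, 2156, 2640, 2763, 2807, 3948, 4031, 4219]) (.leaf [67, 124, 1170, 1220, 1557, 2099, 2456, 3300, 3666, 3806, 3906, 4014, 4283])))) (.node (.node (.node (.leaf [560, 698, 1641, 2384, 3002, 3418, 3608, 3685, 3704, 3855, 4034, 4040, 4334]) (.leaf [50, 441, 686, 1340, 1887, 2576, 2581, 2944, 3293, 3368, 3433, 3930, 4417])) (.node (.leaf [189, 829, 1178, 1245, 1349, 1497,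 1625, 1733, 1790, 3191, 3339, 3811, 4026]) (.leaf [125, 173, 280, 638, 2042, 2320, 3251, 3273, 3378, 3380, 3806, 3914, 4102]))) (.node (.node (.leaf [623, 728, 878, 1103, 1122, 1188, 1330, 1834, 2202, 2217, 2332, 2411, 2499]) (.leaf [592, 885, 1211, 1514, 1687, 2028, 2122, 2427, 3098, 3594, 3886, 4003, 4452])) (.node (.leaf [73, 1003, 1268, 2109, 2319, 2626, 2737, 3084, 3140, 3443, 3662, 3979, 4423]) (.leaf [284, 287, 1813, 2001, 2410, 2652, 2692, 2706, 2765, 2878, 3399, 3420, 3553])))))

def nbr1145 : Janko.Tree (List ℕ) :=
  (.node (.node (.node (.node (.node (.leaf [249, 836, 1138, 1347, 1457, 1925, 2002, 2463, 2623, 3018, 3139, 4033, 4182]) (.leaf [289, 694, 723, 753, 925, 1157, 1470, 1812, 1926, 2756, 2781, 3824, 4160])) (.leaf [118, 164, 179, 557, 999, 1008, 1426, 1669, 2523, 2863, 2988, 4305, 4455])) (.node (.leaf [47, 110, 401, 566, 841, 1490, 1815, 1953, 2628, 2994, 3068, 3269, 4170]) (.leaf [116, 162, 203, 336, 437, 2048, 2172, 2667, 2750, 3244, 4199, 4304, 4391]))) (.node (.node (.leaf [881, 907, 1294, 1356, 1645, 1739, 1776, 2073, 2962, 3023, 3916, 4181, 4444]) (.leaf [870,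 1034, 1450, 2386, 3148, 3186, 3373, 3461, 3640, 3735, 3871, 4258, 4436])) (.node (.leaf [111, 432, 916, 1090, 1108, 1518, 2157, 2641, 2762, 2806, 3949, 4030, 4218]) (.leaf [66, 125, 1171, 1221, 1556, 2098, 2457, 3301, 3667, 3807, 3907, 4015, 4282])))) (.node (.node (.node (.leaf [561, 699, 1640, 2385, 3003, 3419, 3609, 3684, 3705, 3854, 4035, 4041, 4335]) (.leaf [51, 440, 687, 1341, 1886, 2577, 2580, 2945, 3292, 3369, 3432, 3931, 4416])) (.node (.leaf [188, 828, 1179, 1244, 1348, 1496, 1624, 1732, 1791, 3190, 3338, 3810, 4027]) (.leaf [124, 172, 281, 639, 2043, 2321, 3250, 3272, 3379, 3381, 3807, 3915, 4103]))) (.node (.node (.leaf [622, 729, 879, 1102, 1123, 1189, 1331, 1835, 2203, 2216, 2333, 2410, 2498]) (.leaf [593, 884, 1210, 1515, 1686, 2029, 2123, 2426, 3099, 3595, 3887, 4002, 4453])) (.node (.leaf [72, 1002, 1269, 2108, 2318, 2627, 2736, 3085, 3141, 3442, 3663, 3978, 4422]) (.leaf [285, 286, 1812, 2000, 2411, 2653, 2693, 2707, 2764, 2879, 3398, 3421, 3552])))))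

def nbr1146 : Janko.Tree (List ℕ) :=
  (.node (.node (.node (.node (.node (.leaf [250, 531, 1477, 1936, 2048, 2449, 2904, 2999, 3390, 3972, 4055, 4363, 4430]) (.leaf [166, 361, 642, 686, 915, 940, 1251, 1838, 2921, 2936, 3913, 3918, 4002])) (.leaf [82, 182, 772, 977, 1651, 2244, 2421, 2524, 2866, 3643, 3860, 4012, 4015])) (.node (.leaf [58, 290, 475, 549, 550, 575, 1447, 1672, 1726, 1820, 3545, 3692, 3905]) (.leaf [75, 127, 339, 525, 654, 1879, 1941, 2525, 2983, 3221, 3643, 3787, 4008]))) (.node (.node (.leaf [43, 688, 908, 1411, 1476, 1489, 1646, 2836, 2865, 2971, 3375, 3689, 4360]) (.leaf [576, 945, 1097, 1717, 1959, 2369, 2788, 3055, 3442, 3491, 3725, 3978, 4246])) (.node (.leaf [92, 141, 387, 784, 1113, 1894, 1944, 2337, 2350, 2653, 2765, 3203, 3677]) (.leaf [535, 811, 867, 868, 964, 2103, 2458, 3092, 3328, 3958, 4087, 4309, 4443])))) (.node (.node (.node (.leaf [562, 617, 1013, 1643, 1697, 3238, 3383, 3426, 3610, 3977, 4163, 4216, 4244]) (.leaf [566, 777, 1079, 1399, 1815, 2011, 2293, 2570, 2583, 2700, 2950, 3001, 4156])) (.node (.leaf [38, 73, 215, 682, 685, 1185, 1484, 1737,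 2037, 2367, 2737, 2860, 3006]) (.leaf [52, 127, 640, 1446, 1642, 1884, 2589, 3330, 3602, 3875, 3882, 4045, 4244]))) (.node (.node (.leaf [79, 389, 464, 529, 1124, 1196, 1332, 1372, 1649, 2334, 2501, 4105, 4262]) (.leaf [594, 887, 1213, 1637, 2121, 2128, 2616, 2936, 3100, 3544, 3596, 4003, 4387])) (.node (.leaf [139, 349, 1005, 1409, 2131, 2604, 2696, 2749, 3445, 3679, 3925, 4310, 4318]) (.leaf [0, 555, 777, 1912, 2062, 2735, 3043, 3195, 3228, 3402, 3505, 4008, 4288])))))

def nbr1147 : Janko.Tree (List ℕ) :=
  (.node (.node (.node (.node (.node (.leaf [251, 530, 1476, 1937, 2049, 2448, 2905, 2998, 3391, 3973, 4054, 4362, 4431]) (.leaf [167, 360, 643, 687, 914, 941, 1250, 1839, 2920, 2937, 3912, 3919, 4003])) (.leaf [83, 183, 773, 976, 1650, 2245, 2420, 2525, 2867, 3642, 3861, 4013, 4014])) (.node (.leaf [59, 291, 474, 548, 551, 574, 1446, 1673, 1727, 1821, 3544, 3693, 3904]) (.leaf [74, 126, 338, 524, 655, 1878, 1940, 2524, 2982, 3220, 3642, 3786, 4009]))) (.node (.node (.leaf [42, 689, 909, 1410, 1477, 1488, 1647, 2837, 2864, 2970, 3374, 3688, 4361]) (.leaf [577, 944, 1096, 1716,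 1958, 2368, 2789, 3054, 3443, 3490, 3724, 3979, 4247])) (.node (.leaf [93, 140, 386, 785, 1112, 1895, 1945, 2336, 2351, 2652, 2764, 3202, 3676]) (.leaf [534, 810, 866, 869, 965, 2102, 2459, 3093, 3329, 3959, 4086, 4308, 4442])))) (.node (.node (.node (.leaf [563, 616, 1012, 1642, 1696, 3239, 3382, 3427, 3611, 3976, 4162, 4217, 4245]) (.leaf [567, 776, 1078, 1398, 1814, 2010, 2292, 2571, 2582, 2701, 2951, 3000, 4157])) (.node (.leaf [39, 72, 214, 683, 684, 1184, 1485, 1736, 2036, 2366, 2736, 2861, 3007]) (.leaf [53, 126, 641, 1447, 1643, 1885, 2588, 3331, 3603, 3874, 3883, 4044, 4245]))) (.node (.node (.leaf [78, 388, 465, 528, 1125, 1197, 1333, 1373, 1648, 2335, 2500, 4104, 4263]) (.leaf [595, 886, 1212, 1636, 2120, 2129, 2617, 2937, 3101, 3545, 3597, 4002, 4386])) (.node (.leaf [138, 348, 1004, 1408, 2130, 2605, 2697, 2748, 3444, 3678, 3924, 4311, 4319]) (.leaf [1, 554, 776, 1913, 2063, 2734, 3042, 3194, 3229, 3403, 3504, 4009, 4289])))))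

def nbr1148 : Janko.Tree (List ℕ) :=
  (.node (.node (.node (.node (.node (.leaf [160, 179, 252, 260, 541, 670, 1728, 2095, 2356, 2733, 2969, 3163, 4094]) (.leaf [206, 280, 650, 946, 1144, 1405, 1902, 1942, 2421, 2615, 3652, 3757, 4223])) (.leaf [203, 533, 728, 1031, 1556, 1814, 2126, 2456, 2615, 2751, 2790, 3475, 3638])) (.node (.leaf [60, 173, 281, 468, 1064, 1116, 1405, 1440, 1822, 2529, 2830, 3021, 3388]) (.leaf [105, 220, 309, 328, 726, 1166, 1795, 2375, 2540, 2941, 2952, 3247, 4119]))) (.node (.node (.leaf [45, 164, 366, 910, 1202, 1413, 1491, 1668, 2867, 3010, 3440, 3821, 3938]) (.leaf [267, 482, 657, 750, 1863, 2047, 2304, 2309, 2345, 3462, 3513, 3757, 4184])) (.node (.leaf [94, 437, 1115, 1946, 2152, 2284, 2752, 2767, 2803, 3205, 3326, 3425, 3514]) (.leaf [284, 869, 1471, 1635, 2105, 2460, 2490, 2651, 3094, 3396, 3932, 4089, 4367])))) (.node (.node (.node (.leaf [564, 1427, 1689, 2077, 2222, 2283, 2523, 2800, 3009, 3290, 3495, 3508, 4084]) (.leaf [206, 277, 505, 997, 1075, 2482, 2944, 2991, 3176, 3350, 3448, 3657, 4174])) (.node (.leaf [40, 494, 653, 687, 1187, 1445, 1486,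 1653, 1956, 2749, 2862, 3297, 3679]) (.leaf [129, 230, 316, 499, 1065, 1442, 3127, 3290, 3604, 3877, 3884, 4031, 4047]))) (.node (.node (.leaf [201, 398, 547, 578, 625, 1040, 1178, 1374, 1800, 2114, 2369, 3338, 4403]) (.leaf [301, 985, 1019, 1215, 2235, 2380, 2500, 2833, 2879, 3398, 3603, 4007, 4386])) (.node (.leaf [245, 933, 955, 1688, 2109, 2164, 2627, 2628, 2747, 2762, 2874, 3069, 4251]) (.leaf [590, 604, 765, 1391, 1795, 2169, 2434, 2495, 2722, 2951, 3198, 3308, 4428])))))

def nbr1149 : Janko.Tree (List ℕ) :=
  (.node (.node (.node (.node (.node (.leaf [161, 178, 253, 261, 540, 671, 1729, 2094, 2357, 2732, 2968, 3162, 4095]) (.leaf [207, 281, 651, 947, 1145, 1404, 1903, 1943, 2420, 2614, 3653, 3756, 4222])) (.leaf [202, 532, 729, 1030, 1557, 1815, 2127, 2457, 2614, 2750, 2791, 3474, 3639])) (.node (.leaf [61, 172, 280, 469, 1065, 1117, 1404, 1441, 1823, 2528, 2831, 3020, 3389]) (.leaf [104, 221, 308, 329, 727, 1167, 1794, 2374, 2541, 2940, 2953, 3246, 4118]))) (.node (.node (.leaf [44, 165, 367, 911, 1203, 1412, 1490, 1669, 2866, 3011, 3441, 3820, 3939]) (.leaf [266, 483, 656,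 751, 1862, 2046, 2305, 2308, 2344, 3463, 3512, 3756, 4185])) (.node (.leaf [95, 436, 1114, 1947, 2153, 2285, 2753, 2766, 2802, 3204, 3327, 3424, 3515]) (.leaf [285, 868, 1470, 1634, 2104, 2461, 2491, 2650, 3095, 3397, 3933, 4088, 4366])))) (.node (.node (.node (.leaf [565, 1426, 1688, 2076, 2223, 2282, 2522, 2801, 3008, 3291, 3494, 3509, 4085]) (.leaf [207, 276, 504, 996, 1074, 2483, 2945, 2990, 3177, 3351, 3449, 3656, 4175])) (.node (.leaf [41, 495, 652, 686, 1186, 1444, 1487, 1652, 1957, 2748, 2863, 3296, 3678]) (.leaf [128, 231, 317, 498, 1064, 1443, 3126, 3291, 3605, 3876, 3885, 4030, 4046]))) (.node (.node (.leaf [200, 399, 546, 579, 624, 1041, 1179, 1375, 1801, 2115, 2368, 3339, 4402]) (.leaf [300, 984, 1018, 1214, 2234, 2381, 2501, 2832, 2878, 3399, 3602, 4006, 4387])) (.node (.leaf [244, 932, 954, 1689, 2108, 2165, 2626, 2629, 2746, 2763, 2875, 3068, 4250]) (.leaf [591, 605, 764, 1390, 1794, 2168, 2435, 2494, 2723, 2950, 3199, 3309, 4429])))))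

def nbr1150 : Janko.Tree (List ℕ) :=
  (.node (.node (.node (.node (.node (.leaf [106, 162, 254, 2097, 2358, 2845, 2971, 3075, 3103, 3304, 3518, 3805, 4333]) (.leaf [407, 610, 691, 801, 1053, 1447, 1620, 2057, 2220, 3165, 3471, 3829, 4474])) (.leaf [734, 787, 1017, 1514, 1785, 1867, 2280, 2405, 2463, 3063, 3114, 3158, 3906])) (.node (.leaf [179, 266, 540, 1165, 1563, 1802, 2180, 2668, 2779, 2989, 3019, 3701, 4356]) (.leaf [132, 224, 313, 432, 676, 1059, 1934, 2011, 2156, 2302, 3187, 3249, 3461]))) (.node (.node (.leaf [657, 680, 748, 1648, 1742, 1862, 1892, 2120, 2137, 2363, 2999, 3053, 4055]) (.leaf [288, 484, 726, 1128, 1331, 1415, 2103, 2245, 2306, 3473, 3564, 3964, 4274])) (.node (.leaf [307, 498, 973, 1183, 1241, 1843, 2154, 2633, 2974, 3210, 3442, 3572, 3719]) (.leaf [375, 419, 515, 717, 1156, 1237, 1471, 1791, 2590, 2716, 2813, 3517, 3796])))) (.node (.node (.node (.leaf [566, 877, 1045, 1123, 1429, 1691, 2067, 2224, 3359, 3497, 3857, 4168, 4459]) (.leaf [210, 1020, 1159, 1224, 1527, 1532, 1794, 2950, 3112, 3571, 3593, 3665, 4211])) (.node (.leaf [51, 194, 415, 515, 1977, 2345,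 2591, 2899, 3137, 3194, 3561, 3755, 4315]) (.leaf [133, 227, 1405, 1613, 1706, 2046, 2309, 2441, 2513, 2602, 3039, 4213, 4287]))) (.node (.node (.leaf [46, 627, 1042, 1126, 1163, 1376, 1797, 2371, 2555, 2993, 3225, 4185, 4474]) (.leaf [357, 396, 607, 823, 1153, 1900, 2362, 3053, 3147, 3189, 4150, 4241, 4354])) (.node (.leaf [138, 349, 444, 597, 957, 1516, 1690, 2240, 2630, 2876, 3071, 3293, 3651]) (.leaf [3, 681, 856, 1169, 1422, 2090, 2679, 3148, 3372, 3713, 3719, 4113, 4390])))))

def nbr1151 : Janko.Tree (List ℕ) :=
  (.node (.node (.node (.node (.node (.leaf [107, 163, 255, 2096, 2359, 2844, 2970, 3074, 3102, 3305, 3519, 3804, 4332]) (.leaf [406, 611, 690, 800, 1052, 1446, 1621, 2056, 2221, 3164, 3470, 3828, 4475])) (.leaf [735, 786, 1016, 1515, 1784, 1866, 2281, 2404, 2462, 3062, 3115, 3159, 3907])) (.node (.leaf [178, 267, 541, 1164, 1562, 1803, 2181, 2669, 2778, 2988, 3018, 3700, 4357]) (.leaf [133, 225, 312, 433, 677, 1058, 1935, 2010, 2157, 2303, 3186, 3248, 3460]))) (.node (.node (.leaf [656, 681, 749, 1649, 1743, 1863, 1893, 2121, 2136, 2362, 2998, 3052, 4054]) (.leaf [289,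 485, 727, 1129, 1330, 1414, 2102, 2244, 2307, 3472, 3565, 3965, 4275])) (.node (.leaf [306, 499, 972, 1182, 1240, 1842, 2155, 2632, 2975, 3211, 3443, 3573, 3718]) (.leaf [374, 418, 514, 716, 1157, 1236, 1470, 1790, 2591, 2717, 2812, 3516, 3797])))) (.node (.node (.node (.leaf [567, 876, 1044, 1122, 1428, 1690, 2066, 2225, 3358, 3496, 3856, 4169, 4458]) (.leaf [211, 1021, 1158, 1225, 1526, 1533, 1795, 2951, 3113, 3570, 3592, 3664, 4210])) (.node (.leaf [50, 195, 414, 514, 1976, 2344, 2590, 2898, 3136, 3195, 3560, 3754, 4314]) (.leaf [132, 226, 1404, 1612, 1707, 2047, 2308, 2440, 2512, 2603, 3038, 4212, 4286]))) (.node (.node (.leaf [47, 626, 1043, 1127, 1162, 1377, 1796, 2370, 2554, 2992, 3224, 4184, 4475]) (.leaf [356, 397, 606, 822, 1152, 1901, 2363, 3052, 3146, 3188, 4151, 4240, 4355])) (.node (.leaf [139, 348, 445, 596, 956, 1517, 1691, 2241, 2631, 2877, 3070, 3292, 3650]) (.leaf [2, 680, 857, 1168, 1423, 2091, 2678, 3149, 3373, 3712, 3718, 4112, 4391])))))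

def nbr1152 : Janko.Tree (List ℕ) :=
  (.node (.node (.node (.node (.node (.leaf [67, 256, 337, 372, 763, 1805, 2977, 3261, 3727, 3818, 3907, 4135, 4269]) (.leaf [162, 266, 902, 986, 1195, 1761, 2359, 2479, 2712, 3919, 4201, 4302, 4356])) (.leaf [533, 813, 1541, 1815, 2262, 2444, 2789, 2794, 3070, 3481, 3490, 3825, 4220])) (.node (.leaf [107, 958, 1129, 1167, 1537, 1552, 1565, 2991, 3689, 3805, 4358, 4392, 4473]) (.leaf [37, 65, 335, 378, 1235, 1281, 2407, 2871, 3035, 3340, 3784, 3859, 4369]))) (.node (.node (.leaf [384, 452, 910, 912, 1099, 1583, 1892, 2584, 2854, 3441, 3598, 3831, 4159]) (.leaf [36, 378, 486, 720, 1249, 1735, 2131, 2236, 3183, 3444, 3475, 4115, 4433])) (.node (.leaf [24, 249, 1243, 1797, 1827, 2010, 2156, 2497, 2570, 2635, 3369, 3453, 4161]) (.leaf [381, 723, 740, 1156, 1789, 2132, 2453, 2703, 2812, 2819, 2873, 3777, 4276])))) (.node (.node (.node (.leaf [568, 658, 666, 693, 1858, 2112, 2145, 2335, 2771, 3537, 3661, 4187, 4441]) (.leaf [648, 937, 1922, 1997, 2213, 2397, 2835, 2956, 3794, 3856, 3961, 4043, 4464])) (.node (.leaf [79, 142, 388, 519, 1131, 1134, 1358,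 1765, 1818, 2003, 2510, 2963, 3180]) (.leaf [153, 346, 648, 848, 1576, 1719, 1781, 2103, 2576, 3045, 3473, 3959, 4071]))) (.node (.node (.leaf [238, 629, 880, 1190, 1305, 1334, 1536, 1799, 2052, 2111, 2520, 2608, 3227]) (.leaf [1131, 1539, 1631, 2412, 2962, 3349, 3532, 3735, 3871, 4014, 4283, 4351, 4370])) (.node (.leaf [91, 820, 2324, 2533, 2638, 2683, 2751, 2791, 3245, 3336, 3512, 3521, 4313]) (.leaf [94, 289, 1087, 1127, 1354, 1697, 1878, 1927, 2072, 3220, 3833, 3927, 4217])))))

def nbr1153 : Janko.Tree (List ℕ) :=
  (.node (.node (.node (.node (.node (.leaf [66, 257, 336, 373, 762, 1804, 2976, 3260, 3726, 3819, 3906, 4134, 4268]) (.leaf [163, 267, 903, 987, 1194, 1760, 2358, 2478, 2713, 3918, 4200, 4303, 4357])) (.leaf [532, 812, 1540, 1814, 2263, 2445, 2788, 2795, 3071, 3480, 3491, 3824, 4221])) (.node (.leaf [106, 959, 1128, 1166, 1536, 1553, 1564, 2990, 3688, 3804, 4359, 4393, 4472]) (.leaf [36, 64, 334, 379, 1234, 1280, 2406, 2870, 3034, 3341, 3785, 3858, 4368]))) (.node (.node (.leaf [385, 453, 911, 913, 1098, 1582, 1893, 2585, 2855, 3440, 3599, 3830, 4158]) (.leaf [37, 379,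 487, 721, 1248, 1734, 2130, 2237, 3182, 3445, 3474, 4114, 4432])) (.node (.leaf [25, 248, 1242, 1796, 1826, 2011, 2157, 2496, 2571, 2634, 3368, 3452, 4160]) (.leaf [380, 722, 741, 1157, 1788, 2133, 2452, 2702, 2813, 2818, 2872, 3776, 4277])))) (.node (.node (.node (.leaf [569, 659, 667, 692, 1859, 2113, 2144, 2334, 2770, 3536, 3660, 4186, 4440]) (.leaf [649, 936, 1923, 1996, 2212, 2396, 2834, 2957, 3795, 3857, 3960, 4042, 4465])) (.node (.leaf [78, 143, 389, 518, 1130, 1135, 1359, 1764, 1819, 2002, 2511, 2962, 3181]) (.leaf [152, 347, 649, 849, 1577, 1718, 1780, 2102, 2577, 3044, 3472, 3958, 4070]))) (.node (.node (.leaf [239, 628, 881, 1191, 1304, 1335, 1537, 1798, 2053, 2110, 2521, 2609, 3226]) (.leaf [1130, 1538, 1630, 2413, 2963, 3348, 3533, 3734, 3870, 4015, 4282, 4350, 4371])) (.node (.leaf [90, 821, 2325, 2532, 2639, 2682, 2750, 2790, 3244, 3337, 3513, 3520, 4312]) (.leaf [95, 288, 1086, 1126, 1355, 1696, 1879, 1926, 2073, 3221, 3832, 3926, 4216])))))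

def nbr1154 : Janko.Tree (List ℕ) :=
  (.node (.node (.node (.node (.node (.leaf [69, 258, 339, 470, 1088, 1339, 1355, 2638, 3132, 3150, 4004, 4127, 4453]) (.leaf [524, 977, 988, 1129, 1475, 1845, 2427, 2481, 3081, 3887, 4233, 4380, 4473])) (.leaf [746, 777, 929, 1497, 1624, 1651, 1658, 1710, 2700, 3183, 3424, 3980, 4178])) (.node (.leaf [275, 416, 561, 615, 745, 1287, 2077, 2272, 2580, 2674, 3359, 3579, 4219]) (.leaf [39, 513, 712, 1169, 1621, 1627, 1736, 3086, 3107, 3201, 3438, 3458, 3487]))) (.node (.node (.leaf [386, 454, 914, 1094, 1585, 1857, 2575, 2920, 3026, 3541, 3600, 4017, 4098]) (.leaf [417, 490, 752, 934, 1075, 1237, 1470, 2311, 2483, 2489, 2651, 3371, 4341])) (.node (.leaf [320, 1035, 1245, 1335, 1595, 1799, 1829, 1916, 2158, 2572, 2637, 3190, 3574]) (.leaf [325, 495, 686, 1017, 1329, 1785, 2253, 2432, 3616, 3640, 3734, 3913, 4370])))) (.node (.node (.node (.leaf [10, 716, 792, 899, 1993, 2845, 3357, 3480, 3516, 3519, 3699, 3996, 4269]) (.leaf [214, 1099, 1471, 1925, 1926, 2037, 2354, 2376, 2623, 3487, 3832, 3895, 3986])) (.node (.leaf [106, 200, 875, 1071, 1361, 1696,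 1766, 1800, 1841, 2780, 2907, 3294, 3611]) (.leaf [149, 574, 927, 1201, 1535, 1567, 1606, 1715, 1873, 2782, 3943, 4080, 4151]))) (.node (.node (.leaf [240, 418, 631, 882, 1336, 1469, 1538, 1570, 2113, 2549, 2839, 3660, 3696]) (.leaf [893, 1133, 1260, 2063, 2414, 2731, 2742, 2872, 3341, 3784, 3873, 4196, 4276])) (.node (.leaf [264, 654, 829, 1501, 1860, 2326, 2342, 2640, 2983, 3338, 3523, 3859, 4275]) (.leaf [422, 696, 927, 1200, 1218, 1618, 1738, 2019, 2425, 2960, 2974, 3408, 4180])))))

def nbr1155 : Janko.Tree (List ℕ) :=
  (.node (.node (.node (.node (.node (.leaf [68, 259, 338, 471, 1089, 1338, 1354, 2639, 3133, 3151, 4005, 4126, 4452]) (.leaf [525, 976, 989, 1128, 1474, 1844, 2426, 2480, 3080, 3886, 4232, 4381, 4472])) (.leaf [747, 776, 928, 1496, 1625, 1650, 1659, 1711, 2701, 3182, 3425, 3981, 4179])) (.node (.leaf [274, 417, 560, 614, 744, 1286, 2076, 2273, 2581, 2675, 3358, 3578, 4218]) (.leaf [38, 512, 713, 1168, 1620, 1626, 1737, 3087, 3106, 3200, 3439, 3459, 3486]))) (.node (.node (.leaf [387, 455, 915, 1095, 1584, 1856, 2574, 2921, 3027, 3540, 3601, 4016, 4099]) (.leaf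 [416, 491, 753, 935, 1074, 1236, 1471, 2310, 2482, 2488, 2650, 3370, 4340])) (.node (.leaf [321, 1034, 1244, 1334, 1594, 1798, 1828, 1917, 2159, 2573, 2636, 3191, 3575]) (.leaf [324, 494, 687, 1016, 1328, 1784, 2252, 2433, 3617, 3641, 3735, 3912, 4371])))) (.node (.node (.node (.leaf [11, 717, 793, 898, 1992, 2844, 3356, 3481, 3517, 3518, 3698, 3997, 4268]) (.leaf [215, 1098, 1470, 1924, 1927, 2036, 2355, 2377, 2622, 3486, 3833, 3894, 3987])) (.node (.leaf [107, 201, 874, 1070, 1360, 1697, 1767, 1801, 1840, 2781, 2906, 3295, 3610]) (.leaf [148, 575, 926, 1200, 1534, 1566, 1607, 1714, 1872, 2783, 3942, 4081, 4150]))) (.node (.node (.leaf [241, 419, 630, 883, 1337, 1468, 1539, 1571, 2112, 2548, 2838, 3661, 3697]) (.leaf [892, 1132, 1261, 2062, 2415, 2730, 2743, 2873, 3340, 3785, 3872, 4197, 4277])) (.node (.leaf [265, 655, 828, 1500, 1861, 2327, 2343, 2641, 2982, 3339, 3522, 3858, 4274]) (.leaf [423, 697, 926, 1201, 1219, 1619, 1739, 2018, 2424, 2961, 2975, 3409, 4181])))))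

def nbr1156 : Janko.Tree (List ℕ) :=
  (.node (.node (.node (.node (.node (.leaf [260, 1471, 2463, 2966, 2979, 3063, 3124, 3516, 3650, 3933, 3936, 4268, 4340]) (.leaf [884, 988, 1257, 1374, 1848, 1936, 2426, 2965, 3009, 3238, 3291, 3727, 3927])) (.leaf [197, 467, 831, 1022, 1179, 1272, 2002, 2510, 2567, 3019, 4237, 4356, 4425])) (.node (.leaf [66, 1133, 1135, 1313, 1624, 2582, 3181, 3251, 3261, 3425, 3807, 4059, 4196]) (.leaf [123, 219, 368, 584, 591, 748, 1807, 2015, 2835, 3099, 3464, 4429, 4465]))) (.node (.node (.leaf [388, 816, 916, 922, 989, 1122, 1353, 2067, 2160, 2314, 2856, 4056, 4109]) (.leaf [238, 492, 784, 936, 983, 1077, 1818, 1967, 2485, 2653, 3420, 3479, 3871])) (.node (.leaf [110, 151, 647, 963, 1714, 2156, 2362, 2548, 2995, 3355, 3691, 4151, 4476]) (.leaf [639, 1749, 1905, 2271, 2389, 2400, 2694, 3226, 3663, 3843, 4114, 4317, 4456])))) (.node (.node (.node (.leaf [12, 169, 536, 718, 1687, 1747, 1875, 1995, 2174, 3234, 3695, 3793, 4453]) (.leaf [652, 942, 1094, 1956, 2675, 2958, 3155, 3188, 3270, 3421, 3488, 3814, 4051])) (.node (.leaf [201, 507, 648, 1692, 1767, 1996,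 2080, 2200, 2326, 3401, 4024, 4337, 4378]) (.leaf [104, 237, 772, 1070, 2172, 2288, 2618, 2666, 2929, 2973, 3627, 3998, 4295]))) (.node (.node (.leaf [267, 625, 1076, 1205, 1338, 2296, 2373, 2670, 3462, 3563, 3733, 3760, 4365]) (.leaf [447, 633, 1136, 1190, 1438, 1898, 2055, 2399, 2560, 2654, 2916, 2925, 3380])) (.node (.leaf [272, 919, 1203, 1639, 1921, 2440, 2644, 2845, 2860, 3038, 3216, 3364, 3885]) (.leaf [22, 424, 1777, 1778, 1930, 2042, 2197, 2412, 2417, 2514, 2962, 3180, 3251])))))

def nbr1157 : Janko.Tree (List ℕ) :=
  (.node (.node (.node (.node (.node (.leaf [261, 1470, 2462, 2967, 2978, 3062, 3125, 3517, 3651, 3932, 3937, 4269, 4341]) (.leaf [885, 989, 1256, 1375, 1849, 1937, 2427, 2964, 3008, 3239, 3290, 3726, 3926])) (.leaf [196, 466, 830, 1023, 1178, 1273, 2003, 2511, 2566, 3018, 4236, 4357, 4424])) (.node (.leaf [67, 1132, 1134, 1312, 1625, 2583, 3180, 3250, 3260, 3424, 3806, 4058, 4197]) (.leaf [122, 218, 369, 585, 590, 749, 1806, 2014, 2834, 3098, 3465, 4428, 4464]))) (.node (.node (.leaf [389, 817, 917, 923, 988, 1123, 1352, 2066, 2161, 2315, 2857, 4057, 4108]) (.leaf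 [239, 493, 785, 937, 982, 1076, 1819, 1966, 2484, 2652, 3421, 3478, 3870])) (.node (.leaf [111, 150, 646, 962, 1715, 2157, 2363, 2549, 2994, 3354, 3690, 4150, 4477]) (.leaf [638, 1748, 1904, 2270, 2388, 2401, 2695, 3227, 3662, 3842, 4115, 4316, 4457])))) (.node (.node (.node (.leaf [13, 168, 537, 719, 1686, 1746, 1874, 1994, 2175, 3235, 3694, 3792, 4452]) (.leaf [653, 943, 1095, 1957, 2674, 2959, 3154, 3189, 3271, 3420, 3489, 3815, 4050])) (.node (.leaf [200, 506, 649, 1693, 1766, 1997, 2081, 2201, 2327, 3400, 4025, 4336, 4379]) (.leaf [105, 236, 773, 1071, 2173, 2289, 2619, 2667, 2928, 2972, 3626, 3999, 4294]))) (.node (.node (.leaf [266, 624, 1077, 1204, 1339, 2297, 2372, 2671, 3463, 3562, 3732, 3761, 4364]) (.leaf [446, 632, 1137, 1191, 1439, 1899, 2054, 2398, 2561, 2655, 2917, 2924, 3381])) (.node (.leaf [273, 918, 1202, 1638, 1920, 2441, 2645, 2844, 2861, 3039, 3217, 3365, 3884]) (.leaf [23, 425, 1776, 1779, 1931, 2043, 2196, 2413, 2416, 2515, 2963, 3181, 3250])))))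

def nbr1158 : Janko.Tree (List ℕ) :=
  (.node (.node (.node (.node (.node (.leaf [262, 528, 792, 1993, 2441, 2501, 2542, 2954, 3345, 3885, 3933, 4049, 4205]) (.leaf [5, 359, 443, 1139, 1505, 1730, 1820, 2347, 3185, 3676, 3681, 3853, 3901])) (.leaf [43, 833, 1162, 1283, 1446, 1561, 1592, 2512, 2569, 3602, 3689, 3829, 4473])) (.node (.leaf [287, 411, 545, 596, 1295, 1337, 1818, 1874, 2377, 2653, 3066, 3738, 4279]) (.leaf [125, 586, 658, 1633, 1809, 1897, 2017, 2349, 3101, 3301, 3915, 4049, 4441]))) (.node (.node (.leaf [176, 689, 818, 918, 1124, 1235, 1252, 2069, 2663, 2858, 2860, 4224, 4414]) (.leaf [33, 476, 649, 835, 872, 1350, 1522, 1554, 2218, 2576, 3386, 3857, 3963])) (.node (.leaf [112, 742, 965, 1158, 1843, 2158, 2246, 2270, 2312, 2821, 3212, 3693, 4087]) (.leaf [646, 761, 1059, 1758, 1826, 1963, 2156, 2682, 2839, 3362, 3696, 3703, 4030])))) (.node (.node (.node (.leaf [166, 393, 704, 1070, 1242, 1254, 2259, 2296, 3130, 3893, 4294, 4364, 4388]) (.leaf [218, 675, 878, 950, 1013, 1469, 1472, 1527, 1807, 2745, 2882, 3003, 4217])) (.node (.leaf [375, 490, 509, 650, 854, 1582, 1680,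 1694, 1769, 3225, 3403, 3756, 4073]) (.leaf [320, 604, 778, 1080, 1816, 2294, 2573, 2847, 3002, 3379, 3481, 3533, 4035]))) (.node (.node (.leaf [627, 726, 1128, 1340, 1657, 1659, 2298, 2375, 2611, 2672, 3377, 3636, 3984]) (.leaf [414, 418, 635, 1027, 2357, 2361, 2401, 2591, 2918, 3253, 3277, 3394, 4322])) (.node (.leaf [118, 169, 274, 1205, 2450, 2580, 2620, 2690, 2835, 2862, 3098, 3218, 4043]) (.leaf [762, 823, 1084, 1329, 2419, 2628, 3188, 3263, 3264, 3816, 4104, 4263, 4290])))))

def nbr1159 : Janko.Tree (List ℕ) :=
  (.node (.node (.node (.node (.node (.leaf [263, 529, 793, 1992, 2440, 2500, 2543, 2955, 3344, 3884, 3932, 4048, 4204]) (.leaf [4, 358, 442, 1138, 1504, 1731, 1821, 2346, 3184, 3677, 3680, 3852, 3900])) (.leaf [42, 832, 1163, 1282, 1447, 1560, 1593, 2513, 2568, 3603, 3688, 3828, 4472])) (.node (.leaf [286, 410, 544, 597, 1294, 1336, 1819, 1875, 2376, 2652, 3067, 3739, 4278]) (.leaf [124, 587, 659, 1632, 1808, 1896, 2016, 2348, 3100, 3300, 3914, 4048, 4440]))) (.node (.node (.leaf [177, 688, 819, 919, 1125, 1234, 1253, 2068, 2662, 2859, 2861, 4225, 4415]) (.leaf [32,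 477, 648, 834, 873, 1351, 1523, 1555, 2219, 2577, 3387, 3856, 3962])) (.node (.leaf [113, 743, 964, 1159, 1842, 2159, 2247, 2271, 2313, 2820, 3213, 3692, 4086]) (.leaf [647, 760, 1058, 1759, 1827, 1962, 2157, 2683, 2838, 3363, 3697, 3702, 4031])))) (.node (.node (.node (.leaf [167, 392, 705, 1071, 1243, 1255, 2258, 2297, 3131, 3892, 4295, 4365, 4389]) (.leaf [219, 674, 879, 951, 1012, 1468, 1473, 1526, 1806, 2744, 2883, 3002, 4216])) (.node (.leaf [374, 491, 508, 651, 855, 1583, 1681, 1695, 1768, 3224, 3402, 3757, 4072]) (.leaf [321, 605, 779, 1081, 1817, 2295, 2572, 2846, 3003, 3378, 3480, 3532, 4034]))) (.node (.node (.leaf [626, 727, 1129, 1341, 1656, 1658, 2299, 2374, 2610, 2673, 3376, 3637, 3985]) (.leaf [415, 419, 634, 1026, 2356, 2360, 2400, 2590, 2919, 3252, 3276, 3395, 4323])) (.node (.leaf [119, 168, 275, 1204, 2451, 2581, 2621, 2691, 2834, 2863, 3099, 3219, 4042]) (.leaf [763, 822, 1085, 1328, 2418, 2629, 3189, 3262, 3265, 3817, 4105, 4262, 4291])))))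

def nbr1160 : Janko.Tree (List ℕ) :=
  (.node (.node (.node (.node (.node (.leaf [224, 369, 561, 631, 1167, 1859, 2112, 2213, 2565, 2580, 2834, 2930, 2952]) (.leaf [220, 302, 446, 1232, 1384, 1516, 2055, 2473, 2508, 2541, 2639, 3119, 4004])) (.leaf [199, 843, 872, 1594, 1928, 2218, 2789, 3084, 3793, 3978, 4221, 4273, 4468])) (.node (.leaf [549, 590, 1441, 1571, 1806, 1820, 1940, 2776, 3221, 3273, 3427, 3500, 4217]) (.leaf [740, 766, 854, 1189, 1511, 1521, 2064, 2101, 2289, 2452, 3672, 3998, 4013]))) (.node (.node (.leaf [360, 390, 856, 920, 1736, 1782, 2802, 2860, 3516, 3708, 4113, 4187, 4411]) (.leaf [43, 340, 727, 1117, 1488, 2940, 2967, 2977, 3048, 3205, 3327, 4067, 4269])) (.node (.leaf [374, 1266, 1321, 1732, 2162, 2813, 3044, 3108, 3277, 3403, 3415, 4051, 4401]) (.leaf [360, 570, 1082, 1140, 1506, 1823, 2292, 2803, 3156, 3410, 3682, 3919, 4124])))) (.node (.node (.node (.leaf [395, 701, 1160, 1244, 1256, 1783, 2261, 2298, 2965, 3376, 3469, 4231, 4271]) (.leaf [237, 327, 650, 817, 1777, 1903, 1951, 2248, 2774, 2912, 2996, 3375, 4234])) (.node (.leaf [155, 513, 652, 1095, 1237,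 1392, 2084, 2274, 3296, 3797, 3869, 3991, 4377]) (.leaf [293, 813, 1097, 1540, 1743, 1960, 2039, 2437, 2511, 3429, 3667, 3770, 4338]))) (.node (.node (.leaf [53, 417, 598, 934, 1979, 3052, 3147, 3473, 3563, 3878, 3893, 4364, 4418]) (.leaf [650, 846, 1554, 1694, 1951, 2025, 2126, 2348, 2614, 2909, 3199, 3306, 3613])) (.node (.leaf [328, 1105, 1433, 1499, 1613, 1995, 2259, 2646, 3186, 3247, 3434, 3758, 4437]) (.leaf [190, 1168, 1445, 1453, 1834, 2146, 2622, 2868, 3107, 3752, 3769, 3840, 4164])))))

def nbr1161 : Janko.Tree (List ℕ) :=
  (.node (.node (.node (.node (.node (.leaf [225, 368, 560, 630, 1166, 1858, 2113, 2212, 2564, 2581, 2835, 2931, 2953]) (.leaf [221, 303, 447, 1233, 1385, 1517, 2054, 2472, 2509, 2540, 2638, 3118, 4005])) (.leaf [198, 842, 873, 1595, 1929, 2219, 2788, 3085, 3792, 3979, 4220, 4272, 4469])) (.node (.leaf [548, 591, 1440, 1570, 1807, 1821, 1941, 2777, 3220, 3272, 3426, 3501, 4216]) (.leaf [741, 767, 855, 1188, 1510, 1520, 2065, 2100, 2288, 2453, 3673, 3999, 4012]))) (.node (.node (.leaf [361, 391, 857, 921, 1737, 1783, 2803, 2861, 3517, 3709, 4112, 4186, 4410])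 (.leaf [42, 341, 726, 1116, 1489, 2941, 2966, 2976, 3049, 3204, 3326, 4066, 4268])) (.node (.leaf [375, 1267, 1320, 1733, 2163, 2812, 3045, 3109, 3276, 3402, 3414, 4050, 4400]) (.leaf [361, 571, 1083, 1141, 1507, 1822, 2293, 2802, 3157, 3411, 3683, 3918, 4125])))) (.node (.node (.node (.leaf [394, 700, 1161, 1245, 1257, 1782, 2260, 2299, 2964, 3377, 3468, 4230, 4270]) (.leaf [236, 326, 651, 816, 1776, 1902, 1950, 2249, 2775, 2913, 2997, 3374, 4235])) (.node (.leaf [154, 512, 653, 1094, 1236, 1393, 2085, 2275, 3297, 3796, 3868, 3990, 4376]) (.leaf [292, 812, 1096, 1541, 1742, 1961, 2038, 2436, 2510, 3428, 3666, 3771, 4339]))) (.node (.node (.leaf [52, 416, 599, 935, 1978, 3053, 3146, 3472, 3562, 3879, 3892, 4365, 4419]) (.leaf [651, 847, 1555, 1695, 1950, 2024, 2127, 2349, 2615, 2908, 3198, 3307, 3612])) (.node (.leaf [329, 1104, 1432, 1498, 1612, 1994, 2258, 2647, 3187, 3246, 3435, 3759, 4436]) (.leaf [191, 1169, 1444, 1452, 1835, 2147, 2623, 2869, 3106, 3753, 3768, 3841, 4165])))))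

def nbr1162 : Janko.Tree (List ℕ) :=
  (.node (.node (.node (.node (.node (.leaf [226, 563, 659, 849, 1505, 2155, 2506, 2954, 3355, 3573, 3943, 4048, 4130]) (.leaf [367, 377, 811, 831, 875, 905, 1113, 2353, 2519, 3610, 3954, 4006, 4308])) (.leaf [181, 241, 668, 984, 1659, 1968, 2153, 3424, 3580, 3872, 3913, 3979, 4383])) (.node (.leaf [281, 1573, 1808, 1822, 1942, 1998, 2137, 2754, 2762, 2875, 3502, 3914, 4219]) (.leaf [622, 878, 2190, 2193, 2508, 2540, 2617, 2817, 3213, 3645, 3710, 4133, 4384]))) (.node (.node (.leaf [292, 495, 922, 1364, 1683, 1784, 2862, 3234, 3280, 4115, 4249, 4316, 4374]) (.leaf [45, 342, 729, 1119, 1206, 1339, 1490, 2232, 3097, 3267, 3537, 4297, 4453])) (.node (.leaf [376, 663, 1268, 2164, 2474, 2625, 2644, 3417, 3493, 4147, 4208, 4226, 4247]) (.leaf [48, 422, 1250, 1267, 1328, 1975, 1999, 2753, 3044, 3969, 4092, 4229, 4370])))) (.node (.node (.node (.leaf [339, 567, 706, 789, 841, 1258, 1607, 2034, 3132, 3321, 4017, 4156, 4337]) (.leaf [619, 885, 1699, 1781, 2186, 2383, 2499, 2755, 3291, 3750, 4031, 4218, 4285])) (.node (.leaf [57, 127, 524, 837, 1289, 1983,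 2623, 2828, 2901, 3331, 3833, 3931, 4029]) (.leaf [295, 815, 1542, 1745, 1962, 2041, 2087, 2089, 2151, 2513, 3038, 3431, 3671]))) (.node (.node (.leaf [47, 212, 938, 1042, 1130, 1342, 2034, 2230, 3227, 3406, 3706, 4337, 4419]) (.leaf [80, 236, 760, 773, 1327, 2248, 2385, 2676, 2748, 3283, 3462, 3723, 4012])) (.node (.leaf [21, 985, 1781, 2212, 2382, 2576, 2801, 3329, 3856, 3869, 4345, 4404, 4406]) (.leaf [600, 602, 1608, 1948, 1950, 2882, 2888, 3178, 3746, 3748, 4082, 4084, 4168])))))

def nbr1163 : Janko.Tree (List ℕ) :=
  (.node (.node (.node (.node (.node (.leaf [227, 562, 658, 848, 1504, 2154, 2507, 2955, 3354, 3572, 3942, 4049, 4131]) (.leaf [366, 376, 810, 830, 874, 904, 1112, 2352, 2518, 3611, 3955, 4007, 4309])) (.leaf [180, 240, 669, 985, 1658, 1969, 2152, 3425, 3581, 3873, 3912, 3978, 4382])) (.node (.leaf [280, 1572, 1809, 1823, 1943, 1999, 2136, 2755, 2763, 2874, 3503, 3915, 4218]) (.leaf [623, 879, 2191, 2192, 2509, 2541, 2616, 2816, 3212, 3644, 3711, 4132, 4385]))) (.node (.node (.leaf [293, 494, 923, 1365, 1682, 1785, 2863, 3235, 3281, 4114, 4248, 4317, 4375]) (.leaf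 [44, 343, 728, 1118, 1207, 1338, 1491, 2233, 3096, 3266, 3536, 4296, 4452])) (.node (.leaf [377, 662, 1269, 2165, 2475, 2624, 2645, 3416, 3492, 4146, 4209, 4227, 4246]) (.leaf [49, 423, 1251, 1266, 1329, 1974, 1998, 2752, 3045, 3968, 4093, 4228, 4371])))) (.node (.node (.node (.leaf [338, 566, 707, 788, 840, 1259, 1606, 2035, 3133, 3320, 4016, 4157, 4336]) (.leaf [618, 884, 1698, 1780, 2187, 2382, 2498, 2754, 3290, 3751, 4030, 4219, 4284])) (.node (.leaf [56, 126, 525, 836, 1288, 1982, 2622, 2829, 2900, 3330, 3832, 3930, 4028]) (.leaf [294, 814, 1543, 1744, 1963, 2040, 2086, 2088, 2150, 2512, 3039, 3430, 3670]))) (.node (.node (.leaf [46, 213, 939, 1043, 1131, 1343, 2035, 2231, 3226, 3407, 3707, 4336, 4418]) (.leaf [81, 237, 761, 772, 1326, 2249, 2384, 2677, 2749, 3282, 3463, 3722, 4013])) (.node (.leaf [20, 984, 1780, 2213, 2383, 2577, 2800, 3328, 3857, 3868, 4344, 4405, 4407]) (.leaf [601, 603, 1609, 1949, 1951, 2883, 2889, 3179, 3747, 3749, 4083, 4085, 4169])))))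

def nbr1164 : Janko.Tree (List ℕ) :=
  (.node (.node (.node (.node (.node (.leaf [56, 268, 1051, 1295, 1739, 2075, 2157, 2425, 2622, 3452, 3461, 3986, 4258]) (.leaf [369, 584, 791, 833, 880, 1115, 1471, 1629, 2355, 2521, 2953, 3750, 4366])) (.leaf [183, 533, 670, 772, 1409, 1741, 1905, 2230, 2388, 2857, 3582, 3782, 4021])) (.node (.leaf [557, 781, 1042, 1377, 1509, 1810, 1864, 2026, 2823, 3134, 3240, 3412, 3827]) (.leaf [528, 769, 1112, 1372, 1944, 1961, 2081, 2542, 3033, 3667, 4094, 4135, 4140]))) (.node (.node (.leaf [396, 615, 670, 924, 1217, 1610, 1791, 1904, 2352, 2632, 2695, 2891, 3646]) (.leaf [143, 1023, 1926, 1990, 2843, 2962, 3123, 3348, 3422, 3567, 3791, 4069, 4361])) (.node (.leaf [116, 389, 518, 815, 923, 926, 965, 1992, 2173, 2201, 2500, 4210, 4337]) (.leaf [156, 405, 424, 440, 550, 1269, 1977, 2004, 2063, 2625, 3077, 3195, 3587])))) (.node (.node (.node (.leaf [169, 710, 718, 782, 1711, 1855, 2378, 3068, 3099, 3422, 3939, 4283, 4374]) (.leaf [226, 315, 321, 434, 503, 678, 1513, 1613, 2117, 2158, 3079, 3648, 3701])) (.node (.leaf [335, 431, 1110, 1202, 1564, 2419, 2541,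 2808, 2941, 3820, 3858, 4054, 4203]) (.leaf [263, 842, 1544, 1586, 1644, 1749, 1964, 3010, 3014, 3023, 3093, 3843, 4393]))) (.node (.node (.leaf [49, 214, 526, 1132, 1344, 2387, 2839, 3406, 3658, 3708, 4073, 4154, 4324]) (.leaf [406, 499, 958, 973, 1263, 1432, 1789, 2386, 2792, 2819, 3186, 3312, 3406])) (.node (.leaf [501, 692, 1119, 1344, 1423, 1906, 2354, 2593, 3987, 4111, 4154, 4192, 4296]) (.leaf [1218, 1256, 1284, 1610, 1858, 1915, 1967, 2064, 2890, 2893, 3049, 3327, 3673])))))

def nbr1165 : Janko.Tree (List ℕ) :=
  (.node (.node (.node (.node (.node (.leaf [57, 269, 1050, 1294, 1738, 2074, 2156, 2424, 2623, 3453, 3460, 3987, 4259]) (.leaf [368, 585, 790, 832, 881, 1114, 1470, 1628, 2354, 2520, 2952, 3751, 4367])) (.leaf [182, 532, 671, 773, 1408, 1740, 1904, 2231, 2389, 2856, 3583, 3783, 4020])) (.node (.leaf [556, 780, 1043, 1376, 1508, 1811, 1865, 2027, 2822, 3135, 3241, 3413, 3826]) (.leaf [529, 768, 1113, 1373, 1945, 1960, 2080, 2543, 3032, 3666, 4095, 4134, 4141]))) (.node (.node (.leaf [397, 614, 671, 925, 1216, 1611, 1790, 1905, 2353, 2633, 2694, 2890, 3647]) (.leaf [142,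 1022, 1927, 1991, 2842, 2963, 3122, 3349, 3423, 3566, 3790, 4068, 4360])) (.node (.leaf [117, 388, 519, 814, 922, 927, 964, 1993, 2172, 2200, 2501, 4211, 4336]) (.leaf [157, 404, 425, 441, 551, 1268, 1976, 2005, 2062, 2624, 3076, 3194, 3586])))) (.node (.node (.node (.leaf [168, 711, 719, 783, 1710, 1854, 2379, 3069, 3098, 3423, 3938, 4282, 4375]) (.leaf [227, 314, 320, 435, 502, 679, 1512, 1612, 2116, 2159, 3078, 3649, 3700])) (.node (.leaf [334, 430, 1111, 1203, 1565, 2418, 2540, 2809, 2940, 3821, 3859, 4055, 4202]) (.leaf [262, 843, 1545, 1587, 1645, 1748, 1965, 3011, 3015, 3022, 3092, 3842, 4392]))) (.node (.node (.leaf [48, 215, 527, 1133, 1345, 2386, 2838, 3407, 3659, 3709, 4072, 4155, 4325]) (.leaf [407, 498, 959, 972, 1262, 1433, 1788, 2387, 2793, 2818, 3187, 3313, 3407])) (.node (.leaf [500, 693, 1118, 1345, 1422, 1907, 2355, 2592, 3986, 4110, 4155, 4193, 4297]) (.leaf [1219, 1257, 1285, 1611, 1859, 1914, 1966, 2065, 2891, 2892, 3048, 3326, 3672])))))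

def nbr1166 : Janko.Tree (List ℕ) :=
  (.node (.node (.node (.node (.node (.leaf [270, 1053, 1434, 2077, 2117, 2159, 2515, 2582, 2675, 3251, 3575, 4050, 4260]) (.leaf [305, 532, 748, 779, 1499, 1588, 1846, 3464, 3782, 3854, 3920, 4034, 4143])) (.leaf [187, 633, 674, 1420, 1688, 1944, 2180, 2422, 2800, 3333, 3917, 4383, 4451])) (.node (.leaf [337, 565, 787, 839, 1011, 1401, 2032, 2911, 3319, 3659, 3907, 4154, 4159]) (.leaf [718, 801, 1620, 1656, 1855, 2042, 2145, 2321, 2374, 2569, 2636, 2718, 4155]))) (.node (.node (.leaf [398, 926, 1046, 1219, 2070, 2301, 2354, 2688, 2798, 3244, 3304, 3362, 4080]) (.leaf [259, 507, 511, 1391, 1395, 1597, 2005, 2123, 2586, 2831, 3400, 3437, 4452])) (.node (.leaf [127, 177, 374, 1147, 1253, 1289, 1940, 1994, 2196, 2491, 3454, 3738, 4073]) (.leaf [9, 645, 1096, 1520, 1541, 1917, 2287, 2571, 2726, 3196, 3491, 3558, 3587])))) (.node (.node (.node (.leaf [173, 257, 712, 834, 1405, 1580, 1983, 2031, 3379, 3496, 3857, 4213, 4443]) (.leaf [323, 346, 505, 735, 797, 808, 958, 1515, 1670, 1730, 2119, 2655, 2916])) (.node (.leaf [103, 509, 1809, 1998, 2052, 2122,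 2251, 2319, 2700, 3300, 3929, 4349, 4422]) (.leaf [322, 826, 1196, 1515, 1573, 1597, 1746, 1982, 3022, 3041, 3476, 4148, 4452]))) (.node (.node (.leaf [439, 679, 1198, 1346, 1351, 1585, 1665, 1865, 2367, 2823, 3238, 3341, 4016]) (.leaf [16, 505, 768, 796, 964, 1481, 1652, 2145, 2703, 2770, 3316, 3802, 4140])) (.node (.leaf [629, 1290, 1425, 2497, 2674, 2729, 2779, 3369, 3488, 3594, 3995, 4156, 4417]) (.leaf [1046, 1206, 1286, 1479, 1777, 1969, 2182, 2205, 2300, 2384, 3987, 4131, 4296])))))

def nbr1167 : Janko.Tree (List ℕ) :=
  (.node (.node (.node (.node (.node (.leaf [271, 1052, 1435, 2076, 2116, 2158, 2514, 2583, 2674, 3250, 3574, 4051, 4261]) (.leaf [304, 533, 749, 778, 1498, 1589, 1847, 3465, 3783, 3855, 3921, 4035, 4142])) (.leaf [186, 632, 675, 1421, 1689, 1945, 2181, 2423, 2801, 3332, 3916, 4382, 4450])) (.node (.leaf [336, 564, 786, 838, 1010, 1400, 2033, 2910, 3318, 3658, 3906, 4155, 4158]) (.leaf [719, 800, 1621, 1657, 1854, 2043, 2144, 2320, 2375, 2568, 2637, 2719, 4154]))) (.node (.node (.leaf [399, 927, 1047, 1218, 2071, 2300, 2355, 2689, 2799, 3245, 3305, 3363, 4081])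 (.leaf [258, 506, 510, 1390, 1394, 1596, 2004, 2122, 2587, 2830, 3401, 3436, 4453])) (.node (.leaf [126, 176, 375, 1146, 1252, 1288, 1941, 1995, 2197, 2490, 3455, 3739, 4072]) (.leaf [8, 644, 1097, 1521, 1540, 1916, 2286, 2570, 2727, 3197, 3490, 3559, 3586])))) (.node (.node (.node (.leaf [172, 256, 713, 835, 1404, 1581, 1982, 2030, 3378, 3497, 3856, 4212, 4442]) (.leaf [322, 347, 504, 734, 796, 809, 959, 1514, 1671, 1731, 2118, 2654, 2917])) (.node (.leaf [102, 508, 1808, 1999, 2053, 2123, 2250, 2318, 2701, 3301, 3928, 4348, 4423]) (.leaf [323, 827, 1197, 1514, 1572, 1596, 1747, 1983, 3023, 3040, 3477, 4149, 4453]))) (.node (.node (.leaf [438, 678, 1199, 1347, 1350, 1584, 1664, 1864, 2366, 2822, 3239, 3340, 4017]) (.leaf [17, 504, 769, 797, 965, 1480, 1653, 2144, 2702, 2771, 3317, 3803, 4141])) (.node (.leaf [628, 1291, 1424, 2496, 2675, 2728, 2778, 3368, 3489, 3595, 3994, 4157, 4416]) (.leaf [1047, 1207, 1287, 1478, 1776, 1968, 2183, 2204, 2301, 2385, 3986, 4130, 4297])))))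

def nbr1168 : Janko.Tree (List ℕ) :=
  (.node (.node (.node (.node (.node (.leaf [105, 216, 236, 272, 919, 962, 1051, 1063, 1877, 2612, 3690, 3957, 4096]) (.leaf [209, 1296, 1434, 1520, 1631, 1746, 2452, 2496, 2592, 2635, 3061, 3361, 4261])) (.leaf [189, 324, 518, 1115, 1422, 2354, 2405, 2802, 3773, 3895, 3913, 3919, 4027])) (.node (.leaf [333, 569, 791, 1154, 1635, 2091, 2440, 2782, 3531, 3607, 3959, 4109, 4367]) (.leaf [101, 753, 1475, 1764, 2232, 2483, 2680, 2756, 3300, 3528, 3877, 3910, 4203]))) (.node (.node (.leaf [404, 928, 1042, 1223, 2621, 2824, 3006, 3626, 3716, 3728, 3744, 3812, 4432]) (.leaf [258, 511, 720, 1001, 1519, 1599, 1734, 2450, 2690, 2755, 3151, 3353, 3823])) (.node (.leaf [355, 605, 1087, 1151, 2495, 2591, 2630, 3297, 3634, 3696, 3754, 3797, 3833]) (.leaf [370, 560, 698, 761, 847, 1543, 1827, 2150, 2573, 3198, 3336, 3365, 3589])))) (.node (.node (.node (.leaf [175, 259, 714, 836, 1407, 2381, 2423, 3015, 3034, 3396, 4152, 4215, 4369]) (.leaf [414, 514, 736, 798, 811, 863, 961, 1082, 2128, 2919, 3329, 3527, 4025])) (.node (.leaf [2000, 2163, 2321, 3074, 3233, 3235,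 3267, 3352, 3420, 3795, 3871, 4309, 4453]) (.leaf [456, 514, 1100, 1178, 1909, 2129, 2380, 2899, 3043, 3866, 4074, 4097, 4387]))) (.node (.node (.leaf [423, 695, 796, 1200, 1348, 1497, 1653, 2039, 3343, 3543, 3577, 4178, 4285]) (.leaf [351, 691, 1002, 1053, 1444, 1722, 1772, 1784, 2140, 2189, 2862, 3210, 3476])) (.node (.leaf [294, 431, 1024, 1110, 1306, 1634, 2656, 2996, 3767, 3960, 3963, 4118, 4213]) (.leaf [479, 597, 603, 1294, 1598, 1899, 2060, 2598, 2949, 3004, 3202, 4357, 4424])))))

def nbr1169 : Janko.Tree (List ℕ) :=
  (.node (.node (.node (.node (.node (.leaf [104, 217, 237, 273, 918, 963, 1050, 1062, 1876, 2613, 3691, 3956, 4097]) (.leaf [208, 1297, 1435, 1521, 1630, 1747, 2453, 2497, 2593, 2634, 3060, 3360, 4260])) (.leaf [188, 325, 519, 1114, 1423, 2355, 2404, 2803, 3772, 3894, 3912, 3918, 4026])) (.node (.leaf [332, 568, 790, 1155, 1634, 2090, 2441, 2783, 3530, 3606, 3958, 4108, 4366]) (.leaf [100, 752, 1474, 1765, 2233, 2482, 2681, 2757, 3301, 3529, 3876, 3911, 4202]))) (.node (.node (.leaf [405, 929, 1043, 1222, 2620, 2825, 3007, 3627, 3717, 3729, 3745, 3813, 4433])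 (.leaf [259, 510, 721, 1000, 1518, 1598, 1735, 2451, 2691, 2754, 3150, 3352, 3822])) (.node (.leaf [354, 604, 1086, 1150, 2494, 2590, 2631, 3296, 3635, 3697, 3755, 3796, 3832]) (.leaf [371, 561, 699, 760, 846, 1542, 1826, 2151, 2572, 3199, 3337, 3364, 3588])))) (.node (.node (.node (.leaf [174, 258, 715, 837, 1406, 2380, 2422, 3014, 3035, 3397, 4153, 4214, 4368]) (.leaf [415, 515, 737, 799, 810, 862, 960, 1083, 2129, 2918, 3328, 3526, 4024])) (.node (.leaf [2001, 2162, 2320, 3075, 3232, 3234, 3266, 3353, 3421, 3794, 3870, 4308, 4452]) (.leaf [457, 515, 1101, 1179, 1908, 2128, 2381, 2898, 3042, 3867, 4075, 4096, 4386]))) (.node (.node (.leaf [422, 694, 797, 1201, 1349, 1496, 1652, 2038, 3342, 3542, 3576, 4179, 4284]) (.leaf [350, 690, 1003, 1052, 1445, 1723, 1773, 1785, 2141, 2188, 2863, 3211, 3477])) (.node (.leaf [295, 430, 1025, 1111, 1307, 1635, 2657, 2997, 3766, 3961, 3962, 4119, 4212]) (.leaf [478, 596, 602, 1295, 1599, 1898, 2061, 2599, 2948, 3005, 3203, 4356, 4425])))))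

def nbr1170 : Janko.Tree (List ℕ) :=
  (.node (.node (.node (.node (.node (.leaf [218, 274, 611, 964, 1053, 2633, 2835, 2930, 3211, 3317, 3692, 3959, 4071]) (.leaf [165, 358, 442, 685, 910, 912, 967, 1837, 2538, 3479, 3557, 3887, 4003])) (.leaf [93, 323, 1190, 1743, 1961, 2160, 2395, 2521, 2661, 2804, 2849, 3215, 3334])) (.node (.leaf [3, 335, 793, 930, 1156, 1812, 2693, 3516, 3777, 3933, 4043, 4112, 4414]) (.leaf [438, 502, 994, 1184, 1500, 1768, 2367, 2999, 3083, 3230, 3267, 3373, 3971]))) (.node (.node (.leaf [0, 932, 1229, 1544, 1717, 2016, 2846, 3011, 3030, 3054, 3732, 3811, 4222]) (.leaf [173, 968, 1322, 1638, 2122, 2489, 2939, 3033, 3130, 3185, 3436, 4002, 4388])) (.node (.leaf [175, 188, 283, 955, 1019, 1066, 1118, 1407, 2448, 2832, 2874, 2923, 3390]) (.leaf [110, 152, 566, 877, 1661, 1843, 2784, 2945, 2991, 3079, 3314, 3620, 3701])))) (.node (.node (.node (.leaf [77, 124, 461, 859, 2093, 2099, 2781, 2906, 2917, 3144, 3380, 3391, 3714]) (.leaf [614, 924, 1069, 1337, 1712, 1926, 2618, 2842, 2972, 3487, 3678, 4278, 4404])) (.node (.leaf [199, 2002, 2165, 2323, 2626, 3106, 3237,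 3284, 3716, 3873, 3978, 4367, 4386]) (.leaf [76, 428, 464, 507, 656, 750, 1113, 1895, 2121, 3032, 3436, 3485, 4348]))) (.node (.node (.leaf [441, 1076, 1350, 1647, 1665, 1836, 2297, 2526, 2946, 3293, 3478, 3579, 4218]) (.leaf [320, 1057, 1774, 2134, 2191, 2279, 2403, 2518, 2705, 2846, 2866, 3010, 3333])) (.node (.leaf [303, 344, 908, 1308, 1673, 1813, 2336, 2796, 3128, 3202, 3824, 3844, 4215]) (.leaf [344, 766, 794, 1044, 1479, 1512, 1784, 1982, 2452, 3476, 3497, 4260, 4477])))))

def nbr1171 : Janko.Tree (List ℕ) :=
  (.node (.node (.node (.node (.node (.leaf [219, 275, 610, 965, 1052, 2632, 2834, 2931, 3210, 3316, 3693, 3958, 4070]) (.leaf [164, 359, 443, 684, 911, 913, 966, 1836, 2539, 3478, 3556, 3886, 4002])) (.leaf [92, 322, 1191, 1742, 1960, 2161, 2394, 2520, 2660, 2805, 2848, 3214, 3335])) (.node (.leaf [2, 334, 792, 931, 1157, 1813, 2692, 3517, 3776, 3932, 4042, 4113, 4415]) (.leaf [439, 503, 995, 1185, 1501, 1769, 2366, 2998, 3082, 3231, 3266, 3372, 3970]))) (.node (.node (.leaf [1, 933, 1228, 1545, 1716, 2017, 2847, 3010, 3031, 3055, 3733, 3810, 4223]) (.leaf [172, 969,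 1323, 1639, 2123, 2488, 2938, 3032, 3131, 3184, 3437, 4003, 4389])) (.node (.leaf [174, 189, 282, 954, 1018, 1067, 1119, 1406, 2449, 2833, 2875, 2922, 3391]) (.leaf [111, 153, 567, 876, 1660, 1842, 2785, 2944, 2990, 3078, 3315, 3621, 3700])))) (.node (.node (.node (.leaf [76, 125, 460, 858, 2092, 2098, 2780, 2907, 2916, 3145, 3381, 3390, 3715]) (.leaf [615, 925, 1068, 1336, 1713, 1927, 2619, 2843, 2973, 3486, 3679, 4279, 4405])) (.node (.leaf [198, 2003, 2164, 2322, 2627, 3107, 3236, 3285, 3717, 3872, 3979, 4366, 4387]) (.leaf [77, 429, 465, 506, 657, 751, 1112, 1894, 2120, 3033, 3437, 3484, 4349]))) (.node (.node (.leaf [440, 1077, 1351, 1646, 1664, 1837, 2296, 2527, 2947, 3292, 3479, 3578, 4219]) (.leaf [321, 1056, 1775, 2135, 2190, 2278, 2402, 2519, 2704, 2847, 2867, 3011, 3332])) (.node (.leaf [302, 345, 909, 1309, 1672, 1812, 2337, 2797, 3129, 3203, 3825, 3845, 4214]) (.leaf [345, 767, 795, 1045, 1478, 1513, 1785, 1983, 2453, 3477, 3496, 4261, 4476])))))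

def nbr1172 : Janko.Tree (List ℕ) :=
  (.node (.node (.node (.node (.node (.leaf [276, 1055, 1057, 1771, 1780, 2011, 2186, 2278, 2635, 2700, 3408, 3694, 4195]) (.leaf [40, 452, 585, 1661, 2146, 2208, 2422, 2871, 3112, 3200, 3352, 3823, 4368])) (.leaf [37, 856, 1189, 1227, 1527, 2214, 2411, 2532, 2614, 2932, 3029, 3474, 4020])) (.node (.leaf [273, 414, 613, 743, 1285, 2075, 2270, 2283, 2393, 2644, 3559, 3987, 4217]) (.leaf [374, 460, 651, 873, 1104, 1217, 1790, 2187, 2382, 2577, 3045, 3206, 4121]))) (.node (.node (.leaf [934, 1137, 1214, 1568, 1989, 2395, 2682, 2924, 2934, 3335, 3547, 4207, 4384]) (.leaf [175, 473, 572, 1324, 1783, 2015, 3099, 3248, 3479, 3544, 4002, 4125, 4271])) (.node (.leaf [288, 430, 466, 473, 509, 573, 1115, 1414, 1872, 2123, 2535, 2753, 3690]) (.leaf [23, 57, 315, 357, 1119, 1206, 2995, 3068, 3832, 3924, 3986, 4151, 4394])))) (.node (.node (.node (.leaf [39, 126, 261, 611, 1446, 1593, 2567, 2648, 3473, 3563, 3651, 3761, 4070]) (.leaf [926, 942, 1071, 1714, 1840, 2689, 2974, 2994, 3111, 3155, 3269, 4394, 4413])) (.node (.leaf [201, 845, 1041, 1181, 1198, 1408,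 1596, 1713, 1824, 2604, 3004, 3138, 3295]) (.leaf [713, 834, 961, 1484, 1555, 1681, 1694, 2200, 3107, 3285, 3451, 4025, 4347]))) (.node (.node (.leaf [252, 861, 979, 1352, 1729, 1938, 2387, 2729, 3319, 3423, 3658, 3975, 3994]) (.leaf [521, 730, 803, 970, 1061, 1064, 1622, 1732, 2059, 2403, 3628, 3831, 4401])) (.node (.leaf [12, 1310, 1358, 1483, 1652, 1765, 1935, 2514, 2658, 3486, 3679, 4348, 4423]) (.leaf [150, 240, 637, 984, 1844, 2398, 2692, 2728, 3105, 3398, 3661, 4112, 4186])))))

def nbr1173 : Janko.Tree (List ℕ) :=
  (.node (.node (.node (.node (.node (.leaf [277, 1054, 1056, 1770, 1781, 2010, 2187, 2279, 2634, 2701, 3409, 3695, 4194]) (.leaf [41, 453, 584, 1660, 2147, 2209, 2423, 2870, 3113, 3201, 3353, 3822, 4369])) (.leaf [36, 857, 1188, 1226, 1526, 2215, 2410, 2533, 2615, 2933, 3028, 3475, 4021])) (.node (.leaf [272, 415, 612, 742, 1284, 2074, 2271, 2282, 2392, 2645, 3558, 3986, 4216]) (.leaf [375, 461, 650, 872, 1105, 1216, 1791, 2186, 2383, 2576, 3044, 3207, 4120]))) (.node (.node (.leaf [935, 1136, 1215, 1569, 1988, 2394, 2683, 2925, 2935, 3334, 3546, 4206, 4385]) (.leaf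 [174, 472, 573, 1325, 1782, 2014, 3098, 3249, 3478, 3545, 4003, 4124, 4270])) (.node (.leaf [289, 431, 467, 472, 508, 572, 1114, 1415, 1873, 2122, 2534, 2752, 3691]) (.leaf [22, 56, 314, 356, 1118, 1207, 2994, 3069, 3833, 3925, 3987, 4150, 4395])))) (.node (.node (.node (.leaf [38, 127, 260, 610, 1447, 1592, 2566, 2649, 3472, 3562, 3650, 3760, 4071]) (.leaf [927, 943, 1070, 1715, 1841, 2688, 2975, 2995, 3110, 3154, 3268, 4395, 4412])) (.node (.leaf [200, 844, 1040, 1180, 1199, 1409, 1597, 1712, 1825, 2605, 3005, 3139, 3294]) (.leaf [712, 835, 960, 1485, 1554, 1680, 1695, 2201, 3106, 3284, 3450, 4024, 4346]))) (.node (.node (.leaf [253, 860, 978, 1353, 1728, 1939, 2386, 2728, 3318, 3422, 3659, 3974, 3995]) (.leaf [520, 731, 802, 971, 1060, 1065, 1623, 1733, 2058, 2402, 3629, 3830, 4400])) (.node (.leaf [13, 1311, 1359, 1482, 1653, 1764, 1934, 2515, 2659, 3487, 3678, 4349, 4422]) (.leaf [151, 241, 636, 985, 1845, 2399, 2693, 2729, 3104, 3399, 3660, 4113, 4187])))))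

def nbr1174 : Janko.Tree (List ℕ) :=
  (.node (.node (.node (.node (.node (.leaf [278, 321, 817, 1057, 1773, 2042, 2161, 2188, 2637, 2661, 2902, 4034, 4036]) (.leaf [166, 696, 705, 904, 906, 1619, 2229, 2909, 3172, 3612, 3729, 4304, 4454])) (.leaf [201, 1179, 1244, 1789, 1916, 2703, 2791, 2808, 2985, 3043, 3587, 3796, 4388])) (.node (.leaf [95, 277, 418, 515, 1745, 1963, 2397, 2663, 2806, 2815, 3177, 3661, 3669]) (.leaf [284, 332, 670, 779, 1177, 1987, 2091, 2094, 2784, 3223, 3272, 3378, 3497]))) (.node (.node (.leaf [632, 936, 1193, 1500, 1586, 1944, 1991, 2356, 2397, 3276, 3549, 3668, 4384]) (.leaf [482, 518, 1460, 1463, 1845, 2037, 2399, 2460, 2871, 3016, 3617, 3912, 4321])) (.node (.leaf [550, 641, 1102, 1268, 1846, 1907, 2176, 2473, 2902, 3141, 4143, 4147, 4457]) (.leaf [401, 469, 580, 909, 1024, 1116, 1369, 1488, 1645, 2353, 3081, 3610, 4330])))) (.node (.node (.node (.leaf [41, 128, 971, 1065, 1657, 2167, 2569, 2738, 3074, 3307, 3352, 3429, 3637]) (.leaf [118, 372, 1010, 1218, 1716, 1928, 1958, 2402, 2976, 3011, 3327, 3534, 4279])) (.node (.leaf [1006, 1043, 1200, 1508, 1715,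 1721, 1738, 1908, 1954, 2157, 3006, 3140, 3225]) (.leaf [268, 375, 491, 715, 836, 1217, 1236, 1486, 3109, 3279, 3287, 3453, 4044]))) (.node (.node (.leaf [278, 442, 516, 558, 682, 1159, 1192, 1356, 1501, 1511, 2347, 2367, 3212]) (.leaf [11, 523, 732, 899, 1066, 1725, 2195, 2266, 3214, 3493, 3630, 4098, 4208])) (.node (.leaf [277, 772, 1088, 1206, 1491, 2279, 2662, 2749, 2865, 2867, 3069, 3657, 4318]) (.leaf [421, 457, 1100, 1218, 1619, 2058, 2892, 3236, 3244, 3604, 3830, 4046, 4136])))))

def nbr1175 : Janko.Tree (List ℕ) :=
  (.node (.node (.node (.node (.node (.leaf [279, 320, 816, 1056, 1772, 2043, 2160, 2189, 2636, 2660, 2903, 4035, 4037]) (.leaf [167, 697, 704, 905, 907, 1618, 2228, 2908, 3173, 3613, 3728, 4305, 4455])) (.leaf [200, 1178, 1245, 1788, 1917, 2702, 2790, 2809, 2984, 3042, 3586, 3797, 4389])) (.node (.leaf [94, 276, 419, 514, 1744, 1962, 2396, 2662, 2807, 2814, 3176, 3660, 3668]) (.leaf [285, 333, 671, 778, 1176, 1986, 2090, 2095, 2785, 3222, 3273, 3379, 3496]))) (.node (.node (.leaf [633, 937, 1192, 1501, 1587, 1945, 1990, 2357, 2396, 3277, 3548, 3669, 4385]) (.leaf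 [483, 519, 1461, 1462, 1844, 2036, 2398, 2461, 2870, 3017, 3616, 3913, 4320])) (.node (.leaf [551, 640, 1103, 1269, 1847, 1906, 2177, 2472, 2903, 3140, 4142, 4146, 4456]) (.leaf [400, 468, 581, 908, 1025, 1117, 1368, 1489, 1644, 2352, 3080, 3611, 4331])))) (.node (.node (.node (.leaf [40, 129, 970, 1064, 1656, 2166, 2568, 2739, 3075, 3306, 3353, 3428, 3636]) (.leaf [119, 373, 1011, 1219, 1717, 1929, 1959, 2403, 2977, 3010, 3326, 3535, 4278])) (.node (.leaf [1007, 1042, 1201, 1509, 1714, 1720, 1739, 1909, 1955, 2156, 3007, 3141, 3224]) (.leaf [269, 374, 490, 714, 837, 1216, 1237, 1487, 3108, 3278, 3286, 3452, 4045]))) (.node (.node (.leaf [279, 443, 517, 559, 683, 1158, 1193, 1357, 1500, 1510, 2346, 2366, 3213]) (.leaf [10, 522, 733, 898, 1067, 1724, 2194, 2267, 3215, 3492, 3631, 4099, 4209])) (.node (.leaf [276, 773, 1089, 1207, 1490, 2278, 2663, 2748, 2864, 2866, 3068, 3656, 4319]) (.leaf [420, 456, 1101, 1219, 1618, 2059, 2893, 3237, 3245, 3605, 3831, 4047, 4137])))))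

def nbr1176 : Janko.Tree (List ℕ) :=
  (.node (.node (.node (.node (.node (.leaf [218, 280, 1400, 1427, 1527, 2072, 2532, 2911, 3880, 3946, 4222, 4313, 4444]) (.leaf [333, 553, 731, 777, 1145, 2419, 2474, 2713, 2940, 3402, 3817, 4189, 4401])) (.leaf [397, 760, 829, 1162, 1791, 1866, 2705, 2810, 3225, 3589, 3652, 3702, 4271])) (.node (.leaf [19, 279, 710, 934, 2079, 2433, 2956, 3206, 3456, 3508, 3647, 3663, 4206]) (.leaf [336, 425, 1231, 1692, 1805, 1911, 2344, 2390, 2552, 3194, 3245, 3513, 3716]))) (.node (.node (.leaf [518, 938, 1142, 1314, 1588, 1993, 2007, 2399, 2404, 3502, 3698, 3896, 4048]) (.leaf [578, 1040, 1408, 1719, 2151, 2237, 2371, 2775, 2988, 3057, 3336, 3444, 4066])) (.node (.leaf [60, 1104, 1147, 1270, 1279, 1994, 2178, 2401, 2531, 3143, 3389, 3787, 4456]) (.leaf [294, 590, 681, 1713, 1924, 2137, 2283, 3139, 3199, 3671, 3986, 4258, 4327])))) (.node (.node (.node (.leaf [241, 716, 1570, 1639, 1973, 2149, 3063, 3202, 3458, 4022, 4268, 4324, 4357]) (.leaf [120, 1088, 1206, 1259, 1338, 1718, 1777, 1824, 2774, 2804, 3215, 3707, 4395])) (.node (.leaf [153, 326, 496, 673,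 893, 1660, 1740, 1836, 2004, 2062, 2254, 2538, 3142]) (.leaf [69, 707, 818, 1081, 1131, 1349, 1488, 2034, 2254, 2294, 3370, 4225, 4297]))) (.node (.node (.leaf [426, 483, 518, 665, 768, 1194, 1358, 1472, 1653, 2293, 2777, 3297, 3919]) (.leaf [223, 263, 330, 543, 672, 936, 1323, 1586, 1601, 2143, 3634, 3896, 4464])) (.node (.leaf [279, 774, 1090, 1208, 2395, 2444, 2660, 2867, 3071, 4015, 4207, 4228, 4253]) (.leaf [97, 714, 999, 1283, 2481, 2482, 2958, 3287, 3394, 3721, 3819, 4392, 4472])))))

def nbr1177 : Janko.Tree (List ℕ) :=
  (.node (.node (.node (.node (.node (.leaf [219, 281, 1401, 1426, 1526, 2073, 2533, 2910, 3881, 3947, 4223, 4312, 4445]) (.leaf [332, 552, 730, 776, 1144, 2418, 2475, 2712, 2941, 3403, 3816, 4188, 4400])) (.leaf [396, 761, 828, 1163, 1790, 1867, 2704, 2811, 3224, 3588, 3653, 3703, 4270])) (.node (.leaf [18, 278, 711, 935, 2078, 2432, 2957, 3207, 3457, 3509, 3646, 3662, 4207]) (.leaf [337, 424, 1230, 1693, 1804, 1910, 2345, 2391, 2553, 3195, 3244, 3512, 3717]))) (.node (.node (.leaf [519, 939, 1143, 1315, 1589, 1992, 2006, 2398, 2405, 3503, 3699, 3897, 4049])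 (.leaf [579, 1041, 1409, 1718, 2150, 2236, 2370, 2774, 2989, 3056, 3337, 3445, 4067])) (.node (.leaf [61, 1105, 1146, 1271, 1278, 1995, 2179, 2400, 2530, 3142, 3388, 3786, 4457]) (.leaf [295, 591, 680, 1712, 1925, 2136, 2282, 3138, 3198, 3670, 3987, 4259, 4326])))) (.node (.node (.node (.leaf [240, 717, 1571, 1638, 1972, 2148, 3062, 3203, 3459, 4023, 4269, 4325, 4356]) (.leaf [121, 1089, 1207, 1258, 1339, 1719, 1776, 1825, 2775, 2805, 3214, 3706, 4394])) (.node (.leaf [152, 327, 497, 672, 892, 1661, 1741, 1837, 2005, 2063, 2255, 2539, 3143]) (.leaf [68, 706, 819, 1080, 1130, 1348, 1489, 2035, 2255, 2295, 3371, 4224, 4296]))) (.node (.node (.leaf [427, 482, 519, 664, 769, 1195, 1359, 1473, 1652, 2292, 2776, 3296, 3918]) (.leaf [222, 262, 331, 542, 673, 937, 1322, 1587, 1600, 2142, 3635, 3897, 4465])) (.node (.leaf [278, 775, 1091, 1209, 2394, 2445, 2661, 2866, 3070, 4014, 4206, 4229, 4252]) (.leaf [96, 715, 998, 1282, 2480, 2483, 2959, 3286, 3395, 3720, 3818, 4393, 4473])))))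

def nbr1178 : Janko.Tree (List ℕ) :=
  (.node (.node (.node (.node (.node (.leaf [234, 282, 707, 1429, 1607, 1632, 2198, 2343, 3346, 3731, 3859, 4448, 4467]) (.leaf [418, 643, 912, 1794, 1963, 2310, 2493, 2656, 2838, 2996, 3507, 3592, 3801])) (.leaf [501, 960, 975, 1265, 1733, 1791, 2050, 2143, 2812, 3217, 3314, 3406, 3700])) (.node (.leaf [153, 420, 497, 1272, 1615, 1704, 1869, 2567, 3151, 3211, 3718, 4070, 4439]) (.leaf [65, 334, 899, 946, 1341, 2107, 2307, 2505, 3368, 3377, 3417, 3492, 4291]))) (.node (.node (.leaf [166, 940, 1420, 1974, 2025, 2181, 2662, 2666, 3788, 4039, 4224, 4295, 4304]) (.leaf [615, 631, 679, 1150, 1194, 2022, 2076, 2139, 2495, 3166, 3385, 4051, 4428])) (.node (.leaf [955, 991, 1106, 1149, 1272, 1689, 1701, 2180, 2656, 3018, 3145, 3391, 3789]) (.leaf [405, 539, 641, 1042, 1240, 1757, 1842, 2176, 2261, 2840, 3089, 3407, 3700])))) (.node (.node (.node (.leaf [718, 1572, 1647, 1975, 2320, 2388, 2526, 3098, 3204, 3380, 4093, 4452, 4472]) (.leaf [435, 531, 697, 1200, 1513, 1539, 1571, 1720, 2040, 2449, 2783, 3458, 3774])) (.node (.leaf [363, 688, 886, 917, 1045,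 1376, 1478, 1636, 1810, 1938, 2066, 4004, 4285]) (.leaf [87, 596, 624, 730, 1179, 1493, 1733, 2712, 3739, 3798, 3993, 4389, 4424]))) (.node (.node (.leaf [77, 428, 1360, 1377, 1503, 1535, 1647, 2443, 2555, 2907, 3769, 4361, 4471]) (.leaf [158, 336, 1266, 1549, 2387, 2407, 3040, 3318, 3640, 4185, 4298, 4316, 4370])) (.node (.leaf [391, 533, 633, 636, 732, 778, 1463, 1532, 2398, 2856, 3112, 3683, 4368]) (.leaf [333, 462, 521, 803, 1755, 2160, 2624, 2981, 3405, 3497, 4001, 4109, 4226])))))

def nbr1179 : Janko.Tree (List ℕ) :=
  (.node (.node (.node (.node (.node (.leaf [235, 283, 706, 1428, 1606, 1633, 2199, 2342, 3347, 3730, 3858, 4449, 4466]) (.leaf [419, 642, 913, 1795, 1962, 2311, 2492, 2657, 2839, 2997, 3506, 3593, 3800])) (.leaf [500, 961, 974, 1264, 1732, 1790, 2051, 2142, 2813, 3216, 3315, 3407, 3701])) (.node (.leaf [152, 421, 496, 1273, 1614, 1705, 1868, 2566, 3150, 3210, 3719, 4071, 4438]) (.leaf [64, 335, 898, 947, 1340, 2106, 2306, 2504, 3369, 3376, 3416, 3493, 4290]))) (.node (.node (.leaf [167, 941, 1421, 1975, 2024, 2180, 2663, 2667, 3789, 4038, 4225, 4294, 4305]) (.leaf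 [614, 630, 678, 1151, 1195, 2023, 2077, 2138, 2494, 3167, 3384, 4050, 4429])) (.node (.leaf [954, 990, 1107, 1148, 1273, 1688, 1700, 2181, 2657, 3019, 3144, 3390, 3788]) (.leaf [404, 538, 640, 1043, 1241, 1756, 1843, 2177, 2260, 2841, 3088, 3406, 3701])))) (.node (.node (.node (.leaf [719, 1573, 1646, 1974, 2321, 2389, 2527, 3099, 3205, 3381, 4092, 4453, 4473]) (.leaf [434, 530, 696, 1201, 1512, 1538, 1570, 1721, 2041, 2448, 2782, 3459, 3775])) (.node (.leaf [362, 689, 887, 916, 1044, 1377, 1479, 1637, 1811, 1939, 2067, 4005, 4284]) (.leaf [86, 597, 625, 731, 1178, 1492, 1732, 2713, 3738, 3799, 3992, 4388, 4425]))) (.node (.node (.leaf [76, 429, 1361, 1376, 1502, 1534, 1646, 2442, 2554, 2906, 3768, 4360, 4470]) (.leaf [159, 337, 1267, 1548, 2386, 2406, 3041, 3319, 3641, 4184, 4299, 4317, 4371])) (.node (.leaf [390, 532, 632, 637, 733, 779, 1462, 1533, 2399, 2857, 3113, 3682, 4369]) (.leaf [332, 463, 520, 802, 1754, 2161, 2625, 2980, 3404, 3496, 4000, 4108, 4227])))))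

def nbr1180 : Janko.Tree (List ℕ) :=
  (.node (.node (.node (.node (.node (.leaf [284, 658, 1244, 1288, 1521, 1634, 2091, 2503, 3065, 3587, 3863, 4135, 4254]) (.leaf [23, 341, 459, 655, 1102, 1777, 1906, 2257, 2267, 3986, 4099, 4266, 4445])) (.leaf [149, 213, 629, 959, 1237, 2052, 2070, 2645, 3088, 3219, 3406, 3990, 4209])) (.node (.leaf [155, 340, 795, 827, 1617, 1621, 1871, 2264, 2569, 2738, 2966, 3720, 3829]) (.leaf [268, 376, 390, 493, 857, 1239, 1585, 2475, 2960, 3278, 3564, 3904, 4390]))) (.node (.node (.leaf [35, 773, 812, 1033, 2439, 2510, 2856, 2929, 3379, 3481, 3628, 3889, 4056]) (.leaf [394, 1051, 1952, 2334, 2886, 2896, 3293, 3468, 3511, 3547, 3930, 4104, 4291])) (.node (.leaf [335, 706, 916, 1108, 1281, 2182, 2385, 2477, 2587, 2659, 3377, 3704, 4467]) (.leaf [129, 1041, 1431, 1991, 2263, 3005, 3075, 3808, 3825, 3885, 3890, 3969, 4254])))) (.node (.node (.node (.leaf [469, 596, 1065, 1091, 1576, 1979, 3005, 3426, 3500, 3611, 3651, 3884, 4124]) (.leaf [1246, 1515, 1573, 1722, 1779, 1930, 2463, 2654, 2872, 2978, 3380, 3598, 4113])) (.node (.leaf [217, 301, 365, 366, 746,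 919, 968, 1638, 2068, 2908, 3183, 4006, 4463]) (.leaf [23, 247, 823, 1306, 1972, 2716, 3556, 3615, 4010, 4052, 4123, 4151, 4263]))) (.node (.node (.leaf [101, 165, 430, 913, 1362, 1379, 1873, 2023, 2909, 2996, 3414, 3820, 4455]) (.leaf [225, 369, 897, 1200, 1629, 2015, 2038, 2373, 2607, 2671, 2922, 3249, 3485])) (.node (.leaf [490, 935, 1582, 1826, 2011, 2133, 2471, 3000, 3588, 3695, 3702, 4044, 4364]) (.leaf [227, 307, 526, 1406, 1590, 1605, 2145, 2155, 2719, 3564, 3648, 3964, 4400])))))

def nbr1181 : Janko.Tree (List ℕ) :=
  (.node (.node (.node (.node (.node (.leaf [285, 659, 1245, 1289, 1520, 1635, 2090, 2502, 3064, 3586, 3862, 4134, 4255]) (.leaf [22, 340, 458, 654, 1103, 1776, 1907, 2256, 2266, 3987, 4098, 4267, 4444])) (.leaf [148, 212, 628, 958, 1236, 2053, 2071, 2644, 3089, 3218, 3407, 3991, 4208])) (.node (.leaf [154, 341, 794, 826, 1616, 1620, 1870, 2265, 2568, 2739, 2967, 3721, 3828]) (.leaf [269, 377, 391, 492, 856, 1238, 1584, 2474, 2961, 3279, 3565, 3905, 4391]))) (.node (.node (.leaf [34, 772, 813, 1032, 2438, 2511, 2857, 2928, 3378, 3480, 3629, 3888, 4057]) (.leaf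 [395, 1050, 1953, 2335, 2887, 2897, 3292, 3469, 3510, 3546, 3931, 4105, 4290])) (.node (.leaf [334, 707, 917, 1109, 1280, 2183, 2384, 2476, 2586, 2658, 3376, 3705, 4466]) (.leaf [128, 1040, 1430, 1990, 2262, 3004, 3074, 3809, 3824, 3884, 3891, 3968, 4255])))) (.node (.node (.node (.leaf [468, 597, 1064, 1090, 1577, 1978, 3004, 3427, 3501, 3610, 3650, 3885, 4125]) (.leaf [1247, 1514, 1572, 1723, 1778, 1931, 2462, 2655, 2873, 2979, 3381, 3599, 4112])) (.node (.leaf [216, 300, 364, 367, 747, 918, 969, 1639, 2069, 2909, 3182, 4007, 4462]) (.leaf [22, 246, 822, 1307, 1973, 2717, 3557, 3614, 4011, 4053, 4122, 4150, 4262]))) (.node (.node (.leaf [100, 164, 431, 912, 1363, 1378, 1872, 2022, 2908, 2997, 3415, 3821, 4454]) (.leaf [224, 368, 896, 1201, 1628, 2014, 2039, 2372, 2606, 2670, 2923, 3248, 3484])) (.node (.leaf [491, 934, 1583, 1827, 2010, 2132, 2470, 3001, 3589, 3694, 3703, 4045, 4365]) (.leaf [226, 306, 527, 1407, 1591, 1604, 2144, 2154, 2718, 3565, 3649, 3965, 4401])))))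

def nbr1182 : Janko.Tree (List ℕ) :=
  (.node (.node (.node (.node (.node (.leaf [286, 371, 660, 930, 1303, 1813, 1866, 2836, 3067, 3589, 3745, 3865, 4127]) (.leaf [385, 430, 527, 715, 1364, 2155, 2406, 2959, 3767, 3858, 4052, 4317, 4372])) (.leaf [427, 1459, 2209, 2395, 2397, 2446, 2703, 2814, 3586, 3809, 4254, 4277, 4384])) (.node (.leaf [49, 422, 797, 1363, 1619, 2263, 2349, 2789, 2909, 3084, 3442, 4072, 4076]) (.leaf [1078, 1489, 1511, 1542, 2011, 2708, 2837, 3049, 3081, 3672, 3734, 4128, 4381]))) (.node (.node (.leaf [718, 942, 1066, 1432, 1994, 2096, 2359, 2379, 2449, 3146, 3179, 3568, 3972]) (.leaf [116, 162, 735, 1414, 1620, 1972, 2315, 3458, 3762, 4129, 4183, 4253, 4262])) (.node (.leaf [708, 825, 875, 918, 1110, 1274, 1697, 2184, 2456, 3954, 3956, 3976, 4054]) (.leaf [524, 856, 930, 1206, 1276, 1664, 2205, 2376, 3029, 3221, 3273, 3833, 3936])))) (.node (.node (.node (.leaf [211, 720, 744, 1464, 1578, 1726, 1981, 2951, 3494, 3508, 3545, 3920, 4204]) (.leaf [525, 736, 1458, 1623, 1727, 1941, 1975, 2980, 3273, 3381, 4029, 4224, 4403])) (.node (.leaf [92, 1047, 1212, 1287, 1640,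 1742, 2070, 2565, 2581, 3219, 3759, 3864, 4338]) (.leaf [124, 460, 1188, 1589, 1951, 2249, 2349, 2508, 3250, 3342, 3529, 4013, 4015]))) (.node (.node (.leaf [973, 1288, 1709, 2387, 2437, 2492, 2623, 3442, 3592, 4073, 4164, 4231, 4258]) (.leaf [383, 725, 1210, 1285, 1611, 1791, 2134, 2563, 2645, 2705, 3217, 3811, 3862])) (.node (.leaf [321, 492, 937, 1584, 1828, 2135, 2472, 2903, 3002, 3376, 3704, 4046, 4288]) (.leaf [751, 1177, 1365, 1549, 1651, 1862, 1914, 2406, 2701, 2916, 3784, 3967, 4348])))))

def nbr1183 : Janko.Tree (List ℕ) :=
  (.node (.node (.node (.node (.node (.leaf [287, 370, 661, 931, 1302, 1812, 1867, 2837, 3066, 3588, 3744, 3864, 4126]) (.leaf [384, 431, 526, 714, 1365, 2154, 2407, 2958, 3766, 3859, 4053, 4316, 4373])) (.leaf [426, 1458, 2208, 2394, 2396, 2447, 2702, 2815, 3587, 3808, 4255, 4276, 4385])) (.node (.leaf [48, 423, 796, 1362, 1618, 2262, 2348, 2788, 2908, 3085, 3443, 4073, 4077]) (.leaf [1079, 1488, 1510, 1543, 2010, 2709, 2836, 3048, 3080, 3673, 3735, 4129, 4380]))) (.node (.node (.leaf [719, 943, 1067, 1433, 1995, 2097, 2358, 2378, 2448, 3147, 3178, 3569,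 3973]) (.leaf [117, 163, 734, 1415, 1621, 1973, 2314, 3459, 3763, 4128, 4182, 4252, 4263])) (.node (.leaf [709, 824, 874, 919, 1111, 1275, 1696, 2185, 2457, 3955, 3957, 3977, 4055]) (.leaf [525, 857, 931, 1207, 1277, 1665, 2204, 2377, 3028, 3220, 3272, 3832, 3937])))) (.node (.node (.node (.leaf [210, 721, 745, 1465, 1579, 1727, 1980, 2950, 3495, 3509, 3544, 3921, 4205]) (.leaf [524, 737, 1459, 1622, 1726, 1940, 1974, 2981, 3272, 3380, 4028, 4225, 4402])) (.node (.leaf [93, 1046, 1213, 1286, 1641, 1743, 2071, 2564, 2580, 3218, 3758, 3865, 4339]) (.leaf [125, 461, 1189, 1588, 1950, 2248, 2348, 2509, 3251, 3343, 3528, 4012, 4014]))) (.node (.node (.leaf [972, 1289, 1708, 2386, 2436, 2493, 2622, 3443, 3593, 4072, 4165, 4230, 4259]) (.leaf [382, 724, 1211, 1284, 1610, 1790, 2135, 2562, 2644, 2704, 3216, 3810, 3863])) (.node (.leaf [320, 493, 936, 1585, 1829, 2134, 2473, 2902, 3003, 3377, 3705, 4047, 4289]) (.leaf [750, 1176, 1364, 1548, 1650, 1863, 1915, 2407, 2700, 2917, 3785, 3966, 4349])))))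

def nbr1184 : Janko.Tree (List ℕ) :=
  (.node (.node (.node (.node (.node (.leaf [96, 209, 306, 1674, 1888, 1904, 1960, 3057, 3060, 3427, 3591, 3819, 4440]) (.leaf [655, 1049, 1282, 1519, 2157, 2257, 2455, 2543, 3141, 3322, 3355, 3819, 4134])) (.leaf [295, 349, 597, 764, 1024, 2045, 2289, 2815, 2853, 3209, 3669, 3798, 4384])) (.node (.leaf [23, 157, 424, 799, 1041, 1239, 1806, 2351, 2604, 3153, 3444, 3891, 4433]) (.leaf [176, 374, 688, 1171, 1474, 2602, 2716, 2817, 3168, 3419, 4233, 4284, 4329]))) (.node (.node (.leaf [542, 944, 1246, 1802, 2143, 2869, 2910, 3018, 3081, 3747, 3769, 3974, 4107]) (.leaf [537, 600, 1038, 1137, 1446, 1976, 2513, 2560, 3564, 3874, 3905, 4101, 4172])) (.node (.leaf [93, 709, 1112, 1276, 1322, 1960, 3162, 3286, 3429, 3436, 3618, 3980, 4069]) (.leaf [174, 619, 827, 1005, 1227, 1262, 1544, 2378, 2448, 2459, 2528, 3015, 4375])))) (.node (.node (.node (.leaf [17, 108, 722, 1402, 1582, 2144, 2588, 3104, 3441, 3909, 4045, 4187, 4350]) (.leaf [131, 225, 1172, 1333, 1464, 1726, 1934, 2439, 2511, 2982, 3771, 4275, 4343])) (.node (.leaf [50, 94, 1049, 1504, 1642,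 1744, 2072, 3185, 3355, 3609, 3671, 3931, 4335]) (.leaf [319, 966, 1191, 1503, 1534, 1793, 1960, 2400, 2918, 3227, 3287, 3591, 3860]))) (.node (.node (.leaf [975, 1171, 1238, 1303, 1402, 1753, 2051, 2087, 2494, 3444, 3806, 4051, 4260]) (.leaf [65, 895, 1317, 1531, 2275, 3060, 3137, 3246, 3557, 3560, 3818, 3971, 4100])) (.node (.leaf [454, 494, 649, 923, 939, 1278, 2253, 3388, 3541, 3902, 3960, 4337, 4428]) (.leaf [480, 688, 1488, 1624, 1658, 2153, 2603, 3191, 3205, 3657, 3710, 4331, 4415])))))

def nbr1185 : Janko.Tree (List ℕ) :=
  (.node (.node (.node (.node (.node (.leaf [97, 208, 307, 1675, 1889, 1905, 1961, 3056, 3061, 3426, 3590, 3818, 4441]) (.leaf [654, 1048, 1283, 1518, 2156, 2256, 2454, 2542, 3140, 3323, 3354, 3818, 4135])) (.leaf [294, 348, 596, 765, 1025, 2044, 2288, 2814, 2852, 3208, 3668, 3799, 4385])) (.node (.leaf [22, 156, 425, 798, 1040, 1238, 1807, 2350, 2605, 3152, 3445, 3890, 4432]) (.leaf [177, 375, 689, 1170, 1475, 2603, 2717, 2816, 3169, 3418, 4232, 4285, 4328]))) (.node (.node (.leaf [543, 945, 1247, 1803, 2142, 2868, 2911, 3019, 3080, 3746, 3768, 3975, 4106])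 (.leaf [536, 601, 1039, 1136, 1447, 1977, 2512, 2561, 3565, 3875, 3904, 4100, 4173])) (.node (.leaf [92, 708, 1113, 1277, 1323, 1961, 3163, 3287, 3428, 3437, 3619, 3981, 4068]) (.leaf [175, 618, 826, 1004, 1226, 1263, 1545, 2379, 2449, 2458, 2529, 3014, 4374])))) (.node (.node (.node (.leaf [16, 109, 723, 1403, 1583, 2145, 2589, 3105, 3440, 3908, 4044, 4186, 4351]) (.leaf [130, 224, 1173, 1332, 1465, 1727, 1935, 2438, 2510, 2983, 3770, 4274, 4342])) (.node (.leaf [51, 95, 1048, 1505, 1643, 1745, 2073, 3184, 3354, 3608, 3670, 3930, 4334]) (.leaf [318, 967, 1190, 1502, 1535, 1792, 1961, 2401, 2919, 3226, 3286, 3590, 3861]))) (.node (.node (.leaf [974, 1170, 1239, 1302, 1403, 1752, 2050, 2086, 2495, 3445, 3807, 4050, 4261]) (.leaf [64, 894, 1316, 1530, 2274, 3061, 3136, 3247, 3556, 3561, 3819, 3970, 4101])) (.node (.leaf [455, 495, 648, 922, 938, 1279, 2252, 3389, 3540, 3903, 3961, 4336, 4429]) (.leaf [481, 689, 1489, 1625, 1659, 2152, 2602, 3190, 3204, 3656, 3711, 4330, 4414])))))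

def nbr1186 : Janko.Tree (List ℕ) :=
  (.node (.node (.node (.node (.node (.leaf [98, 211, 569, 692, 1962, 2317, 2592, 2754, 3062, 3151, 3362, 3593, 3718]) (.leaf [115, 161, 657, 2159, 2203, 2312, 2773, 3151, 3201, 3822, 4065, 4126, 4319])) (.leaf [345, 351, 710, 766, 1944, 2291, 2336, 2340, 2956, 3673, 3917, 4166, 4399])) (.node (.leaf [159, 278, 1076, 1524, 1767, 2269, 2433, 2485, 2947, 3760, 4014, 4025, 4370]) (.leaf [412, 682, 937, 1084, 1500, 2738, 3469, 3479, 3704, 3736, 3891, 4104, 4270]))) (.node (.node (.leaf [948, 1407, 1645, 1739, 1891, 2145, 2449, 2451, 2574, 3014, 4019, 4155, 4297]) (.leaf [26, 291, 729, 1332, 1726, 1980, 2046, 2104, 2127, 2217, 3306, 3567, 3967])) (.node (.leaf [14, 95, 473, 486, 1038, 1114, 1324, 1846, 1962, 3102, 3431, 3507, 3620]) (.leaf [199, 325, 687, 951, 1114, 1186, 1595, 2905, 3173, 3265, 3521, 3728, 4366])))) (.node (.node (.node (.leaf [130, 231, 352, 724, 1279, 1584, 1857, 3255, 3525, 4047, 4197, 4316, 4457]) (.leaf [179, 966, 1173, 1503, 1728, 1938, 2487, 2741, 3556, 3894, 3970, 4068, 4360])) (.node (.leaf [426, 1053, 1055, 1412, 1828, 1971,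 2010, 2132, 2583, 2703, 2836, 2864, 3316]) (.leaf [323, 811, 960, 1154, 1191, 1789, 2200, 2561, 2714, 2793, 3530, 4101, 4416]))) (.node (.node (.leaf [360, 378, 1860, 2483, 2578, 2936, 2958, 3411, 3820, 3855, 3858, 3938, 4061]) (.leaf [716, 897, 941, 1319, 2277, 2372, 2567, 2634, 3062, 3150, 3408, 3562, 4418])) (.node (.leaf [461, 496, 527, 651, 1253, 1700, 2255, 2348, 3128, 3390, 3910, 4073, 4259]) (.leaf [336, 657, 851, 1011, 1893, 3279, 3614, 3879, 3948, 3953, 4184, 4318, 4446])))))

def nbr1187 : Janko.Tree (List ℕ) :=
  (.node (.node (.node (.node (.node (.leaf [99, 210, 568, 693, 1963, 2316, 2593, 2755, 3063, 3150, 3363, 3592, 3719]) (.leaf [114, 160, 656, 2158, 2202, 2313, 2772, 3150, 3200, 3823, 4064, 4127, 4318])) (.leaf [344, 350, 711, 767, 1945, 2290, 2337, 2341, 2957, 3672, 3916, 4167, 4398])) (.node (.leaf [158, 279, 1077, 1525, 1766, 2268, 2432, 2484, 2946, 3761, 4015, 4024, 4371]) (.leaf [413, 683, 936, 1085, 1501, 2739, 3468, 3478, 3705, 3737, 3890, 4105, 4271]))) (.node (.node (.leaf [949, 1406, 1644, 1738, 1890, 2144, 2448, 2450, 2575, 3015, 4018, 4154, 4296]) (.leaf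 [27, 290, 728, 1333, 1727, 1981, 2047, 2105, 2126, 2216, 3307, 3566, 3966])) (.node (.leaf [15, 94, 472, 487, 1039, 1115, 1325, 1847, 1963, 3103, 3430, 3506, 3621]) (.leaf [198, 324, 686, 950, 1115, 1187, 1594, 2904, 3172, 3264, 3520, 3729, 4367])))) (.node (.node (.node (.leaf [131, 230, 353, 725, 1278, 1585, 1856, 3254, 3524, 4046, 4196, 4317, 4456]) (.leaf [178, 967, 1172, 1502, 1729, 1939, 2486, 2740, 3557, 3895, 3971, 4069, 4361])) (.node (.leaf [427, 1052, 1054, 1413, 1829, 1970, 2011, 2133, 2582, 2702, 2837, 2865, 3317]) (.leaf [322, 810, 961, 1155, 1190, 1788, 2201, 2560, 2715, 2792, 3531, 4100, 4417]))) (.node (.node (.leaf [361, 379, 1861, 2482, 2579, 2937, 2959, 3410, 3821, 3854, 3859, 3939, 4060]) (.leaf [717, 896, 940, 1318, 2276, 2373, 2566, 2635, 3063, 3151, 3409, 3563, 4419])) (.node (.leaf [460, 497, 526, 650, 1252, 1701, 2254, 2349, 3129, 3391, 3911, 4072, 4258]) (.leaf [337, 656, 850, 1010, 1892, 3278, 3615, 3878, 3949, 3952, 4185, 4319, 4447])))))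

def nbr1188 : Janko.Tree (List ℕ) :=
  (.node (.node (.node (.node (.node (.leaf [210, 288, 1326, 1964, 1985, 2029, 2415, 3134, 3262, 3595, 3723, 4008, 4160]) (.leaf [543, 802, 1031, 1623, 1814, 2045, 2322, 3324, 3525, 4111, 4156, 4220, 4256])) (.leaf [485, 667, 770, 1655, 1900, 1999, 2251, 2295, 2427, 2816, 3333, 3454, 4232])) (.node (.leaf [143, 426, 491, 673, 1659, 1769, 2063, 2133, 3083, 3581, 3636, 4027, 4276]) (.leaf [423, 573, 979, 1082, 1321, 1506, 2551, 3044, 3544, 3690, 3762, 3921, 4027]))) (.node (.node (.leaf [25, 950, 1104, 1151, 1434, 2634, 2904, 3143, 3543, 4121, 4195, 4220, 4425]) (.leaf [153, 493, 1268, 1391, 1702, 1810, 2005, 2116, 2225, 2406, 2475, 3079, 3639])) (.node (.leaf [690, 983, 1118, 1344, 1680, 1813, 1970, 2114, 2188, 2337, 2652, 3536, 3864]) (.leaf [147, 365, 1399, 1792, 2068, 2166, 2492, 2599, 2721, 2948, 3197, 3307, 4409])))) (.node (.node (.node (.leaf [485, 569, 726, 1031, 2250, 2826, 2931, 2953, 3460, 3581, 3637, 3778, 3959]) (.leaf [30, 181, 534, 809, 828, 1564, 1730, 2618, 2744, 3652, 3848, 4061, 4117])) (.node (.leaf [430, 461, 1057, 1414, 1647,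 1676, 1767, 2012, 2272, 2314, 2907, 4037, 4218]) (.leaf [646, 824, 876, 1275, 1359, 1483, 1686, 1970, 2228, 3258, 3643, 4171, 4207]))) (.node (.node (.leaf [102, 755, 1364, 1862, 2008, 2485, 2607, 2671, 2938, 3462, 3724, 4063, 4163]) (.leaf [334, 554, 732, 778, 1475, 2233, 2407, 2418, 2474, 2477, 3492, 3982, 4190])) (.node (.leaf [361, 707, 941, 1131, 1359, 1830, 2292, 2658, 2718, 3821, 3834, 4419, 4446]) (.leaf [104, 1462, 1484, 2870, 2928, 3007, 3112, 3179, 3530, 3580, 3629, 3746, 3974])))))

def nbr1189 : Janko.Tree (List ℕ) :=
  (.node (.node (.node (.node (.node (.leaf [211, 289, 1327, 1965, 1984, 2028, 2414, 3135, 3263, 3594, 3722, 4009, 4161]) (.leaf [542, 803, 1030, 1622, 1815, 2044, 2323, 3325, 3524, 4110, 4157, 4221, 4257])) (.leaf [484, 666, 771, 1654, 1901, 1998, 2250, 2294, 2426, 2817, 3332, 3455, 4233])) (.node (.leaf [142, 427, 490, 672, 1658, 1768, 2062, 2132, 3082, 3580, 3637, 4026, 4277]) (.leaf [422, 572, 978, 1083, 1320, 1507, 2550, 3045, 3545, 3691, 3763, 3920, 4026]))) (.node (.node (.leaf [24, 951, 1105, 1150, 1435, 2635, 2905, 3142, 3542, 4120, 4194, 4221, 4424])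 (.leaf [152, 492, 1269, 1390, 1703, 1811, 2004, 2117, 2224, 2407, 2474, 3078, 3638])) (.node (.leaf [691, 982, 1119, 1345, 1681, 1812, 1971, 2115, 2189, 2336, 2653, 3537, 3865]) (.leaf [146, 364, 1398, 1793, 2069, 2167, 2493, 2598, 2720, 2949, 3196, 3306, 4408])))) (.node (.node (.node (.leaf [484, 568, 727, 1030, 2251, 2827, 2930, 2952, 3461, 3580, 3636, 3779, 3958]) (.leaf [31, 180, 535, 808, 829, 1565, 1731, 2619, 2745, 3653, 3849, 4060, 4116])) (.node (.leaf [431, 460, 1056, 1415, 1646, 1677, 1766, 2013, 2273, 2315, 2906, 4036, 4219]) (.leaf [647, 825, 877, 1274, 1358, 1482, 1687, 1971, 2229, 3259, 3642, 4170, 4206]))) (.node (.node (.leaf [103, 754, 1365, 1863, 2009, 2484, 2606, 2670, 2939, 3463, 3725, 4062, 4162]) (.leaf [335, 555, 733, 779, 1474, 2232, 2406, 2419, 2475, 2476, 3493, 3983, 4191])) (.node (.leaf [360, 706, 940, 1130, 1358, 1831, 2293, 2659, 2719, 3820, 3835, 4418, 4447]) (.leaf [105, 1463, 1485, 2871, 2929, 3006, 3113, 3178, 3531, 3581, 3628, 3747, 3975])))))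

def nbr1190 : Janko.Tree (List ℕ) :=
  (.node (.node (.node (.node (.node (.leaf [256, 290, 608, 1328, 1594, 1987, 2120, 2926, 3264, 3405, 3597, 4269, 4409]) (.leaf [73, 214, 403, 479, 838, 1076, 1318, 2354, 2372, 4117, 4155, 4293, 4422])) (.leaf [130, 137, 271, 844, 1240, 1494, 1750, 1932, 2009, 2824, 2938, 3255, 3812])) (.node (.leaf [108, 430, 915, 929, 1307, 2154, 2174, 2273, 2275, 3991, 4089, 4179, 4236]) (.leaf [232, 981, 1035, 2392, 2459, 2557, 2588, 2680, 3158, 3295, 3529, 3846, 3973]))) (.node (.node (.leaf [952, 1034, 1106, 1153, 1561, 2636, 2906, 2933, 3029, 3145, 3294, 4036, 4137]) (.leaf [14, 503, 679, 897, 962, 1062, 1208, 2193, 2366, 2768, 3212, 3800, 4000])) (.node (.leaf [1095, 1120, 1387, 1677, 2190, 2324, 2516, 2682, 2732, 2817, 2847, 3160, 3732]) (.leaf [633, 779, 980, 2106, 2177, 2347, 2921, 3231, 3450, 3492, 3855, 4089, 4099])))) (.node (.node (.node (.leaf [3, 26, 728, 1033, 1566, 2116, 2828, 2955, 3583, 3639, 3933, 3942, 3999]) (.leaf [32, 183, 750, 811, 1083, 1154, 1351, 1634, 1840, 3742, 4063, 4119, 4172])) (.node (.leaf [301, 475, 973, 1183, 1684, 2016,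 2685, 3060, 3077, 3187, 3246, 4250, 4441]) (.leaf [458, 1349, 1372, 1653, 2255, 2454, 2706, 2815, 2852, 3142, 3331, 3660, 4141]))) (.node (.node (.leaf [385, 417, 771, 1018, 1053, 1054, 1521, 2077, 2287, 3695, 3699, 3792, 4373]) (.leaf [332, 428, 1109, 1275, 1477, 1563, 2235, 2409, 2418, 2476, 4054, 4313, 4360])) (.node (.leaf [709, 754, 801, 874, 1133, 1365, 1387, 2294, 2817, 3164, 4019, 4110, 4154]) (.leaf [159, 283, 949, 1021, 1406, 1988, 2960, 3346, 3551, 3565, 3826, 3983, 4173])))))

def nbr1191 : Janko.Tree (List ℕ) :=
  (.node (.node (.node (.node (.node (.leaf [257, 291, 609, 1329, 1595, 1986, 2121, 2927, 3265, 3404, 3596, 4268, 4408]) (.leaf [72, 215, 402, 478, 839, 1077, 1319, 2355, 2373, 4116, 4154, 4292, 4423])) (.leaf [131, 136, 270, 845, 1241, 1495, 1751, 1933, 2008, 2825, 2939, 3254, 3813])) (.node (.leaf [109, 431, 914, 928, 1306, 2155, 2175, 2272, 2274, 3990, 4088, 4178, 4237]) (.leaf [233, 980, 1034, 2393, 2458, 2556, 2589, 2681, 3159, 3294, 3528, 3847, 3972]))) (.node (.node (.leaf [953, 1035, 1107, 1152, 1560, 2637, 2907, 2932, 3028, 3144, 3295, 4037, 4136]) (.leaf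 [15, 502, 678, 896, 963, 1063, 1209, 2192, 2367, 2769, 3213, 3801, 4001])) (.node (.leaf [1094, 1121, 1386, 1676, 2191, 2325, 2517, 2683, 2733, 2816, 2846, 3161, 3733]) (.leaf [632, 778, 981, 2107, 2176, 2346, 2920, 3230, 3451, 3493, 3854, 4088, 4098])))) (.node (.node (.node (.leaf [2, 27, 729, 1032, 1567, 2117, 2829, 2954, 3582, 3638, 3932, 3943, 3998]) (.leaf [33, 182, 751, 810, 1082, 1155, 1350, 1635, 1841, 3743, 4062, 4118, 4173])) (.node (.leaf [300, 474, 972, 1182, 1685, 2017, 2684, 3061, 3076, 3186, 3247, 4251, 4440]) (.leaf [459, 1348, 1373, 1652, 2254, 2455, 2707, 2814, 2853, 3143, 3330, 3661, 4140]))) (.node (.node (.leaf [384, 416, 770, 1019, 1052, 1055, 1520, 2076, 2286, 3694, 3698, 3793, 4372]) (.leaf [333, 429, 1108, 1274, 1476, 1562, 2234, 2408, 2419, 2477, 4055, 4312, 4361])) (.node (.leaf [708, 755, 800, 875, 1132, 1364, 1386, 2295, 2816, 3165, 4018, 4111, 4155]) (.leaf [158, 282, 948, 1020, 1407, 1989, 2961, 3347, 3550, 3564, 3827, 3982, 4172])))))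

def nbr1192 : Janko.Tree (List ℕ) :=
  (.node (.node (.node (.node (.node (.leaf [292, 403, 526, 1119, 1160, 1364, 1406, 1971, 1989, 3686, 3765, 4155, 4206]) (.leaf [41, 84, 653, 728, 2203, 3075, 3154, 3267, 3367, 3491, 3797, 3824, 3833])) (.leaf [29, 1196, 1331, 1404, 1648, 1912, 1983, 2411, 2602, 2830, 3309, 3569, 4477])) (.node (.leaf [145, 646, 731, 1759, 1814, 2178, 2795, 2941, 2955, 2994, 3110, 3639, 3993]) (.leaf [231, 448, 613, 1037, 1721, 1852, 1919, 2461, 2984, 3578, 3975, 4192, 4321]))) (.node (.node (.leaf [22, 57, 222, 1182, 1290, 1530, 1855, 2195, 2267, 2759, 3617, 4017, 4123]) (.leaf [358, 836, 1487, 1557, 1836, 1887, 2334, 2791, 2972, 3292, 3764, 4215, 4440])) (.node (.leaf [456, 570, 878, 1347, 1773, 2192, 2253, 2367, 2461, 2520, 2661, 2850, 3617]) (.leaf [821, 999, 1009, 1137, 1898, 1956, 2017, 2348, 2683, 2846, 2959, 3766, 4459])))) (.node (.node (.node (.leaf [730, 759, 918, 944, 1235, 1676, 2013, 2179, 2368, 2830, 3345, 3680, 4189]) (.leaf [100, 581, 797, 1148, 2024, 2094, 2591, 2750, 2908, 2969, 2986, 4136, 4304])) (.node (.leaf [1049, 1100, 1178, 1916, 2018,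 2369, 2417, 2419, 2628, 3090, 3190, 3310, 4182]) (.leaf [216, 300, 1211, 1514, 1864, 1894, 2380, 2538, 3115, 3674, 4086, 4097, 4153]))) (.node (.node (.leaf [70, 371, 387, 784, 1056, 1827, 2403, 2903, 3050, 3139, 3695, 4032, 4459]) (.leaf [90, 355, 599, 797, 1200, 1618, 1811, 2016, 2225, 3031, 3775, 4136, 4458])) (.node (.leaf [273, 1053, 1313, 1520, 2141, 2664, 3065, 3275, 3367, 3470, 3549, 3558, 4058]) (.leaf [743, 759, 1166, 1450, 1565, 2103, 2549, 2678, 2941, 3148, 3358, 4086, 4188])))))

def nbr1193 : Janko.Tree (List ℕ) :=
  (.node (.node (.node (.node (.node (.leaf [293, 402, 527, 1118, 1161, 1365, 1407, 1970, 1988, 3687, 3764, 4154, 4207]) (.leaf [40, 85, 652, 729, 2202, 3074, 3155, 3266, 3366, 3490, 3796, 3825, 3832])) (.leaf [28, 1197, 1330, 1405, 1649, 1913, 1982, 2410, 2603, 2831, 3308, 3568, 4476])) (.node (.leaf [144, 647, 730, 1758, 1815, 2179, 2794, 2940, 2954, 2995, 3111, 3638, 3992]) (.leaf [230, 449, 612, 1036, 1720, 1853, 1918, 2460, 2985, 3579, 3974, 4193, 4320]))) (.node (.node (.leaf [23, 56, 223, 1183, 1291, 1531, 1854, 2194, 2266, 2758, 3616, 4016, 4122]) (.leaf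 [359, 837, 1486, 1556, 1837, 1886, 2335, 2790, 2973, 3293, 3765, 4214, 4441])) (.node (.leaf [457, 571, 879, 1346, 1772, 2193, 2252, 2366, 2460, 2521, 2660, 2851, 3616]) (.leaf [820, 998, 1008, 1136, 1899, 1957, 2016, 2349, 2682, 2847, 2958, 3767, 4458])))) (.node (.node (.node (.leaf [731, 758, 919, 945, 1234, 1677, 2012, 2178, 2369, 2831, 3344, 3681, 4188]) (.leaf [101, 580, 796, 1149, 2025, 2095, 2590, 2751, 2909, 2968, 2987, 4137, 4305])) (.node (.leaf [1048, 1101, 1179, 1917, 2019, 2368, 2416, 2418, 2629, 3091, 3191, 3311, 4183]) (.leaf [217, 301, 1210, 1515, 1865, 1895, 2381, 2539, 3114, 3675, 4087, 4096, 4152]))) (.node (.node (.leaf [71, 370, 386, 785, 1057, 1826, 2402, 2902, 3051, 3138, 3694, 4033, 4458]) (.leaf [91, 354, 598, 796, 1201, 1619, 1810, 2017, 2224, 3030, 3774, 4137, 4459])) (.node (.leaf [272, 1052, 1312, 1521, 2140, 2665, 3064, 3274, 3366, 3471, 3548, 3559, 4059]) (.leaf [742, 758, 1167, 1451, 1564, 2102, 2548, 2679, 2940, 3149, 3359, 4087, 4189])))))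

def nbr1194 : Janko.Tree (List ℕ) :=
  (.node (.node (.node (.node (.node (.leaf [197, 294, 680, 1221, 1991, 2191, 2467, 2497, 3123, 3722, 3766, 4157, 4385]) (.leaf [409, 481, 1055, 1362, 2319, 2486, 2583, 2701, 2928, 3084, 3102, 3792, 4306])) (.leaf [79, 867, 1178, 1333, 1406, 1650, 1711, 1803, 1914, 2381, 2510, 2832, 4086])) (.node (.leaf [541, 733, 1761, 1816, 2180, 2233, 2458, 2820, 3112, 3213, 3529, 3570, 4091]) (.leaf [398, 408, 553, 565, 742, 851, 1902, 2247, 2369, 2911, 2948, 4188, 4223]))) (.node (.node (.leaf [26, 309, 900, 1184, 1751, 1959, 2527, 2657, 2736, 2968, 3145, 3231, 4213]) (.leaf [547, 565, 838, 1336, 1420, 1468, 1489, 2375, 3679, 4028, 4224, 4292, 4415])) (.node (.leaf [55, 572, 971, 978, 1325, 1413, 1437, 2911, 3629, 3974, 4080, 4151, 4427]) (.leaf [250, 748, 862, 1367, 1709, 2252, 2436, 2460, 2998, 3540, 3913, 3933, 3936])))) (.node (.node (.node (.leaf [358, 721, 732, 1165, 1678, 1922, 2181, 2236, 2370, 2832, 2834, 3682, 4191]) (.leaf [413, 1734, 2087, 2281, 2350, 2488, 2848, 2988, 3130, 3310, 3444, 3573, 3619])) (.node (.leaf [103, 489, 713, 1002, 1484, 1736,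 1787, 3465, 3476, 3584, 4187, 4327, 4434]) (.leaf [122, 218, 410, 1213, 1250, 2128, 2752, 3117, 3259, 3451, 4070, 4088, 4179]))) (.node (.node (.leaf [125, 280, 389, 1130, 1144, 1366, 1419, 1709, 2093, 2335, 2875, 3388, 4283]) (.leaf [339, 897, 1114, 1268, 2123, 2318, 2367, 2521, 3026, 3102, 3200, 4016, 4126])) (.node (.leaf [275, 370, 545, 560, 1143, 1315, 2403, 2613, 2666, 2740, 3067, 3073, 3629]) (.leaf [145, 148, 496, 730, 859, 1092, 1133, 1234, 2913, 3089, 3390, 3784, 3967])))))

def nbr1195 : Janko.Tree (List ℕ) :=
  (.node (.node (.node (.node (.node (.leaf [196, 295, 681, 1220, 1990, 2190, 2466, 2496, 3122, 3723, 3767, 4156, 4384]) (.leaf [408, 480, 1054, 1363, 2318, 2487, 2582, 2700, 2929, 3085, 3103, 3793, 4307])) (.leaf [78, 866, 1179, 1332, 1407, 1651, 1710, 1802, 1915, 2380, 2511, 2833, 4087])) (.node (.leaf [540, 732, 1760, 1817, 2181, 2232, 2459, 2821, 3113, 3212, 3528, 3571, 4090]) (.leaf [399, 409, 552, 564, 743, 850, 1903, 2246, 2368, 2910, 2949, 4189, 4222]))) (.node (.node (.leaf [27, 308, 901, 1185, 1750, 1958, 2526, 2656, 2737, 2969, 3144, 3230, 4212]) (.leaf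 [546, 564, 839, 1337, 1421, 1469, 1488, 2374, 3678, 4029, 4225, 4293, 4414])) (.node (.leaf [54, 573, 970, 979, 1324, 1412, 1436, 2910, 3628, 3975, 4081, 4150, 4426]) (.leaf [251, 749, 863, 1366, 1708, 2253, 2437, 2461, 2999, 3541, 3912, 3932, 3937])))) (.node (.node (.node (.leaf [359, 720, 733, 1164, 1679, 1923, 2180, 2237, 2371, 2833, 2835, 3683, 4190]) (.leaf [412, 1735, 2086, 2280, 2351, 2489, 2849, 2989, 3131, 3311, 3445, 3572, 3618])) (.node (.leaf [102, 488, 712, 1003, 1485, 1737, 1786, 3464, 3477, 3585, 4186, 4326, 4435]) (.leaf [123, 219, 411, 1212, 1251, 2129, 2753, 3116, 3258, 3450, 4071, 4089, 4178]))) (.node (.node (.leaf [124, 281, 388, 1131, 1145, 1367, 1418, 1708, 2092, 2334, 2874, 3389, 4282]) (.leaf [338, 896, 1115, 1269, 2122, 2319, 2366, 2520, 3027, 3103, 3201, 4017, 4127])) (.node (.leaf [274, 371, 544, 561, 1142, 1314, 2402, 2612, 2667, 2741, 3066, 3072, 3628]) (.leaf [144, 149, 497, 731, 858, 1093, 1132, 1235, 2912, 3088, 3391, 3785, 3966])))))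

def nbr1196 : Janko.Tree (List ℕ) :=
  (.node (.node (.node (.node (.node (.leaf [166, 203, 532, 697, 1070, 1498, 1740, 2027, 2643, 2667, 3434, 3683, 3919]) (.leaf [575, 752, 1138, 1446, 1775, 2057, 2240, 2405, 2462, 2562, 2705, 3285, 3650])) (.leaf [359, 1357, 1400, 2277, 2346, 3012, 3136, 3231, 3557, 3791, 3917, 4360, 4451])) (.node (.leaf [503, 737, 995, 1719, 2848, 2989, 3116, 3172, 3215, 3446, 3527, 3655, 3988]) (.leaf [184, 872, 1214, 1300, 1315, 1385, 1523, 1694, 2924, 3699, 3737, 3997, 4272]))) (.node (.node (.leaf [28, 311, 312, 902, 909, 1068, 1186, 2658, 2775, 2970, 3678, 3774, 4215]) (.leaf [373, 776, 842, 932, 1079, 1305, 1493, 1805, 3010, 3684, 4129, 4289, 4334])) (.node (.leaf [300, 453, 878, 1124, 1631, 2068, 2422, 2883, 3302, 3360, 3533, 3655, 4152]) (.leaf [203, 489, 517, 645, 671, 925, 1031, 1601, 1741, 3470, 3634, 4198, 4478])))) (.node (.node (.node (.leaf [323, 734, 761, 1036, 1336, 1596, 1866, 2279, 3193, 3256, 3325, 3697, 3772]) (.leaf [621, 684, 1015, 1327, 1736, 1783, 2684, 2990, 3176, 3478, 3514, 3585, 3621])) (.node (.leaf [105, 495, 715, 1004, 1270, 1486,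 3246, 3641, 3819, 4097, 4316, 4437, 4440]) (.leaf [56, 78, 519, 1201, 2006, 2157, 2500, 2758, 2832, 2923, 3322, 4151, 4355]))) (.node (.node (.leaf [177, 282, 864, 1132, 1171, 1368, 1523, 1936, 2742, 2877, 3390, 3982, 4059]) (.leaf [105, 177, 569, 1005, 1063, 1755, 1826, 2113, 2743, 2952, 3623, 3925, 4000])) (.node (.leaf [786, 799, 863, 1173, 1757, 2097, 2634, 2668, 2778, 3089, 3303, 3360, 3369]) (.leaf [157, 224, 304, 677, 1309, 1381, 2510, 2677, 2796, 2841, 3498, 3888, 4338])))))

def nbr1197 : Janko.Tree (List ℕ) :=
  (.node (.node (.node (.node (.node (.leaf [167, 202, 533, 696, 1071, 1499, 1741, 2026, 2642, 2666, 3435, 3682, 3918]) (.leaf [574, 753, 1139, 1447, 1774, 2056, 2241, 2404, 2463, 2563, 2704, 3284, 3651])) (.leaf [358, 1356, 1401, 2276, 2347, 3013, 3137, 3230, 3556, 3790, 3916, 4361, 4450])) (.node (.leaf [502, 736, 994, 1718, 2849, 2988, 3117, 3173, 3214, 3447, 3526, 3654, 3989]) (.leaf [185, 873, 1215, 1301, 1314, 1384, 1522, 1695, 2925, 3698, 3736, 3996, 4273]))) (.node (.node (.leaf [29, 310, 313, 903, 908, 1069, 1187, 2659, 2774, 2971, 3679, 3775, 4214]) (.leaf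 [372, 777, 843, 933, 1078, 1304, 1492, 1804, 3011, 3685, 4128, 4288, 4335])) (.node (.leaf [301, 452, 879, 1125, 1630, 2069, 2423, 2882, 3303, 3361, 3532, 3654, 4153]) (.leaf [202, 488, 516, 644, 670, 924, 1030, 1600, 1740, 3471, 3635, 4199, 4479])))) (.node (.node (.node (.leaf [322, 735, 760, 1037, 1337, 1597, 1867, 2278, 3192, 3257, 3324, 3696, 3773]) (.leaf [620, 685, 1014, 1326, 1737, 1782, 2685, 2991, 3177, 3479, 3515, 3584, 3620])) (.node (.leaf [104, 494, 714, 1005, 1271, 1487, 3247, 3640, 3818, 4096, 4317, 4436, 4441]) (.leaf [57, 79, 518, 1200, 2007, 2156, 2501, 2759, 2833, 2922, 3323, 4150, 4354]))) (.node (.node (.leaf [176, 283, 865, 1133, 1170, 1369, 1522, 1937, 2743, 2876, 3391, 3983, 4058]) (.leaf [104, 176, 568, 1004, 1062, 1754, 1827, 2112, 2742, 2953, 3622, 3924, 4001])) (.node (.leaf [787, 798, 862, 1172, 1756, 2096, 2635, 2669, 2779, 3088, 3302, 3361, 3368]) (.leaf [156, 225, 305, 676, 1308, 1380, 2511, 2676, 2797, 2840, 3499, 3889, 4339])))))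

def nbr1198 : Janko.Tree (List ℕ) :=
  (.node (.node (.node (.node (.node (.leaf [0, 205, 555, 567, 744, 853, 1126, 1607, 2371, 2950, 3347, 3827, 4190]) (.leaf [8, 800, 1570, 1814, 1953, 1986, 2255, 2569, 2570, 3500, 3637, 4111, 4409])) (.leaf [570, 592, 1044, 1080, 1088, 1772, 1875, 3436, 3465, 3477, 4034, 4040, 4452])) (.node (.leaf [1336, 1538, 1818, 2082, 2248, 2393, 2785, 3118, 3217, 3314, 3324, 3529, 3870]) (.leaf [1028, 1117, 1470, 2013, 2311, 2480, 2602, 2716, 2780, 2830, 3416, 3614, 4331]))) (.node (.node (.leaf [304, 681, 703, 985, 1168, 1886, 2191, 2923, 3055, 3465, 4041, 4327, 4407]) (.leaf [627, 1075, 1331, 1405, 1499, 1751, 1932, 2046, 2216, 3504, 4184, 4420, 4436])) (.node (.leaf [272, 290, 356, 1087, 1361, 2198, 2479, 2503, 3064, 3364, 3610, 3967, 4217]) (.leaf [204, 567, 1201, 2292, 2314, 2759, 2987, 3485, 3542, 3923, 4016, 4136, 4424])))) (.node (.node (.node (.leaf [515, 593, 736, 763, 947, 1908, 2363, 2660, 3268, 3684, 3780, 3989, 4291]) (.leaf [782, 956, 1006, 1370, 1517, 1868, 2029, 2509, 2547, 2992, 3161, 3316, 4133])) (.node (.leaf [95, 386, 1055, 1255, 1494,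 1642, 1750, 2814, 3026, 3365, 4140, 4217, 4436]) (.leaf [432, 528, 694, 1199, 1536, 2039, 2608, 2780, 3021, 3144, 3248, 3295, 3822]))) (.node (.node (.leaf [311, 509, 870, 991, 1034, 1182, 1370, 1415, 2155, 2272, 2680, 3300, 3550]) (.leaf [75, 201, 1245, 1374, 1825, 2257, 2290, 2965, 3032, 3410, 3712, 4098, 4135])) (.node (.leaf [788, 1335, 1537, 1707, 2636, 2818, 3288, 3313, 3370, 3992, 4106, 4341, 4393]) (.leaf [226, 306, 679, 973, 1448, 1528, 1708, 2223, 2283, 2512, 3166, 3671, 3847])))))

def nbr1199 : Janko.Tree (List ℕ) :=
  (.node (.node (.node (.node (.node (.leaf [1, 204, 554, 566, 745, 852, 1127, 1606, 2370, 2951, 3346, 3826, 4191]) (.leaf [9, 801, 1571, 1815, 1952, 1987, 2254, 2568, 2571, 3501, 3636, 4110, 4408])) (.leaf [571, 593, 1045, 1081, 1089, 1773, 1874, 3437, 3464, 3476, 4035, 4041, 4453])) (.node (.leaf [1337, 1539, 1819, 2083, 2249, 2392, 2784, 3119, 3216, 3315, 3325, 3528, 3871]) (.leaf [1029, 1116, 1471, 2012, 2310, 2481, 2603, 2717, 2781, 2831, 3417, 3615, 4330]))) (.node (.node (.leaf [305, 680, 702, 984, 1169, 1887, 2190, 2922, 3054, 3464, 4040, 4326, 4406])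 (.leaf [626, 1074, 1330, 1404, 1498, 1750, 1933, 2047, 2217, 3505, 4185, 4421, 4437])) (.node (.leaf [273, 291, 357, 1086, 1360, 2199, 2478, 2502, 3065, 3365, 3611, 3966, 4216]) (.leaf [205, 566, 1200, 2293, 2315, 2758, 2986, 3484, 3543, 3922, 4017, 4137, 4425])))) (.node (.node (.node (.leaf [514, 592, 737, 762, 946, 1909, 2362, 2661, 3269, 3685, 3781, 3988, 4290]) (.leaf [783, 957, 1007, 1371, 1516, 1869, 2028, 2508, 2546, 2993, 3160, 3317, 4132])) (.node (.leaf [94, 387, 1054, 1254, 1495, 1643, 1751, 2815, 3027, 3364, 4141, 4216, 4437]) (.leaf [433, 529, 695, 1198, 1537, 2038, 2609, 2781, 3020, 3145, 3249, 3294, 3823]))) (.node (.node (.leaf [310, 508, 871, 990, 1035, 1183, 1371, 1414, 2154, 2273, 2681, 3301, 3551]) (.leaf [74, 200, 1244, 1375, 1824, 2256, 2291, 2964, 3033, 3411, 3713, 4099, 4134])) (.node (.leaf [789, 1334, 1536, 1706, 2637, 2819, 3289, 3312, 3371, 3993, 4107, 4340, 4392]) (.leaf [227, 307, 678, 972, 1449, 1529, 1709, 2222, 2282, 2513, 3167, 3670, 3846])))))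

def nbr1200 : Janko.Tree (List ℕ) :=
  (.node (.node (.node (.node (.node (.leaf [35, 63, 228, 333, 1353, 1601, 2031, 3349, 3378, 3423, 3533, 3816, 4313]) (.leaf [52, 304, 442, 1158, 1169, 1444, 1499, 1979, 3682, 3900, 4125, 4462, 4478])) (.leaf [84, 330, 1531, 1540, 2175, 2242, 2503, 2727, 3556, 3825, 3969, 4123, 4329])) (.node (.leaf [297, 448, 669, 2084, 2787, 2873, 3120, 3219, 3268, 3579, 3781, 3872, 3990]) (.leaf [558, 702, 1280, 1500, 2140, 2482, 3277, 3395, 3449, 3562, 3859, 3891, 4467]))) (.node (.node (.leaf [319, 459, 1163, 1348, 1796, 1890, 1906, 2330, 2559, 2761, 2811, 4028, 4297]) (.leaf [130, 1015, 1173, 1240, 1305, 1755, 2053, 3088, 3115, 3585, 3622, 4240, 4247])) (.node (.leaf [118, 274, 409, 1363, 1677, 2481, 2830, 2836, 3066, 3750, 4219, 4354, 4476]) (.leaf [451, 467, 781, 932, 1051, 1721, 1918, 2207, 2747, 3241, 3547, 3690, 4223])))) (.node (.node (.node (.leaf [357, 738, 969, 1150, 1294, 1297, 1423, 2091, 2502, 3542, 3895, 3987, 4445]) (.leaf [109, 384, 960, 1155, 1539, 1554, 2021, 2082, 2127, 2155, 2851, 3440, 4371])) (.node (.leaf [97, 388, 888, 1454, 1752, 2022,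 2149, 2726, 3108, 3197, 4051, 4056, 4329]) (.leaf [291, 917, 943, 1352, 1699, 1880, 2078, 2136, 2198, 2221, 3189, 4219, 4354]))) (.node (.node (.leaf [31, 398, 538, 579, 850, 997, 1186, 1487, 2151, 3181, 3237, 4265, 4367]) (.leaf [77, 115, 363, 573, 1376, 1509, 1867, 2429, 2606, 3225, 3484, 3714, 4127])) (.node (.leaf [790, 1629, 1671, 1849, 2670, 2820, 2921, 2937, 2965, 3600, 3854, 4063, 4298]) (.leaf [19, 65, 771, 1028, 1303, 2313, 2494, 2706, 2765, 3366, 3369, 4065, 4373])))))

def nbr1201 : Janko.Tree (List ℕ) :=
  (.node (.node (.node (.node (.node (.leaf [34, 62, 229, 332, 1352, 1600, 2030, 3348, 3379, 3422, 3532, 3817, 4312]) (.leaf [53, 305, 443, 1159, 1168, 1445, 1498, 1978, 3683, 3901, 4124, 4463, 4479])) (.leaf [85, 331, 1530, 1541, 2174, 2243, 2502, 2726, 3557, 3824, 3968, 4122, 4328])) (.node (.leaf [296, 449, 668, 2085, 2786, 2872, 3121, 3218, 3269, 3578, 3780, 3873, 3991]) (.leaf [559, 703, 1281, 1501, 2141, 2483, 3276, 3394, 3448, 3563, 3858, 3890, 4466]))) (.node (.node (.leaf [318, 458, 1162, 1349, 1797, 1891, 1907, 2331, 2558, 2760, 2810, 4029, 4296]) (.leaf [131,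 1014, 1172, 1241, 1304, 1754, 2052, 3089, 3114, 3584, 3623, 4241, 4246])) (.node (.leaf [119, 275, 408, 1362, 1676, 2480, 2831, 2837, 3067, 3751, 4218, 4355, 4477]) (.leaf [450, 466, 780, 933, 1050, 1720, 1919, 2206, 2746, 3240, 3546, 3691, 4222])))) (.node (.node (.node (.leaf [356, 739, 968, 1151, 1295, 1296, 1422, 2090, 2503, 3543, 3894, 3986, 4444]) (.leaf [108, 385, 961, 1154, 1538, 1555, 2020, 2083, 2126, 2154, 2850, 3441, 4370])) (.node (.leaf [96, 389, 889, 1455, 1753, 2023, 2148, 2727, 3109, 3196, 4050, 4057, 4328]) (.leaf [290, 916, 942, 1353, 1698, 1881, 2079, 2137, 2199, 2220, 3188, 4218, 4355]))) (.node (.node (.leaf [30, 399, 539, 578, 851, 996, 1187, 1486, 2150, 3180, 3236, 4264, 4366]) (.leaf [76, 114, 362, 572, 1377, 1508, 1866, 2428, 2607, 3224, 3485, 3715, 4126])) (.node (.leaf [791, 1628, 1670, 1848, 2671, 2821, 2920, 2936, 2964, 3601, 3855, 4062, 4299]) (.leaf [18, 64, 770, 1029, 1302, 2312, 2495, 2707, 2764, 3367, 3368, 4064, 4372])))))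

def nbr1202 : Janko.Tree (List ℕ) :=
  (.node (.node (.node (.node (.node (.leaf [296, 471, 590, 1430, 1729, 1925, 2223, 2652, 2914, 3314, 3895, 4350, 4409]) (.leaf [207, 399, 473, 539, 763, 1735, 1877, 2085, 2840, 3268, 3338, 3868, 4223])) (.leaf [761, 1103, 1162, 1326, 2202, 2370, 2417, 2418, 2631, 3193, 3263, 3833, 4028])) (.node (.leaf [1090, 1380, 1651, 1745, 1803, 1820, 2310, 2553, 2867, 2997, 3274, 3501, 3693]) (.leaf [220, 522, 1318, 1602, 1706, 2277, 2486, 2522, 2740, 2818, 3302, 3744, 4455]))) (.node (.node (.leaf [683, 1084, 1290, 1398, 1798, 2492, 2561, 2629, 3059, 3090, 3633, 3953, 4416]) (.leaf [483, 1473, 1657, 1674, 2485, 2613, 3462, 3482, 3761, 3813, 3954, 3957, 4146])) (.node (.leaf [69, 471, 1136, 1314, 1589, 1603, 1728, 2740, 2846, 3160, 3170, 3622, 3782]) (.leaf [429, 432, 449, 581, 821, 1084, 1476, 2048, 2555, 2751, 3510, 4164, 4349])))) (.node (.node (.node (.leaf [408, 740, 930, 1152, 1227, 1425, 2014, 2583, 2674, 2837, 3028, 3730, 3814]) (.leaf [534, 775, 901, 1006, 1759, 2170, 2391, 2756, 2858, 3305, 3362, 3659, 4148])) (.node (.leaf [99, 176, 890, 1647,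 1754, 2024, 2860, 3199, 3365, 3375, 4226, 4247, 4470]) (.leaf [335, 523, 899, 907, 1356, 1480, 2227, 2523, 2587, 2663, 4153, 4304, 4414]))) (.node (.node (.leaf [101, 181, 436, 1372, 1648, 1863, 2152, 2865, 3656, 3910, 4039, 4200, 4304]) (.leaf [365, 747, 1398, 1595, 2187, 2573, 2650, 2700, 3248, 3475, 3576, 3591, 3793])) (.node (.leaf [363, 792, 1811, 1890, 2571, 2672, 2698, 2822, 2939, 3329, 4161, 4162, 4407]) (.leaf [67, 271, 635, 2008, 2858, 2962, 3251, 3323, 3395, 3507, 3724, 3917, 4033])))))

def nbr1203 : Janko.Tree (List ℕ) :=
  (.node (.node (.node (.node (.node (.leaf [297, 470, 591, 1431, 1728, 1924, 2222, 2653, 2915, 3315, 3894, 4351, 4408]) (.leaf [206, 398, 472, 538, 762, 1734, 1876, 2084, 2841, 3269, 3339, 3869, 4222])) (.leaf [760, 1102, 1163, 1327, 2203, 2371, 2416, 2419, 2630, 3192, 3262, 3832, 4029])) (.node (.leaf [1091, 1381, 1650, 1744, 1802, 1821, 2311, 2552, 2866, 2996, 3275, 3500, 3692]) (.leaf [221, 523, 1319, 1603, 1707, 2276, 2487, 2523, 2741, 2819, 3303, 3745, 4454]))) (.node (.node (.leaf [682, 1085, 1291, 1399, 1799, 2493, 2560, 2628, 3058, 3091, 3632,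 3952, 4417]) (.leaf [482, 1472, 1656, 1675, 2484, 2612, 3463, 3483, 3760, 3812, 3955, 3956, 4147])) (.node (.leaf [68, 470, 1137, 1315, 1588, 1602, 1729, 2741, 2847, 3161, 3171, 3623, 3783]) (.leaf [428, 433, 448, 580, 820, 1085, 1477, 2049, 2554, 2750, 3511, 4165, 4348])))) (.node (.node (.node (.leaf [409, 741, 931, 1153, 1226, 1424, 2015, 2582, 2675, 2836, 3029, 3731, 3815]) (.leaf [535, 774, 900, 1007, 1758, 2171, 2390, 2757, 2859, 3304, 3363, 3658, 4149])) (.node (.leaf [98, 177, 891, 1646, 1755, 2025, 2861, 3198, 3364, 3374, 4227, 4246, 4471]) (.leaf [334, 522, 898, 906, 1357, 1481, 2226, 2522, 2586, 2662, 4152, 4305, 4415]))) (.node (.node (.leaf [100, 180, 437, 1373, 1649, 1862, 2153, 2864, 3657, 3911, 4038, 4201, 4305]) (.leaf [364, 746, 1399, 1594, 2186, 2572, 2651, 2701, 3249, 3474, 3577, 3590, 3792])) (.node (.leaf [362, 793, 1810, 1891, 2570, 2673, 2699, 2823, 2938, 3328, 4160, 4163, 4406]) (.leaf [66, 270, 634, 2009, 2859, 2963, 3250, 3322, 3394, 3506, 3725, 3916, 4032])))))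

def nbr1204 : Janko.Tree (List ℕ) :=
  (.node (.node (.node (.node (.node (.leaf [300, 473, 594, 617, 1090, 1877, 2454, 3330, 3426, 3949, 4096, 4387, 4440]) (.leaf [51, 195, 213, 1093, 1131, 1952, 2030, 2255, 3089, 3279, 3469, 4230, 4447])) (.leaf [80, 297, 377, 1113, 1942, 2054, 2420, 2607, 3121, 3448, 3575, 3905, 4011])) (.node (.leaf [982, 1142, 1553, 1822, 2209, 2282, 2395, 2528, 2797, 3499, 3503, 3508, 3920]) (.leaf [172, 226, 1702, 1810, 1911, 2016, 2488, 2553, 2598, 2795, 3572, 3957, 4141]))) (.node (.node (.leaf [229, 309, 1174, 1184, 1232, 1798, 2473, 2475, 2629, 3190, 3816, 3836, 4456]) (.leaf [487, 642, 913, 940, 1707, 1771, 1985, 3183, 3409, 3518, 3805, 3815, 3821])) (.node (.leaf [811, 862, 868, 1138, 1333, 1627, 1730, 2096, 2104, 2200, 2786, 3123, 4060]) (.leaf [265, 272, 431, 434, 451, 583, 1086, 1202, 1379, 1753, 1878, 2983, 3691])))) (.node (.node (.node (.leaf [594, 742, 935, 948, 1075, 1299, 1354, 1911, 2815, 3064, 3350, 3547, 4216]) (.leaf [482, 516, 620, 1086, 1697, 2049, 2998, 3275, 3297, 3471, 3812, 3912, 4383])) (.node (.leaf [399, 546, 751, 1840, 2026, 2033,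 2427, 2643, 3181, 3269, 3595, 3940, 4009]) (.leaf [268, 1049, 1409, 1796, 1909, 2156, 2237, 2389, 2596, 2832, 3625, 3670, 4114]))) (.node (.node (.leaf [476, 579, 705, 795, 998, 1374, 1937, 2226, 2544, 2904, 2967, 3713, 4305]) (.leaf [685, 915, 1250, 1286, 1339, 2165, 2575, 2644, 3117, 3219, 3578, 4192, 4297])) (.node (.leaf [778, 844, 1081, 1089, 1469, 1495, 1517, 2638, 2805, 3272, 3927, 4217, 4244]) (.leaf [251, 684, 900, 1250, 1367, 1782, 1881, 2129, 2149, 2656, 2874, 3391, 4003])))))

def nbr1205 : Janko.Tree (List ℕ) :=
  (.node (.node (.node (.node (.node (.leaf [301, 472, 595, 616, 1091, 1876, 2455, 3331, 3427, 3948, 4097, 4386, 4441]) (.leaf [50, 194, 212, 1092, 1130, 1953, 2031, 2254, 3088, 3278, 3468, 4231, 4446])) (.leaf [81, 296, 376, 1112, 1943, 2055, 2421, 2606, 3120, 3449, 3574, 3904, 4010])) (.node (.leaf [983, 1143, 1552, 1823, 2208, 2283, 2394, 2529, 2796, 3498, 3502, 3509, 3921]) (.leaf [173, 227, 1703, 1811, 1910, 2017, 2489, 2552, 2599, 2794, 3573, 3956, 4140]))) (.node (.node (.leaf [228, 308, 1175, 1185, 1233, 1799, 2472, 2474, 2628, 3191, 3817, 3837, 4457])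 (.leaf [486, 643, 912, 941, 1706, 1770, 1984, 3182, 3408, 3519, 3804, 3814, 3820])) (.node (.leaf [810, 863, 869, 1139, 1332, 1626, 1731, 2097, 2105, 2201, 2787, 3122, 4061]) (.leaf [264, 273, 430, 435, 450, 582, 1087, 1203, 1378, 1752, 1879, 2982, 3690])))) (.node (.node (.node (.leaf [595, 743, 934, 949, 1074, 1298, 1355, 1910, 2814, 3065, 3351, 3546, 4217]) (.leaf [483, 517, 621, 1087, 1696, 2048, 2999, 3274, 3296, 3470, 3813, 3913, 4382])) (.node (.leaf [398, 547, 750, 1841, 2027, 2032, 2426, 2642, 3180, 3268, 3594, 3941, 4008]) (.leaf [269, 1048, 1408, 1797, 1908, 2157, 2236, 2388, 2597, 2833, 3624, 3671, 4115]))) (.node (.node (.leaf [477, 578, 704, 794, 999, 1375, 1936, 2227, 2545, 2905, 2966, 3712, 4304]) (.leaf [684, 914, 1251, 1287, 1338, 2164, 2574, 2645, 3116, 3218, 3579, 4193, 4296])) (.node (.leaf [779, 845, 1080, 1088, 1468, 1494, 1516, 2639, 2804, 3273, 3926, 4216, 4245]) (.leaf [250, 685, 901, 1251, 1366, 1783, 1880, 2128, 2148, 2657, 2875, 3390, 4002])))))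

def nbr1206 : Janko.Tree (List ℕ) :=
  (.node (.node (.node (.node (.node (.leaf [302, 622, 790, 1038, 1698, 2439, 2499, 2540, 2835, 2952, 3883, 3959, 4203]) (.leaf [53, 215, 599, 637, 1133, 1313, 1403, 3165, 3313, 3471, 4352, 4368, 4396])) (.leaf [260, 299, 880, 1115, 1988, 2533, 2609, 3021, 3521, 3550, 3761, 3772, 4323])) (.node (.leaf [368, 403, 833, 1137, 1166, 1588, 1928, 2349, 3128, 3805, 4049, 4133, 4384]) (.leaf [193, 205, 665, 734, 745, 769, 1262, 2273, 2315, 2490, 2529, 2822, 4088]))) (.node (.node (.leaf [311, 991, 1176, 1186, 1280, 2407, 2477, 2631, 2714, 3192, 3697, 3909, 4052]) (.leaf [489, 644, 754, 800, 915, 1773, 1987, 2043, 2175, 2784, 2851, 3055, 3464])) (.node (.leaf [302, 636, 1048, 2472, 2629, 2833, 2874, 3322, 3398, 3438, 3632, 3844, 3898]) (.leaf [436, 455, 553, 941, 1026, 1054, 2666, 3026, 3106, 3200, 3392, 3626, 4164])))) (.node (.node (.node (.leaf [744, 937, 1077, 1301, 1323, 1766, 2221, 2842, 2956, 3066, 3549, 3736, 4218]) (.leaf [220, 447, 486, 701, 2281, 2298, 2907, 2925, 3159, 3621, 3814, 3846, 4174])) (.node (.leaf [47, 289, 722, 1127, 1299, 1637,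 1883, 2028, 2035, 3161, 3404, 3597, 3889]) (.leaf [59, 85, 244, 601, 1447, 1884, 1971, 2837, 3735, 3814, 3838, 3865, 4174]))) (.node (.node (.leaf [438, 700, 1000, 1376, 1865, 1939, 2228, 2906, 2992, 3267, 3643, 3715, 3848]) (.leaf [849, 1099, 1522, 1547, 1921, 2198, 2507, 2577, 3207, 3229, 3346, 3365, 3982])) (.node (.leaf [16, 452, 475, 921, 1678, 1737, 2069, 2138, 2584, 2684, 2859, 3152, 3659]) (.leaf [440, 686, 902, 908, 1369, 1502, 1647, 1784, 2013, 2280, 2489, 2876, 4003])))))

def nbr1207 : Janko.Tree (List ℕ) :=
  (.node (.node (.node (.node (.node (.leaf [303, 623, 791, 1039, 1699, 2438, 2498, 2541, 2834, 2953, 3882, 3958, 4202]) (.leaf [52, 214, 598, 636, 1132, 1312, 1402, 3164, 3312, 3470, 4353, 4369, 4397])) (.leaf [261, 298, 881, 1114, 1989, 2532, 2608, 3020, 3520, 3551, 3760, 3773, 4322])) (.node (.leaf [369, 402, 832, 1136, 1167, 1589, 1929, 2348, 3129, 3804, 4048, 4132, 4385]) (.leaf [192, 204, 664, 735, 744, 768, 1263, 2272, 2314, 2491, 2528, 2823, 4089]))) (.node (.node (.leaf [310, 990, 1177, 1187, 1281, 2406, 2476, 2630, 2715, 3193, 3696, 3908, 4053]) (.leaf [488,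 645, 755, 801, 914, 1772, 1986, 2042, 2174, 2785, 2850, 3054, 3465])) (.node (.leaf [303, 637, 1049, 2473, 2628, 2832, 2875, 3323, 3399, 3439, 3633, 3845, 3899]) (.leaf [437, 454, 552, 940, 1027, 1055, 2667, 3027, 3107, 3201, 3393, 3627, 4165])))) (.node (.node (.node (.leaf [745, 936, 1076, 1300, 1322, 1767, 2220, 2843, 2957, 3067, 3548, 3737, 4219]) (.leaf [221, 446, 487, 700, 2280, 2299, 2906, 2924, 3158, 3620, 3815, 3847, 4175])) (.node (.leaf [46, 288, 723, 1126, 1298, 1636, 1882, 2029, 2034, 3160, 3405, 3596, 3888]) (.leaf [58, 84, 245, 600, 1446, 1885, 1970, 2836, 3734, 3815, 3839, 3864, 4175]))) (.node (.node (.leaf [439, 701, 1001, 1377, 1864, 1938, 2229, 2907, 2993, 3266, 3642, 3714, 3849]) (.leaf [848, 1098, 1523, 1546, 1920, 2199, 2506, 2576, 3206, 3228, 3347, 3364, 3983])) (.node (.leaf [17, 453, 474, 920, 1679, 1736, 2068, 2139, 2585, 2685, 2858, 3153, 3658]) (.leaf [441, 687, 903, 909, 1368, 1503, 1646, 1785, 2012, 2281, 2488, 2877, 4002])))))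

def nbr1208 : Janko.Tree (List ℕ) :=
  (.node (.node (.node (.node (.node (.leaf [304, 406, 624, 676, 691, 1225, 1445, 1492, 2114, 2387, 2623, 3461, 4434]) (.leaf [219, 920, 1078, 1559, 1770, 1780, 1783, 2129, 2498, 2684, 3133, 3329, 3959])) (.leaf [531, 573, 770, 854, 1115, 1947, 1962, 2088, 2844, 3934, 4012, 4065, 4126])) (.node (.leaf [658, 1590, 1824, 1944, 2154, 2351, 2356, 2467, 2578, 2851, 4135, 4300, 4373]) (.leaf [383, 957, 1963, 2135, 2317, 2492, 2555, 2720, 2807, 3746, 3768, 4030, 4164]))) (.node (.node (.leaf [317, 457, 953, 1178, 1346, 1629, 2115, 2328, 2809, 3048, 3604, 4183, 4256]) (.leaf [298, 451, 670, 1284, 1299, 1383, 2533, 2891, 3432, 3466, 3546, 3930, 4020])) (.node (.leaf [262, 638, 1618, 2202, 2631, 2715, 2773, 2876, 3612, 3634, 3837, 3843, 4102]) (.leaf [380, 510, 642, 1251, 1599, 2829, 2901, 3057, 3950, 4023, 4144, 4229, 4357])))) (.node (.node (.node (.leaf [559, 746, 783, 1511, 2028, 2387, 2909, 2926, 3423, 3577, 3798, 4179, 4299]) (.leaf [203, 222, 488, 684, 703, 1027, 2268, 3054, 3277, 3414, 3616, 4192, 4320])) (.node (.leaf [721, 745, 1155, 1296, 1756,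 1842, 2105, 2154, 2233, 2680, 3360, 4088, 4190]) (.leaf [171, 825, 1049, 2019, 2184, 3281, 3409, 3438, 3486, 4092, 4249, 4307, 4352]))) (.node (.node (.leaf [101, 390, 1378, 1486, 1648, 1893, 2334, 2750, 2771, 3279, 3309, 3468, 3516]) (.leaf [275, 371, 387, 1009, 1053, 1217, 1957, 2674, 2836, 2862, 3365, 3838, 4362])) (.node (.leaf [229, 395, 499, 978, 989, 1232, 1353, 2714, 2793, 2885, 3607, 3688, 3926]) (.leaf [156, 1086, 1235, 1268, 1381, 1807, 2051, 2407, 2983, 3220, 3493, 3696, 3967])))))

def nbr1209 : Janko.Tree (List ℕ) :=
  (.node (.node (.node (.node (.node (.leaf [305, 407, 625, 677, 690, 1224, 1444, 1493, 2115, 2386, 2622, 3460, 4435]) (.leaf [218, 921, 1079, 1558, 1771, 1781, 1782, 2128, 2499, 2685, 3132, 3328, 3958])) (.leaf [530, 572, 771, 855, 1114, 1946, 1963, 2089, 2845, 3935, 4013, 4064, 4127])) (.node (.leaf [659, 1591, 1825, 1945, 2155, 2350, 2357, 2466, 2579, 2850, 4134, 4301, 4372]) (.leaf [382, 956, 1962, 2134, 2316, 2493, 2554, 2721, 2806, 3747, 3769, 4031, 4165]))) (.node (.node (.leaf [316, 456, 952, 1179, 1347, 1628, 2114, 2329, 2808, 3049, 3605, 4182, 4257])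 (.leaf [299, 450, 671, 1285, 1298, 1382, 2532, 2890, 3433, 3467, 3547, 3931, 4021])) (.node (.leaf [263, 639, 1619, 2203, 2630, 2714, 2772, 2877, 3613, 3635, 3836, 3842, 4103]) (.leaf [381, 511, 643, 1250, 1598, 2828, 2900, 3056, 3951, 4022, 4145, 4228, 4356])))) (.node (.node (.node (.leaf [558, 747, 782, 1510, 2029, 2386, 2908, 2927, 3422, 3576, 3799, 4178, 4298]) (.leaf [202, 223, 489, 685, 702, 1026, 2269, 3055, 3276, 3415, 3617, 4193, 4321])) (.node (.leaf [720, 744, 1154, 1297, 1757, 1843, 2104, 2155, 2232, 2681, 3361, 4089, 4191]) (.leaf [170, 824, 1048, 2018, 2185, 3280, 3408, 3439, 3487, 4093, 4248, 4306, 4353]))) (.node (.node (.leaf [100, 391, 1379, 1487, 1649, 1892, 2335, 2751, 2770, 3278, 3308, 3469, 3517]) (.leaf [274, 370, 386, 1008, 1052, 1216, 1956, 2675, 2837, 2863, 3364, 3839, 4363])) (.node (.leaf [228, 394, 498, 979, 988, 1233, 1352, 2715, 2792, 2884, 3606, 3689, 3927]) (.leaf [157, 1087, 1234, 1269, 1380, 1806, 2050, 2406, 2982, 3221, 3492, 3697, 3966])))))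

def nbr1210 : Janko.Tree (List ℕ) :=
  (.node (.node (.node (.node (.node (.leaf [306, 521, 626, 678, 889, 1494, 1733, 1797, 2051, 2117, 2768, 4051, 4437]) (.leaf [223, 620, 684, 1113, 1185, 3170, 3262, 3266, 3825, 4010, 4122, 4160, 4309])) (.leaf [64, 605, 921, 1095, 2106, 2135, 2291, 2313, 2846, 3746, 3754, 3811, 4098])) (.node (.leaf [659, 1070, 1161, 1244, 1537, 1824, 2100, 2829, 2891, 3130, 3294, 3554, 3999]) (.leaf [1379, 1549, 1640, 1743, 1753, 1892, 2022, 2494, 2722, 2724, 3456, 3646, 3748]))) (.node (.node (.leaf [183, 321, 461, 493, 873, 1350, 2117, 2525, 3574, 3583, 3786, 3905, 4036]) (.leaf [85, 1286, 1301, 1343, 1385, 2170, 2301, 2342, 3304, 3367, 3434, 3548, 3839])) (.node (.leaf [157, 1158, 2153, 2208, 2722, 2912, 2950, 3499, 3809, 4166, 4235, 4344, 4404]) (.leaf [261, 296, 610, 727, 763, 774, 1328, 2223, 2444, 3741, 3968, 3977, 4268])))) (.node (.node (.node (.leaf [378, 506, 748, 1473, 1806, 2051, 2121, 2465, 2699, 2777, 4142, 4399, 4421]) (.leaf [135, 805, 1591, 1605, 1758, 1984, 2239, 2357, 2848, 3162, 3172, 3518, 3618])) (.node (.leaf [713, 1157, 1226, 1262, 1919,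 2030, 2235, 2411, 2819, 2878, 3046, 3288, 4313]) (.leaf [586, 732, 829, 1453, 1496, 1725, 1935, 2303, 2469, 2763, 4122, 4271, 4275]))) (.node (.node (.leaf [83, 292, 1380, 1615, 1650, 2057, 2510, 2982, 3027, 3234, 3470, 4058, 4352]) (.leaf [321, 729, 1512, 1570, 1594, 1981, 2189, 3211, 3357, 3475, 3536, 3582, 4269])) (.node (.leaf [501, 689, 916, 1235, 1280, 2140, 2686, 2716, 2813, 2887, 3441, 3777, 3909]) (.leaf [237, 405, 466, 941, 1051, 1272, 1355, 2771, 3150, 3469, 3626, 4403, 4447])))))

def nbr1211 : Janko.Tree (List ℕ) :=
  (.node (.node (.node (.node (.node (.leaf [307, 520, 627, 679, 888, 1495, 1732, 1796, 2050, 2116, 2769, 4050, 4436]) (.leaf [222, 621, 685, 1112, 1184, 3171, 3263, 3267, 3824, 4011, 4123, 4161, 4308])) (.leaf [65, 604, 920, 1094, 2107, 2134, 2290, 2312, 2847, 3747, 3755, 3810, 4099])) (.node (.leaf [658, 1071, 1160, 1245, 1536, 1825, 2101, 2828, 2890, 3131, 3295, 3555, 3998]) (.leaf [1378, 1548, 1641, 1742, 1752, 1893, 2023, 2495, 2723, 2725, 3457, 3647, 3749]))) (.node (.node (.leaf [182, 320, 460, 492, 872, 1351, 2116, 2524, 3575, 3582, 3787, 3904, 4037])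 (.leaf [84, 1287, 1300, 1342, 1384, 2171, 2300, 2343, 3305, 3366, 3435, 3549, 3838])) (.node (.leaf [156, 1159, 2152, 2209, 2723, 2913, 2951, 3498, 3808, 4167, 4234, 4345, 4405]) (.leaf [260, 297, 611, 726, 762, 775, 1329, 2222, 2445, 3740, 3969, 3976, 4269])))) (.node (.node (.node (.leaf [379, 507, 749, 1472, 1807, 2050, 2120, 2464, 2698, 2776, 4143, 4398, 4420]) (.leaf [134, 804, 1590, 1604, 1759, 1985, 2238, 2356, 2849, 3163, 3173, 3519, 3619])) (.node (.leaf [712, 1156, 1227, 1263, 1918, 2031, 2234, 2410, 2818, 2879, 3047, 3289, 4312]) (.leaf [587, 733, 828, 1452, 1497, 1724, 1934, 2302, 2468, 2762, 4123, 4270, 4274]))) (.node (.node (.leaf [82, 293, 1381, 1614, 1651, 2056, 2511, 2983, 3026, 3235, 3471, 4059, 4353]) (.leaf [320, 728, 1513, 1571, 1595, 1980, 2188, 3210, 3356, 3474, 3537, 3583, 4268])) (.node (.leaf [500, 688, 917, 1234, 1281, 2141, 2687, 2717, 2812, 2886, 3440, 3776, 3908]) (.leaf [236, 404, 467, 940, 1050, 1273, 1354, 2770, 3151, 3468, 3627, 4402, 4446])))))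

def nbr1212 : Janko.Tree (List ℕ) :=
  (.node (.node (.node (.node (.node (.leaf [114, 308, 383, 963, 1374, 1617, 1794, 1865, 2882, 3727, 3801, 4083, 4152]) (.leaf [29, 43, 675, 990, 1593, 1689, 2108, 2864, 3084, 3320, 3568, 4267, 4342])) (.leaf [66, 607, 923, 1097, 1743, 2315, 2373, 2428, 2848, 3053, 3484, 3748, 3759])) (.node (.leaf [73, 372, 1489, 1828, 2153, 2161, 2865, 2902, 3140, 3215, 3327, 3655, 4292]) (.leaf [243, 299, 405, 728, 971, 1354, 2005, 2224, 2447, 2498, 3075, 4255, 4453]))) (.node (.node (.leaf [181, 323, 463, 694, 1180, 2119, 2757, 3021, 3773, 3788, 4001, 4038, 4148]) (.leaf [514, 2009, 2269, 2286, 2469, 3043, 3194, 3298, 3586, 3699, 4024, 4347, 4378])) (.node (.leaf [6, 282, 328, 719, 1931, 2374, 2467, 2647, 2648, 3560, 3731, 3922, 3984]) (.leaf [98, 667, 693, 891, 987, 1897, 2147, 2426, 2479, 2868, 3159, 3766, 3940])))) (.node (.node (.node (.leaf [208, 750, 1365, 1617, 2027, 2413, 2417, 2592, 2666, 2741, 3311, 3721, 4062]) (.leaf [137, 807, 1760, 1986, 2175, 2339, 2359, 2502, 3102, 3176, 3223, 3620, 4174])) (.node (.leaf [753, 1364, 1682, 2032, 2294, 2405, 2427,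 2454, 2606, 2922, 3158, 3322, 3687]) (.leaf [821, 833, 881, 1240, 1304, 1371, 2547, 2767, 2825, 2971, 3550, 3688, 3805]))) (.node (.node (.leaf [105, 348, 394, 1050, 1721, 1771, 1783, 2131, 2186, 2861, 3006, 3475, 3627]) (.leaf [163, 609, 999, 1254, 1620, 2085, 2827, 2966, 3087, 3095, 3581, 4066, 4199])) (.node (.leaf [283, 841, 942, 1545, 1606, 1936, 2136, 2448, 2464, 2670, 2783, 3271, 3827]) (.leaf [6, 267, 1072, 1121, 1375, 1802, 2069, 2139, 2344, 2883, 3732, 3753, 3769])))))

def nbr1213 : Janko.Tree (List ℕ) :=
  (.node (.node (.node (.node (.node (.leaf [115, 309, 382, 962, 1375, 1616, 1795, 1864, 2883, 3726, 3800, 4082, 4153]) (.leaf [28, 42, 674, 991, 1592, 1688, 2109, 2865, 3085, 3321, 3569, 4266, 4343])) (.leaf [67, 606, 922, 1096, 1742, 2314, 2372, 2429, 2849, 3052, 3485, 3749, 3758])) (.node (.leaf [72, 373, 1488, 1829, 2152, 2160, 2864, 2903, 3141, 3214, 3326, 3654, 4293]) (.leaf [242, 298, 404, 729, 970, 1355, 2004, 2225, 2446, 2499, 3074, 4254, 4452]))) (.node (.node (.leaf [180, 322, 462, 695, 1181, 2118, 2756, 3020, 3772, 3789, 4000, 4039, 4149]) (.leaf [515, 2008,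 2268, 2287, 2468, 3042, 3195, 3299, 3587, 3698, 4025, 4346, 4379])) (.node (.leaf [7, 283, 329, 718, 1930, 2375, 2466, 2646, 2649, 3561, 3730, 3923, 3985]) (.leaf [99, 666, 692, 890, 986, 1896, 2146, 2427, 2478, 2869, 3158, 3767, 3941])))) (.node (.node (.node (.leaf [209, 751, 1364, 1616, 2026, 2412, 2416, 2593, 2667, 2740, 3310, 3720, 4063]) (.leaf [136, 806, 1761, 1987, 2174, 2338, 2358, 2503, 3103, 3177, 3222, 3621, 4175])) (.node (.leaf [752, 1365, 1683, 2033, 2295, 2404, 2426, 2455, 2607, 2923, 3159, 3323, 3686]) (.leaf [820, 832, 880, 1241, 1305, 1370, 2546, 2766, 2824, 2970, 3551, 3689, 3804]))) (.node (.node (.leaf [104, 349, 395, 1051, 1720, 1770, 1782, 2130, 2187, 2860, 3007, 3474, 3626]) (.leaf [162, 608, 998, 1255, 1621, 2084, 2826, 2967, 3086, 3094, 3580, 4067, 4198])) (.node (.leaf [282, 840, 943, 1544, 1607, 1937, 2137, 2449, 2465, 2671, 2782, 3270, 3826]) (.leaf [7, 266, 1073, 1120, 1374, 1803, 2068, 2138, 2345, 2882, 3733, 3752, 3768])))))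

def nbr1214 : Janko.Tree (List ℕ) :=
  (.node (.node (.node (.node (.node (.leaf [116, 310, 965, 1376, 1640, 1948, 3134, 3258, 3803, 4004, 4085, 4178, 4236]) (.leaf [254, 333, 1410, 1430, 1476, 1662, 2440, 2500, 2550, 3075, 4006, 4430, 4463])) (.leaf [501, 884, 1385, 1549, 1568, 1686, 1747, 2054, 2205, 2592, 2925, 3721, 3829])) (.node (.leaf [432, 522, 634, 711, 917, 1830, 2079, 2659, 2710, 3917, 4245, 4349, 4454]) (.leaf [84, 245, 407, 1196, 2007, 2194, 2221, 2500, 3241, 3303, 3717, 3744, 4386]))) (.node (.node (.leaf [149, 230, 353, 435, 787, 1379, 1538, 1866, 2793, 2885, 3697, 4030, 4209]) (.leaf [631, 1150, 1335, 1544, 1717, 1916, 3227, 3480, 3490, 3596, 3797, 3997, 4392])) (.node (.leaf [8, 330, 543, 1541, 1815, 2214, 2615, 2649, 3429, 3562, 3733, 3922, 4068]) (.leaf [83, 239, 449, 1477, 1578, 1919, 1996, 2234, 2485, 3538, 3861, 3972, 4205])))) (.node (.node (.node (.leaf [173, 424, 574, 662, 752, 2033, 2552, 2624, 2642, 2686, 2980, 3693, 4443]) (.leaf [1176, 1313, 1382, 1394, 1762, 1914, 2005, 2410, 2630, 2890, 3000, 3552, 4365])) (.node (.leaf [239, 1637, 1684, 2034, 2147,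 2608, 2773, 3061, 3722, 3767, 3823, 4100, 4321]) (.leaf [98, 161, 1000, 1704, 1965, 2021, 2083, 2485, 3093, 3150, 3483, 3507, 3725]))) (.node (.node (.leaf [130, 898, 932, 1321, 1382, 2026, 2109, 2307, 2813, 3114, 3241, 3771, 4377]) (.leaf [511, 525, 1001, 1256, 1622, 2099, 2829, 2891, 3266, 3536, 3553, 3583, 3786])) (.node (.leaf [34, 758, 944, 1247, 1547, 1938, 2263, 2319, 2672, 3423, 3442, 4069, 4113]) (.leaf [576, 723, 945, 1159, 1298, 2197, 2413, 2720, 2821, 2965, 3112, 4351, 4404])))))

def nbr1215 : Janko.Tree (List ℕ) :=
  (.node (.node (.node (.node (.node (.leaf [117, 311, 964, 1377, 1641, 1949, 3135, 3259, 3802, 4005, 4084, 4179, 4237]) (.leaf [255, 332, 1411, 1431, 1477, 1663, 2441, 2501, 2551, 3074, 4007, 4431, 4462])) (.leaf [500, 885, 1384, 1548, 1569, 1687, 1746, 2055, 2204, 2593, 2924, 3720, 3828])) (.node (.leaf [433, 523, 635, 710, 916, 1831, 2078, 2658, 2711, 3916, 4244, 4348, 4455]) (.leaf [85, 244, 406, 1197, 2006, 2195, 2220, 2501, 3240, 3302, 3716, 3745, 4387]))) (.node (.node (.leaf [148, 231, 352, 434, 786, 1378, 1539, 1867, 2792, 2884, 3696, 4031, 4208])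 (.leaf [630, 1151, 1334, 1545, 1716, 1917, 3226, 3481, 3491, 3597, 3796, 3996, 4393])) (.node (.leaf [9, 331, 542, 1540, 1814, 2215, 2614, 2648, 3428, 3563, 3732, 3923, 4069]) (.leaf [82, 238, 448, 1476, 1579, 1918, 1997, 2235, 2484, 3539, 3860, 3973, 4204])))) (.node (.node (.node (.leaf [172, 425, 575, 663, 753, 2032, 2553, 2625, 2643, 2687, 2981, 3692, 4442]) (.leaf [1177, 1312, 1383, 1395, 1763, 1915, 2004, 2411, 2631, 2891, 3001, 3553, 4364])) (.node (.leaf [238, 1636, 1685, 2035, 2146, 2609, 2772, 3060, 3723, 3766, 3822, 4101, 4320]) (.leaf [99, 160, 1001, 1705, 1964, 2020, 2082, 2484, 3092, 3151, 3482, 3506, 3724]))) (.node (.node (.leaf [131, 899, 933, 1320, 1383, 2027, 2108, 2306, 2812, 3115, 3240, 3770, 4376]) (.leaf [510, 524, 1000, 1257, 1623, 2098, 2828, 2890, 3267, 3537, 3552, 3582, 3787])) (.node (.leaf [35, 759, 945, 1246, 1546, 1939, 2262, 2318, 2673, 3422, 3443, 4068, 4112]) (.leaf [577, 722, 944, 1158, 1299, 2196, 2412, 2721, 2820, 2964, 3113, 4350, 4405])))))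

def nbr1216 : Janko.Tree (List ℕ) :=
  (.node (.node (.node (.node (.node (.leaf [118, 312, 433, 1056, 1256, 2078, 2956, 3291, 3326, 3494, 3934, 4218, 4439]) (.leaf [86, 404, 538, 540, 1493, 1605, 2115, 2356, 3077, 3097, 3168, 3864, 4338])) (.leaf [123, 475, 548, 1142, 1417, 1441, 1834, 2060, 2333, 3013, 3174, 3499, 4281])) (.node (.leaf [185, 434, 646, 875, 919, 1024, 1387, 1830, 2179, 2747, 3691, 4030, 4331]) (.leaf [191, 298, 329, 1528, 1591, 2241, 2467, 2876, 3282, 3519, 3840, 4102, 4118]))) (.node (.node (.leaf [151, 232, 789, 1381, 2363, 2654, 2724, 2813, 2873, 2887, 2893, 3511, 3684]) (.leaf [14, 473, 1362, 1676, 1691, 1703, 1735, 2067, 2231, 2857, 2929, 3573, 4243])) (.node (.leaf [10, 133, 1334, 1404, 1725, 2216, 2302, 2572, 2651, 3312, 3480, 3652, 4079]) (.leaf [113, 796, 958, 1128, 1692, 1859, 2145, 2263, 2673, 3542, 3673, 4018, 4380])))) (.node (.node (.node (.leaf [754, 1155, 2025, 2055, 2127, 2205, 2638, 2666, 2750, 2804, 4011, 4165, 4191]) (.leaf [78, 823, 1315, 1384, 1396, 1764, 2007, 2300, 2385, 2504, 3002, 3377, 3554])) (.node (.leaf [187, 191, 448, 1553, 1586, 1590,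 2893, 2897, 3197, 3511, 3837, 4056, 4359]) (.leaf [563, 1055, 1530, 1829, 2009, 2243, 2266, 2487, 2698, 3214, 3698, 3971, 4163]))) (.node (.node (.leaf [132, 349, 663, 1384, 1517, 1686, 2028, 2217, 2644, 3039, 3116, 3799, 4238]) (.leaf [457, 629, 1107, 1264, 1965, 2253, 2415, 2779, 2912, 3049, 3089, 3584, 3701])) (.node (.leaf [1031, 1281, 1735, 2087, 2131, 2172, 2495, 2690, 2706, 2826, 3552, 4199, 4210]) (.leaf [45, 914, 1971, 2011, 2730, 3117, 3186, 3541, 3735, 3802, 4178, 4239, 4301])))))

def nbr1217 : Janko.Tree (List ℕ) :=
  (.node (.node (.node (.node (.node (.leaf [119, 313, 432, 1057, 1257, 2079, 2957, 3290, 3327, 3495, 3935, 4219, 4438]) (.leaf [87, 405, 539, 541, 1492, 1604, 2114, 2357, 3076, 3096, 3169, 3865, 4339])) (.leaf [122, 474, 549, 1143, 1416, 1440, 1835, 2061, 2332, 3012, 3175, 3498, 4280])) (.node (.leaf [184, 435, 647, 874, 918, 1025, 1386, 1831, 2178, 2746, 3690, 4031, 4330]) (.leaf [190, 299, 328, 1529, 1590, 2240, 2466, 2877, 3283, 3518, 3841, 4103, 4119]))) (.node (.node (.leaf [150, 233, 788, 1380, 2362, 2655, 2725, 2812, 2872, 2886, 2892, 3510, 3685]) (.leaf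 [15, 472, 1363, 1677, 1690, 1702, 1734, 2066, 2230, 2856, 2928, 3572, 4242])) (.node (.leaf [11, 132, 1335, 1405, 1724, 2217, 2303, 2573, 2650, 3313, 3481, 3653, 4078]) (.leaf [112, 797, 959, 1129, 1693, 1858, 2144, 2262, 2672, 3543, 3672, 4019, 4381])))) (.node (.node (.node (.leaf [755, 1154, 2024, 2054, 2126, 2204, 2639, 2667, 2751, 2805, 4010, 4164, 4190]) (.leaf [79, 822, 1314, 1385, 1397, 1765, 2006, 2301, 2384, 2505, 3003, 3376, 3555])) (.node (.leaf [186, 190, 449, 1552, 1587, 1591, 2892, 2896, 3196, 3510, 3836, 4057, 4358]) (.leaf [562, 1054, 1531, 1828, 2008, 2242, 2267, 2486, 2699, 3215, 3699, 3970, 4162]))) (.node (.node (.leaf [133, 348, 662, 1385, 1516, 1687, 2029, 2216, 2645, 3038, 3117, 3798, 4239]) (.leaf [456, 628, 1106, 1265, 1964, 2252, 2414, 2778, 2913, 3048, 3088, 3585, 3700])) (.node (.leaf [1030, 1280, 1734, 2086, 2130, 2173, 2494, 2691, 2707, 2827, 3553, 4198, 4211]) (.leaf [44, 915, 1970, 2010, 2731, 3116, 3187, 3540, 3734, 3803, 4179, 4238, 4300])))))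

def nbr1218 : Janko.Tree (List ℕ) :=
  (.node (.node (.node (.node (.node (.leaf [120, 314, 435, 1207, 1479, 2066, 2160, 2178, 2264, 2934, 3496, 3680, 3936]) (.leaf [10, 132, 480, 805, 1307, 2789, 3518, 3631, 3941, 3990, 4118, 4239, 4286])) (.leaf [47, 129, 638, 723, 1430, 1442, 1535, 2550, 2555, 2721, 3227, 3307, 3909])) (.node (.leaf [92, 140, 713, 1026, 1700, 1832, 2479, 3201, 3352, 3429, 3584, 3816, 4467]) (.leaf [68, 339, 938, 1164, 1315, 1695, 1786, 1940, 2035, 2612, 3961, 4073, 4403]))) (.node (.node (.leaf [79, 234, 465, 1021, 1229, 1787, 2170, 2343, 2942, 3031, 3446, 3476, 4249]) (.leaf [36, 536, 774, 815, 920, 1467, 2440, 2513, 2859, 2861, 3035, 3166, 3631])) (.node (.leaf [12, 536, 1336, 1406, 1648, 2545, 2653, 3078, 3257, 3314, 3648, 4172, 4180]) (.leaf [193, 798, 960, 1694, 2126, 2205, 3028, 3474, 3524, 3530, 4130, 4315, 4433])))) (.node (.node (.node (.leaf [756, 1157, 1426, 1752, 1913, 2207, 2640, 2806, 2982, 3521, 4008, 4312, 4322]) (.leaf [538, 592, 1062, 1650, 1731, 1927, 2916, 3123, 3180, 3268, 3425, 3849, 3990])) (.node (.leaf [273, 385, 450, 1051, 1521, 1555,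 2036, 2503, 2726, 2860, 3199, 3987, 4053]) (.leaf [74, 519, 698, 900, 927, 1033, 1270, 2871, 3305, 3629, 3787, 3896, 4150]))) (.node (.node (.leaf [709, 918, 1125, 1323, 1329, 1386, 1677, 1953, 2430, 2738, 3185, 3950, 4105]) (.leaf [241, 242, 253, 331, 479, 652, 1360, 1779, 1968, 2185, 2728, 3598, 3945])) (.node (.leaf [126, 1003, 1015, 1033, 1147, 1627, 1737, 2736, 2828, 3554, 3786, 3954, 4241]) (.leaf [187, 392, 1102, 1420, 2164, 2332, 2884, 2894, 3193, 3218, 3781, 3892, 4209])))))

def nbr1219 : Janko.Tree (List ℕ) :=
  (.node (.node (.node (.node (.node (.leaf [121, 315, 434, 1206, 1478, 2067, 2161, 2179, 2265, 2935, 3497, 3681, 3937]) (.leaf [11, 133, 481, 804, 1306, 2788, 3519, 3630, 3940, 3991, 4119, 4238, 4287])) (.leaf [46, 128, 639, 722, 1431, 1443, 1534, 2551, 2554, 2720, 3226, 3306, 3908])) (.node (.leaf [93, 141, 712, 1027, 1701, 1833, 2478, 3200, 3353, 3428, 3585, 3817, 4466]) (.leaf [69, 338, 939, 1165, 1314, 1694, 1787, 1941, 2034, 2613, 3960, 4072, 4402]))) (.node (.node (.leaf [78, 235, 464, 1020, 1228, 1786, 2171, 2342, 2943, 3030, 3447, 3477, 4248]) (.leaf [37,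 537, 775, 814, 921, 1466, 2441, 2512, 2858, 2860, 3034, 3167, 3630])) (.node (.leaf [13, 537, 1337, 1407, 1649, 2544, 2652, 3079, 3256, 3315, 3649, 4173, 4181]) (.leaf [192, 799, 961, 1695, 2127, 2204, 3029, 3475, 3525, 3531, 4131, 4314, 4432])))) (.node (.node (.node (.leaf [757, 1156, 1427, 1753, 1912, 2206, 2641, 2807, 2983, 3520, 4009, 4313, 4323]) (.leaf [539, 593, 1063, 1651, 1730, 1926, 2917, 3122, 3181, 3269, 3424, 3848, 3991])) (.node (.leaf [272, 384, 451, 1050, 1520, 1554, 2037, 2502, 2727, 2861, 3198, 3986, 4052]) (.leaf [75, 518, 699, 901, 926, 1032, 1271, 2870, 3304, 3628, 3786, 3897, 4151]))) (.node (.node (.leaf [708, 919, 1124, 1322, 1328, 1387, 1676, 1952, 2431, 2739, 3184, 3951, 4104]) (.leaf [240, 243, 252, 330, 478, 653, 1361, 1778, 1969, 2184, 2729, 3599, 3944])) (.node (.leaf [127, 1002, 1014, 1032, 1146, 1626, 1736, 2737, 2829, 3555, 3787, 3955, 4240]) (.leaf [186, 393, 1103, 1421, 2165, 2333, 2885, 2895, 3192, 3219, 3780, 3893, 4208])))))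

def nbr1220 : Janko.Tree (List ℕ) :=
  (.node (.node (.node (.node (.node (.leaf [316, 596, 813, 1041, 2376, 2390, 2552, 2598, 2838, 3152, 3658, 3885, 4407]) (.leaf [29, 716, 780, 1319, 1638, 1978, 2845, 2970, 3669, 3826, 4281, 4293, 4411])) (.leaf [210, 289, 573, 585, 778, 1157, 1298, 1817, 3113, 3223, 3920, 4043, 4064])) (.node (.leaf [94, 436, 715, 1028, 1702, 1834, 2407, 2481, 3106, 3431, 3641, 3763, 3956]) (.leaf [192, 611, 696, 969, 1297, 2802, 2888, 3058, 3383, 3683, 3741, 4410, 4462]))) (.node (.node (.leaf [81, 236, 467, 1023, 1599, 2172, 2345, 2646, 3246, 3448, 3561, 4097, 4251]) (.leaf [503, 763, 1500, 1760, 1828, 2158, 2362, 2724, 2841, 3213, 3260, 3456, 3705])) (.node (.leaf [139, 201, 624, 1283, 1408, 2256, 2296, 2693, 3108, 3286, 3292, 4020, 4388]) (.leaf [35, 236, 709, 1630, 1677, 2345, 2929, 3348, 3463, 3676, 3733, 3956, 4068])))) (.node (.node (.node (.leaf [209, 742, 758, 1414, 1462, 1651, 1745, 2123, 2245, 2949, 3027, 3300, 4202]) (.leaf [188, 1066, 1832, 2209, 2378, 2404, 2620, 2754, 3006, 3353, 3503, 3750, 4166])) (.node (.leaf [69, 147, 494, 754, 874, 938, 1130,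 1793, 1830, 2042, 2150, 3155, 3181]) (.leaf [76, 902, 986, 1013, 1230, 1272, 1466, 2197, 2247, 3242, 3455, 3631, 3789]))) (.node (.node (.leaf [516, 1038, 1312, 1325, 1388, 1624, 1679, 2005, 2834, 3274, 3500, 4125, 4478]) (.leaf [244, 255, 481, 1362, 1884, 2230, 2388, 2550, 2596, 2789, 3226, 3600, 3883])) (.node (.leaf [569, 604, 855, 1037, 1176, 1211, 1297, 1520, 1962, 2091, 2135, 2434, 3696]) (.leaf [547, 788, 1678, 2035, 2068, 2147, 2181, 2423, 2725, 3752, 3940, 4225, 4402])))))

def nbr1221 : Janko.Tree (List ℕ) :=
  (.node (.node (.node (.node (.node (.leaf [317, 597, 812, 1040, 2377, 2391, 2553, 2599, 2839, 3153, 3659, 3884, 4406]) (.leaf [28, 717, 781, 1318, 1639, 1979, 2844, 2971, 3668, 3827, 4280, 4292, 4410])) (.leaf [211, 288, 572, 584, 779, 1156, 1299, 1816, 3112, 3222, 3921, 4042, 4065])) (.node (.leaf [95, 437, 714, 1029, 1703, 1835, 2406, 2480, 3107, 3430, 3640, 3762, 3957]) (.leaf [193, 610, 697, 968, 1296, 2803, 2889, 3059, 3382, 3682, 3740, 4411, 4463]))) (.node (.node (.leaf [80, 237, 466, 1022, 1598, 2173, 2344, 2647, 3247, 3449, 3560, 4096, 4250]) (.leaf [502,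 762, 1501, 1761, 1829, 2159, 2363, 2725, 2840, 3212, 3261, 3457, 3704])) (.node (.leaf [138, 200, 625, 1282, 1409, 2257, 2297, 2692, 3109, 3287, 3293, 4021, 4389]) (.leaf [34, 237, 708, 1631, 1676, 2344, 2928, 3349, 3462, 3677, 3732, 3957, 4069])))) (.node (.node (.node (.leaf [208, 743, 759, 1415, 1463, 1650, 1744, 2122, 2244, 2948, 3026, 3301, 4203]) (.leaf [189, 1067, 1833, 2208, 2379, 2405, 2621, 2755, 3007, 3352, 3502, 3751, 4167])) (.node (.leaf [68, 146, 495, 755, 875, 939, 1131, 1792, 1831, 2043, 2151, 3154, 3180]) (.leaf [77, 903, 987, 1012, 1231, 1273, 1467, 2196, 2246, 3243, 3454, 3630, 3788]))) (.node (.node (.leaf [517, 1039, 1313, 1324, 1389, 1625, 1678, 2004, 2835, 3275, 3501, 4124, 4479]) (.leaf [245, 254, 480, 1363, 1885, 2231, 2389, 2551, 2597, 2788, 3227, 3601, 3882])) (.node (.leaf [568, 605, 854, 1036, 1177, 1210, 1296, 1521, 1963, 2090, 2134, 2435, 3697]) (.leaf [546, 789, 1679, 2034, 2069, 2146, 2180, 2422, 2724, 3753, 3941, 4224, 4403])))))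

def nbr1222 : Janko.Tree (List ℕ) :=
  (.node (.node (.node (.node (.node (.leaf [318, 815, 1043, 2434, 2620, 2840, 3270, 3498, 3591, 3902, 4167, 4295, 4336]) (.leaf [987, 1013, 1071, 1254, 1550, 1642, 1667, 2092, 2124, 2505, 3003, 3919, 4288])) (.leaf [109, 168, 525, 1230, 2174, 2376, 2850, 3081, 3104, 3716, 3939, 4107, 4346])) (.node (.leaf [53, 442, 1335, 1505, 1836, 1888, 2665, 2791, 2947, 3366, 3434, 3796, 4078]) (.leaf [283, 595, 707, 2191, 2508, 2648, 2704, 2881, 3160, 3284, 3320, 3597, 3622]))) (.node (.node (.leaf [83, 238, 1141, 1537, 1669, 2019, 2961, 3367, 3371, 3822, 4012, 4059, 4064]) (.leaf [471, 482, 505, 735, 742, 769, 973, 1355, 1696, 1844, 2075, 2279, 2531])) (.node (.leaf [62, 1560, 1931, 2218, 2294, 2535, 3028, 3533, 3543, 3923, 4120, 4224, 4445]) (.leaf [248, 542, 944, 1047, 1323, 1676, 1766, 1827, 2471, 2683, 3139, 3337, 4068])))) (.node (.node (.node (.leaf [45, 210, 537, 760, 1210, 1224, 1543, 1947, 1962, 3205, 3674, 4309, 4452]) (.leaf [289, 1551, 1792, 2244, 2385, 2408, 2505, 2918, 3690, 3723, 3920, 4035, 4476])) (.node (.leaf [726, 825, 876, 1048, 1101,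 1260, 1832, 2046, 2105, 2307, 2801, 3977, 4345]) (.leaf [140, 351, 446, 453, 823, 1518, 1892, 2242, 2664, 3352, 3557, 3809, 4166]))) (.node (.node (.leaf [215, 299, 329, 637, 1390, 2209, 2951, 3007, 3112, 3466, 3921, 4026, 4276]) (.leaf [59, 201, 327, 953, 1597, 1667, 1836, 2114, 2692, 2907, 3400, 3523, 4175])) (.node (.leaf [32, 853, 1127, 1433, 1524, 1615, 1666, 2257, 2692, 2993, 3160, 3665, 3963]) (.leaf [46, 401, 939, 2074, 2149, 2392, 2425, 3196, 3889, 4325, 4359, 4429, 4475])))))

def nbr1223 : Janko.Tree (List ℕ) :=
  (.node (.node (.node (.node (.node (.leaf [319, 814, 1042, 2435, 2621, 2841, 3271, 3499, 3590, 3903, 4166, 4294, 4337]) (.leaf [986, 1012, 1070, 1255, 1551, 1643, 1666, 2093, 2125, 2504, 3002, 3918, 4289])) (.leaf [108, 169, 524, 1231, 2175, 2377, 2851, 3080, 3105, 3717, 3938, 4106, 4347])) (.node (.leaf [52, 443, 1334, 1504, 1837, 1889, 2664, 2790, 2946, 3367, 3435, 3797, 4079]) (.leaf [282, 594, 706, 2190, 2509, 2649, 2705, 2880, 3161, 3285, 3321, 3596, 3623]))) (.node (.node (.leaf [82, 239, 1140, 1536, 1668, 2018, 2960, 3366, 3370, 3823, 4013, 4058, 4065])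 (.leaf [470, 483, 504, 734, 743, 768, 972, 1354, 1697, 1845, 2074, 2278, 2530])) (.node (.leaf [63, 1561, 1930, 2219, 2295, 2534, 3029, 3532, 3542, 3922, 4121, 4225, 4444]) (.leaf [249, 543, 945, 1046, 1322, 1677, 1767, 1826, 2470, 2682, 3138, 3336, 4069])))) (.node (.node (.node (.leaf [44, 211, 536, 761, 1211, 1225, 1542, 1946, 1963, 3204, 3675, 4308, 4453]) (.leaf [288, 1550, 1793, 2245, 2384, 2409, 2504, 2919, 3691, 3722, 3921, 4034, 4477])) (.node (.leaf [727, 824, 877, 1049, 1100, 1261, 1833, 2047, 2104, 2306, 2800, 3976, 4344]) (.leaf [141, 350, 447, 452, 822, 1519, 1893, 2243, 2665, 3353, 3556, 3808, 4167]))) (.node (.node (.leaf [214, 298, 328, 636, 1391, 2208, 2950, 3006, 3113, 3467, 3920, 4027, 4277]) (.leaf [58, 200, 326, 952, 1596, 1666, 1837, 2115, 2693, 2906, 3401, 3522, 4174])) (.node (.leaf [33, 852, 1126, 1432, 1525, 1614, 1667, 2256, 2693, 2992, 3161, 3664, 3962]) (.leaf [47, 400, 938, 2075, 2148, 2393, 2424, 3197, 3888, 4324, 4358, 4428, 4474])))))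

def nbr1224 : Janko.Tree (List ℕ) :=
  (.node (.node (.node (.node (.node (.leaf [320, 893, 1081, 1490, 2205, 2711, 2776, 2885, 3010, 3272, 3606, 4297, 4315]) (.leaf [360, 828, 1174, 1648, 1861, 1913, 2316, 2698, 3348, 3649, 3816, 3964, 4398])) (.leaf [170, 353, 589, 624, 641, 1232, 2670, 2852, 2884, 3118, 3270, 4045, 4457])) (.node (.leaf [397, 544, 829, 1337, 1443, 1507, 1838, 2592, 2618, 2667, 3919, 4027, 4181]) (.leaf [229, 1516, 1547, 1598, 1718, 2060, 2646, 2805, 2849, 3057, 3347, 3758, 3984]))) (.node (.node (.leaf [54, 240, 545, 1436, 1539, 1818, 2417, 2741, 2963, 3323, 3459, 3740, 4183]) (.leaf [70, 191, 250, 956, 1246, 1502, 2497, 2877, 3061, 3123, 3768, 3837, 4068])) (.node (.leaf [64, 400, 549, 580, 1198, 2214, 3029, 3030, 3340, 3730, 3923, 4100, 4136]) (.leaf [18, 1057, 1646, 2079, 2312, 2388, 2772, 2877, 3108, 3293, 3769, 4194, 4199])))) (.node (.node (.node (.leaf [256, 539, 762, 1212, 2177, 2708, 2769, 3097, 3451, 3457, 3606, 4367, 4387]) (.leaf [14, 502, 576, 1185, 1559, 2721, 2974, 3188, 3263, 3443, 3446, 4077, 4231])) (.node (.leaf [1541, 1851, 1948, 2330, 2425,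 2470, 3037, 3197, 3242, 3980, 4068, 4302, 4329]) (.leaf [142, 426, 766, 829, 1452, 2327, 2677, 2698, 2704, 2777, 2798, 3282, 3811]))) (.node (.node (.leaf [84, 331, 639, 653, 1343, 1392, 1444, 1453, 2642, 3379, 3862, 4265, 4442]) (.leaf [623, 2043, 2108, 2203, 2417, 3077, 3154, 3283, 3770, 3882, 4102, 4251, 4343])) (.node (.leaf [115, 924, 1266, 1352, 1601, 1617, 1848, 2142, 2694, 3083, 3162, 3319, 3844]) (.leaf [378, 601, 602, 852, 1246, 2482, 2843, 3468, 3736, 3835, 3877, 3881, 4272])))))

def nbr1225 : Janko.Tree (List ℕ) :=
  (.node (.node (.node (.node (.node (.leaf [321, 892, 1080, 1491, 2204, 2710, 2777, 2884, 3011, 3273, 3607, 4296, 4314]) (.leaf [361, 829, 1175, 1649, 1860, 1912, 2317, 2699, 3349, 3648, 3817, 3965, 4399])) (.leaf [171, 352, 588, 625, 640, 1233, 2671, 2853, 2885, 3119, 3271, 4044, 4456])) (.node (.leaf [396, 545, 828, 1336, 1442, 1506, 1839, 2593, 2619, 2666, 3918, 4026, 4180]) (.leaf [228, 1517, 1546, 1599, 1719, 2061, 2647, 2804, 2848, 3056, 3346, 3759, 3985]))) (.node (.node (.leaf [55, 241, 544, 1437, 1538, 1819, 2416, 2740, 2962, 3322, 3458, 3741, 4182])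 (.leaf [71, 190, 251, 957, 1247, 1503, 2496, 2876, 3060, 3122, 3769, 3836, 4069])) (.node (.leaf [65, 401, 548, 581, 1199, 2215, 3028, 3031, 3341, 3731, 3922, 4101, 4137]) (.leaf [19, 1056, 1647, 2078, 2313, 2389, 2773, 2876, 3109, 3292, 3768, 4195, 4198])))) (.node (.node (.node (.leaf [257, 538, 763, 1213, 2176, 2709, 2768, 3096, 3450, 3456, 3607, 4366, 4386]) (.leaf [15, 503, 577, 1184, 1558, 2720, 2975, 3189, 3262, 3442, 3447, 4076, 4230])) (.node (.leaf [1540, 1850, 1949, 2331, 2424, 2471, 3036, 3196, 3243, 3981, 4069, 4303, 4328]) (.leaf [143, 427, 767, 828, 1453, 2326, 2676, 2699, 2705, 2776, 2799, 3283, 3810]))) (.node (.node (.leaf [85, 330, 638, 652, 1342, 1393, 1445, 1452, 2643, 3378, 3863, 4264, 4443]) (.leaf [622, 2042, 2109, 2202, 2416, 3076, 3155, 3282, 3771, 3883, 4103, 4250, 4342])) (.node (.leaf [114, 925, 1267, 1353, 1600, 1616, 1849, 2143, 2695, 3082, 3163, 3318, 3845]) (.leaf [379, 600, 603, 853, 1247, 2483, 2842, 3469, 3737, 3834, 3876, 3880, 4273])))))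

def nbr1226 : Janko.Tree (List ℕ) :=
  (.node (.node (.node (.node (.node (.leaf [322, 380, 1998, 2207, 2746, 2763, 2805, 2887, 3776, 3878, 3948, 4229, 4416]) (.leaf [156, 426, 818, 825, 1111, 1397, 1412, 2209, 2292, 2796, 3280, 3410, 3820])) (.leaf [1320, 1417, 1466, 1660, 1744, 1803, 1852, 1955, 2854, 3112, 3974, 4202, 4242])) (.node (.leaf [15, 106, 896, 1232, 1840, 2237, 2338, 3102, 3688, 4231, 4346, 4378, 4413]) (.leaf [63, 666, 1371, 1522, 1529, 1787, 2273, 2294, 2594, 2876, 2923, 2943, 4326]))) (.node (.node (.leaf [429, 1137, 1182, 1454, 1895, 2017, 2194, 2312, 2399, 2935, 3811, 4048, 4086]) (.leaf [72, 487, 912, 1248, 1893, 1916, 2022, 2281, 2726, 3063, 3125, 3556, 4053])) (.node (.leaf [134, 1090, 1341, 1620, 1662, 2220, 2239, 2601, 2640, 3438, 4006, 4129, 4386]) (.leaf [551, 634, 1106, 1367, 1560, 1672, 2359, 2657, 2879, 3608, 4032, 4225, 4455])))) (.node (.node (.node (.leaf [496, 526, 577, 756, 764, 790, 1132, 1387, 1795, 2044, 2239, 3161, 3665]) (.leaf [22, 247, 844, 1119, 1530, 2008, 2114, 2287, 2920, 3096, 3451, 4063, 4192])) (.node (.leaf [221, 308, 487, 1543, 1846,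 1950, 2473, 3199, 3251, 3375, 3419, 3633, 4380]) (.leaf [93, 144, 751, 1454, 1894, 1999, 2223, 2700, 2800, 3333, 3757, 3759, 3968]))) (.node (.node (.leaf [641, 1394, 1410, 1845, 2269, 2303, 2433, 2468, 2588, 2836, 3080, 3105, 3616]) (.leaf [348, 529, 576, 2045, 2259, 3038, 3262, 3651, 3884, 3969, 4122, 4263, 4287])) (.node (.leaf [23, 340, 787, 1307, 1605, 1854, 2144, 2588, 2696, 3303, 3875, 3901, 3925]) (.leaf [169, 258, 837, 856, 1047, 2182, 2451, 2587, 3279, 3373, 3709, 3970, 4325])))))

def nbr1227 : Janko.Tree (List ℕ) :=
  (.node (.node (.node (.node (.node (.leaf [323, 381, 1999, 2206, 2747, 2762, 2804, 2886, 3777, 3879, 3949, 4228, 4417]) (.leaf [157, 427, 819, 824, 1110, 1396, 1413, 2208, 2293, 2797, 3281, 3411, 3821])) (.leaf [1321, 1416, 1467, 1661, 1745, 1802, 1853, 1954, 2855, 3113, 3975, 4203, 4243])) (.node (.leaf [14, 107, 897, 1233, 1841, 2236, 2339, 3103, 3689, 4230, 4347, 4379, 4412]) (.leaf [62, 667, 1370, 1523, 1528, 1786, 2272, 2295, 2595, 2877, 2922, 2942, 4327]))) (.node (.node (.leaf [428, 1136, 1183, 1455, 1894, 2016, 2195, 2313, 2398, 2934, 3810, 4049, 4087])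 (.leaf [73, 486, 913, 1249, 1892, 1917, 2023, 2280, 2727, 3062, 3124, 3557, 4052])) (.node (.leaf [135, 1091, 1340, 1621, 1663, 2221, 2238, 2600, 2641, 3439, 4007, 4128, 4387]) (.leaf [550, 635, 1107, 1366, 1561, 1673, 2358, 2656, 2878, 3609, 4033, 4224, 4454])))) (.node (.node (.node (.leaf [497, 527, 576, 757, 765, 791, 1133, 1386, 1794, 2045, 2238, 3160, 3664]) (.leaf [23, 246, 845, 1118, 1531, 2009, 2115, 2286, 2921, 3097, 3450, 4062, 4193])) (.node (.leaf [220, 309, 486, 1542, 1847, 1951, 2472, 3198, 3250, 3374, 3418, 3632, 4381]) (.leaf [92, 145, 750, 1455, 1895, 1998, 2222, 2701, 2801, 3332, 3756, 3758, 3969]))) (.node (.node (.leaf [640, 1395, 1411, 1844, 2268, 2302, 2432, 2469, 2589, 2837, 3081, 3104, 3617]) (.leaf [349, 528, 577, 2044, 2258, 3039, 3263, 3650, 3885, 3968, 4123, 4262, 4286])) (.node (.leaf [22, 341, 786, 1306, 1604, 1855, 2145, 2589, 2697, 3302, 3874, 3900, 3924]) (.leaf [168, 259, 836, 857, 1046, 2183, 2450, 2586, 3278, 3372, 3708, 3971, 4324])))))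

def nbr1228 : Janko.Tree (List ℕ) :=
  (.node (.node (.node (.node (.node (.leaf [4, 420, 1079, 1319, 2059, 2557, 2684, 2734, 2741, 3043, 3721, 4311, 4393]) (.leaf [600, 952, 1107, 1258, 1272, 1292, 1439, 1628, 2211, 2246, 2562, 3880, 4175])) (.leaf [30, 662, 871, 1419, 1553, 2139, 2575, 2744, 2986, 3385, 3509, 4204, 4265])) (.node (.leaf [19, 110, 849, 1120, 1572, 1842, 2362, 2389, 2841, 2873, 3268, 3572, 3662]) (.leaf [38, 898, 1273, 1439, 2296, 2526, 2861, 2966, 3086, 3205, 3517, 3630, 4414]))) (.node (.node (.leaf [431, 633, 1105, 2060, 2314, 2356, 2401, 2753, 3759, 4088, 4372, 4425, 4470]) (.leaf [507, 585, 1113, 1276, 1629, 1806, 1943, 2764, 2882, 2889, 3291, 3604, 3928])) (.node (.leaf [136, 584, 730, 1622, 1664, 1933, 2209, 2791, 3223, 3272, 3512, 4102, 4388]) (.leaf [3, 902, 1017, 1033, 1317, 1724, 2927, 3404, 3618, 3789, 3850, 3888, 4255])))) (.node (.node (.node (.leaf [197, 579, 766, 792, 794, 1389, 1728, 2341, 3163, 3223, 3319, 3357, 4237]) (.leaf [257, 363, 1044, 1301, 1523, 2120, 2455, 2923, 3052, 3485, 3856, 4135, 4407])) (.node (.leaf [937, 1279, 1545, 1642, 1882,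 1967, 2073, 2110, 2531, 2881, 3597, 3880, 4046]) (.leaf [859, 977, 1042, 1127, 1133, 1344, 1936, 2230, 3538, 3665, 3827, 3973, 4110]))) (.node (.node (.leaf [231, 498, 673, 1396, 1412, 1748, 2133, 2470, 2885, 3010, 3143, 3649, 4456]) (.leaf [160, 427, 580, 841, 1491, 1684, 2274, 2748, 2969, 3282, 3297, 4100, 4310])) (.node (.leaf [189, 381, 955, 1244, 1481, 1761, 1828, 2180, 2263, 2702, 2746, 4255, 4357]) (.leaf [623, 678, 682, 833, 1390, 1495, 1560, 3007, 3078, 3213, 3503, 3670, 3915])))))

def nbr1229 : Janko.Tree (List ℕ) :=
  (.node (.node (.node (.node (.node (.leaf [5, 421, 1078, 1318, 2058, 2556, 2685, 2735, 2740, 3042, 3720, 4310, 4392]) (.leaf [601, 953, 1106, 1259, 1273, 1293, 1438, 1629, 2210, 2247, 2563, 3881, 4174])) (.leaf [31, 663, 870, 1418, 1552, 2138, 2574, 2745, 2987, 3384, 3508, 4205, 4264])) (.node (.leaf [18, 111, 848, 1121, 1573, 1843, 2363, 2388, 2840, 2872, 3269, 3573, 3663]) (.leaf [39, 899, 1272, 1438, 2297, 2527, 2860, 2967, 3087, 3204, 3516, 3631, 4415]))) (.node (.node (.leaf [430, 632, 1104, 2061, 2315, 2357, 2400, 2752, 3758, 4089, 4373, 4424, 4471])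 (.leaf [506, 584, 1112, 1277, 1628, 1807, 1942, 2765, 2883, 2888, 3290, 3605, 3929])) (.node (.leaf [137, 585, 731, 1623, 1665, 1932, 2208, 2790, 3222, 3273, 3513, 4103, 4389]) (.leaf [2, 903, 1016, 1032, 1316, 1725, 2926, 3405, 3619, 3788, 3851, 3889, 4254])))) (.node (.node (.node (.leaf [196, 578, 767, 793, 795, 1388, 1729, 2340, 3162, 3222, 3318, 3356, 4236]) (.leaf [256, 362, 1045, 1300, 1522, 2121, 2454, 2922, 3053, 3484, 3857, 4134, 4406])) (.node (.leaf [936, 1278, 1544, 1643, 1883, 1966, 2072, 2111, 2530, 2880, 3596, 3881, 4047]) (.leaf [858, 976, 1043, 1126, 1132, 1345, 1937, 2231, 3539, 3664, 3826, 3972, 4111]))) (.node (.node (.leaf [230, 499, 672, 1397, 1413, 1749, 2132, 2471, 2884, 3011, 3142, 3648, 4457]) (.leaf [161, 426, 581, 840, 1490, 1685, 2275, 2749, 2968, 3283, 3296, 4101, 4311])) (.node (.leaf [188, 380, 954, 1245, 1480, 1760, 1829, 2181, 2262, 2703, 2747, 4254, 4356]) (.leaf [622, 679, 683, 832, 1391, 1494, 1561, 3006, 3079, 3212, 3502, 3671, 3914])))))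

def nbr1230 : Janko.Tree (List ℕ) :=
  (.node (.node (.node (.node (.node (.leaf [219, 410, 698, 756, 764, 1529, 1558, 2169, 2324, 3854, 4061, 4077, 4313]) (.leaf [28, 313, 453, 493, 733, 1076, 1923, 2303, 2956, 3313, 3655, 4292, 4368])) (.leaf [51, 350, 1164, 1857, 2236, 2338, 2580, 2675, 2862, 2988, 3671, 3914, 4196])) (.node (.leaf [190, 382, 956, 1482, 1844, 1867, 2240, 2278, 2705, 3745, 4359, 4432, 4473]) (.leaf [93, 398, 750, 763, 1084, 2049, 2071, 3090, 3685, 3705, 4173, 4288, 4390]))) (.node (.node (.leaf [1184, 1384, 1518, 2007, 2316, 2405, 2472, 2755, 3025, 3126, 3144, 3322, 4030]) (.leaf [236, 601, 1174, 1258, 1593, 1631, 1777, 2385, 2513, 2730, 3148, 3734, 4343])) (.node (.leaf [565, 850, 1010, 1895, 2086, 2222, 2350, 2513, 3034, 3602, 3874, 3900, 4120]) (.leaf [411, 698, 1023, 1030, 1148, 1304, 2172, 2842, 2953, 3017, 3622, 4278, 4334])))) (.node (.node (.node (.leaf [432, 528, 581, 768, 796, 1393, 1445, 1730, 2365, 3296, 3841, 3900, 4301]) (.leaf [126, 610, 690, 774, 921, 1840, 2290, 2965, 2975, 3210, 4008, 4230, 4410])) (.node (.leaf [1276, 1360, 1547, 1689, 1701, 1969,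 2112, 2199, 3290, 3436, 4266, 4383, 4448]) (.leaf [134, 436, 508, 1371, 1670, 1698, 1901, 2766, 2937, 2958, 3189, 3232, 4038]))) (.node (.node (.leaf [194, 553, 805, 1093, 1448, 1541, 2331, 3343, 3576, 3589, 3627, 4126, 4435]) (.leaf [591, 1213, 1251, 1286, 1431, 1664, 1713, 1998, 3004, 3238, 3427, 3949, 4219])) (.node (.leaf [250, 457, 1018, 1214, 1229, 1247, 1264, 1546, 1868, 2461, 2868, 3017, 4272]) (.leaf [613, 629, 677, 1192, 1290, 2069, 2074, 2493, 2623, 3768, 3888, 3974, 4242])))))

def nbr1231 : Janko.Tree (List ℕ) :=
  (.node (.node (.node (.node (.node (.leaf [218, 411, 699, 757, 765, 1528, 1559, 2168, 2325, 3855, 4060, 4076, 4312]) (.leaf [29, 312, 452, 492, 732, 1077, 1922, 2302, 2957, 3312, 3654, 4293, 4369])) (.leaf [50, 351, 1165, 1856, 2237, 2339, 2581, 2674, 2863, 2989, 3670, 3915, 4197])) (.node (.leaf [191, 383, 957, 1483, 1845, 1866, 2241, 2279, 2704, 3744, 4358, 4433, 4472]) (.leaf [92, 399, 751, 762, 1085, 2048, 2070, 3091, 3684, 3704, 4172, 4289, 4391]))) (.node (.node (.leaf [1185, 1385, 1519, 2006, 2317, 2404, 2473, 2754, 3024, 3127, 3145, 3323, 4031]) (.leaf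 [237, 600, 1175, 1259, 1592, 1630, 1776, 2384, 2512, 2731, 3149, 3735, 4342])) (.node (.leaf [564, 851, 1011, 1894, 2087, 2223, 2351, 2512, 3035, 3603, 3875, 3901, 4121]) (.leaf [410, 699, 1022, 1031, 1149, 1305, 2173, 2843, 2952, 3016, 3623, 4279, 4335])))) (.node (.node (.node (.leaf [433, 529, 580, 769, 797, 1392, 1444, 1731, 2364, 3297, 3840, 3901, 4300]) (.leaf [127, 611, 691, 775, 920, 1841, 2291, 2964, 2974, 3211, 4009, 4231, 4411])) (.node (.leaf [1277, 1361, 1546, 1688, 1700, 1968, 2113, 2198, 3291, 3437, 4267, 4382, 4449]) (.leaf [135, 437, 509, 1370, 1671, 1699, 1900, 2767, 2936, 2959, 3188, 3233, 4039]))) (.node (.node (.leaf [195, 552, 804, 1092, 1449, 1540, 2330, 3342, 3577, 3588, 3626, 4127, 4434]) (.leaf [590, 1212, 1250, 1287, 1430, 1665, 1712, 1999, 3005, 3239, 3426, 3948, 4218])) (.node (.leaf [251, 456, 1019, 1215, 1228, 1246, 1265, 1547, 1869, 2460, 2869, 3016, 4273]) (.leaf [612, 628, 676, 1193, 1291, 2068, 2075, 2492, 2622, 3769, 3889, 3975, 4243])))))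

def nbr1232 : Janko.Tree (List ℕ) :=
  (.node (.node (.node (.node (.node (.leaf [412, 766, 1013, 1531, 1633, 2326, 2759, 3311, 3357, 3859, 3890, 4063, 4162]) (.leaf [180, 881, 1059, 1616, 1777, 1969, 2417, 2967, 3772, 4199, 4267, 4304, 4342])) (.leaf [514, 618, 1134, 2340, 2420, 2663, 2866, 2957, 3127, 3332, 3780, 3867, 4206])) (.node (.leaf [92, 385, 1493, 1641, 1749, 1893, 2021, 2192, 2242, 2661, 2727, 3685, 4434]) (.leaf [178, 367, 400, 830, 1134, 1165, 1625, 2834, 2862, 3961, 4170, 4206, 4428]))) (.node (.node (.leaf [1169, 1186, 1548, 1568, 2147, 2478, 2713, 2715, 2724, 2773, 3200, 3775, 4177]) (.leaf [68, 851, 1253, 1745, 2151, 2375, 2430, 2534, 2948, 3176, 3609, 4082, 4225])) (.node (.leaf [567, 852, 1014, 1259, 2095, 2224, 2753, 3036, 3156, 3514, 3604, 3876, 4136]) (.leaf [177, 279, 1057, 1523, 1668, 1767, 1827, 2749, 2844, 2866, 2956, 3365, 4012])))) (.node (.node (.node (.leaf [434, 530, 583, 770, 787, 798, 889, 1083, 1901, 3156, 3874, 4303, 4329]) (.leaf [250, 410, 1704, 2019, 2424, 3016, 3037, 3123, 3259, 3399, 3438, 4060, 4117])) (.node (.leaf [338, 624, 654, 1233, 1694,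 2536, 2638, 3472, 3498, 3736, 4274, 4295, 4364]) (.leaf [385, 452, 1024, 1052, 1124, 1312, 1386, 2708, 2858, 3165, 3251, 3418, 3669]))) (.node (.node (.leaf [328, 555, 598, 637, 690, 807, 1450, 1543, 3632, 4128, 4289, 4420, 4436]) (.leaf [51, 441, 929, 1496, 1715, 1976, 2754, 3006, 3184, 3681, 3915, 3951, 4285])) (.node (.leaf [70, 212, 459, 1249, 1586, 1599, 1734, 1870, 2281, 2706, 2900, 3005, 4057]) (.leaf [94, 521, 633, 1495, 2709, 3208, 3231, 3669, 3916, 3926, 4334, 4399, 4471])))))

def nbr1233 : Janko.Tree (List ℕ) :=
  (.node (.node (.node (.node (.node (.leaf [413, 767, 1012, 1530, 1632, 2327, 2758, 3310, 3356, 3858, 3891, 4062, 4163]) (.leaf [181, 880, 1058, 1617, 1776, 1968, 2416, 2966, 3773, 4198, 4266, 4305, 4343])) (.leaf [515, 619, 1135, 2341, 2421, 2662, 2867, 2956, 3126, 3333, 3781, 3866, 4207])) (.node (.leaf [93, 384, 1492, 1640, 1748, 1892, 2020, 2193, 2243, 2660, 2726, 3684, 4435]) (.leaf [179, 366, 401, 831, 1135, 1164, 1624, 2835, 2863, 3960, 4171, 4207, 4429]))) (.node (.node (.leaf [1168, 1187, 1549, 1569, 2146, 2479, 2712, 2714, 2725, 2772, 3201, 3774, 4176])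 (.leaf [69, 850, 1252, 1744, 2150, 2374, 2431, 2535, 2949, 3177, 3608, 4083, 4224])) (.node (.leaf [566, 853, 1015, 1258, 2094, 2225, 2752, 3037, 3157, 3515, 3605, 3877, 4137]) (.leaf [176, 278, 1056, 1522, 1669, 1766, 1826, 2748, 2845, 2867, 2957, 3364, 4013])))) (.node (.node (.node (.leaf [435, 531, 582, 771, 786, 799, 888, 1082, 1900, 3157, 3875, 4302, 4328]) (.leaf [251, 411, 1705, 2018, 2425, 3017, 3036, 3122, 3258, 3398, 3439, 4061, 4116])) (.node (.leaf [339, 625, 655, 1232, 1695, 2537, 2639, 3473, 3499, 3737, 4275, 4294, 4365]) (.leaf [384, 453, 1025, 1053, 1125, 1313, 1387, 2709, 2859, 3164, 3250, 3419, 3668]))) (.node (.node (.leaf [329, 554, 599, 636, 691, 806, 1451, 1542, 3633, 4129, 4288, 4421, 4437]) (.leaf [50, 440, 928, 1497, 1714, 1977, 2755, 3007, 3185, 3680, 3914, 3950, 4284])) (.node (.leaf [71, 213, 458, 1248, 1587, 1598, 1735, 1871, 2280, 2707, 2901, 3004, 4056]) (.leaf [95, 520, 632, 1494, 2708, 3209, 3230, 3668, 3917, 3927, 4335, 4398, 4470])))))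

def nbr1234 : Janko.Tree (List ℕ) :=
  (.node (.node (.node (.node (.node (.leaf [89, 414, 1702, 2076, 2266, 2305, 2523, 2626, 3107, 3639, 3699, 4024, 4397]) (.leaf [666, 737, 890, 994, 1180, 1458, 1713, 1999, 2053, 2137, 2601, 2942, 2998])) (.leaf [256, 551, 575, 1124, 1131, 1535, 2031, 2431, 2709, 3288, 3533, 3706, 4225])) (.node (.leaf [733, 740, 767, 971, 1135, 1325, 1452, 1846, 2015, 2834, 2957, 3355, 4477]) (.leaf [175, 282, 864, 1307, 2044, 2322, 2361, 2762, 3035, 3171, 3622, 3900, 4122]))) (.node (.node (.leaf [489, 714, 801, 998, 1029, 1229, 1669, 2320, 2869, 3470, 3767, 4019, 4320]) (.leaf [213, 254, 810, 864, 1586, 1644, 1922, 2353, 2451, 2620, 2893, 3091, 4172])) (.node (.leaf [400, 589, 1074, 1404, 1460, 1724, 1943, 2226, 2360, 2628, 2762, 3195, 4474]) (.leaf [181, 315, 429, 455, 1659, 1710, 1925, 2934, 3069, 3315, 3649, 3657, 4117])))) (.node (.node (.node (.leaf [366, 532, 772, 812, 866, 1490, 1588, 2895, 3097, 3193, 3667, 4015, 4171]) (.leaf [541, 894, 945, 1230, 1277, 1604, 2618, 3018, 3162, 3788, 4294, 4332, 4404])) (.node (.leaf [626, 656, 1708, 2047, 2600, 2640,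 2998, 3279, 3306, 3372, 3376, 3908, 4230]) (.leaf [387, 454, 710, 1061, 1314, 1388, 1625, 2336, 2402, 2710, 3171, 3383, 3961]))) (.node (.node (.leaf [85, 378, 600, 1136, 1438, 1531, 1860, 2194, 2275, 2327, 2698, 2731, 2742]) (.leaf [466, 531, 572, 1082, 1412, 2702, 2746, 2770, 3777, 3795, 4042, 4125, 4251])) (.node (.leaf [26, 186, 1534, 1567, 1958, 2337, 2708, 2710, 2768, 2859, 2884, 3917, 4234]) (.leaf [52, 703, 1158, 1614, 2152, 2437, 2665, 3151, 3470, 3506, 3563, 3592, 3913])))))

def nbr1235 : Janko.Tree (List ℕ) :=
  (.node (.node (.node (.node (.node (.leaf [88, 415, 1703, 2077, 2267, 2304, 2522, 2627, 3106, 3638, 3698, 4025, 4396]) (.leaf [667, 736, 891, 995, 1181, 1459, 1712, 1998, 2052, 2136, 2600, 2943, 2999])) (.leaf [257, 550, 574, 1125, 1130, 1534, 2030, 2430, 2708, 3289, 3532, 3707, 4224])) (.node (.leaf [732, 741, 766, 970, 1134, 1324, 1453, 1847, 2014, 2835, 2956, 3354, 4476]) (.leaf [174, 283, 865, 1306, 2045, 2323, 2360, 2763, 3034, 3170, 3623, 3901, 4123]))) (.node (.node (.leaf [488, 715, 800, 999, 1028, 1228, 1668, 2321, 2868, 3471, 3766, 4018, 4321]) (.leaf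 [212, 255, 811, 865, 1587, 1645, 1923, 2352, 2450, 2621, 2892, 3090, 4173])) (.node (.leaf [401, 588, 1075, 1405, 1461, 1725, 1942, 2227, 2361, 2629, 2763, 3194, 4475]) (.leaf [180, 314, 428, 454, 1658, 1711, 1924, 2935, 3068, 3314, 3648, 3656, 4116])))) (.node (.node (.node (.leaf [367, 533, 773, 813, 867, 1491, 1589, 2894, 3096, 3192, 3666, 4014, 4170]) (.leaf [540, 895, 944, 1231, 1276, 1605, 2619, 3019, 3163, 3789, 4295, 4333, 4405])) (.node (.leaf [627, 657, 1709, 2046, 2601, 2641, 2999, 3278, 3307, 3373, 3377, 3909, 4231]) (.leaf [386, 455, 711, 1060, 1315, 1389, 1624, 2337, 2403, 2711, 3170, 3382, 3960]))) (.node (.node (.leaf [84, 379, 601, 1137, 1439, 1530, 1861, 2195, 2274, 2326, 2699, 2730, 2743]) (.leaf [467, 530, 573, 1083, 1413, 2703, 2747, 2771, 3776, 3794, 4043, 4124, 4250])) (.node (.leaf [27, 187, 1535, 1566, 1959, 2336, 2709, 2711, 2769, 2858, 2885, 3916, 4235]) (.leaf [53, 702, 1159, 1615, 2153, 2436, 2664, 3150, 3471, 3507, 3562, 3593, 3912])))))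

def nbr1236 : Janko.Tree (List ℕ) :=
  (.node (.node (.node (.node (.node (.leaf [91, 139, 416, 490, 877, 2307, 2585, 3109, 3570, 3695, 4195, 4376, 4458]) (.leaf [172, 251, 475, 574, 1512, 1785, 2017, 2048, 2398, 2404, 3101, 3912, 4002])) (.leaf [109, 168, 398, 1538, 1840, 1995, 2260, 2378, 2621, 2688, 2965, 4172, 4350])) (.node (.leaf [794, 891, 1040, 1311, 1375, 1617, 1825, 1838, 1848, 1902, 2446, 2774, 2821]) (.leaf [251, 444, 705, 1309, 2297, 2341, 2904, 3037, 3156, 3173, 3618, 3894, 4068]))) (.node (.node (.leaf [803, 1000, 1270, 1436, 1599, 1705, 2322, 3202, 3531, 3629, 4023, 4056, 4108]) (.leaf [227, 659, 1513, 1890, 1930, 2017, 2040, 2145, 2375, 2535, 2609, 2673, 3061])) (.node (.leaf [402, 444, 704, 1076, 1406, 2228, 2544, 2630, 3228, 3504, 3551, 4365, 4401]) (.leaf [232, 371, 544, 1568, 1723, 1874, 2054, 2654, 3051, 3058, 3740, 3839, 4176])))) (.node (.node (.node (.leaf [368, 534, 774, 814, 868, 1242, 1590, 2089, 2897, 4133, 4229, 4277, 4291]) (.leaf [606, 947, 1392, 1608, 1909, 2118, 2889, 2898, 3020, 3550, 3827, 4314, 4410])) (.node (.leaf [156, 196, 653, 1239, 1729,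 2050, 2728, 2840, 3281, 3407, 4092, 4157, 4337]) (.leaf [24, 409, 1209, 1434, 1671, 2247, 2496, 2674, 2720, 2795, 2820, 3071, 3189]))) (.node (.node (.leaf [87, 102, 602, 1862, 2277, 2357, 2487, 2634, 2700, 2733, 3253, 3757, 4425]) (.leaf [113, 155, 878, 959, 1262, 1731, 2744, 2787, 2946, 3533, 3616, 3991, 4370])) (.node (.leaf [28, 1050, 1417, 1830, 2284, 2710, 2747, 2770, 2774, 2886, 2997, 3960, 4280]) (.leaf [664, 773, 1442, 1616, 1621, 1657, 1674, 1741, 2087, 2667, 3629, 3806, 4198])))))

def nbr1237 : Janko.Tree (List ℕ) :=
  (.node (.node (.node (.node (.node (.leaf [90, 138, 417, 491, 876, 2306, 2584, 3108, 3571, 3694, 4194, 4377, 4459]) (.leaf [173, 250, 474, 575, 1513, 1784, 2016, 2049, 2399, 2405, 3100, 3913, 4003])) (.leaf [108, 169, 399, 1539, 1841, 1994, 2261, 2379, 2620, 2689, 2964, 4173, 4351])) (.node (.leaf [795, 890, 1041, 1310, 1374, 1616, 1824, 1839, 1849, 1903, 2447, 2775, 2820]) (.leaf [250, 445, 704, 1308, 2296, 2340, 2905, 3036, 3157, 3172, 3619, 3895, 4069]))) (.node (.node (.leaf [802, 1001, 1271, 1437, 1598, 1704, 2323, 3203, 3530, 3628, 4022, 4057, 4109])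 (.leaf [226, 658, 1512, 1891, 1931, 2016, 2041, 2144, 2374, 2534, 2608, 2672, 3060])) (.node (.leaf [403, 445, 705, 1077, 1407, 2229, 2545, 2631, 3229, 3505, 3550, 4364, 4400]) (.leaf [233, 370, 545, 1569, 1722, 1875, 2055, 2655, 3050, 3059, 3741, 3838, 4177])))) (.node (.node (.node (.leaf [369, 535, 775, 815, 869, 1243, 1591, 2088, 2896, 4132, 4228, 4276, 4290]) (.leaf [607, 946, 1393, 1609, 1908, 2119, 2888, 2899, 3021, 3551, 3826, 4315, 4411])) (.node (.leaf [157, 197, 652, 1238, 1728, 2051, 2729, 2841, 3280, 3406, 4093, 4156, 4336]) (.leaf [25, 408, 1208, 1435, 1670, 2246, 2497, 2675, 2721, 2794, 2821, 3070, 3188]))) (.node (.node (.leaf [86, 103, 603, 1863, 2276, 2356, 2486, 2635, 2701, 2732, 3252, 3756, 4424]) (.leaf [112, 154, 879, 958, 1263, 1730, 2745, 2786, 2947, 3532, 3617, 3990, 4371])) (.node (.leaf [29, 1051, 1416, 1831, 2285, 2711, 2746, 2771, 2775, 2887, 2996, 3961, 4281]) (.leaf [665, 772, 1443, 1617, 1620, 1656, 1675, 1740, 2086, 2666, 3628, 3807, 4199])))))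

def nbr1238 : Janko.Tree (List ℕ) :=
  (.node (.node (.node (.node (.node (.leaf [37, 62, 418, 1561, 2112, 2289, 2334, 2595, 2656, 2875, 2932, 2973, 3852]) (.leaf [548, 648, 1037, 1142, 1153, 1719, 1726, 1900, 1940, 2327, 2985, 3984, 4038])) (.leaf [170, 353, 363, 722, 1126, 1927, 2623, 2792, 2868, 2873, 3019, 4197, 4404])) (.node (.leaf [41, 497, 892, 1176, 1486, 2871, 3237, 3494, 3747, 3784, 3910, 4084, 4438]) (.leaf [253, 508, 513, 1311, 2534, 2591, 2764, 2969, 3224, 3296, 3652, 3848, 3929]))) (.node (.node (.leaf [381, 740, 971, 1188, 1226, 2097, 2169, 2324, 2498, 2504, 3179, 4139, 4332]) (.leaf [251, 444, 781, 956, 992, 1612, 1852, 1869, 1918, 2229, 2646, 3259, 4450])) (.node (.leaf [1006, 1008, 1507, 2230, 2364, 2546, 2734, 2766, 3146, 3555, 3664, 4240, 4418]) (.leaf [235, 257, 664, 1023, 1147, 1535, 2442, 2768, 3318, 3379, 3806, 4237, 4264])))) (.node (.node (.node (.leaf [0, 121, 776, 1678, 2833, 3011, 3093, 3152, 3535, 3680, 3753, 4086, 4189]) (.leaf [600, 850, 949, 1609, 1911, 2449, 3423, 3527, 3790, 3875, 3879, 3892, 4375])) (.node (.leaf [42, 972, 1241, 1449, 2052, 2788,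 3077, 3226, 3283, 3407, 3481, 3519, 4073]) (.leaf [1, 205, 1035, 1717, 1917, 2369, 2458, 2702, 2722, 2822, 2933, 3329, 3809]))) (.node (.node (.leaf [608, 913, 967, 1099, 1237, 1255, 2296, 2558, 2813, 3109, 3314, 3894, 4376]) (.leaf [126, 413, 1013, 1032, 1468, 1593, 2546, 2900, 2955, 3111, 3618, 4244, 4394])) (.node (.leaf [96, 1192, 1475, 1551, 1666, 1972, 2074, 2148, 2481, 2716, 3598, 3763, 3944]) (.leaf [22, 223, 559, 1378, 2386, 2492, 2839, 3153, 3975, 4011, 4031, 4193, 4331])))))

def nbr1239 : Janko.Tree (List ℕ) :=
  (.node (.node (.node (.node (.node (.leaf [36, 63, 419, 1560, 2113, 2288, 2335, 2594, 2657, 2874, 2933, 2972, 3853]) (.leaf [549, 649, 1036, 1143, 1152, 1718, 1727, 1901, 1941, 2326, 2984, 3985, 4039])) (.leaf [171, 352, 362, 723, 1127, 1926, 2622, 2793, 2869, 2872, 3018, 4196, 4405])) (.node (.leaf [40, 496, 893, 1177, 1487, 2870, 3236, 3495, 3746, 3785, 3911, 4085, 4439]) (.leaf [252, 509, 512, 1310, 2535, 2590, 2765, 2968, 3225, 3297, 3653, 3849, 3928]))) (.node (.node (.leaf [380, 741, 970, 1189, 1227, 2096, 2168, 2325, 2499, 2505, 3178, 4138, 4333]) (.leaf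 [250, 445, 780, 957, 993, 1613, 1853, 1868, 1919, 2228, 2647, 3258, 4451])) (.node (.leaf [1007, 1009, 1506, 2231, 2365, 2547, 2735, 2767, 3147, 3554, 3665, 4241, 4419]) (.leaf [234, 256, 665, 1022, 1146, 1534, 2443, 2769, 3319, 3378, 3807, 4236, 4265])))) (.node (.node (.node (.leaf [1, 120, 777, 1679, 2832, 3010, 3092, 3153, 3534, 3681, 3752, 4087, 4188]) (.leaf [601, 851, 948, 1608, 1910, 2448, 3422, 3526, 3791, 3874, 3878, 3893, 4374])) (.node (.leaf [43, 973, 1240, 1448, 2053, 2789, 3076, 3227, 3282, 3406, 3480, 3518, 4072]) (.leaf [0, 204, 1034, 1716, 1916, 2368, 2459, 2703, 2723, 2823, 2932, 3328, 3808]))) (.node (.node (.leaf [609, 912, 966, 1098, 1236, 1254, 2297, 2559, 2812, 3108, 3315, 3895, 4377]) (.leaf [127, 412, 1012, 1033, 1469, 1592, 2547, 2901, 2954, 3110, 3619, 4245, 4395])) (.node (.leaf [97, 1193, 1474, 1550, 1667, 1973, 2075, 2149, 2480, 2717, 3599, 3762, 3945]) (.leaf [23, 222, 558, 1379, 2387, 2493, 2838, 3152, 3974, 4010, 4030, 4192, 4330])))))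

def nbr1240 : Janko.Tree (List ℕ) :=
  (.node (.node (.node (.node (.node (.leaf [19, 64, 581, 908, 1787, 2274, 2291, 2877, 2975, 3410, 3446, 3573, 4058]) (.leaf [92, 691, 1455, 1493, 1946, 2935, 3206, 3208, 3229, 3334, 3798, 3865, 4288])) (.leaf [180, 271, 293, 880, 1240, 2038, 2476, 2963, 3021, 3220, 3567, 4249, 4352])) (.node (.leaf [381, 795, 1615, 1792, 2125, 2256, 2265, 2504, 3242, 3496, 3749, 3861, 4168]) (.leaf [200, 425, 1268, 1674, 1806, 2080, 2098, 2781, 3416, 3426, 3464, 3666, 4142]))) (.node (.node (.leaf [35, 204, 1190, 1435, 1441, 2110, 2332, 2401, 2914, 3252, 3387, 3850, 4425]) (.leaf [30, 446, 783, 809, 1871, 1893, 1920, 2280, 2509, 2648, 2855, 3711, 4447])) (.node (.leaf [107, 428, 449, 768, 1346, 1844, 2234, 2329, 2443, 2461, 2823, 4264, 4359]) (.leaf [122, 749, 1161, 1708, 2107, 2610, 3087, 3377, 3555, 3592, 3656, 3711, 4281])))) (.node (.node (.node (.leaf [147, 228, 778, 939, 2804, 3095, 3197, 3682, 3706, 3837, 3902, 4088, 4191]) (.leaf [269, 520, 842, 985, 1797, 2190, 2284, 2496, 2729, 3022, 3040, 3424, 4335])) (.node (.leaf [665, 713, 1263, 1472, 1612, 1657,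 1658, 1855, 2379, 2517, 3083, 3230, 4213]) (.leaf [62, 228, 760, 1036, 1718, 2370, 2461, 2651, 2677, 2705, 3446, 3577, 3627]))) (.node (.node (.leaf [147, 237, 595, 816, 887, 917, 1090, 1259, 2220, 2562, 2661, 3321, 3965]) (.leaf [111, 128, 621, 885, 1184, 1467, 2167, 2721, 3113, 3620, 4031, 4091, 4158])) (.node (.leaf [223, 310, 489, 1009, 1182, 1668, 2714, 2888, 3171, 3382, 3606, 3635, 4315]) (.leaf [897, 947, 1392, 1524, 2268, 2436, 3105, 3277, 3402, 3563, 3757, 3771, 4346])))))

def nbr1241 : Janko.Tree (List ℕ) :=
  (.node (.node (.node (.node (.node (.leaf [18, 65, 580, 909, 1786, 2275, 2290, 2876, 2974, 3411, 3447, 3572, 4059]) (.leaf [93, 690, 1454, 1492, 1947, 2934, 3207, 3209, 3228, 3335, 3799, 3864, 4289])) (.leaf [181, 270, 292, 881, 1241, 2039, 2477, 2962, 3020, 3221, 3566, 4248, 4353])) (.node (.leaf [380, 794, 1614, 1793, 2124, 2257, 2264, 2505, 3243, 3497, 3748, 3860, 4169]) (.leaf [201, 424, 1269, 1675, 1807, 2081, 2099, 2780, 3417, 3427, 3465, 3667, 4143]))) (.node (.node (.leaf [34, 205, 1191, 1434, 1440, 2111, 2333, 2400, 2915, 3253, 3386, 3851, 4424]) (.leaf [31,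 447, 782, 808, 1870, 1892, 1921, 2281, 2508, 2649, 2854, 3710, 4446])) (.node (.leaf [106, 429, 448, 769, 1347, 1845, 2235, 2328, 2442, 2460, 2822, 4265, 4358]) (.leaf [123, 748, 1160, 1709, 2106, 2611, 3086, 3376, 3554, 3593, 3657, 3710, 4280])))) (.node (.node (.node (.leaf [146, 229, 779, 938, 2805, 3094, 3196, 3683, 3707, 3836, 3903, 4089, 4190]) (.leaf [268, 521, 843, 984, 1796, 2191, 2285, 2497, 2728, 3023, 3041, 3425, 4334])) (.node (.leaf [664, 712, 1262, 1473, 1613, 1656, 1659, 1854, 2378, 2516, 3082, 3231, 4212]) (.leaf [63, 229, 761, 1037, 1719, 2371, 2460, 2650, 2676, 2704, 3447, 3576, 3626]))) (.node (.node (.leaf [146, 236, 594, 817, 886, 916, 1091, 1258, 2221, 2563, 2660, 3320, 3964]) (.leaf [110, 129, 620, 884, 1185, 1466, 2166, 2720, 3112, 3621, 4030, 4090, 4159])) (.node (.leaf [222, 311, 488, 1008, 1183, 1669, 2715, 2889, 3170, 3383, 3607, 3634, 4314]) (.leaf [896, 946, 1393, 1525, 2269, 2437, 3104, 3276, 3403, 3562, 3756, 3770, 4347])))))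

def nbr1242 : Janko.Tree (List ℕ) :=
  (.node (.node (.node (.node (.node (.leaf [420, 990, 1307, 1750, 2272, 2390, 2656, 2839, 3244, 3362, 4010, 4310, 4326]) (.leaf [182, 514, 697, 907, 1481, 1738, 1996, 2420, 2449, 3527, 3989, 4075, 4379])) (.leaf [182, 295, 882, 1059, 2040, 2136, 2448, 2730, 3187, 3568, 4055, 4251, 4343])) (.node (.leaf [148, 246, 392, 675, 951, 987, 1324, 1884, 1897, 2037, 2870, 4151, 4383]) (.leaf [569, 854, 1808, 2088, 2100, 2536, 2696, 2755, 2783, 3224, 3764, 3928, 4441]))) (.node (.node (.leaf [242, 372, 415, 547, 612, 1192, 1877, 3755, 3945, 4278, 4293, 4322, 4468]) (.leaf [138, 384, 416, 767, 1024, 1632, 2349, 2490, 2508, 2650, 2704, 3767, 4385])) (.node (.leaf [149, 392, 1248, 1552, 1606, 2023, 2236, 2884, 3118, 3385, 3688, 3749, 4056]) (.leaf [143, 494, 673, 966, 1022, 1551, 1792, 2124, 2798, 2952, 3431, 3750, 3762])))) (.node (.node (.node (.leaf [243, 356, 633, 780, 1192, 1901, 2207, 2995, 3233, 3381, 3598, 4239, 4450]) (.leaf [96, 692, 720, 1684, 1896, 1923, 2000, 2118, 2755, 3024, 3794, 4114, 4441])) (.node (.leaf [140, 161, 645, 671, 1660, 1837, 2784,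 2995, 3014, 3802, 3887, 4215, 4239]) (.leaf [256, 664, 712, 788, 1259, 1620, 1719, 3116, 3157, 3288, 3450, 4067, 4253]))) (.node (.node (.leaf [610, 730, 739, 764, 818, 919, 969, 1322, 2209, 2564, 2815, 3967, 3981]) (.leaf [132, 564, 1017, 1469, 1707, 2523, 2548, 2989, 3117, 3187, 3312, 3618, 3640])) (.node (.leaf [904, 950, 1011, 1105, 1270, 1437, 1608, 2382, 2716, 3173, 3776, 3878, 4151]) (.leaf [407, 442, 468, 1357, 1449, 1979, 2006, 2065, 2259, 2537, 2697, 3589, 4365])))))

def nbr1243 : Janko.Tree (List ℕ) :=
  (.node (.node (.node (.node (.node (.leaf [421, 991, 1306, 1751, 2273, 2391, 2657, 2838, 3245, 3363, 4011, 4311, 4327]) (.leaf [183, 515, 696, 906, 1480, 1739, 1997, 2421, 2448, 3526, 3988, 4074, 4378])) (.leaf [183, 294, 883, 1058, 2041, 2137, 2449, 2731, 3186, 3569, 4054, 4250, 4342])) (.node (.leaf [149, 247, 393, 674, 950, 986, 1325, 1885, 1896, 2036, 2871, 4150, 4382]) (.leaf [568, 855, 1809, 2089, 2101, 2537, 2697, 2754, 2782, 3225, 3765, 3929, 4440]))) (.node (.node (.leaf [243, 373, 414, 546, 613, 1193, 1876, 3754, 3944, 4279, 4292, 4323, 4469]) (.leaf [139, 385,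 417, 766, 1025, 1633, 2348, 2491, 2509, 2651, 2705, 3766, 4384])) (.node (.leaf [148, 393, 1249, 1553, 1607, 2022, 2237, 2885, 3119, 3384, 3689, 3748, 4057]) (.leaf [142, 495, 672, 967, 1023, 1550, 1793, 2125, 2799, 2953, 3430, 3751, 3763])))) (.node (.node (.node (.leaf [242, 357, 632, 781, 1193, 1900, 2206, 2994, 3232, 3380, 3599, 4238, 4451]) (.leaf [97, 693, 721, 1685, 1897, 1922, 2001, 2119, 2754, 3025, 3795, 4115, 4440])) (.node (.leaf [141, 160, 644, 670, 1661, 1836, 2785, 2994, 3015, 3803, 3886, 4214, 4238]) (.leaf [257, 665, 713, 789, 1258, 1621, 1718, 3117, 3156, 3289, 3451, 4066, 4252]))) (.node (.node (.leaf [611, 731, 738, 765, 819, 918, 968, 1323, 2208, 2565, 2814, 3966, 3980]) (.leaf [133, 565, 1016, 1468, 1706, 2522, 2549, 2988, 3116, 3186, 3313, 3619, 3641])) (.node (.leaf [905, 951, 1010, 1104, 1271, 1436, 1609, 2383, 2717, 3172, 3777, 3879, 4150]) (.leaf [406, 443, 469, 1356, 1448, 1978, 2007, 2064, 2258, 2536, 2696, 3588, 4364])))))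

def nbr1244 : Janko.Tree (List ℕ) :=
  (.node (.node (.node (.node (.node (.leaf [313, 340, 655, 908, 992, 1309, 2841, 3136, 3260, 3520, 3818, 4295, 4451]) (.leaf [134, 1124, 1234, 1370, 1414, 1430, 1676, 2324, 2594, 3336, 3909, 4263, 4351])) (.leaf [263, 290, 356, 671, 1600, 3015, 3163, 3189, 3222, 3265, 3613, 3729, 4064])) (.node (.leaf [150, 248, 316, 394, 953, 989, 1850, 1899, 1956, 2246, 2398, 2857, 3243]) (.leaf [154, 1174, 1329, 1912, 1952, 1987, 2084, 2104, 2628, 2787, 3094, 3195, 3298]))) (.node (.node (.leaf [46, 244, 417, 614, 1088, 1194, 1713, 2550, 2633, 3052, 3068, 4394, 4431]) (.leaf [58, 1652, 2131, 2144, 2600, 2697, 3105, 3494, 3542, 3544, 3660, 3763, 4129])) (.node (.leaf [141, 1481, 1513, 1925, 1990, 2144, 2263, 2448, 2652, 3423, 3536, 3648, 3817]) (.leaf [240, 417, 559, 846, 1437, 2165, 3069, 3422, 3579, 3872, 3879, 3975, 4022])))) (.node (.node (.node (.leaf [245, 409, 635, 782, 1194, 1575, 1903, 2360, 2626, 2821, 3600, 4201, 4447]) (.leaf [602, 852, 1249, 1598, 1737, 1892, 2585, 3346, 3515, 3516, 3749, 4145, 4434])) (.node (.leaf [233, 500, 675, 991, 1750, 1774,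 2054, 2135, 2473, 2805, 2887, 2917, 3145]) (.leaf [116, 507, 1394, 2200, 2410, 2932, 3259, 3289, 3398, 3450, 3853, 4037, 4106]))) (.node (.node (.leaf [1098, 1247, 1398, 2514, 2577, 2843, 3017, 3123, 3487, 3525, 3530, 4156, 4417]) (.leaf [233, 631, 1381, 1750, 2083, 2310, 2527, 2838, 3009, 3384, 3703, 3839, 3996])) (.node (.leaf [307, 498, 1116, 1343, 1888, 2353, 2718, 2892, 3048, 3605, 3847, 3928, 4418]) (.leaf [188, 1359, 1451, 1732, 2183, 2261, 2379, 2678, 2712, 3373, 3377, 3919, 4289])))))

def nbr1245 : Janko.Tree (List ℕ) :=
  (.node (.node (.node (.node (.node (.leaf [312, 341, 654, 909, 993, 1308, 2840, 3137, 3261, 3521, 3819, 4294, 4450]) (.leaf [135, 1125, 1235, 1371, 1415, 1431, 1677, 2325, 2595, 3337, 3908, 4262, 4350])) (.leaf [262, 291, 357, 670, 1601, 3014, 3162, 3188, 3223, 3264, 3612, 3728, 4065])) (.node (.leaf [151, 249, 317, 395, 952, 988, 1851, 1898, 1957, 2247, 2399, 2856, 3242]) (.leaf [155, 1175, 1328, 1913, 1953, 1986, 2085, 2105, 2629, 2786, 3095, 3194, 3299]))) (.node (.node (.leaf [47, 245, 416, 615, 1089, 1195, 1712, 2551, 2632, 3053, 3069, 4395, 4430])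 (.leaf [59, 1653, 2130, 2145, 2601, 2696, 3104, 3495, 3543, 3545, 3661, 3762, 4128])) (.node (.leaf [140, 1480, 1512, 1924, 1991, 2145, 2262, 2449, 2653, 3422, 3537, 3649, 3816]) (.leaf [241, 416, 558, 847, 1436, 2164, 3068, 3423, 3578, 3873, 3878, 3974, 4023])))) (.node (.node (.node (.leaf [244, 408, 634, 783, 1195, 1574, 1902, 2361, 2627, 2820, 3601, 4200, 4446]) (.leaf [603, 853, 1248, 1599, 1736, 1893, 2584, 3347, 3514, 3517, 3748, 4144, 4435])) (.node (.leaf [232, 501, 674, 990, 1751, 1775, 2055, 2134, 2472, 2804, 2886, 2916, 3144]) (.leaf [117, 506, 1395, 2201, 2411, 2933, 3258, 3288, 3399, 3451, 3852, 4036, 4107]))) (.node (.node (.leaf [1099, 1246, 1399, 2515, 2576, 2842, 3016, 3122, 3486, 3524, 3531, 4157, 4416]) (.leaf [232, 630, 1380, 1751, 2082, 2311, 2526, 2839, 3008, 3385, 3702, 3838, 3997])) (.node (.leaf [306, 499, 1117, 1342, 1889, 2352, 2719, 2893, 3049, 3604, 3846, 3929, 4419]) (.leaf [189, 1358, 1450, 1733, 2182, 2260, 2378, 2679, 2713, 3372, 3376, 3918, 4288])))))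

def nbr1246 : Janko.Tree (List ℕ) :=
  (.node (.node (.node (.node (.node (.leaf [192, 422, 994, 1311, 1349, 2658, 2710, 2775, 3383, 4027, 4181, 4235, 4315]) (.leaf [65, 71, 212, 401, 599, 1074, 1316, 2352, 2766, 3050, 4368, 4418, 4420])) (.leaf [247, 409, 2115, 2369, 2468, 2830, 2870, 3017, 3103, 3305, 3400, 3615, 4183])) (.node (.leaf [7, 753, 788, 890, 1902, 2463, 2654, 3050, 3159, 3374, 3877, 4341, 4380]) (.leaf [226, 315, 1764, 2245, 2385, 2602, 2719, 3190, 3216, 3418, 3528, 3846, 4013]))) (.node (.node (.leaf [827, 905, 951, 1196, 1816, 1885, 2235, 2568, 3046, 3602, 3729, 4064, 4090]) (.leaf [60, 172, 1003, 1654, 1932, 2678, 2980, 3028, 3272, 3496, 3525, 3662, 4456])) (.node (.leaf [143, 615, 671, 1927, 1992, 2389, 2730, 3180, 3432, 3624, 3803, 4196, 4199]) (.leaf [379, 784, 1439, 1473, 1527, 2389, 2526, 3071, 3292, 3384, 3433, 3881, 4021])))) (.node (.node (.node (.leaf [247, 417, 599, 987, 1028, 1074, 1122, 1331, 2227, 3767, 4372, 4459, 4471]) (.leaf [203, 730, 765, 1260, 1687, 2026, 2790, 3135, 3245, 3259, 3595, 3798, 3830])) (.node (.leaf [327, 504, 1388, 1701, 1754, 2058,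 2075, 2255, 2655, 3232, 3352, 3522, 3636]) (.leaf [120, 318, 362, 1593, 1890, 2067, 2414, 2596, 3052, 3472, 3752, 3785, 4395]))) (.node (.node (.leaf [817, 980, 1189, 1400, 1510, 1950, 2325, 2347, 2569, 2927, 3306, 4155, 4408]) (.leaf [313, 612, 849, 982, 1045, 1068, 1875, 2085, 2283, 2840, 3386, 3705, 4279])) (.node (.leaf [70, 361, 784, 879, 1527, 1559, 1912, 2410, 2497, 2720, 3361, 3709, 4312]) (.leaf [193, 422, 460, 696, 1105, 2314, 2342, 3173, 3435, 3543, 3763, 3787, 3989])))))

def nbr1247 : Janko.Tree (List ℕ) :=
  (.node (.node (.node (.node (.node (.leaf [193, 423, 995, 1310, 1348, 2659, 2711, 2774, 3382, 4026, 4180, 4234, 4314]) (.leaf [64, 70, 213, 400, 598, 1075, 1317, 2353, 2767, 3051, 4369, 4419, 4421])) (.leaf [246, 408, 2114, 2368, 2469, 2831, 2871, 3016, 3102, 3304, 3401, 3614, 4182])) (.node (.leaf [6, 752, 789, 891, 1903, 2462, 2655, 3051, 3158, 3375, 3876, 4340, 4381]) (.leaf [227, 314, 1765, 2244, 2384, 2603, 2718, 3191, 3217, 3419, 3529, 3847, 4012]))) (.node (.node (.leaf [826, 904, 950, 1197, 1817, 1884, 2234, 2569, 3047, 3603, 3728, 4065, 4091]) (.leaf [61,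 173, 1002, 1655, 1933, 2679, 2981, 3029, 3273, 3497, 3524, 3663, 4457])) (.node (.leaf [142, 614, 670, 1926, 1993, 2388, 2731, 3181, 3433, 3625, 3802, 4197, 4198]) (.leaf [378, 785, 1438, 1472, 1526, 2388, 2527, 3070, 3293, 3385, 3432, 3880, 4020])))) (.node (.node (.node (.leaf [246, 416, 598, 986, 1029, 1075, 1123, 1330, 2226, 3766, 4373, 4458, 4470]) (.leaf [202, 731, 764, 1261, 1686, 2027, 2791, 3134, 3244, 3258, 3594, 3799, 3831])) (.node (.leaf [326, 505, 1389, 1700, 1755, 2059, 2074, 2254, 2654, 3233, 3353, 3523, 3637]) (.leaf [121, 319, 363, 1592, 1891, 2066, 2415, 2597, 3053, 3473, 3753, 3784, 4394]))) (.node (.node (.leaf [816, 981, 1188, 1401, 1511, 1951, 2324, 2346, 2568, 2926, 3307, 4154, 4409]) (.leaf [312, 613, 848, 983, 1044, 1069, 1874, 2084, 2282, 2841, 3387, 3704, 4278])) (.node (.leaf [71, 360, 785, 878, 1526, 1558, 1913, 2411, 2496, 2721, 3360, 3708, 4313]) (.leaf [192, 423, 461, 697, 1104, 2315, 2343, 3172, 3434, 3542, 3762, 3786, 3988])))))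

def nbr1248 : Janko.Tree (List ℕ) :=
  (.node (.node (.node (.node (.node (.leaf [194, 424, 781, 874, 996, 2383, 2643, 2747, 3181, 3413, 3878, 3952, 4281]) (.leaf [247, 405, 418, 530, 717, 1571, 1756, 2356, 2634, 3357, 3669, 4430, 4470])) (.leaf [125, 363, 859, 1130, 2412, 2722, 3089, 3289, 3328, 3345, 3363, 4081, 4405])) (.node (.leaf [9, 239, 414, 556, 1669, 2162, 2392, 3827, 3871, 3972, 4293, 4315, 4320]) (.leaf [346, 449, 867, 1670, 1981, 3192, 3218, 3383, 3538, 3741, 3976, 4111, 4192]))) (.node (.node (.leaf [7, 54, 1198, 1428, 1808, 2308, 2910, 3645, 3731, 3939, 4106, 4159, 4340]) (.leaf [184, 1830, 1894, 1946, 2205, 2285, 2428, 2925, 2934, 3392, 3675, 4164, 4348])) (.node (.leaf [145, 943, 1370, 1602, 1994, 2391, 2688, 2732, 2880, 3160, 3305, 3434, 3786]) (.leaf [468, 1025, 1053, 1357, 1576, 1828, 2522, 2528, 2747, 3503, 3574, 3698, 3778])))) (.node (.node (.node (.leaf [249, 479, 784, 989, 1076, 1124, 1333, 2229, 3202, 3654, 4033, 4109, 4455]) (.leaf [74, 654, 732, 767, 828, 1188, 2028, 2509, 2616, 2927, 3597, 4099, 4399])) (.node (.leaf [347, 549, 661, 1398, 1515, 1571, 1814,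 2060, 2215, 2978, 3063, 3474, 3524]) (.leaf [342, 540, 1045, 1762, 1846, 1932, 2183, 2232, 2548, 2679, 3705, 4034, 4476]))) (.node (.node (.leaf [465, 507, 707, 819, 1391, 2293, 2327, 2776, 2888, 2985, 3308, 4157, 4257]) (.leaf [1, 813, 920, 1057, 1770, 2131, 2604, 2846, 3104, 3139, 3152, 3771, 4035])) (.node (.leaf [72, 78, 234, 1365, 1373, 1914, 1916, 2152, 2722, 3281, 3289, 3310, 3858]) (.leaf [195, 424, 462, 1107, 1778, 2344, 2619, 2980, 3029, 3351, 3789, 4175, 4224])))))

def nbr1249 : Janko.Tree (List ℕ) :=
  (.node (.node (.node (.node (.node (.leaf [195, 425, 780, 875, 997, 2382, 2642, 2746, 3180, 3412, 3879, 3953, 4280]) (.leaf [246, 404, 419, 531, 716, 1570, 1757, 2357, 2635, 3356, 3668, 4431, 4471])) (.leaf [124, 362, 858, 1131, 2413, 2723, 3088, 3288, 3329, 3344, 3362, 4080, 4404])) (.node (.leaf [8, 238, 415, 557, 1668, 2163, 2393, 3826, 3870, 3973, 4292, 4314, 4321]) (.leaf [347, 448, 866, 1671, 1980, 3193, 3219, 3382, 3539, 3740, 3977, 4110, 4193]))) (.node (.node (.leaf [6, 55, 1199, 1429, 1809, 2309, 2911, 3644, 3730, 3938, 4107, 4158, 4341]) (.leaf [185, 1831, 1895,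 1947, 2204, 2284, 2429, 2924, 2935, 3393, 3674, 4165, 4349])) (.node (.leaf [144, 942, 1371, 1603, 1995, 2390, 2689, 2733, 2881, 3161, 3304, 3435, 3787]) (.leaf [469, 1024, 1052, 1356, 1577, 1829, 2523, 2529, 2746, 3502, 3575, 3699, 3779])))) (.node (.node (.node (.leaf [248, 478, 785, 988, 1077, 1125, 1332, 2228, 3203, 3655, 4032, 4108, 4454]) (.leaf [75, 655, 733, 766, 829, 1189, 2029, 2508, 2617, 2926, 3596, 4098, 4398])) (.node (.leaf [346, 548, 660, 1399, 1514, 1570, 1815, 2061, 2214, 2979, 3062, 3475, 3525]) (.leaf [343, 541, 1044, 1763, 1847, 1933, 2182, 2233, 2549, 2678, 3704, 4035, 4477]))) (.node (.node (.leaf [464, 506, 706, 818, 1390, 2292, 2326, 2777, 2889, 2984, 3309, 4156, 4256]) (.leaf [0, 812, 921, 1056, 1771, 2130, 2605, 2847, 3105, 3138, 3153, 3770, 4034])) (.node (.leaf [73, 79, 235, 1364, 1372, 1915, 1917, 2153, 2723, 3280, 3288, 3311, 3859]) (.leaf [194, 425, 463, 1106, 1779, 2345, 2618, 2981, 3028, 3350, 3788, 4174, 4225])))))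

def nbr1250 : Janko.Tree (List ℕ) :=
  (.node (.node (.node (.node (.node (.leaf [323, 426, 617, 819, 2044, 2161, 2662, 2815, 2865, 3022, 3324, 3331, 4038]) (.leaf [174, 1441, 1514, 1740, 1878, 2060, 2146, 2280, 2400, 2539, 3130, 3388, 4002])) (.leaf [365, 861, 864, 1132, 1922, 2248, 2414, 2651, 2676, 2913, 3261, 3313, 4412])) (.node (.leaf [605, 1037, 1391, 1573, 1596, 1903, 1943, 1950, 2117, 2889, 3905, 3999, 4380]) (.leaf [323, 504, 1388, 1975, 2285, 2578, 2828, 3040, 3222, 3789, 4174, 4229, 4332]))) (.node (.node (.leaf [9, 56, 1200, 1606, 1631, 2081, 2102, 2670, 3119, 3148, 3733, 3870, 4017]) (.leaf [186, 632, 1387, 1753, 2207, 2287, 2430, 2709, 2752, 3045, 3277, 3450, 3690])) (.node (.leaf [555, 669, 776, 869, 1174, 1706, 1984, 2088, 2238, 2513, 2951, 3494, 4128]) (.leaf [461, 554, 690, 800, 1029, 1057, 1752, 2524, 3044, 3109, 3494, 3763, 4009])))) (.node (.node (.node (.leaf [175, 530, 786, 991, 1306, 1539, 1756, 1782, 2154, 2261, 3390, 4053, 4258]) (.leaf [273, 680, 766, 848, 2282, 2288, 2362, 2616, 2799, 3354, 3549, 4241, 4384])) (.node (.leaf [281, 604, 863, 1078, 1366,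 1573, 1816, 2129, 2320, 2557, 2943, 3476, 3795]) (.leaf [294, 504, 1058, 1616, 2087, 2119, 2531, 2771, 3083, 3232, 3795, 3961, 4074]))) (.node (.node (.leaf [16, 504, 578, 1187, 1402, 2368, 2412, 2723, 3265, 3310, 3445, 3448, 3890]) (.leaf [229, 616, 815, 922, 1003, 1772, 1954, 2161, 2848, 3039, 3141, 3902, 4457])) (.node (.leaf [14, 589, 695, 885, 979, 1185, 1232, 1385, 2029, 3248, 3577, 4001, 4161]) (.leaf [10, 858, 927, 1722, 1992, 2055, 2420, 3175, 3345, 3381, 3653, 3897, 4239])))))

def nbr1251 : Janko.Tree (List ℕ) :=
  (.node (.node (.node (.node (.node (.leaf [322, 427, 616, 818, 2045, 2160, 2663, 2814, 2864, 3023, 3325, 3330, 4039]) (.leaf [175, 1440, 1515, 1741, 1879, 2061, 2147, 2281, 2401, 2538, 3131, 3389, 4003])) (.leaf [364, 860, 865, 1133, 1923, 2249, 2415, 2650, 2677, 2912, 3260, 3312, 4413])) (.node (.leaf [604, 1036, 1390, 1572, 1597, 1902, 1942, 1951, 2116, 2888, 3904, 3998, 4381]) (.leaf [322, 505, 1389, 1974, 2284, 2579, 2829, 3041, 3223, 3788, 4175, 4228, 4333]))) (.node (.node (.leaf [8, 57, 1201, 1607, 1630, 2080, 2103, 2671, 3118, 3149, 3732, 3871, 4016])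 (.leaf [187, 633, 1386, 1752, 2206, 2286, 2431, 2708, 2753, 3044, 3276, 3451, 3691])) (.node (.leaf [554, 668, 777, 868, 1175, 1707, 1985, 2089, 2239, 2512, 2950, 3495, 4129]) (.leaf [460, 555, 691, 801, 1028, 1056, 1753, 2525, 3045, 3108, 3495, 3762, 4008])))) (.node (.node (.node (.leaf [174, 531, 787, 990, 1307, 1538, 1757, 1783, 2155, 2260, 3391, 4052, 4259]) (.leaf [272, 681, 767, 849, 2283, 2289, 2363, 2617, 2798, 3355, 3548, 4240, 4385])) (.node (.leaf [280, 605, 862, 1079, 1367, 1572, 1817, 2128, 2321, 2556, 2942, 3477, 3794]) (.leaf [295, 505, 1059, 1617, 2086, 2118, 2530, 2770, 3082, 3233, 3794, 3960, 4075]))) (.node (.node (.leaf [17, 505, 579, 1186, 1403, 2369, 2413, 2722, 3264, 3311, 3444, 3449, 3891]) (.leaf [228, 617, 814, 923, 1002, 1773, 1955, 2160, 2849, 3038, 3140, 3903, 4456])) (.node (.leaf [15, 588, 694, 884, 978, 1184, 1233, 1384, 2028, 3249, 3576, 4000, 4160]) (.leaf [11, 859, 926, 1723, 1993, 2054, 2421, 3174, 3344, 3380, 3652, 3896, 4238])))))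

def nbr1252 : Janko.Tree (List ℕ) :=
  (.node (.node (.node (.node (.node (.leaf [428, 445, 751, 1072, 1455, 1498, 1612, 2046, 2048, 2471, 2545, 2904, 3649]) (.leaf [56, 254, 269, 837, 1205, 2388, 2450, 2810, 3015, 3385, 3583, 3803, 3839])) (.leaf [110, 150, 432, 953, 1511, 1931, 2011, 2609, 2772, 2872, 3120, 4257, 4300])) (.node (.leaf [599, 1401, 1575, 1852, 1914, 1967, 2647, 3235, 3870, 3880, 4097, 4352, 4436]) (.leaf [32, 486, 642, 668, 852, 1656, 2299, 2738, 3469, 3507, 3633, 3912, 3951]))) (.node (.node (.leaf [1202, 1247, 1462, 1502, 1879, 1939, 2280, 2462, 2907, 2977, 3975, 4202, 4427]) (.leaf [401, 548, 831, 853, 1814, 2238, 2432, 2950, 3500, 3508, 3611, 3664, 4084])) (.node (.leaf [591, 724, 824, 842, 1210, 1820, 2434, 2936, 3092, 3098, 3153, 3205, 3544]) (.leaf [265, 583, 586, 883, 1066, 2067, 2124, 2342, 3568, 3730, 3751, 4169, 4242])))) (.node (.node (.node (.leaf [251, 788, 993, 1308, 1503, 1784, 2462, 2793, 2819, 2872, 3046, 4260, 4362]) (.leaf [81, 1435, 1930, 2158, 2247, 2713, 2772, 3061, 3454, 3739, 3837, 4120, 4188])) (.node (.leaf [63, 310, 688, 887, 1370, 1583,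 1820, 2219, 2937, 2970, 3831, 3852, 3909]) (.leaf [414, 1248, 1284, 2129, 2162, 2215, 2361, 2596, 2899, 3600, 3795, 4115, 4468]))) (.node (.node (.leaf [80, 839, 844, 1282, 1408, 1805, 2354, 2639, 3245, 3678, 3782, 3906, 4010]) (.leaf [93, 239, 1064, 1141, 1191, 1441, 2058, 2146, 2162, 2243, 2565, 3286, 3352])) (.node (.leaf [16, 697, 887, 1187, 1480, 1512, 1595, 2120, 2687, 3504, 3909, 4176, 4421]) (.leaf [205, 603, 739, 1295, 1645, 1890, 2212, 2268, 2565, 2761, 3253, 3828, 4449])))))

def nbr1253 : Janko.Tree (List ℕ) :=
  (.node (.node (.node (.node (.node (.leaf [429, 444, 750, 1073, 1454, 1499, 1613, 2047, 2049, 2470, 2544, 2905, 3648]) (.leaf [57, 255, 268, 836, 1204, 2389, 2451, 2811, 3014, 3384, 3582, 3802, 3838])) (.leaf [111, 151, 433, 952, 1510, 1930, 2010, 2608, 2773, 2873, 3121, 4256, 4301])) (.node (.leaf [598, 1400, 1574, 1853, 1915, 1966, 2646, 3234, 3871, 3881, 4096, 4353, 4437]) (.leaf [33, 487, 643, 669, 853, 1657, 2298, 2739, 3468, 3506, 3632, 3913, 3950]))) (.node (.node (.leaf [1203, 1246, 1463, 1503, 1878, 1938, 2281, 2463, 2906, 2976, 3974, 4203, 4426]) (.leaf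 [400, 549, 830, 852, 1815, 2239, 2433, 2951, 3501, 3509, 3610, 3665, 4085])) (.node (.leaf [590, 725, 825, 843, 1211, 1821, 2435, 2937, 3093, 3099, 3152, 3204, 3545]) (.leaf [264, 582, 587, 882, 1067, 2066, 2125, 2343, 3569, 3731, 3750, 4168, 4243])))) (.node (.node (.node (.leaf [250, 789, 992, 1309, 1502, 1785, 2463, 2792, 2818, 2873, 3047, 4261, 4363]) (.leaf [80, 1434, 1931, 2159, 2246, 2712, 2773, 3060, 3455, 3738, 3836, 4121, 4189])) (.node (.leaf [62, 311, 689, 886, 1371, 1582, 1821, 2218, 2936, 2971, 3830, 3853, 3908]) (.leaf [415, 1249, 1285, 2128, 2163, 2214, 2360, 2597, 2898, 3601, 3794, 4114, 4469]))) (.node (.node (.leaf [81, 838, 845, 1283, 1409, 1804, 2355, 2638, 3244, 3679, 3783, 3907, 4011]) (.leaf [92, 238, 1065, 1140, 1190, 1440, 2059, 2147, 2163, 2242, 2564, 3287, 3353])) (.node (.leaf [17, 696, 886, 1186, 1481, 1513, 1594, 2121, 2686, 3505, 3908, 4177, 4420]) (.leaf [204, 602, 738, 1294, 1644, 1891, 2213, 2269, 2564, 2760, 3252, 3829, 4448])))))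

def nbr1254 : Janko.Tree (List ℕ) :=
  (.node (.node (.node (.node (.node (.leaf [289, 430, 447, 809, 1330, 1878, 2472, 2906, 2917, 3024, 3849, 3899, 4471]) (.leaf [191, 1142, 1162, 1475, 1501, 1552, 1860, 2061, 2482, 3548, 3736, 3985, 4472])) (.leaf [71, 422, 1171, 1363, 2281, 2388, 2817, 2876, 3572, 3711, 3842, 4093, 4306])) (.node (.leaf [114, 516, 813, 921, 924, 963, 1039, 1834, 2171, 2498, 3430, 3659, 4139]) (.leaf [46, 439, 653, 679, 840, 1360, 1376, 3083, 3270, 3844, 4075, 4337, 4428]))) (.node (.node (.leaf [685, 912, 1204, 1249, 1339, 1464, 1881, 2163, 3182, 3384, 3414, 4204, 4345]) (.leaf [230, 786, 1442, 1506, 1605, 1719, 1824, 2155, 3045, 3157, 4131, 4316, 4371])) (.node (.leaf [172, 622, 844, 1212, 1822, 2436, 2938, 3094, 3097, 3100, 3903, 3915, 4339]) (.leaf [360, 428, 713, 939, 1167, 1924, 3687, 3817, 3836, 4048, 4186, 4312, 4359])))) (.node (.node (.node (.leaf [253, 576, 782, 790, 809, 995, 1310, 2795, 2821, 3316, 3692, 4095, 4140]) (.leaf [223, 263, 1027, 1113, 1519, 2542, 2640, 2715, 3120, 3908, 4007, 4176, 4323])) (.node (.leaf [65, 366, 894, 904, 969, 1199, 1585,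 1822, 2939, 3255, 3410, 3939, 4098]) (.leaf [416, 705, 1286, 1484, 1713, 2164, 2489, 2598, 2943, 3284, 3893, 4326, 4407]))) (.node (.node (.leaf [161, 260, 654, 841, 1006, 1758, 2156, 2638, 2641, 2994, 3133, 3488, 3520]) (.leaf [95, 241, 419, 1055, 1066, 2148, 2164, 2267, 2875, 3106, 3323, 3355, 3507])) (.node (.leaf [18, 644, 909, 915, 983, 2494, 2797, 2841, 3457, 3802, 3807, 4198, 4237]) (.leaf [10, 184, 378, 394, 1257, 1526, 3474, 3926, 3946, 3997, 4209, 4398, 4438])))))

def nbr1255 : Janko.Tree (List ℕ) :=
  (.node (.node (.node (.node (.node (.leaf [288, 431, 446, 808, 1331, 1879, 2473, 2907, 2916, 3025, 3848, 3898, 4470]) (.leaf [190, 1143, 1163, 1474, 1500, 1553, 1861, 2060, 2483, 3549, 3737, 3984, 4473])) (.leaf [70, 423, 1170, 1362, 2280, 2389, 2816, 2877, 3573, 3710, 3843, 4092, 4307])) (.node (.leaf [115, 517, 812, 920, 925, 962, 1038, 1835, 2170, 2499, 3431, 3658, 4138]) (.leaf [47, 438, 652, 678, 841, 1361, 1377, 3082, 3271, 3845, 4074, 4336, 4429]))) (.node (.node (.leaf [684, 913, 1205, 1248, 1338, 1465, 1880, 2162, 3183, 3385, 3415, 4205, 4344]) (.leaf [231, 787, 1443,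 1507, 1604, 1718, 1825, 2154, 3044, 3156, 4130, 4317, 4370])) (.node (.leaf [173, 623, 845, 1213, 1823, 2437, 2939, 3095, 3096, 3101, 3902, 3914, 4338]) (.leaf [361, 429, 712, 938, 1166, 1925, 3686, 3816, 3837, 4049, 4187, 4313, 4358])))) (.node (.node (.node (.leaf [252, 577, 783, 791, 808, 994, 1311, 2794, 2820, 3317, 3693, 4094, 4141]) (.leaf [222, 262, 1026, 1112, 1518, 2543, 2641, 2714, 3121, 3909, 4006, 4177, 4322])) (.node (.leaf [64, 367, 895, 905, 968, 1198, 1584, 1823, 2938, 3254, 3411, 3938, 4099]) (.leaf [417, 704, 1287, 1485, 1712, 2165, 2488, 2599, 2942, 3285, 3892, 4327, 4406]))) (.node (.node (.leaf [160, 261, 655, 840, 1007, 1759, 2157, 2639, 2640, 2995, 3132, 3489, 3521]) (.leaf [94, 240, 418, 1054, 1067, 2149, 2165, 2266, 2874, 3107, 3322, 3354, 3506])) (.node (.leaf [19, 645, 908, 914, 982, 2495, 2796, 2840, 3456, 3803, 3806, 4199, 4236]) (.leaf [11, 185, 379, 395, 1256, 1527, 3475, 3927, 3947, 3996, 4208, 4399, 4439])))))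

def nbr1 : Janko.Tree (List ℕ) :=
  (.node (.node (.node (.node (.node (.node (.node (.node nbr10 nbr1128) (.node nbr164 nbr1192)) (.node (.node nbr132 nbr1160) (.node nbr196 nbr1224))) (.node (.node (.node nbr116 nbr1144) (.node nbr180 nbr1208)) (.node (.node nbr148 nbr1176) (.node nbr1112 nbr1240)))) (.node (.node (.node (.node nbr18 nbr1136) (.node nbr172 nbr1200)) (.node (.node nbr140 nbr1168) (.node nbr1104 nbr1232))) (.node (.node (.node nbr124 nbr1152) (.node nbr188 nbr1216)) (.node (.node nbr156 nbr1184) (.node nbr1120 nbr1248))))) (.node (.node (.node (.node (.node nbr14 nbr1132) (.node nbr168 nbr1196)) (.node (.node nbr136 nbr1164) (.node nbr1100 nbr1228))) (.node (.node (.node nbr120 nbr1148) (.node nbr184 nbr1212)) (.node (.node nbr152 nbr1180) (.node nbr1116 nbr1244)))) (.node (.node (.node (.node nbr112 nbr1140) (.node nbr176 nbr1204)) (.node (.node nbr144 nbr1172) (.node nbr1108 nbr1236))) (.node (.node (.node nbr128 nbr1156) (.node nbr192 nbr1220)) (.node (.node nbr160 nbr1188) (.node nbr1124 nbr1252)))))) (.node (.node (.node (.node (.node (.node nbr12 nbr1130) (.node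 nbr166 nbr1194)) (.node (.node nbr134 nbr1162) (.node nbr198 nbr1226))) (.node (.node (.node nbr118 nbr1146) (.node nbr182 nbr1210)) (.node (.node nbr150 nbr1178) (.node nbr1114 nbr1242)))) (.node (.node (.node (.node nbr110 nbr1138) (.node nbr174 nbr1202)) (.node (.node nbr142 nbr1170) (.node nbr1106 nbr1234))) (.node (.node (.node nbr126 nbr1154) (.node nbr190 nbr1218)) (.node (.node nbr158 nbr1186) (.node nbr1122 nbr1250))))) (.node (.node (.node (.node (.node nbr16 nbr1134) (.node nbr170 nbr1198)) (.node (.node nbr138 nbr1166) (.node nbr1102 nbr1230))) (.node (.node (.node nbr122 nbr1150) (.node nbr186 nbr1214)) (.node (.node nbr154 nbr1182) (.node nbr1118 nbr1246)))) (.node (.node (.node (.node nbr114 nbr1142) (.node nbr178 nbr1206)) (.node (.node nbr146 nbr1174) (.node nbr1110 nbr1238))) (.node (.node (.node nbr130 nbr1158) (.node nbr194 nbr1222)) (.node (.node nbr162 nbr1190) (.node nbr1126 nbr1254))))))) (.node (.node (.node (.node (.node (.node (.node nbr11 nbr1129) (.node nbr165 nbr1193)) (.node (.node nbr133 nbr1161) (.node nbr197 nbr1225))) (.node (.node (.node nbr117 nbr1145)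 (.node nbr181 nbr1209)) (.node (.node nbr149 nbr1177) (.node nbr1113 nbr1241)))) (.node (.node (.node (.node nbr19 nbr1137) (.node nbr173 nbr1201)) (.node (.node nbr141 nbr1169) (.node nbr1105 nbr1233))) (.node (.node (.node nbr125 nbr1153) (.node nbr189 nbr1217)) (.node (.node nbr157 nbr1185) (.node nbr1121 nbr1249))))) (.node (.node (.node (.node (.node nbr15 nbr1133) (.node nbr169 nbr1197)) (.node (.node nbr137 nbr1165) (.node nbr1101 nbr1229))) (.node (.node (.node nbr121 nbr1149) (.node nbr185 nbr1213)) (.node (.node nbr153 nbr1181) (.node nbr1117 nbr1245)))) (.node (.node (.node (.node nbr113 nbr1141) (.node nbr177 nbr1205)) (.node (.node nbr145 nbr1173) (.node nbr1109 nbr1237))) (.node (.node (.node nbr129 nbr1157) (.node nbr193 nbr1221)) (.node (.node nbr161 nbr1189) (.node nbr1125 nbr1253)))))) (.node (.node (.node (.node (.node (.node nbr13 nbr1131) (.node nbr167 nbr1195)) (.node (.node nbr135 nbr1163) (.node nbr199 nbr1227))) (.node (.node (.node nbr119 nbr1147) (.node nbr183 nbr1211)) (.node (.node nbr151 nbr1179) (.node nbr1115 nbr1243)))) (.node (.node (.node (.node nbr111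 nbr1139) (.node nbr175 nbr1203)) (.node (.node nbr143 nbr1171) (.node nbr1107 nbr1235))) (.node (.node (.node nbr127 nbr1155) (.node nbr191 nbr1219)) (.node (.node nbr159 nbr1187) (.node nbr1123 nbr1251))))) (.node (.node (.node (.node (.node nbr17 nbr1135) (.node nbr171 nbr1199)) (.node (.node nbr139 nbr1167) (.node nbr1103 nbr1231))) (.node (.node (.node nbr123 nbr1151) (.node nbr187 nbr1215)) (.node (.node nbr155 nbr1183) (.node nbr1119 nbr1247)))) (.node (.node (.node (.node nbr115 nbr1143) (.node nbr179 nbr1207)) (.node (.node nbr147 nbr1175) (.node nbr1111 nbr1239))) (.node (.node (.node nbr131 nbr1159) (.node nbr195 nbr1223)) (.node (.node nbr163 nbr1191) (.node nbr1127 nbr1255))))))))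

def spar10 : Janko.Tree (ℕ × Bool) :=
  (.node (.node (.node (.node (.node (.leaf (0, false)) (.leaf (1720, true))) (.leaf (126, false))) (.node (.leaf (1800, true)) (.leaf (1028, false)))) (.node (.node (.leaf (720, true)) (.leaf (430, false))) (.node (.leaf (460, false)) (.leaf (1250, true))))) (.node (.node (.node (.node (.leaf (672, true)) (.leaf (1920, true))) (.leaf (1695, false))) (.node (.leaf (1636, false)) (.leaf (1783, true)))) (.node (.node (.leaf (2051, false)) (.leaf (304, false))) (.node (.leaf (1913, false)) (.leaf (1644, false))))))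

def spar11 : Janko.Tree (ℕ × Bool) :=
  (.node (.node (.node (.node (.node (.leaf (0, false)) (.leaf (1507, false))) (.leaf (2024, true))) (.node (.leaf (1256, true)) (.leaf (1882, true)))) (.node (.node (.leaf (2169, false)) (.leaf (407, false))) (.node (.leaf (253, true)) (.leaf (90, true))))) (.node (.node (.node (.node (.leaf (77, false)) (.leaf (1762, true))) (.leaf (1355, false))) (.node (.leaf (2140, false)) (.leaf (419, true)))) (.node (.node (.leaf (694, true)) (.leaf (745, true))) (.node (.leaf (534, true)) (.leaf (1288, false))))))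

def spar12 : Janko.Tree (ℕ × Bool) :=
  (.node (.node (.node (.node (.node (.leaf (2075, true)) (.leaf (2203, false))) (.leaf (460, false))) (.node (.leaf (1280, true)) (.leaf (1520, true)))) (.node (.node (.leaf (2065, true)) (.leaf (1534, true))) (.node (.leaf (1100, true)) (.leaf (91, true))))) (.node (.node (.node (.node (.leaf (1831, false)) (.leaf (1312, false))) (.leaf (1739, true))) (.node (.leaf (2002, false)) (.leaf (1312, true)))) (.node (.node (.leaf (1742, false)) (.leaf (1732, true))) (.node (.leaf (440, false)) (.leaf (1663, false))))))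

def spar13 : Janko.Tree (ℕ × Bool) :=
  (.node (.node (.node (.node (.node (.leaf (1, false)) (.leaf (1520, false))) (.leaf (1910, false))) (.node (.leaf (2142, true)) (.leaf (387, true)))) (.node (.node (.leaf (1762, true)) (.leaf (601, true))) (.node (.leaf (1745, false)) (.leaf (659, false))))) (.node (.node (.node (.node (.leaf (548, false)) (.leaf (130, true))) (.leaf (534, false))) (.node (.leaf (430, false)) (.leaf (342, true)))) (.node (.node (.leaf (1389, false)) (.leaf (1783, false))) (.node (.leaf (460, true)) (.leaf (1288, false))))))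

def spar14 : Janko.Tree (ℕ × Bool) :=
  (.node (.node (.node (.node (.node (.leaf (1941, false)) (.leaf (1629, false))) (.leaf (0, true))) (.node (.leaf (1773, true)) (.leaf (2125, true)))) (.node (.node (.leaf (2052, true)) (.leaf (1987, false))) (.node (.leaf (341, false)) (.leaf (1172, false))))) (.node (.node (.node (.node (.leaf (1955, false)) (.leaf (30, false))) (.leaf (689, true))) (.node (.leaf (311, false)) (.leaf (1876, false)))) (.node (.node (.leaf (697, true)) (.leaf (340, false))) (.node (.leaf (149, true)) (.leaf (948, false))))))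

def spar15 : Janko.Tree (ℕ × Bool) :=
  (.node (.node (.node (.node (.node (.leaf (1495, true)) (.leaf (1786, false))) (.leaf (1534, false))) (.node (.leaf (1783, true)) (.leaf (1663, true)))) (.node (.node (.leaf (1495, true)) (.leaf (658, true))) (.node (.leaf (1003, true)) (.leaf (2110, true))))) (.node (.node (.node (.node (.leaf (2124, false)) (.leaf (15, true))) (.leaf (1130, true))) (.node (.leaf (146, false)) (.leaf (1935, false)))) (.node (.node (.leaf (1887, true)) (.leaf (222, false))) (.node (.leaf (826, false)) (.leaf (387, true))))))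

def spar16 : Janko.Tree (ℕ × Bool) :=
  (.node (.node (.node (.node (.node (.leaf (1422, true)) (.leaf (252, true))) (.leaf (2004, false))) (.node (.leaf (1212, true)) (.leaf (814, true)))) (.node (.node (.leaf (2125, false)) (.leaf (659, true))) (.node (.leaf (2053, true)) (.leaf (2075, false))))) (.node (.node (.node (.node (.leaf (1220, false)) (.leaf (2059, true))) (.leaf (93, true))) (.node (.leaf (770, true)) (.leaf (1485, true)))) (.node (.node (.leaf (2158, false)) (.leaf (1661, false))) (.node (.leaf (510, true)) (.leaf (1786, true))))))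

def spar17 : Janko.Tree (ℕ × Bool) :=
  (.node (.node (.node (.node (.node (.leaf (1021, false)) (.leaf (2142, true))) (.leaf (1485, true))) (.node (.leaf (1565, false)) (.leaf (1967, true)))) (.node (.node (.leaf (989, true)) (.leaf (819, true))) (.node (.leaf (1699, true)) (.leaf (1517, false))))) (.node (.node (.node (.node (.leaf (800, true)) (.leaf (1885, false))) (.leaf (1003, true))) (.node (.leaf (662, false)) (.leaf (1969, false)))) (.node (.node (.leaf (1205, true)) (.leaf (535, false))) (.node (.leaf (1614, true)) (.leaf (1887, true))))))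

def spar18 : Janko.Tree (ℕ × Bool) :=
  (.node (.node (.node (.node (.node (.leaf (1205, true)) (.leaf (1003, true))) (.leaf (2002, false))) (.node (.leaf (1882, true)) (.leaf (994, true)))) (.node (.node (.leaf (1521, true)) (.leaf (658, false))) (.node (.leaf (2175, false)) (.leaf (1, false))))) (.node (.node (.node (.node (.leaf (992, true)) (.leaf (2171, false))) (.leaf (15, true))) (.node (.leaf (1006, true)) (.leaf (770, false)))) (.node (.node (.leaf (1019, false)) (.leaf (1762, false))) (.node (.leaf (1081, false)) (.leaf (1266, false))))))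

def spar19 : Janko.Tree (ℕ × Bool) :=
  (.node (.node (.node (.node (.node (.leaf (600, true)) (.leaf (1834, true))) (.leaf (729, false))) (.node (.leaf (1288, false)) (.leaf (1442, true)))) (.node (.node (.leaf (253, false)) (.leaf (1661, false))) (.node (.leaf (749, true)) (.leaf (793, true))))) (.node (.node (.node (.node (.leaf (2051, true)) (.leaf (2051, true))) (.leaf (2142, false))) (.node (.leaf (230, true)) (.leaf (1725, true)))) (.node (.node (.leaf (253, false)) (.leaf (1614, true))) (.node (.leaf (729, false)) (.leaf (2139, false))))))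

def spar110 : Janko.Tree (ℕ × Bool) :=
  (.node (.node (.node (.node (.node (.leaf (665, false)) (.leaf (1465, false))) (.leaf (2026, true))) (.node (.leaf (729, true)) (.leaf (403, true)))) (.node (.node (.leaf (1100, true)) (.leaf (387, false))) (.node (.leaf (530, true)) (.leaf (14, true))))) (.node (.node (.node (.node (.leaf (653, false)) (.leaf (1220, true))) (.leaf (834, true))) (.node (.leaf (439, false)) (.leaf (1, true)))) (.node (.node (.leaf (1208, true)) (.leaf (733, false))) (.node (.leaf (440, false)) (.leaf (130, true))))))

def spar111 : Janko.Tree (ℕ × Bool) :=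
  (.node (.node (.node (.node (.node (.leaf (277, true)) (.leaf (1644, false))) (.leaf (2203, true))) (.node (.leaf (1941, false)) (.leaf (1866, false)))) (.node (.node (.leaf (186, false)) (.leaf (733, true))) (.node (.leaf (1019, true)) (.leaf (112, false))))) (.node (.node (.node (.node (.leaf (600, true)) (.leaf (668, true))) (.leaf (702, true))) (.node (.leaf (1292, true)) (.leaf (28, false)))) (.node (.node (.leaf (1466, false)) (.leaf (121, true))) (.node (.leaf (1100, true)) (.leaf (1499, false))))))

def spar112 : Janko.Tree (ℕ × Bool) :=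
  (.node (.node (.node (.node (.node (.leaf (1208, true)) (.leaf (775, false))) (.leaf (773, false))) (.node (.leaf (2140, true)) (.leaf (1265, false)))) (.node (.node (.leaf (1389, false)) (.leaf (1205, false))) (.node (.leaf (1702, true)) (.leaf (28, true))))) (.node (.node (.node (.node (.leaf (2110, true)) (.leaf (720, true))) (.leaf (1577, false))) (.node (.leaf (460, true)) (.leaf (1534, false)))) (.node (.node (.leaf (1596, true)) (.leaf (2018, true))) (.node (.leaf (379, false)) (.leaf (1767, true))))))

def spar113 : Janko.Tree (ℕ × Bool) :=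
  (.node (.node (.node (.node (.node (.leaf (452, true)) (.leaf (1420, false))) (.leaf (82, true))) (.node (.leaf (82, true)) (.leaf (1614, true)))) (.node (.node (.leaf (710, true)) (.leaf (1695, false))) (.node (.leaf (1086, true)) (.leaf (1725, true))))) (.node (.node (.node (.node (.leaf (874, false)) (.leaf (1536, true))) (.leaf (440, true))) (.node (.leaf (253, false)) (.leaf (2140, true)))) (.node (.node (.leaf (410, false)) (.leaf (1237, false))) (.node (.leaf (18, false)) (.leaf (800, true))))))

def spar114 : Janko.Tree (ℕ × Bool) :=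
  (.node (.node (.node (.node (.node (.leaf (2158, true)) (.leaf (407, true))) (.leaf (1369, false))) (.node (.leaf (733, true)) (.leaf (1588, false)))) (.node (.node (.leaf (28, true)) (.leaf (819, false))) (.node (.leaf (1800, true)) (.leaf (395, false))))) (.node (.node (.node (.node (.leaf (1866, false)) (.leaf (430, false))) (.leaf (2029, false))) (.node (.leaf (2018, true)) (.leaf (1513, true)))) (.node (.node (.leaf (258, false)) (.leaf (2158, true))) (.node (.leaf (272, false)) (.leaf (259, true))))))

def spar115 : Janko.Tree (ℕ × Bool) :=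
  (.node (.node (.node (.node (.node (.leaf (1205, true)) (.leaf (18, false))) (.leaf (1205, true))) (.node (.leaf (733, true)) (.leaf (1505, false)))) (.node (.node (.leaf (2142, true)) (.leaf (706, false))) (.node (.leaf (2053, false)) (.leaf (1926, true))))) (.node (.node (.node (.node (.leaf (662, true)) (.leaf (1219, true))) (.leaf (551, true))) (.node (.leaf (1674, false)) (.leaf (689, false)))) (.node (.node (.leaf (259, false)) (.leaf (341, false))) (.node (.leaf (1834, true)) (.leaf (1429, false))))))

def spar116 : Janko.Tree (ℕ × Bool) :=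
  (.node (.node (.node (.node (.node (.leaf (39, true)) (.leaf (1172, false))) (.leaf (1588, false))) (.node (.leaf (87, true)) (.leaf (14, false)))) (.node (.node (.leaf (1028, true)) (.leaf (1972, true))) (.node (.leaf (1910, false)) (.leaf (1256, false))))) (.node (.node (.node (.node (.leaf (1355, false)) (.leaf (615, false))) (.leaf (2203, false))) (.node (.leaf (590, true)) (.leaf (390, true)))) (.node (.node (.leaf (149, true)) (.leaf (1249, false))) (.node (.leaf (1507, true)) (.leaf (1205, true))))))

def spar117 : Janko.Tree (ℕ × Bool) :=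
  (.node (.node (.node (.node (.node (.leaf (1003, false)) (.leaf (0, true))) (.leaf (1771, true))) (.node (.leaf (580, false)) (.leaf (2000, true)))) (.node (.node (.leaf (697, false)) (.leaf (548, false))) (.node (.leaf (429, true)) (.leaf (1249, true))))) (.node (.node (.node (.node (.leaf (1566, true)) (.leaf (1682, false))) (.leaf (1208, true))) (.node (.leaf (1645, true)) (.leaf (93, false)))) (.node (.node (.leaf (2142, false)) (.leaf (1955, false))) (.node (.leaf (1871, false)) (.leaf (936, false))))))

def spar118 : Janko.Tree (ℕ × Bool) :=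
  (.node (.node (.node (.node (.node (.leaf (1389, false)) (.leaf (615, true))) (.leaf (720, false))) (.node (.leaf (1859, true)) (.leaf (878, false)))) (.node (.node (.leaf (1172, false)) (.leaf (1429, false))) (.node (.leaf (430, true)) (.leaf (2065, true))))) (.node (.node (.node (.node (.leaf (1699, true)) (.leaf (878, false))) (.leaf (668, true))) (.node (.leaf (0, true)) (.leaf (1725, true)))) (.node (.node (.leaf (697, true)) (.leaf (662, false))) (.node (.leaf (733, false)) (.leaf (1208, true))))))

def spar119 : Janko.Tree (ℕ × Bool) :=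
  (.node (.node (.node (.node (.node (.leaf (1702, true)) (.leaf (2140, false))) (.leaf (1249, true))) (.node (.leaf (795, true)) (.leaf (285, false)))) (.node (.node (.leaf (1566, true)) (.leaf (393, true))) (.node (.leaf (1926, true)) (.leaf (1380, false))))) (.node (.node (.node (.node (.leaf (1880, false)) (.leaf (663, true))) (.leaf (1725, true))) (.node (.leaf (2158, true)) (.leaf (992, true)))) (.node (.node (.leaf (1831, false)) (.leaf (196, false))) (.node (.leaf (750, false)) (.leaf (1914, true))))))

def spar120 : Janko.Tree (ℕ × Bool) :=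
  (.node (.node (.node (.node (.node (.leaf (1416, false)) (.leaf (880, false))) (.leaf (1745, true))) (.node (.leaf (1416, false)) (.leaf (2014, false)))) (.node (.node (.leaf (18, true)) (.leaf (1859, false))) (.node (.leaf (455, true)) (.leaf (1536, false))))) (.node (.node (.node (.node (.leaf (2177, false)) (.leaf (1461, false))) (.leaf (1028, false))) (.node (.leaf (2092, true)) (.leaf (994, true)))) (.node (.node (.leaf (1951, false)) (.leaf (1220, true))) (.node (.leaf (268, true)) (.leaf (152, false))))))

def spar121 : Janko.Tree (ℕ × Bool) :=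
  (.node (.node (.node (.node (.node (.leaf (1086, true)) (.leaf (1285, false))) (.leaf (1673, false))) (.node (.leaf (1535, false)) (.leaf (1380, true)))) (.node (.node (.leaf (1831, true)) (.leaf (943, false))) (.node (.leaf (1899, false)) (.leaf (130, true))))) (.node (.node (.node (.node (.leaf (1644, false)) (.leaf (1787, true))) (.leaf (960, false))) (.node (.leaf (929, true)) (.leaf (783, true)))) (.node (.node (.leaf (2129, true)) (.leaf (1389, true))) (.node (.leaf (1285, false)) (.leaf (1520, false))))))

def spar122 : Janko.Tree (ℕ × Bool) :=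
  (.node (.node (.node (.node (.node (.leaf (330, true)) (.leaf (3, false))) (.leaf (1420, false))) (.node (.leaf (2053, true)) (.leaf (1529, true)))) (.node (.node (.leaf (1288, false)) (.leaf (186, true))) (.node (.leaf (929, true)) (.leaf (1773, true))))) (.node (.node (.node (.node (.leaf (1171, true)) (.leaf (410, true))) (.leaf (989, false))) (.node (.leaf (2065, false)) (.leaf (1429, false)))) (.node (.node (.leaf (1100, true)) (.leaf (1389, true))) (.node (.leaf (2088, true)) (.leaf (25, false))))))

def spar123 : Janko.Tree (ℕ × Bool) :=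
  (.node (.node (.node (.node (.node (.leaf (1663, false)) (.leaf (1430, true))) (.leaf (884, true))) (.node (.leaf (1725, false)) (.leaf (1982, true)))) (.node (.node (.leaf (277, false)) (.leaf (277, false))) (.node (.leaf (272, false)) (.leaf (1389, true))))) (.node (.node (.node (.node (.leaf (2203, false)) (.leaf (1673, false))) (.leaf (259, false))) (.node (.leaf (1250, true)) (.leaf (20, false)))) (.node (.node (.leaf (1389, true)) (.leaf (2196, false))) (.node (.leaf (2053, false)) (.leaf (1536, true))))))

def spar124 : Janko.Tree (ℕ × Bool) :=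
  (.node (.node (.node (.node (.node (.leaf (2097, false)) (.leaf (18, false))) (.leaf (994, true))) (.node (.leaf (126, false)) (.leaf (1279, false)))) (.node (.node (.leaf (1876, false)) (.leaf (460, false))) (.node (.leaf (273, false)) (.leaf (871, false))))) (.node (.node (.node (.node (.leaf (2018, false)) (.leaf (942, false))) (.leaf (2171, false))) (.node (.leaf (455, false)) (.leaf (152, false)))) (.node (.node (.leaf (268, false)) (.leaf (733, false))) (.node (.leaf (2177, false)) (.leaf (2018, false))))))

def spar125 : Janko.Tree (ℕ × Bool) :=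
  (.node (.node (.node (.node (.node (.leaf (1028, true)) (.leaf (849, true))) (.leaf (1324, true))) (.node (.leaf (1379, true)) (.leaf (527, true)))) (.node (.node (.leaf (697, true)) (.leaf (662, false))) (.node (.leaf (2065, false)) (.leaf (1890, false))))) (.node (.node (.node (.node (.leaf (936, true)) (.leaf (2205, true))) (.leaf (2203, false))) (.node (.leaf (1379, true)) (.leaf (1675, true)))) (.node (.node (.leaf (2177, false)) (.leaf (330, true))) (.node (.leaf (1877, true)) (.leaf (1629, true))))))

def spar126 : Janko.Tree (ℕ × Bool) :=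
  (.node (.node (.node (.node (.node (.leaf (542, false)) (.leaf (1747, false))) (.leaf (1616, true))) (.node (.leaf (942, false)) (.leaf (1086, true)))) (.node (.node (.leaf (259, true)) (.leaf (1645, false))) (.node (.leaf (615, false)) (.leaf (2, false))))) (.node (.node (.node (.node (.leaf (358, true)) (.leaf (259, false))) (.leaf (1487, true))) (.node (.leaf (252, true)) (.leaf (537, true)))) (.node (.node (.leaf (1416, true)) (.leaf (2000, false))) (.node (.leaf (2125, true)) (.leaf (2029, false))))))

def spar127 : Janko.Tree (ℕ × Bool) :=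
  (.node (.node (.node (.node (.node (.leaf (1180, true)) (.leaf (1762, true))) (.leaf (2051, true))) (.node (.leaf (2075, true)) (.leaf (455, true)))) (.node (.node (.leaf (1877, false)) (.leaf (875, true))) (.node (.leaf (1644, true)) (.leaf (769, true))))) (.node (.node (.node (.node (.leaf (766, false)) (.leaf (658, false))) (.leaf (1166, true))) (.node (.leaf (460, false)) (.leaf (1347, true)))) (.node (.node (.leaf (1583, true)) (.leaf (1773, true))) (.node (.leaf (1788, false)) (.leaf (1229, true))))))

def spar128 : Janko.Tree (ℕ × Bool) :=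
  (.node (.node (.node (.node (.node (.leaf (1762, false)) (.leaf (1972, false))) (.leaf (268, true))) (.node (.leaf (1077, false)) (.leaf (1219, true)))) (.node (.node (.leaf (93, true)) (.leaf (1277, false))) (.node (.leaf (1711, false)) (.leaf (1926, true))))) (.node (.node (.node (.node (.leaf (1442, true)) (.leaf (1969, true))) (.leaf (1487, true))) (.node (.leaf (2053, false)) (.leaf (1369, true)))) (.node (.node (.leaf (2161, true)) (.leaf (1485, false))) (.node (.leaf (196, true)) (.leaf (1773, false))))))

def spar129 : Janko.Tree (ℕ × Bool) :=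
  (.node (.node (.node (.node (.node (.leaf (2234, true)) (.leaf (960, true))) (.leaf (1220, false))) (.node (.leaf (1078, false)) (.leaf (1699, false)))) (.node (.node (.leaf (1078, false)) (.leaf (1028, false))) (.node (.leaf (1885, true)) (.leaf (1609, true))))) (.node (.node (.node (.node (.leaf (1909, true)) (.leaf (2158, true))) (.leaf (164, true))) (.node (.leaf (2088, true)) (.leaf (258, true)))) (.node (.node (.leaf (1747, false)) (.leaf (871, false))) (.node (.leaf (1081, true)) (.leaf (1815, false))))))

def spar130 : Janko.Tree (ℕ × Bool) :=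
  (.node (.node (.node (.node (.node (.leaf (58, false)) (.leaf (2177, true))) (.leaf (1520, false))) (.node (.leaf (1629, false)) (.leaf (1831, false)))) (.node (.node (.leaf (690, true)) (.leaf (340, true))) (.node (.leaf (1747, true)) (.leaf (834, true))))) (.node (.node (.node (.node (.leaf (402, true)) (.leaf (399, false))) (.leaf (1210, false))) (.node (.leaf (1972, true)) (.leaf (1350, false)))) (.node (.node (.leaf (1465, true)) (.leaf (1644, false))) (.node (.leaf (159, true)) (.leaf (1329, false))))))

def spar131 : Janko.Tree (ℕ × Bool) :=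
  (.node (.node (.node (.node (.node (.leaf (1538, false)) (.leaf (1955, false))) (.leaf (460, true))) (.node (.leaf (2205, false)) (.leaf (1945, false)))) (.node (.node (.leaf (2146, true)) (.leaf (1229, true))) (.node (.leaf (2004, false)) (.leaf (600, true))))) (.node (.node (.node (.node (.leaf (403, true)) (.leaf (2053, false))) (.leaf (1505, true))) (.node (.leaf (1300, false)) (.leaf (253, false)))) (.node (.node (.leaf (1292, false)) (.leaf (793, true))) (.node (.leaf (2111, false)) (.leaf (1699, false))))))

def spar132 : Janko.Tree (ℕ × Bool) :=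
  (.node (.node (.node (.node (.node (.leaf (2171, true)) (.leaf (1021, true))) (.leaf (449, true))) (.node (.leaf (77, false)) (.leaf (793, true)))) (.node (.node (.leaf (1353, false)) (.leaf (1859, true))) (.node (.leaf (2065, false)) (.leaf (126, true))))) (.node (.node (.node (.node (.leaf (1430, true)) (.leaf (1338, false))) (.leaf (2205, false))) (.node (.leaf (1028, true)) (.leaf (1815, false)))) (.node (.node (.leaf (277, false)) (.leaf (1430, true))) (.node (.leaf (403, false)) (.leaf (361, true))))))

def spar133 : Janko.Tree (ℕ × Bool) :=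
  (.node (.node (.node (.node (.node (.leaf (590, false)) (.leaf (2207, false))) (.leaf (1265, false))) (.node (.leaf (840, true)) (.leaf (14, true)))) (.node (.node (.leaf (795, false)) (.leaf (1205, true))) (.node (.leaf (1969, true)) (.leaf (2146, false))))) (.node (.node (.node (.node (.leaf (1661, true)) (.leaf (2171, false))) (.leaf (1583, true))) (.node (.leaf (467, false)) (.leaf (530, true)))) (.node (.node (.leaf (1078, false)) (.leaf (277, false))) (.node (.leaf (658, false)) (.leaf (1324, true))))))

def spar134 : Janko.Tree (ℕ × Bool) :=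
  (.node (.node (.node (.node (.node (.leaf (18, false)) (.leaf (2000, false))) (.leaf (361, true))) (.node (.leaf (1028, true)) (.leaf (2140, true)))) (.node (.node (.leaf (1416, true)) (.leaf (358, true))) (.node (.leaf (936, false)) (.leaf (1800, false))))) (.node (.node (.node (.node (.leaf (1815, false)) (.leaf (1379, false))) (.leaf (1130, true))) (.node (.leaf (774, true)) (.leaf (1866, false)))) (.node (.node (.leaf (2055, true)) (.leaf (2029, false))) (.node (.leaf (2175, false)) (.leaf (548, false))))))

def spar135 : Janko.Tree (ℕ × Bool) :=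
  (.node (.node (.node (.node (.node (.leaf (1019, false)) (.leaf (3, false))) (.leaf (1222, true))) (.node (.leaf (1, false)) (.leaf (774, false)))) (.node (.node (.leaf (1312, true)) (.leaf (2205, false))) (.node (.leaf (99, true)) (.leaf (259, true))))) (.node (.node (.node (.node (.leaf (774, true)) (.leaf (1720, true))) (.leaf (960, true))) (.node (.leaf (1081, true)) (.leaf (1786, false)))) (.node (.node (.leaf (1205, true)) (.leaf (826, true))) (.node (.leaf (2011, false)) (.leaf (658, true))))))

def spar136 : Janko.Tree (ℕ × Bool) :=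
  (.node (.node (.node (.node (.node (.leaf (20, false)) (.leaf (277, true))) (.leaf (22, false))) (.node (.leaf (658, true)) (.leaf (775, false)))) (.node (.node (.leaf (1416, false)) (.leaf (390, false))) (.node (.leaf (1270, false)) (.leaf (2104, true))))) (.node (.node (.node (.node (.leaf (1644, true)) (.leaf (2004, false))) (.leaf (1229, false))) (.node (.leaf (1807, false)) (.leaf (1815, false)))) (.node (.node (.leaf (39, true)) (.leaf (1394, true))) (.node (.leaf (467, true)) (.leaf (1108, true))))))

def spar137 : Janko.Tree (ℕ × Bool) :=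
  (.node (.node (.node (.node (.node (.leaf (1507, true)) (.leaf (795, false))) (.leaf (1505, true))) (.node (.leaf (1538, false)) (.leaf (1300, true)))) (.node (.node (.leaf (1465, true)) (.leaf (994, false))) (.node (.leaf (2002, false)) (.leaf (834, false))))) (.node (.node (.node (.node (.leaf (1517, true)) (.leaf (1166, true))) (.leaf (152, true))) (.node (.leaf (2205, false)) (.leaf (1682, true)))) (.node (.node (.leaf (1728, true)) (.leaf (2002, false))) (.node (.leaf (627, true)) (.leaf (387, true))))))

def spar138 : Janko.Tree (ℕ × Bool) :=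
  (.node (.node (.node (.node (.node (.leaf (22, false)) (.leaf (2203, true))) (.leaf (1913, false))) (.node (.leaf (14, false)) (.leaf (1082, false)))) (.node (.node (.leaf (1021, true)) (.leaf (1166, true))) (.node (.leaf (126, false)) (.leaf (1941, false))))) (.node (.node (.node (.node (.leaf (2155, true)) (.leaf (1663, false))) (.leaf (1946, true))) (.node (.leaf (1285, false)) (.leaf (1926, true)))) (.node (.node (.leaf (1265, false)) (.leaf (2002, true))) (.node (.leaf (800, false)) (.leaf (3, true))))))

def spar139 : Janko.Tree (ℕ × Bool) :=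
  (.node (.node (.node (.node (.node (.leaf (1762, false)) (.leaf (1661, false))) (.leaf (548, true))) (.node (.leaf (2029, false)) (.leaf (1771, false)))) (.node (.node (.leaf (1172, false)) (.leaf (77, false))) (.node (.leaf (2088, true)) (.leaf (0, true))))) (.node (.node (.node (.node (.leaf (769, true)) (.leaf (73, false))) (.leaf (1233, true))) (.node (.leaf (2042, true)) (.leaf (465, false)))) (.node (.node (.leaf (1914, false)) (.leaf (2029, false))) (.node (.leaf (1859, true)) (.leaf (2124, true))))))

def spar140 : Janko.Tree (ℕ × Bool) :=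
  (.node (.node (.node (.node (.node (.leaf (943, false)) (.leaf (1028, false))) (.leaf (409, false))) (.node (.leaf (1017, true)) (.leaf (247, false)))) (.node (.node (.leaf (1720, false)) (.leaf (1469, false))) (.node (.leaf (1972, true)) (.leaf (966, true))))) (.node (.node (.node (.node (.leaf (821, true)) (.leaf (130, true))) (.leaf (1695, true))) (.node (.leaf (1517, false)) (.leaf (1172, false)))) (.node (.node (.leaf (258, true)) (.leaf (1805, false))) (.node (.leaf (2053, true)) (.leaf (495, true))))))

def spar141 : Janko.Tree (ℕ × Bool) :=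
  (.node (.node (.node (.node (.node (.leaf (25, false)) (.leaf (14, false))) (.leaf (130, false))) (.node (.leaf (1962, true)) (.leaf (1520, false)))) (.node (.node (.leaf (230, false)) (.leaf (742, true))) (.node (.leaf (1288, true)) (.leaf (18, false))))) (.node (.node (.node (.node (.leaf (1505, true)) (.leaf (737, false))) (.leaf (440, false))) (.node (.leaf (1466, false)) (.leaf (2161, false)))) (.node (.node (.leaf (1603, false)) (.leaf (1270, false))) (.node (.leaf (1422, true)) (.leaf (880, true))))))

def spar142 : Janko.Tree (ℕ × Bool) :=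
  (.node (.node (.node (.node (.node (.leaf (1767, true)) (.leaf (1465, false))) (.leaf (733, false))) (.node (.leaf (1577, true)) (.leaf (929, false)))) (.node (.node (.leaf (2004, true)) (.leaf (403, false))) (.node (.leaf (1613, true)) (.leaf (2158, true))))) (.node (.node (.node (.node (.leaf (1467, true)) (.leaf (1379, false))) (.leaf (891, true))) (.node (.leaf (2139, false)) (.leaf (653, false)))) (.node (.node (.leaf (929, true)) (.leaf (1686, true))) (.node (.leaf (310, true)) (.leaf (1429, true))))))

def spar143 : Janko.Tree (ℕ × Bool) :=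
  (.node (.node (.node (.node (.node (.leaf (1028, true)) (.leaf (57, false))) (.leaf (1499, false))) (.node (.leaf (2161, true)) (.leaf (2065, true)))) (.node (.node (.leaf (2171, true)) (.leaf (1429, false))) (.node (.leaf (2142, true)) (.leaf (706, false))))) (.node (.node (.node (.node (.leaf (1208, false)) (.leaf (601, true))) (.leaf (121, false))) (.node (.leaf (1702, true)) (.leaf (1466, true)))) (.node (.node (.leaf (272, false)) (.leaf (87, false))) (.node (.leaf (1609, true)) (.leaf (998, true))))))

def spar144 : Janko.Tree (ℕ × Bool) :=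
  (.node (.node (.node (.node (.node (.leaf (1926, false)) (.leaf (1379, false))) (.leaf (1880, true))) (.node (.leaf (2129, true)) (.leaf (1071, true)))) (.node (.node (.leaf (1433, true)) (.leaf (1, false))) (.node (.leaf (943, false)) (.leaf (2002, true))))) (.node (.node (.node (.node (.leaf (814, false)) (.leaf (419, true))) (.leaf (1982, true))) (.node (.leaf (783, true)) (.leaf (43, false)))) (.node (.node (.leaf (1313, true)) (.leaf (28, true))) (.node (.leaf (907, true)) (.leaf (1394, false))))))

def spar145 : Janko.Tree (ℕ × Bool) :=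
  (.node (.node (.node (.node (.node (.leaf (548, true)) (.leaf (737, true))) (.leaf (390, true))) (.node (.leaf (1885, false)) (.leaf (1596, false)))) (.node (.node (.leaf (2004, true)) (.leaf (1866, true))) (.node (.leaf (1852, false)) (.leaf (1728, true))))) (.node (.node (.node (.node (.leaf (1078, true)) (.leaf (534, false))) (.leaf (44, true))) (.node (.leaf (766, false)) (.leaf (1082, true)))) (.node (.node (.leaf (1028, true)) (.leaf (1255, true))) (.node (.leaf (28, true)) (.leaf (1991, false))))))

def spar146 : Janko.Tree (ℕ × Bool) :=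
  (.node (.node (.node (.node (.node (.leaf (1534, true)) (.leaf (247, true))) (.leaf (1422, false))) (.node (.leaf (1728, false)) (.leaf (314, true)))) (.node (.node (.leaf (1472, true)) (.leaf (101, false))) (.node (.leaf (277, true)) (.leaf (1082, true))))) (.node (.node (.node (.node (.leaf (1521, false)) (.leaf (1416, true))) (.leaf (653, true))) (.node (.leaf (2104, false)) (.leaf (403, false)))) (.node (.node (.leaf (1831, false)) (.leaf (474, true))) (.node (.leaf (1725, true)) (.leaf (268, true))))))

def spar147 : Janko.Tree (ℕ × Bool) :=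
  (.node (.node (.node (.node (.node (.leaf (1535, true)) (.leaf (99, false))) (.leaf (407, false))) (.node (.leaf (1265, true)) (.leaf (1389, false)))) (.node (.node (.leaf (1577, false)) (.leaf (430, true))) (.node (.leaf (1972, false)) (.leaf (510, false))))) (.node (.node (.node (.node (.leaf (44, true)) (.leaf (1926, true))) (.leaf (2234, false))) (.node (.leaf (311, false)) (.leaf (1003, true)))) (.node (.node (.leaf (268, false)) (.leaf (348, false))) (.node (.leaf (658, false)) (.leaf (1205, false))))))

def spar148 : Janko.Tree (ℕ × Bool) :=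
  (.node (.node (.node (.node (.node (.leaf (526, false)) (.leaf (1256, false))) (.leaf (1398, true))) (.node (.leaf (662, true)) (.leaf (1078, false)))) (.node (.node (.leaf (1926, true)) (.leaf (121, false))) (.node (.leaf (387, false)) (.leaf (1082, false))))) (.node (.node (.node (.node (.leaf (793, false)) (.leaf (1433, true))) (.leaf (1810, true))) (.node (.leaf (1663, false)) (.leaf (1101, false)))) (.node (.node (.leaf (1397, false)) (.leaf (44, false))) (.node (.leaf (659, false)) (.leaf (39, false))))))

def spar149 : Janko.Tree (ℕ × Bool) :=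
  (.node (.node (.node (.node (.node (.leaf (1771, false)) (.leaf (1205, true))) (.leaf (183, false))) (.node (.leaf (690, false)) (.leaf (580, true)))) (.node (.node (.leaf (85, true)) (.leaf (28, true))) (.node (.leaf (22, false)) (.leaf (542, true))))) (.node (.node (.node (.node (.leaf (54, true)) (.leaf (1312, false))) (.leaf (1054, false))) (.node (.leaf (1461, false)) (.leaf (672, true)))) (.node (.node (.leaf (18, true)) (.leaf (547, true))) (.node (.leaf (960, false)) (.leaf (330, false))))))

def spar150 : Janko.Tree (ℕ × Bool) :=
  (.node (.node (.node (.node (.node (.leaf (474, true)) (.leaf (1485, false))) (.leaf (1535, false))) (.node (.leaf (1566, true)) (.leaf (1885, true)))) (.node (.node (.leaf (1565, false)) (.leaf (1810, true))) (.node (.leaf (729, false)) (.leaf (265, false))))) (.node (.node (.node (.node (.leaf (1429, false)) (.leaf (1747, false))) (.leaf (2146, true))) (.node (.leaf (2018, true)) (.leaf (8, false)))) (.node (.node (.leaf (1866, true)) (.leaf (2011, false))) (.node (.leaf (1641, false)) (.leaf (2177, false))))))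

def spar151 : Janko.Tree (ℕ × Bool) :=
  (.node (.node (.node (.node (.node (.leaf (737, true)) (.leaf (1890, false))) (.leaf (659, true))) (.node (.leaf (99, false)) (.leaf (1324, false)))) (.node (.node (.leaf (891, true)) (.leaf (43, true))) (.node (.leaf (2158, false)) (.leaf (1919, true))))) (.node (.node (.node (.node (.leaf (272, true)) (.leaf (1566, false))) (.leaf (2205, true))) (.node (.leaf (668, true)) (.leaf (1913, true)))) (.node (.node (.leaf (668, false)) (.leaf (1461, false))) (.node (.leaf (1313, true)) (.leaf (387, true))))))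

def spar152 : Janko.Tree (ℕ × Bool) :=
  (.node (.node (.node (.node (.node (.leaf (1742, false)) (.leaf (1430, true))) (.leaf (542, true))) (.node (.leaf (2125, true)) (.leaf (1250, false)))) (.node (.node (.leaf (1566, true)) (.leaf (992, false))) (.node (.leaf (1641, false)) (.leaf (270, true))))) (.node (.node (.node (.node (.leaf (1019, true)) (.leaf (358, false))) (.leaf (1222, true))) (.node (.leaf (1021, true)) (.leaf (710, false)))) (.node (.node (.leaf (361, true)) (.leaf (960, true))) (.node (.leaf (1219, false)) (.leaf (1831, true))))))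

def spar153 : Janko.Tree (ℕ × Bool) :=
  (.node (.node (.node (.node (.node (.leaf (1566, true)) (.leaf (196, false))) (.leaf (253, false))) (.node (.leaf (750, false)) (.leaf (1538, false)))) (.node (.node (.leaf (668, true)) (.leaf (1815, true))) (.node (.leaf (1725, true)) (.leaf (304, false))))) (.node (.node (.node (.node (.leaf (729, true)) (.leaf (258, false))) (.leaf (1786, false))) (.node (.leaf (570, false)) (.leaf (542, true)))) (.node (.node (.leaf (750, false)) (.leaf (1762, true))) (.node (.leaf (1220, false)) (.leaf (1583, false))))))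

def spar154 : Janko.Tree (ℕ × Bool) :=
  (.node (.node (.node (.node (.node (.leaf (1466, true)) (.leaf (25, true))) (.leaf (1762, true))) (.node (.leaf (1485, true)) (.leaf (750, true)))) (.node (.node (.leaf (1250, true)) (.leaf (259, true))) (.node (.leaf (1397, false)) (.leaf (534, true))))) (.node (.node (.node (.node (.leaf (1171, false)) (.leaf (292, true))) (.leaf (277, true))) (.node (.leaf (1661, false)) (.leaf (1749, false)))) (.node (.node (.leaf (548, true)) (.leaf (653, false))) (.node (.leaf (1312, true)) (.leaf (1577, true))))))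

def spar155 : Janko.Tree (ℕ × Bool) :=
  (.node (.node (.node (.node (.node (.leaf (1877, false)) (.leaf (600, false))) (.leaf (134, true))) (.node (.leaf (590, true)) (.leaf (2075, true)))) (.node (.node (.leaf (1520, true)) (.leaf (539, false))) (.node (.leaf (734, true)) (.leaf (14, false))))) (.node (.node (.node (.node (.leaf (330, false)) (.leaf (770, true))) (.leaf (1485, false))) (.node (.leaf (495, false)) (.leaf (407, false)))) (.node (.node (.leaf (1078, false)) (.leaf (277, false))) (.node (.leaf (1438, true)) (.leaf (173, false))))))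

def spar156 : Janko.Tree (ℕ × Bool) :=
  (.node (.node (.node (.node (.node (.leaf (429, false)) (.leaf (2029, true))) (.leaf (87, true))) (.node (.leaf (615, true)) (.leaf (406, true)))) (.node (.node (.leaf (878, false)) (.leaf (1699, false))) (.node (.leaf (1120, false)) (.leaf (1871, false))))) (.node (.node (.node (.node (.leaf (615, false)) (.leaf (1614, true))) (.leaf (1520, true))) (.node (.leaf (720, false)) (.leaf (330, false)))) (.node (.node (.leaf (1416, true)) (.leaf (1742, true))) (.node (.leaf (338, false)) (.leaf (2207, false))))))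

def spar157 : Janko.Tree (ℕ × Bool) :=
  (.node (.node (.node (.node (.node (.leaf (277, false)) (.leaf (403, true))) (.leaf (58, false))) (.node (.leaf (1219, false)) (.leaf (1955, false)))) (.node (.node (.leaf (1379, true)) (.leaf (292, false))) (.node (.leaf (943, false)) (.leaf (1850, false))))) (.node (.node (.node (.node (.leaf (1910, true)) (.leaf (1422, false))) (.leaf (2205, true))) (.node (.leaf (1786, false)) (.leaf (1003, false)))) (.node (.node (.leaf (1955, false)) (.leaf (697, false))) (.node (.leaf (356, false)) (.leaf (2129, false))))))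

def spar158 : Janko.Tree (ℕ × Bool) :=
  (.node (.node (.node (.node (.node (.leaf (1786, false)) (.leaf (1739, true))) (.leaf (2029, false))) (.node (.leaf (1220, false)) (.leaf (1970, false)))) (.node (.node (.leaf (1461, false)) (.leaf (2018, true))) (.node (.leaf (1859, true)) (.leaf (1430, false))))) (.node (.node (.node (.node (.leaf (697, true)) (.leaf (1, false))) (.leaf (130, true))) (.node (.leaf (2161, true)) (.leaf (1249, false)))) (.node (.node (.leaf (1536, true)) (.leaf (1786, false))) (.node (.leaf (1720, false)) (.leaf (2222, true))))))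

def spar159 : Janko.Tree (ℕ × Bool) :=
  (.node (.node (.node (.node (.node (.leaf (149, true)) (.leaf (30, false))) (.leaf (787, false))) (.node (.leaf (1815, false)) (.leaf (358, false)))) (.node (.node (.leaf (1369, true)) (.leaf (1208, true))) (.node (.leaf (1673, false)) (.leaf (1871, true))))) (.node (.node (.node (.node (.leaf (654, true)) (.leaf (2052, false))) (.leaf (1219, false))) (.node (.leaf (1538, true)) (.leaf (1583, false)))) (.node (.node (.leaf (729, false)) (.leaf (1219, false))) (.node (.leaf (230, true)) (.leaf (85, true))))))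

def spar160 : Janko.Tree (ℕ × Bool) :=
  (.node (.node (.node (.node (.node (.leaf (2088, true)) (.leaf (230, false))) (.leaf (115, true))) (.node (.leaf (697, false)) (.leaf (2029, true)))) (.node (.node (.leaf (1220, false)) (.leaf (1815, true))) (.node (.leaf (152, true)) (.leaf (1629, false))))) (.node (.node (.node (.node (.leaf (1292, true)) (.leaf (2125, true))) (.leaf (1220, false))) (.node (.leaf (819, false)) (.leaf (1636, true)))) (.node (.node (.leaf (815, false)) (.leaf (766, true))) (.node (.leaf (1019, false)) (.leaf (1645, true))))))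

def spar161 : Janko.Tree (ℕ × Bool) :=
  (.node (.node (.node (.node (.node (.leaf (1172, true)) (.leaf (387, true))) (.leaf (25, true))) (.node (.leaf (851, true)) (.leaf (266, true)))) (.node (.node (.leaf (1487, true)) (.leaf (929, false))) (.node (.leaf (1101, false)) (.leaf (465, false))))) (.node (.node (.node (.node (.leaf (1612, false)) (.leaf (1936, false))) (.leaf (2125, true))) (.node (.leaf (165, false)) (.leaf (1786, false)))) (.node (.node (.leaf (311, false)) (.leaf (1699, false))) (.node (.leaf (2002, true)) (.leaf (774, true))))))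

def spar162 : Janko.Tree (ℕ × Bool) :=
  (.node (.node (.node (.node (.node (.leaf (213, false)) (.leaf (1100, false))) (.leaf (1028, false))) (.node (.leaf (706, false)) (.leaf (1875, false)))) (.node (.node (.leaf (1172, false)) (.leaf (1250, false))) (.node (.leaf (1309, true)) (.leaf (1019, true))))) (.node (.node (.node (.node (.leaf (1969, true)) (.leaf (1086, true))) (.leaf (1130, false))) (.node (.leaf (1379, true)) (.leaf (82, false)))) (.node (.node (.leaf (1430, true)) (.leaf (196, false))) (.node (.leaf (1875, true)) (.leaf (1699, true))))))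

def spar163 : Janko.Tree (ℕ × Bool) :=
  (.node (.node (.node (.node (.node (.leaf (1609, true)) (.leaf (259, false))) (.leaf (14, false))) (.node (.leaf (1673, false)) (.leaf (706, false)))) (.node (.node (.leaf (546, false)) (.leaf (541, true))) (.node (.leaf (1077, false)) (.leaf (1912, true))))) (.node (.node (.node (.node (.leaf (1499, true)) (.leaf (455, true))) (.leaf (455, true))) (.node (.leaf (681, false)) (.leaf (183, false)))) (.node (.node (.leaf (1955, false)) (.leaf (430, false))) (.node (.leaf (745, true)) (.leaf (941, false))))))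

def spar164 : Janko.Tree (ℕ × Bool) :=
  (.node (.node (.node (.node (.node (.leaf (1882, true)) (.leaf (1752, true))) (.leaf (1430, true))) (.node (.leaf (258, false)) (.leaf (1505, false)))) (.node (.node (.leaf (793, true)) (.leaf (819, false))) (.node (.leaf (1883, false)) (.leaf (1507, false))))) (.node (.node (.node (.leaf (2139, true)) (.leaf (600, true))) (.node (.leaf (706, false)) (.leaf (600, false)))) (.node (.node (.leaf (1505, true)) (.leaf (1430, true))) (.node (.leaf (1859, true)) (.leaf (1882, true))))))

def spar165 : Janko.Tree (ℕ × Bool) :=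
  (.node (.node (.node (.node (.node (.leaf (1380, false)) (.leaf (1420, true))) (.leaf (39, true))) (.node (.leaf (2203, false)) (.leaf (2004, false)))) (.node (.node (.leaf (311, true)) (.leaf (388, false))) (.node (.leaf (1583, false)) (.leaf (2075, true))))) (.node (.node (.node (.leaf (739, false)) (.leaf (1702, true))) (.node (.leaf (546, false)) (.leaf (1172, false)))) (.node (.node (.leaf (1972, false)) (.leaf (623, true))) (.node (.leaf (1442, true)) (.leaf (2207, true))))))

def spar166 : Janko.Tree (ℕ × Bool) :=
  (.node (.node (.node (.node (.node (.leaf (1739, true)) (.leaf (1661, true))) (.leaf (225, true))) (.node (.leaf (745, true)) (.leaf (1702, true)))) (.node (.node (.leaf (1890, true)) (.leaf (2088, true))) (.node (.leaf (330, false)) (.leaf (340, false))))) (.node (.node (.node (.leaf (1807, false)) (.leaf (164, false))) (.node (.leaf (330, true)) (.leaf (82, true)))) (.node (.node (.leaf (1773, false)) (.leaf (18, true))) (.node (.leaf (1219, false)) (.leaf (1288, false))))))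

def spar167 : Janko.Tree (ℕ × Bool) :=
  (.node (.node (.node (.node (.node (.leaf (2056, true)) (.leaf (164, true))) (.leaf (1788, true))) (.node (.leaf (1227, true)) (.leaf (600, false)))) (.node (.node (.leaf (1871, false)) (.leaf (1972, true))) (.node (.leaf (2222, true)) (.leaf (0, true))))) (.node (.node (.node (.leaf (1809, false)) (.leaf (1831, false))) (.node (.leaf (1355, true)) (.leaf (1695, true)))) (.node (.node (.leaf (22, true)) (.leaf (1172, false))) (.node (.leaf (1229, false)) (.leaf (1461, false))))))

def spar168 : Janko.Tree (ℕ × Bool) :=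
  (.node (.node (.node (.node (.node (.leaf (1607, false)) (.leaf (2125, true))) (.leaf (1517, true))) (.node (.leaf (1699, false)) (.leaf (1220, false)))) (.node (.node (.leaf (1078, true)) (.leaf (1222, true))) (.node (.leaf (793, false)) (.leaf (1815, true))))) (.node (.node (.node (.leaf (2029, false)) (.leaf (1389, false))) (.node (.leaf (962, true)) (.leaf (737, true)))) (.node (.node (.leaf (1725, false)) (.leaf (1913, false))) (.node (.leaf (615, false)) (.leaf (534, true))))))

def spar169 : Janko.Tree (ℕ × Bool) :=
  (.node (.node (.node (.node (.node (.leaf (39, false)) (.leaf (259, false))) (.leaf (1800, false))) (.node (.leaf (2175, false)) (.leaf (601, true)))) (.node (.node (.leaf (259, false)) (.leaf (1596, true))) (.node (.leaf (1934, false)) (.leaf (1820, true))))) (.node (.node (.node (.leaf (1809, false)) (.leaf (1078, false))) (.node (.leaf (800, true)) (.leaf (793, false)))) (.node (.node (.leaf (2169, true)) (.leaf (161, true))) (.node (.leaf (1398, false)) (.leaf (1353, false))))))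

def spar170 : Janko.Tree (ℕ × Bool) :=
  (.node (.node (.node (.node (.node (.leaf (1309, false)) (.leaf (535, true))) (.leaf (2203, true))) (.node (.leaf (1645, false)) (.leaf (572, true)))) (.node (.node (.leaf (1517, false)) (.leaf (2075, true))) (.node (.leaf (868, true)) (.leaf (1771, true))))) (.node (.node (.node (.leaf (338, false)) (.leaf (1100, false))) (.node (.leaf (2029, false)) (.leaf (1629, true)))) (.node (.node (.leaf (1023, true)) (.leaf (600, false))) (.node (.leaf (1379, false)) (.leaf (14, false))))))

def spar171 : Janko.Tree (ℕ × Bool) :=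
  (.node (.node (.node (.node (.node (.leaf (1913, true)) (.leaf (1437, false))) (.leaf (1430, true))) (.node (.leaf (615, false)) (.leaf (697, true)))) (.node (.node (.leaf (2140, true)) (.leaf (733, true))) (.node (.leaf (821, true)) (.leaf (196, true))))) (.node (.node (.node (.leaf (1438, false)) (.leaf (2088, true))) (.node (.leaf (1429, true)) (.leaf (1890, false)))) (.node (.node (.leaf (330, false)) (.leaf (1220, true))) (.node (.leaf (272, false)) (.leaf (1926, true))))))

def spar172 : Janko.Tree (ℕ × Bool) :=
  (.node (.node (.node (.node (.node (.leaf (1711, true)) (.leaf (258, true))) (.leaf (273, true))) (.node (.leaf (2000, false)) (.leaf (25, true)))) (.node (.node (.leaf (1749, false)) (.leaf (2146, true))) (.node (.leaf (1219, true)) (.leaf (1885, false))))) (.node (.node (.node (.leaf (2171, true)) (.leaf (2169, true))) (.node (.leaf (957, true)) (.leaf (1355, true)))) (.node (.node (.leaf (474, true)) (.leaf (1926, false))) (.node (.leaf (73, false)) (.leaf (702, false))))))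

def spar173 : Janko.Tree (ℕ × Bool) :=
  (.node (.node (.node (.node (.node (.leaf (1699, false)) (.leaf (1918, false))) (.leaf (541, true))) (.node (.leaf (551, true)) (.leaf (2029, false)))) (.node (.node (.leaf (90, false)) (.leaf (1859, false))) (.node (.leaf (395, true)) (.leaf (880, false))))) (.node (.node (.node (.leaf (615, true)) (.leaf (1397, true))) (.node (.leaf (259, true)) (.leaf (2075, false)))) (.node (.node (.leaf (1834, false)) (.leaf (1565, false))) (.node (.leaf (1003, false)) (.leaf (1229, false))))))

def spar174 : Janko.Tree (ℕ × Bool) :=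
  (.node (.node (.node (.node (.node (.leaf (44, false)) (.leaf (1288, true))) (.leaf (1442, false))) (.node (.leaf (18, false)) (.leaf (1609, true)))) (.node (.node (.leaf (0, false)) (.leaf (919, false))) (.node (.leaf (2202, false)) (.leaf (1, true))))) (.node (.node (.node (.leaf (340, false)) (.leaf (1616, false))) (.node (.leaf (2088, true)) (.leaf (737, false)))) (.node (.node (.leaf (1422, true)) (.leaf (1466, true))) (.node (.leaf (1609, true)) (.leaf (2169, true))))))

def spar175 : Janko.Tree (ℕ × Bool) :=
  (.node (.node (.node (.node (.node (.leaf (402, false)) (.leaf (258, true))) (.leaf (399, true))) (.node (.leaf (358, false)) (.leaf (1661, false)))) (.node (.node (.leaf (800, false)) (.leaf (58, false))) (.node (.leaf (1131, false)) (.leaf (1767, true))))) (.node (.node (.node (.leaf (1566, false)) (.leaf (2140, true))) (.node (.leaf (1882, true)) (.leaf (2065, false)))) (.node (.node (.leaf (134, false)) (.leaf (78, false))) (.node (.leaf (1292, true)) (.leaf (720, true))))))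

def spar176 : Janko.Tree (ℕ × Bool) :=
  (.node (.node (.node (.node (.node (.leaf (548, true)) (.leaf (58, true))) (.leaf (1786, false))) (.node (.leaf (2011, true)) (.leaf (1466, true)))) (.node (.node (.leaf (1414, true)) (.leaf (183, true))) (.node (.leaf (407, false)) (.leaf (1629, false))))) (.node (.node (.node (.leaf (868, true)) (.leaf (2084, false))) (.node (.leaf (406, true)) (.leaf (1100, true)))) (.node (.node (.leaf (1389, false)) (.leaf (1536, false))) (.node (.leaf (689, false)) (.leaf (1208, false))))))

def spar177 : Janko.Tree (ℕ × Bool) :=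
  (.node (.node (.node (.node (.node (.leaf (1859, false)) (.leaf (1520, true))) (.leaf (1520, true))) (.node (.leaf (943, true)) (.leaf (1461, true)))) (.node (.node (.leaf (551, false)) (.leaf (1757, false))) (.node (.leaf (1607, true)) (.leaf (943, false))))) (.node (.node (.node (.leaf (1944, true)) (.leaf (2065, true))) (.node (.leaf (290, false)) (.leaf (25, false)))) (.node (.node (.leaf (1130, true)) (.leaf (2158, false))) (.node (.leaf (919, true)) (.leaf (1461, true))))))

def spar178 : Janko.Tree (ℕ × Bool) :=
  (.node (.node (.node (.node (.node (.leaf (2018, true)) (.leaf (929, false))) (.leaf (1815, false))) (.node (.leaf (1859, false)) (.leaf (1859, false)))) (.node (.node (.leaf (1565, false)) (.leaf (1810, true))) (.node (.leaf (668, false)) (.leaf (1910, false))))) (.node (.node (.node (.leaf (1629, false)) (.leaf (1866, false))) (.node (.leaf (1914, true)) (.leaf (658, true)))) (.node (.node (.leaf (1890, true)) (.leaf (259, true))) (.node (.leaf (2104, true)) (.leaf (2075, true))))))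

def spar179 : Janko.Tree (ℕ × Bool) :=
  (.node (.node (.node (.node (.node (.leaf (2177, true)) (.leaf (1882, false))) (.leaf (292, true))) (.node (.leaf (710, false)) (.leaf (1887, true)))) (.node (.node (.leaf (1890, true)) (.leaf (1438, true))) (.node (.leaf (1645, true)) (.leaf (28, false))))) (.node (.node (.node (.leaf (2051, true)) (.leaf (2146, false))) (.node (.leaf (43, true)) (.leaf (1229, true)))) (.node (.node (.leaf (130, true)) (.leaf (1725, true))) (.node (.leaf (1082, true)) (.leaf (1742, false))))))

def spar180 : Janko.Tree (ℕ × Bool) :=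
  (.node (.node (.node (.node (.node (.leaf (25, false)) (.leaf (2142, false))) (.leaf (2161, true))) (.node (.leaf (358, false)) (.leaf (58, false)))) (.node (.node (.leaf (1913, true)) (.leaf (1019, false))) (.node (.leaf (1391, false)) (.leaf (340, false))))) (.node (.node (.node (.leaf (1914, true)) (.leaf (39, true))) (.node (.leaf (58, false)) (.leaf (1805, true)))) (.node (.node (.leaf (1834, true)) (.leaf (196, false))) (.node (.leaf (1471, false)) (.leaf (1859, true))))))

def spar181 : Janko.Tree (ℕ × Bool) :=
  (.node (.node (.node (.node (.node (.leaf (1312, true)) (.leaf (253, false))) (.leaf (196, true))) (.node (.leaf (1885, false)) (.leaf (206, false)))) (.node (.node (.leaf (1285, true)) (.leaf (1641, false))) (.node (.leaf (1466, true)) (.leaf (935, true))))) (.node (.node (.node (.leaf (530, true)) (.leaf (1644, true))) (.node (.leaf (455, true)) (.leaf (1100, false)))) (.node (.node (.leaf (58, true)) (.leaf (78, true))) (.node (.leaf (1309, true)) (.leaf (1480, true))))))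

def spar182 : Janko.Tree (ℕ × Bool) :=
  (.node (.node (.node (.node (.node (.leaf (330, false)) (.leaf (389, false))) (.leaf (1211, false))) (.node (.leaf (1969, true)) (.leaf (310, false)))) (.node (.node (.leaf (2018, true)) (.leaf (1641, false))) (.node (.leaf (989, false)) (.leaf (1641, false))))) (.node (.node (.node (.leaf (601, false)) (.leaf (455, true))) (.node (.leaf (546, false)) (.leaf (1887, false)))) (.node (.node (.leaf (795, true)) (.leaf (1420, false))) (.node (.leaf (390, false)) (.leaf (1831, false))))))

def spar183 : Janko.Tree (ℕ × Bool) :=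
  (.node (.node (.node (.node (.node (.leaf (2059, true)) (.leaf (1810, true))) (.leaf (429, false))) (.node (.leaf (460, false)) (.leaf (1577, false)))) (.node (.node (.leaf (1663, true)) (.leaf (1875, false))) (.node (.leaf (1926, false)) (.leaf (1466, false))))) (.node (.node (.node (.leaf (468, true)) (.leaf (126, true))) (.node (.leaf (2146, false)) (.leaf (658, false)))) (.node (.node (.leaf (600, false)) (.leaf (1609, true))) (.node (.leaf (1353, true)) (.leaf (1946, false))))))

def spar184 : Janko.Tree (ℕ × Bool) :=
  (.node (.node (.node (.node (.node (.leaf (206, true)) (.leaf (1066, false))) (.leaf (1379, false))) (.node (.leaf (1583, true)) (.leaf (1972, true)))) (.node (.node (.leaf (2053, false)) (.leaf (1517, false))) (.node (.leaf (1771, false)) (.leaf (403, false))))) (.node (.node (.node (.leaf (800, true)) (.leaf (358, true))) (.node (.leaf (547, false)) (.leaf (659, false)))) (.node (.node (.leaf (1629, true)) (.leaf (159, false))) (.node (.leaf (393, true)) (.leaf (697, true))))))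

def spar185 : Janko.Tree (ℕ × Bool) :=
  (.node (.node (.node (.node (.node (.leaf (58, false)) (.leaf (1416, true))) (.leaf (774, false))) (.node (.leaf (390, false)) (.leaf (681, false)))) (.node (.node (.leaf (1629, false)) (.leaf (1485, true))) (.node (.leaf (1739, false)) (.leaf (1, false))))) (.node (.node (.node (.leaf (2161, false)) (.leaf (1926, false))) (.node (.leaf (548, false)) (.leaf (2018, false)))) (.node (.node (.leaf (750, false)) (.leaf (1536, false))) (.node (.leaf (93, false)) (.leaf (121, false))))))

def spar186 : Janko.Tree (ℕ × Bool) :=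
  (.node (.node (.node (.node (.node (.leaf (2166, false)) (.leaf (2075, true))) (.leaf (1972, true))) (.node (.leaf (1747, false)) (.leaf (121, false)))) (.node (.node (.leaf (1250, false)) (.leaf (1430, false))) (.node (.leaf (653, false)) (.leaf (1936, false))))) (.node (.node (.node (.leaf (126, false)) (.leaf (1222, false))) (.node (.leaf (2000, true)) (.leaf (218, false)))) (.node (.node (.leaf (148, true)) (.leaf (259, true))) (.node (.leaf (1771, true)) (.leaf (943, false))))))

def spar187 : Janko.Tree (ℕ × Bool) :=
  (.node (.node (.node (.node (.node (.leaf (253, true)) (.leaf (1629, false))) (.leaf (551, false))) (.node (.leaf (880, false)) (.leaf (694, false)))) (.node (.node (.leaf (1885, true)) (.leaf (292, false))) (.node (.leaf (1101, false)) (.leaf (1130, true))))) (.node (.node (.node (.leaf (2139, false)) (.leaf (1429, false))) (.node (.leaf (126, true)) (.leaf (1285, true)))) (.node (.node (.leaf (282, true)) (.leaf (1250, false))) (.node (.leaf (2002, true)) (.leaf (2177, true))))))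

def spar188 : Janko.Tree (ℕ × Bool) :=
  (.node (.node (.node (.node (.node (.leaf (943, false)) (.leaf (1077, true))) (.leaf (548, true))) (.node (.leaf (1762, true)) (.leaf (1021, false)))) (.node (.node (.leaf (729, false)) (.leaf (713, true))) (.node (.leaf (1880, true)) (.leaf (1, false))))) (.node (.node (.node (.leaf (1991, false)) (.leaf (2125, true))) (.node (.leaf (1292, false)) (.leaf (1379, false)))) (.node (.node (.leaf (1003, false)) (.leaf (1852, false))) (.node (.leaf (1517, false)) (.leaf (1505, false))))))

def spar189 : Janko.Tree (ℕ × Bool) :=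
  (.node (.node (.node (.node (.node (.leaf (1292, false)) (.leaf (455, true))) (.leaf (885, false))) (.node (.leaf (330, false)) (.leaf (590, true)))) (.node (.node (.leaf (551, true)) (.leaf (1629, false))) (.node (.leaf (1447, true)) (.leaf (1913, false))))) (.node (.node (.node (.leaf (429, false)) (.leaf (1636, false))) (.node (.leaf (2065, true)) (.leaf (1309, true)))) (.node (.node (.leaf (1270, true)) (.leaf (304, true))) (.node (.leaf (733, true)) (.leaf (1588, true))))))

def spar190 : Janko.Tree (ℕ × Bool) :=
  (.node (.node (.node (.node (.node (.leaf (1205, true)) (.leaf (1485, false))) (.leaf (2059, true))) (.node (.leaf (2059, false)) (.leaf (1487, true)))) (.node (.node (.leaf (93, false)) (.leaf (18, false))) (.node (.leaf (819, true)) (.leaf (1, true))))) (.node (.node (.node (.leaf (130, false)) (.leaf (1309, true))) (.node (.leaf (800, true)) (.leaf (600, false)))) (.node (.node (.leaf (1, true)) (.leaf (474, false))) (.node (.leaf (429, false)) (.leaf (39, false))))))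

def spar191 : Janko.Tree (ℕ × Bool) :=
  (.node (.node (.node (.node (.node (.leaf (39, true)) (.leaf (1028, true))) (.leaf (1300, true))) (.node (.leaf (659, true)) (.leaf (2097, false)))) (.node (.node (.leaf (1021, true)) (.leaf (1485, false))) (.node (.leaf (1740, true)) (.leaf (2177, true))))) (.node (.node (.node (.leaf (1663, true)) (.leaf (1969, false))) (.node (.leaf (1447, false)) (.leaf (1422, false)))) (.node (.node (.leaf (1885, true)) (.leaf (2065, false))) (.node (.leaf (1661, true)) (.leaf (1461, false))))))

def spar192 : Janko.Tree (ℕ × Bool) :=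
  (.node (.node (.node (.node (.node (.leaf (919, false)) (.leaf (2158, true))) (.leaf (1788, false))) (.node (.leaf (1338, false)) (.leaf (2075, false)))) (.node (.node (.leaf (1725, false)) (.leaf (1982, true))) (.node (.leaf (1466, true)) (.leaf (2000, true))))) (.node (.node (.node (.leaf (387, true)) (.leaf (1249, false))) (.node (.leaf (546, true)) (.leaf (1280, false)))) (.node (.node (.leaf (1081, true)) (.leaf (1324, true))) (.node (.leaf (1447, true)) (.leaf (1309, true))))))

def spar193 : Janko.Tree (ℕ × Bool) :=
  (.node (.node (.node (.node (.node (.leaf (2029, true)) (.leaf (551, true))) (.leaf (745, true))) (.node (.leaf (1499, false)) (.leaf (1786, true)))) (.node (.node (.leaf (1773, false)) (.leaf (407, true))) (.node (.leaf (1910, true)) (.leaf (1520, false))))) (.node (.node (.node (.leaf (324, true)) (.leaf (1054, true))) (.node (.leaf (1389, true)) (.leaf (1250, false)))) (.node (.node (.leaf (795, true)) (.leaf (1583, true))) (.node (.leaf (2158, false)) (.leaf (495, false))))))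

def spar194 : Janko.Tree (ℕ × Bool) :=
  (.node (.node (.node (.node (.node (.leaf (1804, true)) (.leaf (1831, true))) (.leaf (225, false))) (.node (.leaf (387, false)) (.leaf (1442, true)))) (.node (.node (.leaf (1834, false)) (.leaf (969, true))) (.node (.leaf (1420, false)) (.leaf (2203, true))))) (.node (.node (.node (.leaf (126, true)) (.leaf (43, false))) (.node (.leaf (1583, false)) (.leaf (78, false)))) (.node (.node (.leaf (627, false)) (.leaf (1882, true))) (.node (.leaf (935, true)) (.leaf (58, true))))))

def spar195 : Janko.Tree (ℕ × Bool) :=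
  (.node (.node (.node (.node (.node (.leaf (1644, true)) (.leaf (1739, true))) (.leaf (2203, true))) (.node (.leaf (929, true)) (.leaf (1583, false)))) (.node (.node (.leaf (1256, true)) (.leaf (530, true))) (.node (.leaf (272, true)) (.leaf (2053, true))))) (.node (.node (.node (.leaf (1433, true)) (.leaf (1641, false))) (.node (.leaf (1229, true)) (.leaf (1644, true)))) (.node (.node (.leaf (1175, false)) (.leaf (340, false))) (.node (.leaf (1747, false)) (.leaf (1233, true))))))

def spar196 : Janko.Tree (ℕ × Bool) :=
  (.node (.node (.node (.node (.node (.leaf (430, false)) (.leaf (2042, true))) (.leaf (1644, true))) (.node (.leaf (390, false)) (.leaf (2205, true)))) (.node (.node (.leaf (907, true)) (.leaf (14, true))) (.node (.leaf (1969, false)) (.leaf (406, false))))) (.node (.node (.node (.leaf (1674, false)) (.leaf (1019, true))) (.node (.leaf (2051, true)) (.leaf (1885, true)))) (.node (.node (.leaf (1039, true)) (.leaf (2075, true))) (.node (.leaf (697, true)) (.leaf (2021, true))))))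

def spar197 : Janko.Tree (ℕ × Bool) :=
  (.node (.node (.node (.node (.node (.leaf (769, true)) (.leaf (1810, true))) (.leaf (1596, true))) (.node (.leaf (2002, false)) (.leaf (2108, true)))) (.node (.node (.leaf (1752, true)) (.leaf (1834, true))) (.node (.leaf (1222, true)) (.leaf (546, false))))) (.node (.node (.node (.leaf (1461, false)) (.leaf (1831, false))) (.node (.leaf (1831, false)) (.leaf (1459, false)))) (.node (.node (.leaf (1039, true)) (.leaf (330, false))) (.node (.leaf (572, false)) (.leaf (1788, false))))))

def spar198 : Janko.Tree (ℕ × Bool) :=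
  (.node (.node (.node (.node (.node (.leaf (1102, true)) (.leaf (2158, true))) (.leaf (1699, true))) (.node (.leaf (22, true)) (.leaf (2087, false)))) (.node (.node (.leaf (8, false)) (.leaf (834, true))) (.node (.leaf (2042, false)) (.leaf (2029, true))))) (.node (.node (.node (.leaf (1309, false)) (.leaf (1762, false))) (.node (.leaf (1899, true)) (.leaf (0, false)))) (.node (.node (.leaf (403, false)) (.leaf (690, false))) (.node (.leaf (1, true)) (.leaf (1786, true))))))

def spar199 : Janko.Tree (ℕ × Bool) :=
  (.node (.node (.node (.node (.node (.leaf (28, false)) (.leaf (1742, true))) (.leaf (541, true))) (.node (.leaf (340, true)) (.leaf (1663, false)))) (.node (.node (.leaf (600, false)) (.leaf (1762, false))) (.node (.leaf (1249, false)) (.leaf (510, false))))) (.node (.node (.node (.leaf (2104, true)) (.leaf (90, true))) (.node (.leaf (1422, true)) (.leaf (30, true)))) (.node (.node (.leaf (1913, false)) (.leaf (2065, true))) (.node (.leaf (1941, false)) (.leaf (1342, false))))))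

def spar1100 : Janko.Tree (ℕ × Bool) :=
  (.node (.node (.node (.node (.node (.leaf (1507, true)) (.leaf (112, true))) (.leaf (1221, true))) (.node (.leaf (919, true)) (.leaf (58, true)))) (.node (.node (.leaf (737, true)) (.leaf (2053, false))) (.node (.leaf (1250, false)) (.leaf (1485, false))))) (.node (.node (.node (.leaf (826, true)) (.leaf (681, true))) (.node (.leaf (2169, true)) (.leaf (1673, true)))) (.node (.node (.leaf (774, true)) (.leaf (800, false))) (.node (.leaf (710, true)) (.leaf (1077, true))))))

def spar1101 : Janko.Tree (ℕ × Bool) :=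
  (.node (.node (.node (.node (.node (.leaf (1256, true)) (.leaf (1579, true))) (.leaf (1081, false))) (.node (.leaf (745, false)) (.leaf (2205, true)))) (.node (.node (.leaf (2139, true)) (.leaf (885, false))) (.node (.leaf (82, true)) (.leaf (1609, true))))) (.node (.node (.node (.leaf (1759, false)) (.leaf (1219, false))) (.node (.leaf (272, true)) (.leaf (1433, true)))) (.node (.node (.leaf (1054, false)) (.leaf (348, false))) (.node (.leaf (183, true)) (.leaf (1078, true))))))

def spar1102 : Janko.Tree (ℕ × Bool) :=
  (.node (.node (.node (.node (.node (.leaf (1536, true)) (.leaf (1955, true))) (.leaf (1710, false))) (.node (.leaf (672, false)) (.leaf (1256, true)))) (.node (.node (.leaf (2158, false)) (.leaf (706, false))) (.node (.leaf (1890, true)) (.leaf (1661, true))))) (.node (.node (.node (.leaf (658, false)) (.leaf (1951, false))) (.node (.leaf (737, false)) (.leaf (9, false)))) (.node (.node (.leaf (1391, true)) (.leaf (281, false))) (.node (.leaf (130, true)) (.leaf (1737, true))))))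

def spar1103 : Janko.Tree (ℕ × Bool) :=
  (.node (.node (.node (.node (.node (.leaf (268, false)) (.leaf (1430, true))) (.leaf (989, true))) (.node (.leaf (1028, true)) (.leaf (1440, false)))) (.node (.node (.leaf (1166, false)) (.leaf (2171, false))) (.node (.leaf (2053, true)) (.leaf (272, false))))) (.node (.node (.node (.leaf (659, false)) (.leaf (2018, false))) (.node (.leaf (1314, true)) (.leaf (697, false)))) (.node (.node (.leaf (1350, false)) (.leaf (1747, false))) (.node (.leaf (430, true)) (.leaf (1946, false))))))

def spar1104 : Janko.Tree (ℕ × Bool) :=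
  (.node (.node (.node (.node (.node (.leaf (285, false)) (.leaf (2135, false))) (.leaf (2140, true))) (.node (.leaf (358, false)) (.leaf (2177, true)))) (.node (.node (.leaf (272, false)) (.leaf (3, true))) (.node (.leaf (1745, true)) (.leaf (206, true))))) (.node (.node (.node (.leaf (1674, false)) (.leaf (1389, true))) (.node (.leaf (395, true)) (.leaf (1513, false)))) (.node (.node (.leaf (2125, true)) (.leaf (530, false))) (.node (.leaf (783, true)) (.leaf (1219, true))))))

def spar1105 : Janko.Tree (ℕ × Bool) :=
  (.node (.node (.node (.node (.node (.leaf (93, true)) (.leaf (2084, true))) (.leaf (1521, true))) (.node (.leaf (821, false)) (.leaf (1520, true)))) (.node (.node (.leaf (1466, false)) (.leaf (406, true))) (.node (.leaf (1747, false)) (.leaf (1429, false))))) (.node (.node (.node (.leaf (943, true)) (.leaf (546, false))) (.node (.leaf (330, true)) (.leaf (1899, false)))) (.node (.node (.leaf (1021, true)) (.leaf (1699, true))) (.node (.leaf (2117, true)) (.leaf (1369, true))))))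

def spar1106 : Janko.Tree (ℕ × Bool) :=
  (.node (.node (.node (.node (.node (.leaf (2171, false)) (.leaf (2129, false))) (.leaf (253, true))) (.node (.leaf (403, false)) (.leaf (1219, true)))) (.node (.node (.leaf (403, false)) (.leaf (54, true))) (.node (.leaf (1461, true)) (.leaf (720, true))))) (.node (.node (.node (.leaf (146, false)) (.leaf (304, false))) (.node (.leaf (628, true)) (.leaf (39, true)))) (.node (.node (.leaf (819, true)) (.leaf (659, true))) (.node (.leaf (2205, true)) (.leaf (253, true))))))

def spar1107 : Janko.Tree (ℕ × Bool) :=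
  (.node (.node (.node (.node (.node (.leaf (1229, false)) (.leaf (39, true))) (.leaf (1100, false))) (.node (.leaf (1292, true)) (.leaf (1220, true)))) (.node (.node (.leaf (1355, false)) (.leaf (1232, false))) (.node (.leaf (1379, true)) (.leaf (1859, true))))) (.node (.node (.node (.leaf (77, false)) (.leaf (1054, false))) (.node (.leaf (3, true)) (.leaf (658, true)))) (.node (.node (.leaf (1834, false)) (.leaf (880, false))) (.node (.leaf (1762, false)) (.leaf (73, true))))))

def spar1108 : Janko.Tree (ℕ × Bool) :=
  (.node (.node (.node (.node (.node (.leaf (1324, true)) (.leaf (1019, false))) (.leaf (1422, false))) (.node (.leaf (710, true)) (.leaf (1786, true)))) (.node (.node (.leaf (1513, true)) (.leaf (429, true))) (.node (.leaf (1641, true)) (.leaf (1565, false))))) (.node (.node (.node (.leaf (1682, true)) (.leaf (460, false))) (.node (.leaf (1101, true)) (.leaf (1172, true)))) (.node (.node (.leaf (1482, true)) (.leaf (1507, false))) (.node (.leaf (1309, true)) (.leaf (186, false))))))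

def spar1109 : Janko.Tree (ℕ × Bool) :=
  (.node (.node (.node (.node (.node (.leaf (1614, true)) (.leaf (112, true))) (.leaf (1309, false))) (.node (.leaf (1338, false)) (.leaf (1416, false)))) (.node (.node (.leaf (1494, false)) (.leaf (0, false))) (.node (.leaf (311, false)) (.leaf (891, true))))) (.node (.node (.node (.leaf (2234, true)) (.leaf (547, true))) (.node (.leaf (1379, true)) (.leaf (1, false)))) (.node (.node (.leaf (1285, true)) (.leaf (1389, true))) (.node (.leaf (733, false)) (.leaf (0, true))))))

def spar1110 : Janko.Tree (ℕ × Bool) :=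
  (.node (.node (.node (.node (.node (.leaf (1288, false)) (.leaf (0, false))) (.leaf (1256, false))) (.node (.leaf (407, false)) (.leaf (878, false)))) (.node (.node (.leaf (225, false)) (.leaf (439, true))) (.node (.leaf (253, false)) (.leaf (615, true))))) (.node (.node (.node (.leaf (1943, false)) (.leaf (1609, true))) (.node (.leaf (2065, true)) (.leaf (992, true)))) (.node (.node (.leaf (1536, false)) (.leaf (311, true))) (.node (.leaf (387, false)) (.leaf (653, true))))))

def spar1111 : Janko.Tree (ℕ × Bool) :=
  (.node (.node (.node (.node (.node (.leaf (1256, false)) (.leaf (388, false))) (.leaf (403, true))) (.node (.leaf (1003, true)) (.leaf (1674, false)))) (.node (.node (.leaf (1391, true)) (.leaf (1466, true))) (.node (.leaf (929, true)) (.leaf (1720, false))))) (.node (.node (.node (.leaf (1517, true)) (.leaf (1569, false))) (.node (.leaf (308, false)) (.leaf (1270, false)))) (.node (.node (.leaf (253, true)) (.leaf (672, true))) (.node (.leaf (1614, true)) (.leaf (277, true))))))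

def spar1112 : Janko.Tree (ℕ × Bool) :=
  (.node (.node (.node (.node (.node (.leaf (2018, false)) (.leaf (1256, false))) (.leaf (430, true))) (.node (.leaf (409, false)) (.leaf (390, false)))) (.node (.node (.leaf (15, false)) (.leaf (1877, false))) (.node (.leaf (2065, false)) (.leaf (1433, true))))) (.node (.node (.node (.leaf (8, true)) (.leaf (1054, false))) (.node (.leaf (706, true)) (.leaf (706, true)))) (.node (.node (.leaf (271, true)) (.leaf (0, true))) (.node (.leaf (1398, true)) (.leaf (25, true))))))

def spar1113 : Janko.Tree (ℕ × Bool) :=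
  (.node (.node (.node (.node (.node (.leaf (1739, true)) (.leaf (1831, true))) (.leaf (720, false))) (.node (.leaf (410, false)) (.leaf (455, false)))) (.node (.node (.leaf (941, false)) (.leaf (662, false))) (.node (.leaf (1788, false)) (.leaf (1499, true))))) (.node (.node (.node (.leaf (1391, false)) (.leaf (58, false))) (.node (.leaf (542, true)) (.leaf (1912, true)))) (.node (.node (.leaf (393, false)) (.leaf (1461, true))) (.node (.leaf (1946, true)) (.leaf (936, false))))))

def spar1114 : Janko.Tree (ℕ × Bool) :=
  (.node (.node (.node (.node (.node (.leaf (358, true)) (.leaf (9, true))) (.leaf (793, true))) (.node (.leaf (989, true)) (.leaf (1720, true)))) (.node (.node (.leaf (1538, false)) (.leaf (1100, true))) (.node (.leaf (1438, true)) (.leaf (1309, false))))) (.node (.node (.node (.leaf (1810, true)) (.leaf (1416, true))) (.node (.leaf (1968, true)) (.leaf (1122, true)))) (.node (.node (.leaf (800, true)) (.leaf (455, true))) (.node (.leaf (1771, true)) (.leaf (1003, true))))))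

def spar1115 : Janko.Tree (ℕ × Bool) :=
  (.node (.node (.node (.node (.node (.leaf (1461, false)) (.leaf (737, true))) (.leaf (1391, true))) (.node (.leaf (1699, true)) (.leaf (1566, false)))) (.node (.node (.leaf (230, false)) (.leaf (1579, true))) (.node (.leaf (1588, false)) (.leaf (1834, false))))) (.node (.node (.node (.leaf (1255, false)) (.leaf (659, true))) (.node (.leaf (1616, true)) (.leaf (992, false)))) (.node (.node (.leaf (672, false)) (.leaf (793, false))) (.node (.leaf (1641, false)) (.leaf (601, false))))))

def spar1116 : Janko.Tree (ℕ × Bool) :=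
  (.node (.node (.node (.node (.node (.leaf (1910, false)) (.leaf (1078, true))) (.leaf (1249, true))) (.node (.leaf (2002, false)) (.leaf (1773, true)))) (.node (.node (.leaf (942, false)) (.leaf (1852, false))) (.node (.leaf (1466, true)) (.leaf (358, false))))) (.node (.node (.node (.leaf (737, true)) (.leaf (452, true))) (.node (.leaf (1398, true)) (.leaf (1447, true)))) (.node (.node (.leaf (1771, false)) (.leaf (2002, true))) (.node (.leaf (258, false)) (.leaf (989, true))))))

def spar1117 : Janko.Tree (ℕ × Bool) :=
  (.node (.node (.node (.node (.node (.leaf (1422, false)) (.leaf (1024, false))) (.leaf (1880, true))) (.node (.leaf (1967, false)) (.leaf (268, true)))) (.node (.node (.leaf (1101, false)) (.leaf (1100, false))) (.node (.leaf (2075, true)) (.leaf (2140, true))))) (.node (.node (.node (.leaf (452, true)) (.leaf (1077, true))) (.node (.leaf (1747, true)) (.leaf (1636, false)))) (.node (.node (.leaf (737, false)) (.leaf (2171, false))) (.node (.leaf (795, false)) (.leaf (1663, true))))))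

def spar1118 : Janko.Tree (ℕ × Bool) :=
  (.node (.node (.node (.node (.node (.leaf (1742, true)) (.leaf (1661, false))) (.leaf (1661, true))) (.node (.leaf (1485, false)) (.leaf (2097, false)))) (.node (.node (.leaf (1614, false)) (.leaf (2018, false))) (.node (.leaf (935, false)) (.leaf (330, true))))) (.node (.node (.node (.leaf (1309, true)) (.leaf (1078, true))) (.node (.leaf (672, false)) (.leaf (1355, false)))) (.node (.node (.leaf (388, false)) (.leaf (1130, true))) (.node (.leaf (1021, true)) (.leaf (115, true))))))

def spar1119 : Janko.Tree (ℕ × Bool) :=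
  (.node (.node (.node (.node (.node (.leaf (460, false)) (.leaf (1336, true))) (.leaf (1265, true))) (.node (.leaf (2051, true)) (.leaf (1249, false)))) (.node (.node (.leaf (126, true)) (.leaf (1913, false))) (.node (.leaf (2146, true)) (.leaf (2207, false))))) (.node (.node (.node (.leaf (1699, true)) (.leaf (2140, true))) (.node (.leaf (2140, true)) (.leaf (1416, true)))) (.node (.node (.leaf (1820, true)) (.leaf (1256, false))) (.node (.leaf (745, false)) (.leaf (268, true))))))

def spar1120 : Janko.Tree (ℕ × Bool) :=
  (.node (.node (.node (.node (.node (.leaf (1517, true)) (.leaf (1663, true))) (.leaf (1742, false))) (.node (.leaf (2114, true)) (.leaf (1529, false)))) (.node (.node (.leaf (2146, false)) (.leaf (689, true))) (.node (.leaf (2164, true)) (.leaf (1100, true))))) (.node (.node (.node (.leaf (989, false)) (.leaf (126, true))) (.node (.leaf (1616, true)) (.leaf (1086, true)))) (.node (.node (.leaf (1675, false)) (.leaf (1579, true))) (.node (.leaf (821, true)) (.leaf (1054, false))))))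

def spar1121 : Janko.Tree (ℕ × Bool) :=
  (.node (.node (.node (.node (.node (.leaf (58, true)) (.leaf (2018, false))) (.leaf (1507, false))) (.node (.leaf (14, false)) (.leaf (1877, false)))) (.node (.node (.leaf (750, false)) (.leaf (1108, false))) (.node (.leaf (1517, true)) (.leaf (2158, false))))) (.node (.node (.node (.leaf (149, false)) (.leaf (1982, false))) (.node (.leaf (654, true)) (.leaf (1222, true)))) (.node (.node (.leaf (1017, true)) (.leaf (1725, false))) (.node (.leaf (2177, false)) (.leaf (311, false))))))

def spar1122 : Janko.Tree (ℕ × Bool) :=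
  (.node (.node (.node (.node (.node (.leaf (1767, false)) (.leaf (769, false))) (.leaf (2161, false))) (.node (.leaf (1505, false)) (.leaf (733, false)))) (.node (.node (.leaf (419, false)) (.leaf (539, false))) (.node (.leaf (391, false)) (.leaf (2053, true))))) (.node (.node (.node (.leaf (1131, true)) (.leaf (1447, false))) (.node (.leaf (654, false)) (.leaf (0, true)))) (.node (.node (.leaf (966, true)) (.leaf (1171, true))) (.node (.leaf (1229, true)) (.leaf (1416, true))))))

def spar1123 : Janko.Tree (ℕ × Bool) :=
  (.node (.node (.node (.node (.node (.leaf (1265, true)) (.leaf (1520, true))) (.leaf (1800, true))) (.node (.leaf (1810, false)) (.leaf (2110, false)))) (.node (.node (.leaf (1003, false)) (.leaf (43, true))) (.node (.leaf (253, false)) (.leaf (1538, true))))) (.node (.node (.node (.leaf (164, false)) (.leaf (546, true))) (.node (.leaf (390, false)) (.leaf (407, false)))) (.node (.node (.leaf (1250, true)) (.leaf (1172, true))) (.node (.leaf (658, false)) (.leaf (534, false))))))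

def spar1124 : Janko.Tree (ℕ × Bool) :=
  (.node (.node (.node (.node (.node (.leaf (1166, false)) (.leaf (2223, false))) (.leaf (2088, true))) (.node (.leaf (2088, false)) (.leaf (2092, false)))) (.node (.node (.leaf (1820, true)) (.leaf (2114, false))) (.node (.leaf (395, false)) (.leaf (1229, false))))) (.node (.node (.node (.leaf (1661, false)) (.leaf (2097, true))) (.node (.leaf (1644, false)) (.leaf (1859, false)))) (.node (.node (.leaf (1529, true)) (.leaf (2205, false))) (.node (.leaf (659, false)) (.leaf (1866, true))))))

def spar1125 : Janko.Tree (ℕ × Bool) :=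
  (.node (.node (.node (.node (.node (.leaf (73, false)) (.leaf (935, false))) (.leaf (1972, true))) (.node (.leaf (1465, false)) (.leaf (1762, false)))) (.node (.node (.leaf (1651, true)) (.leaf (25, false))) (.node (.leaf (737, true)) (.leaf (273, true))))) (.node (.node (.node (.leaf (1786, true)) (.leaf (1466, false))) (.node (.leaf (1265, false)) (.leaf (1914, true)))) (.node (.node (.leaf (1482, true)) (.leaf (18, true))) (.node (.leaf (1520, true)) (.leaf (379, false))))))

def spar1126 : Janko.Tree (ℕ × Bool) :=
  (.node (.node (.node (.node (.node (.leaf (1831, false)) (.leaf (1422, false))) (.leaf (1438, false))) (.node (.leaf (1394, false)) (.leaf (2142, false)))) (.node (.node (.leaf (115, false)) (.leaf (402, true))) (.node (.leaf (406, true)) (.leaf (358, false))))) (.node (.node (.node (.leaf (1682, false)) (.leaf (1086, true))) (.node (.leaf (697, false)) (.leaf (2014, false)))) (.node (.node (.leaf (1725, false)) (.leaf (1205, false))) (.node (.leaf (2142, true)) (.leaf (808, true))))))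

def spar1127 : Janko.Tree (ℕ × Bool) :=
  (.node (.node (.node (.node (.node (.leaf (1946, true)) (.leaf (2177, true))) (.leaf (1579, false))) (.node (.leaf (39, true)) (.leaf (658, false)))) (.node (.node (.leaf (1616, false)) (.leaf (230, true))) (.node (.leaf (407, true)) (.leaf (1725, false))))) (.node (.node (.node (.leaf (1607, false)) (.leaf (403, true))) (.node (.leaf (391, true)) (.leaf (361, true)))) (.node (.node (.leaf (1913, false)) (.leaf (1100, false))) (.node (.leaf (1379, false)) (.leaf (702, true))))))

def spar1 : Janko.Tree (ℕ × Bool) :=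
  (.node (.node (.node (.node (.node (.node (.node spar10 spar164) (.node spar132 spar196)) (.node (.node spar116 spar180) (.node spar148 spar1112))) (.node (.node (.node spar18 spar172) (.node spar140 spar1104)) (.node (.node spar124 spar188) (.node spar156 spar1120)))) (.node (.node (.node (.node spar14 spar168) (.node spar136 spar1100)) (.node (.node spar120 spar184) (.node spar152 spar1116))) (.node (.node (.node spar112 spar176) (.node spar144 spar1108)) (.node (.node spar128 spar192) (.node spar160 spar1124))))) (.node (.node (.node (.node (.node spar12 spar166) (.node spar134 spar198)) (.node (.node spar118 spar182) (.node spar150 spar1114))) (.node (.node (.node spar110 spar174) (.node spar142 spar1106)) (.node (.node spar126 spar190) (.node spar158 spar1122)))) (.node (.node (.node (.node spar16 spar170) (.node spar138 spar1102)) (.node (.node spar122 spar186) (.node spar154 spar1118))) (.node (.node (.node spar114 spar178) (.node spar146 spar1110)) (.node (.node spar130 spar194) (.node spar162 spar1126)))))) (.node (.node (.node (.node (.node (.node spar11 spar165) (.node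 spar133 spar197)) (.node (.node spar117 spar181) (.node spar149 spar1113))) (.node (.node (.node spar19 spar173) (.node spar141 spar1105)) (.node (.node spar125 spar189) (.node spar157 spar1121)))) (.node (.node (.node (.node spar15 spar169) (.node spar137 spar1101)) (.node (.node spar121 spar185) (.node spar153 spar1117))) (.node (.node (.node spar113 spar177) (.node spar145 spar1109)) (.node (.node spar129 spar193) (.node spar161 spar1125))))) (.node (.node (.node (.node (.node spar13 spar167) (.node spar135 spar199)) (.node (.node spar119 spar183) (.node spar151 spar1115))) (.node (.node (.node spar111 spar175) (.node spar143 spar1107)) (.node (.node spar127 spar191) (.node spar159 spar1123)))) (.node (.node (.node (.node spar17 spar171) (.node spar139 spar1103)) (.node (.node spar123 spar187) (.node spar155 spar1119))) (.node (.node (.node spar115 spar179) (.node spar147 spar1111)) (.node (.node spar131 spar195) (.node spar163 spar1127)))))))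

def srank10 : Janko.Tree (ℕ) :=
  (.node (.node (.node (.node (.node (.leaf 0) (.leaf 3)) (.leaf 3)) (.node (.leaf 3) (.leaf 2))) (.node (.node (.leaf 4) (.leaf 3)) (.node (.leaf 3) (.leaf 3)))) (.node (.node (.node (.node (.leaf 3) (.leaf 4)) (.leaf 4)) (.node (.leaf 4) (.leaf 4))) (.node (.node (.leaf 3) (.leaf 4)) (.node (.leaf 3) (.leaf 3)))))

def srank11 : Janko.Tree (ℕ) :=
  (.node (.node (.node (.node (.node (.leaf 1) (.leaf 3)) (.leaf 4)) (.node (.leaf 3) (.leaf 3))) (.node (.node (.leaf 4) (.leaf 3)) (.node (.leaf 3) (.leaf 4)))) (.node (.node (.node (.node (.leaf 3) (.leaf 2)) (.leaf 4)) (.node (.leaf 3) (.leaf 4))) (.node (.node (.leaf 4) (.leaf 3)) (.node (.leaf 4) (.leaf 3)))))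

def srank12 : Janko.Tree (ℕ) :=
  (.node (.node (.node (.node (.node (.leaf 3) (.leaf 3)) (.leaf 3)) (.node (.leaf 4) (.leaf 2))) (.node (.node (.leaf 2) (.leaf 4)) (.node (.leaf 3) (.leaf 4)))) (.node (.node (.node (.node (.leaf 2) (.leaf 3)) (.leaf 3)) (.node (.leaf 3) (.leaf 3))) (.node (.node (.leaf 3) (.leaf 4)) (.node (.leaf 4) (.leaf 3)))))

def srank13 : Janko.Tree (ℕ) :=
  (.node (.node (.node (.node (.node (.leaf 2) (.leaf 2)) (.leaf 3)) (.node (.leaf 3) (.leaf 3))) (.node (.node (.leaf 2) (.leaf 3)) (.node (.leaf 4) (.leaf 3)))) (.node (.node (.node (.node (.leaf 3) (.leaf 3)) (.leaf 4)) (.node (.leaf 3) (.leaf 4))) (.node (.node (.leaf 2) (.leaf 4)) (.node (.leaf 3) (.leaf 3)))))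

def srank14 : Janko.Tree (ℕ) :=
  (.node (.node (.node (.node (.node (.leaf 3) (.leaf 3)) (.leaf 1)) (.node (.leaf 3) (.leaf 3))) (.node (.node (.leaf 4) (.leaf 4)) (.node (.leaf 4) (.leaf 3)))) (.node (.node (.node (.node (.leaf 3) (.leaf 4)) (.leaf 4)) (.node (.leaf 3) (.leaf 4))) (.node (.node (.leaf 3) (.leaf 4)) (.node (.leaf 4) (.leaf 4)))))

def srank15 : Janko.Tree (ℕ) :=
  (.node (.node (.node (.node (.node (.leaf 4) (.leaf 2)) (.leaf 4)) (.node (.leaf 4) (.leaf 3))) (.node (.node (.leaf 4) (.leaf 2)) (.node (.leaf 3) (.leaf 4)))) (.node (.node (.node (.node (.leaf 4) (.leaf 4)) (.leaf 4)) (.node (.leaf 4) (.leaf 4))) (.node (.node (.leaf 4) (.leaf 4)) (.node (.leaf 3) (.leaf 3)))))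

def srank16 : Janko.Tree (ℕ) :=
  (.node (.node (.node (.node (.node (.leaf 3) (.leaf 4)) (.leaf 4)) (.node (.leaf 4) (.leaf 4))) (.node (.node (.leaf 3) (.leaf 3)) (.node (.leaf 3) (.leaf 3)))) (.node (.node (.node (.node (.leaf 3) (.leaf 4)) (.leaf 3)) (.node (.leaf 4) (.leaf 3))) (.node (.node (.leaf 2) (.leaf 3)) (.node (.leaf 4) (.leaf 2)))))

def srank17 : Janko.Tree (ℕ) :=
  (.node (.node (.node (.node (.node (.leaf 3) (.leaf 3)) (.leaf 3)) (.node (.leaf 4) (.leaf 4))) (.node (.node (.leaf 3) (.leaf 3)) (.node (.leaf 3) (.leaf 3)))) (.node (.node (.node (.node (.leaf 3) (.leaf 3)) (.leaf 3)) (.node (.leaf 3) (.leaf 3))) (.node (.node (.leaf 3) (.leaf 4)) (.node (.leaf 3) (.leaf 4)))))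

def srank18 : Janko.Tree (ℕ) :=
  (.node (.node (.node (.node (.node (.leaf 3) (.leaf 3)) (.leaf 3)) (.node (.leaf 3) (.leaf 3))) (.node (.node (.leaf 4) (.leaf 2)) (.node (.leaf 4) (.leaf 2)))) (.node (.node (.node (.node (.leaf 4) (.leaf 3)) (.leaf 4)) (.node (.leaf 4) (.leaf 4))) (.node (.node (.leaf 3) (.leaf 2)) (.node (.leaf 4) (.leaf 4)))))

def srank19 : Janko.Tree (ℕ) :=
  (.node (.node (.node (.node (.node (.leaf 3) (.leaf 3)) (.leaf 3)) (.node (.leaf 3) (.leaf 3))) (.node (.node (.leaf 3) (.leaf 3)) (.node (.leaf 4) (.leaf 3)))) (.node (.node (.node (.node (.leaf 3) (.leaf 3)) (.leaf 3)) (.node (.leaf 3) (.leaf 3))) (.node (.node (.leaf 3) (.leaf 3)) (.node (.leaf 3) (.leaf 3)))))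

def srank110 : Janko.Tree (ℕ) :=
  (.node (.node (.node (.node (.node (.leaf 4) (.leaf 4)) (.leaf 4)) (.node (.leaf 3) (.leaf 3))) (.node (.node (.leaf 3) (.leaf 3)) (.node (.leaf 3) (.leaf 3)))) (.node (.node (.node (.node (.leaf 4) (.leaf 3)) (.leaf 3)) (.node (.leaf 4) (.leaf 2))) (.node (.node (.leaf 3) (.leaf 3)) (.node (.leaf 4) (.leaf 3)))))

def srank111 : Janko.Tree (ℕ) :=
  (.node (.node (.node (.node (.node (.leaf 3) (.leaf 3)) (.leaf 3)) (.node (.leaf 3) (.leaf 3))) (.node (.node (.leaf 4) (.leaf 3)) (.node (.leaf 3) (.leaf 4)))) (.node (.node (.node (.node (.leaf 3) (.leaf 4)) (.leaf 4)) (.node (.leaf 4) (.leaf 3))) (.node (.node (.leaf 3) (.leaf 4)) (.node (.leaf 3) (.leaf 3)))))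

def srank112 : Janko.Tree (ℕ) :=
  (.node (.node (.node (.node (.node (.leaf 3) (.leaf 4)) (.leaf 4)) (.node (.leaf 3) (.leaf 4))) (.node (.node (.leaf 2) (.leaf 3)) (.node (.leaf 4) (.leaf 3)))) (.node (.node (.node (.node (.leaf 4) (.leaf 4)) (.leaf 3)) (.node (.leaf 3) (.leaf 4))) (.node (.node (.leaf 3) (.leaf 3)) (.node (.leaf 4) (.leaf 4)))))

def srank113 : Janko.Tree (ℕ) :=
  (.node (.node (.node (.node (.node (.leaf 4) (.leaf 4)) (.leaf 3)) (.node (.leaf 3) (.leaf 3))) (.node (.node (.leaf 3) (.leaf 4)) (.node (.leaf 3) (.leaf 3)))) (.node (.node (.node (.node (.leaf 4) (.leaf 3)) (.leaf 4)) (.node (.leaf 3) (.leaf 3))) (.node (.node (.leaf 4) (.leaf 4)) (.node (.leaf 3) (.leaf 3)))))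

def srank114 : Janko.Tree (ℕ) :=
  (.node (.node (.node (.node (.node (.leaf 2) (.leaf 3)) (.leaf 4)) (.node (.leaf 3) (.leaf 4))) (.node (.node (.leaf 3) (.leaf 3)) (.node (.leaf 3) (.leaf 4)))) (.node (.node (.node (.node (.leaf 3) (.leaf 3)) (.leaf 2)) (.node (.leaf 3) (.leaf 4))) (.node (.node (.leaf 3) (.leaf 2)) (.node (.leaf 3) (.leaf 3)))))

def srank115 : Janko.Tree (ℕ) :=
  (.node (.node (.node (.node (.node (.leaf 3) (.leaf 3)) (.leaf 3)) (.node (.leaf 3) (.leaf 3))) (.node (.node (.leaf 3) (.leaf 3)) (.node (.leaf 3) (.leaf 3)))) (.node (.node (.node (.node (.leaf 3) (.leaf 3)) (.leaf 3)) (.node (.leaf 3) (.leaf 4))) (.node (.node (.leaf 3) (.leaf 4)) (.node (.leaf 3) (.leaf 3)))))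

def srank116 : Janko.Tree (ℕ) :=
  (.node (.node (.node (.node (.node (.leaf 3) (.leaf 3)) (.leaf 4)) (.node (.leaf 4) (.leaf 3))) (.node (.node (.leaf 2) (.leaf 3)) (.node (.leaf 3) (.leaf 3)))) (.node (.node (.node (.node (.leaf 4) (.leaf 3)) (.leaf 3)) (.node (.leaf 3) (.leaf 3))) (.node (.node (.leaf 4) (.leaf 3)) (.node (.leaf 3) (.leaf 3)))))

def srank117 : Janko.Tree (ℕ) :=
  (.node (.node (.node (.node (.node (.leaf 3) (.leaf 1)) (.leaf 3)) (.node (.leaf 4) (.leaf 3))) (.node (.node (.leaf 3) (.leaf 3)) (.node (.leaf 3) (.leaf 3)))) (.node (.node (.node (.node (.leaf 3) (.leaf 4)) (.leaf 3)) (.node (.leaf 4) (.leaf 3))) (.node (.node (.leaf 3) (.leaf 3)) (.node (.leaf 4) (.leaf 4)))))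

def srank118 : Janko.Tree (ℕ) :=
  (.node (.node (.node (.node (.node (.leaf 2) (.leaf 3)) (.leaf 4)) (.node (.leaf 2) (.leaf 4))) (.node (.node (.leaf 3) (.leaf 3)) (.node (.leaf 3) (.leaf 2)))) (.node (.node (.node (.node (.leaf 3) (.leaf 4)) (.leaf 4)) (.node (.leaf 1) (.leaf 3))) (.node (.node (.leaf 3) (.leaf 3)) (.node (.leaf 3) (.leaf 3)))))

def srank119 : Janko.Tree (ℕ) :=
  (.node (.node (.node (.node (.node (.leaf 4) (.leaf 3)) (.leaf 3)) (.node (.leaf 4) (.leaf 4))) (.node (.node (.leaf 3) (.leaf 4)) (.node (.leaf 3) (.leaf 4)))) (.node (.node (.node (.node (.leaf 3) (.leaf 4)) (.leaf 3)) (.node (.leaf 2) (.leaf 4))) (.node (.node (.leaf 2) (.leaf 3)) (.node (.leaf 3) (.leaf 4)))))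

def srank120 : Janko.Tree (ℕ) :=
  (.node (.node (.node (.node (.node (.leaf 3) (.leaf 3)) (.leaf 4)) (.node (.leaf 3) (.leaf 4))) (.node (.node (.leaf 3) (.leaf 2)) (.node (.leaf 3) (.leaf 3)))) (.node (.node (.node (.node (.leaf 3) (.leaf 3)) (.leaf 2)) (.node (.leaf 4) (.leaf 3))) (.node (.node (.leaf 4) (.leaf 3)) (.node (.leaf 3) (.leaf 4)))))

def srank121 : Janko.Tree (ℕ) :=
  (.node (.node (.node (.node (.node (.leaf 3) (.leaf 3)) (.leaf 4)) (.node (.leaf 4) (.leaf 4))) (.node (.node (.leaf 2) (.leaf 3)) (.node (.leaf 3) (.leaf 3)))) (.node (.node (.node (.node (.leaf 3) (.leaf 4)) (.leaf 3)) (.node (.leaf 3) (.leaf 4))) (.node (.node (.leaf 4) (.leaf 2)) (.node (.leaf 3) (.leaf 2)))))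

def srank122 : Janko.Tree (ℕ) :=
  (.node (.node (.node (.node (.node (.leaf 2) (.leaf 3)) (.leaf 4)) (.node (.leaf 3) (.leaf 4))) (.node (.node (.leaf 3) (.leaf 4)) (.node (.leaf 3) (.leaf 3)))) (.node (.node (.node (.node (.leaf 4) (.leaf 4)) (.leaf 3)) (.node (.leaf 2) (.leaf 3))) (.node (.node (.leaf 3) (.leaf 2)) (.node (.leaf 3) (.leaf 3)))))

def srank123 : Janko.Tree (ℕ) :=
  (.node (.node (.node (.node (.node (.leaf 3) (.leaf 3)) (.leaf 4)) (.node (.leaf 3) (.leaf 4))) (.node (.node (.leaf 3) (.leaf 3)) (.node (.leaf 3) (.leaf 2)))) (.node (.node (.node (.node (.leaf 3) (.leaf 4)) (.leaf 3)) (.node (.leaf 3) (.leaf 4))) (.node (.node (.leaf 2) (.leaf 4)) (.node (.leaf 3) (.leaf 3)))))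

def srank124 : Janko.Tree (ℕ) :=
  (.node (.node (.node (.node (.node (.leaf 4) (.leaf 3)) (.leaf 3)) (.node (.leaf 3) (.leaf 4))) (.node (.node (.leaf 4) (.leaf 3)) (.node (.leaf 4) (.leaf 4)))) (.node (.node (.node (.node (.leaf 3) (.leaf 4)) (.leaf 3)) (.node (.leaf 3) (.leaf 4))) (.node (.node (.leaf 3) (.leaf 3)) (.node (.leaf 3) (.leaf 3)))))

def srank125 : Janko.Tree (ℕ) :=
  (.node (.node (.node (.node (.node (.leaf 2) (.leaf 4)) (.leaf 3)) (.node (.leaf 3) (.leaf 4))) (.node (.node (.leaf 3) (.leaf 3)) (.node (.leaf 2) (.leaf 3)))) (.node (.node (.node (.node (.leaf 4) (.leaf 3)) (.leaf 3)) (.node (.leaf 3) (.leaf 4))) (.node (.node (.leaf 3) (.leaf 2)) (.node (.leaf 3) (.leaf 3)))))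

def srank126 : Janko.Tree (ℕ) :=
  (.node (.node (.node (.node (.node (.leaf 4) (.leaf 3)) (.leaf 4)) (.node (.leaf 4) (.leaf 3))) (.node (.node (.leaf 3) (.leaf 4)) (.node (.leaf 3) (.leaf 4)))) (.node (.node (.node (.node (.leaf 3) (.leaf 3)) (.leaf 4)) (.node (.leaf 4) (.leaf 4))) (.node (.node (.leaf 3) (.leaf 3)) (.node (.leaf 3) (.leaf 2)))))

def srank127 : Janko.Tree (ℕ) :=
  (.node (.node (.node (.node (.node (.leaf 5) (.leaf 2)) (.leaf 3)) (.node (.leaf 3) (.leaf 3))) (.node (.node (.leaf 3) (.leaf 4)) (.node (.leaf 3) (.leaf 4)))) (.node (.node (.node (.node (.leaf 4) (.leaf 2)) (.leaf 3)) (.node (.leaf 3) (.leaf 4))) (.node (.node (.leaf 3) (.leaf 3)) (.node (.leaf 3) (.leaf 3)))))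

def srank128 : Janko.Tree (ℕ) :=
  (.node (.node (.node (.node (.node (.leaf 2) (.leaf 3)) (.leaf 3)) (.node (.leaf 4) (.leaf 3))) (.node (.node (.leaf 3) (.leaf 4)) (.node (.leaf 4) (.leaf 3)))) (.node (.node (.node (.node (.leaf 3) (.leaf 3)) (.leaf 4)) (.node (.leaf 3) (.leaf 4))) (.node (.node (.leaf 3) (.leaf 3)) (.node (.leaf 3) (.leaf 3)))))

def srank129 : Janko.Tree (ℕ) :=
  (.node (.node (.node (.node (.node (.leaf 3) (.leaf 3)) (.leaf 3)) (.node (.leaf 3) (.leaf 3))) (.node (.node (.leaf 3) (.leaf 2)) (.node (.leaf 3) (.leaf 3)))) (.node (.node (.node (.node (.leaf 4) (.leaf 2)) (.leaf 4)) (.node (.leaf 3) (.leaf 3))) (.node (.node (.leaf 3) (.leaf 4)) (.node (.leaf 4) (.leaf 3)))))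

def srank130 : Janko.Tree (ℕ) :=
  (.node (.node (.node (.node (.node (.leaf 3) (.leaf 3)) (.leaf 2)) (.node (.leaf 3) (.leaf 2))) (.node (.node (.leaf 4) (.leaf 4)) (.node (.leaf 3) (.leaf 3)))) (.node (.node (.node (.node (.leaf 4) (.leaf 4)) (.leaf 4)) (.node (.leaf 3) (.leaf 4))) (.node (.node (.leaf 4) (.leaf 3)) (.node (.leaf 4) (.leaf 4)))))

def srank131 : Janko.Tree (ℕ) :=
  (.node (.node (.node (.node (.node (.leaf 3) (.leaf 3)) (.leaf 3)) (.node (.leaf 3) (.leaf 4))) (.node (.node (.leaf 3) (.leaf 3)) (.node (.leaf 4) (.leaf 3)))) (.node (.node (.node (.node (.leaf 3) (.leaf 3)) (.leaf 3)) (.node (.leaf 3) (.leaf 3))) (.node (.node (.leaf 4) (.leaf 3)) (.node (.leaf 4) (.leaf 3)))))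

def srank132 : Janko.Tree (ℕ) :=
  (.node (.node (.node (.node (.node (.leaf 3) (.leaf 3)) (.leaf 4)) (.node (.leaf 3) (.leaf 3))) (.node (.node (.leaf 3) (.leaf 2)) (.node (.leaf 2) (.leaf 3)))) (.node (.node (.node (.node (.leaf 3) (.leaf 4)) (.leaf 3)) (.node (.leaf 2) (.leaf 3))) (.node (.node (.leaf 3) (.leaf 3)) (.node (.leaf 3) (.leaf 4)))))

def srank133 : Janko.Tree (ℕ) :=
  (.node (.node (.node (.node (.node (.leaf 3) (.leaf 4)) (.leaf 4)) (.node (.leaf 4) (.leaf 3))) (.node (.node (.leaf 4) (.leaf 3)) (.node (.leaf 3) (.leaf 3)))) (.node (.node (.node (.node (.leaf 3) (.leaf 3)) (.leaf 3)) (.node (.leaf 4) (.leaf 3))) (.node (.node (.leaf 3) (.leaf 3)) (.node (.leaf 2) (.leaf 3)))))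

def srank134 : Janko.Tree (ℕ) :=
  (.node (.node (.node (.node (.node (.leaf 3) (.leaf 3)) (.leaf 4)) (.node (.leaf 2) (.leaf 3))) (.node (.node (.leaf 3) (.leaf 3)) (.node (.leaf 4) (.leaf 3)))) (.node (.node (.node (.node (.leaf 3) (.leaf 3)) (.leaf 4)) (.node (.leaf 4) (.leaf 3))) (.node (.node (.leaf 4) (.leaf 2)) (.node (.leaf 4) (.leaf 3)))))

def srank135 : Janko.Tree (ℕ) :=
  (.node (.node (.node (.node (.node (.leaf 3) (.leaf 3)) (.leaf 4)) (.node (.leaf 2) (.leaf 4))) (.node (.node (.leaf 3) (.leaf 3)) (.node (.leaf 4) (.leaf 3)))) (.node (.node (.node (.node (.leaf 4) (.leaf 3)) (.leaf 3)) (.node (.leaf 4) (.leaf 2))) (.node (.node (.leaf 3) (.leaf 3)) (.node (.leaf 4) (.leaf 2)))))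

def srank136 : Janko.Tree (ℕ) :=
  (.node (.node (.node (.node (.node (.leaf 4) (.leaf 3)) (.leaf 3)) (.node (.leaf 2) (.leaf 4))) (.node (.node (.leaf 3) (.leaf 3)) (.node (.leaf 4) (.leaf 3)))) (.node (.node (.node (.node (.leaf 3) (.leaf 4)) (.leaf 3)) (.node (.leaf 4) (.leaf 3))) (.node (.node (.leaf 3) (.leaf 4)) (.node (.leaf 4) (.leaf 4)))))

def srank137 : Janko.Tree (ℕ) :=
  (.node (.node (.node (.node (.node (.leaf 3) (.leaf 4)) (.leaf 3)) (.node (.leaf 3) (.leaf 3))) (.node (.node (.leaf 4) (.leaf 3)) (.node (.leaf 3) (.leaf 3)))) (.node (.node (.node (.node (.leaf 3) (.leaf 3)) (.leaf 4)) (.node (.leaf 3) (.leaf 4))) (.node (.node (.leaf 4) (.leaf 3)) (.node (.leaf 4) (.leaf 3)))))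

def srank138 : Janko.Tree (ℕ) :=
  (.node (.node (.node (.node (.node (.leaf 3) (.leaf 3)) (.leaf 3)) (.node (.leaf 3) (.leaf 3))) (.node (.node (.leaf 3) (.leaf 3)) (.node (.leaf 3) (.leaf 3)))) (.node (.node (.node (.node (.leaf 4) (.leaf 3)) (.leaf 3)) (.node (.leaf 3) (.leaf 3))) (.node (.node (.leaf 4) (.leaf 3)) (.node (.leaf 3) (.leaf 3)))))

def srank139 : Janko.Tree (ℕ) :=
  (.node (.node (.node (.node (.node (.leaf 2) (.leaf 3)) (.leaf 3)) (.node (.leaf 2) (.leaf 3))) (.node (.node (.leaf 3) (.leaf 3)) (.node (.leaf 3) (.leaf 1)))) (.node (.node (.node (.node (.leaf 4) (.leaf 4)) (.leaf 4)) (.node (.leaf 4) (.leaf 4))) (.node (.node (.leaf 4) (.leaf 2)) (.node (.leaf 2) (.leaf 4)))))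

def srank140 : Janko.Tree (ℕ) :=
  (.node (.node (.node (.node (.node (.leaf 3) (.leaf 2)) (.leaf 4)) (.node (.leaf 4) (.leaf 4))) (.node (.node (.leaf 3) (.leaf 4)) (.node (.leaf 3) (.leaf 4)))) (.node (.node (.node (.node (.leaf 4) (.leaf 3)) (.leaf 4)) (.node (.leaf 3) (.leaf 3))) (.node (.node (.leaf 3) (.leaf 4)) (.node (.leaf 3) (.leaf 4)))))

def srank141 : Janko.Tree (ℕ) :=
  (.node (.node (.node (.node (.node (.leaf 3) (.leaf 3)) (.leaf 3)) (.node (.leaf 4) (.leaf 2))) (.node (.node (.leaf 3) (.leaf 4)) (.node (.leaf 3) (.leaf 3)))) (.node (.node (.node (.node (.leaf 3) (.leaf 3)) (.leaf 4)) (.node (.leaf 3) (.leaf 3))) (.node (.node (.leaf 4) (.leaf 4)) (.node (.leaf 3) (.leaf 3)))))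

def srank142 : Janko.Tree (ℕ) :=
  (.node (.node (.node (.node (.node (.leaf 4) (.leaf 4)) (.leaf 3)) (.node (.leaf 3) (.leaf 3))) (.node (.node (.leaf 4) (.leaf 3)) (.node (.leaf 4) (.leaf 2)))) (.node (.node (.node (.node (.leaf 4) (.leaf 3)) (.leaf 4)) (.node (.leaf 3) (.leaf 4))) (.node (.node (.leaf 3) (.leaf 4)) (.node (.leaf 4) (.leaf 3)))))

def srank143 : Janko.Tree (ℕ) :=
  (.node (.node (.node (.node (.node (.leaf 2) (.leaf 4)) (.leaf 3)) (.node (.leaf 3) (.leaf 2))) (.node (.node (.leaf 3) (.leaf 3)) (.node (.leaf 3) (.leaf 3)))) (.node (.node (.node (.node (.leaf 3) (.leaf 3)) (.leaf 4)) (.node (.leaf 4) (.leaf 3))) (.node (.node (.leaf 3) (.leaf 4)) (.node (.leaf 3) (.leaf 4)))))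

def srank144 : Janko.Tree (ℕ) :=
  (.node (.node (.node (.node (.node (.leaf 3) (.leaf 3)) (.leaf 3)) (.node (.leaf 4) (.leaf 4))) (.node (.node (.leaf 3) (.leaf 2)) (.node (.leaf 3) (.leaf 3)))) (.node (.node (.node (.node (.leaf 4) (.leaf 4)) (.leaf 4)) (.node (.leaf 4) (.leaf 3))) (.node (.node (.leaf 4) (.leaf 3)) (.node (.leaf 4) (.leaf 4)))))

def srank145 : Janko.Tree (ℕ) :=
  (.node (.node (.node (.node (.node (.leaf 3) (.leaf 3)) (.leaf 3)) (.node (.leaf 3) (.leaf 3))) (.node (.node (.leaf 4) (.leaf 3)) (.node (.leaf 4) (.leaf 4)))) (.node (.node (.node (.node (.leaf 3) (.leaf 4)) (.leaf 4)) (.node (.leaf 4) (.leaf 3))) (.node (.node (.leaf 2) (.leaf 4)) (.node (.leaf 3) (.leaf 4)))))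

def srank146 : Janko.Tree (ℕ) :=
  (.node (.node (.node (.node (.node (.leaf 4) (.leaf 4)) (.leaf 3)) (.node (.leaf 4) (.leaf 4))) (.node (.node (.leaf 4) (.leaf 4)) (.node (.leaf 3) (.leaf 3)))) (.node (.node (.node (.node (.leaf 4) (.leaf 3)) (.leaf 4)) (.node (.leaf 3) (.leaf 3))) (.node (.node (.leaf 2) (.leaf 3)) (.node (.leaf 3) (.leaf 3)))))

def srank147 : Janko.Tree (ℕ) :=
  (.node (.node (.node (.node (.node (.leaf 4) (.leaf 4)) (.leaf 3)) (.node (.leaf 4) (.leaf 2))) (.node (.node (.leaf 3) (.leaf 3)) (.node (.leaf 3) (.leaf 4)))) (.node (.node (.node (.node (.leaf 4) (.leaf 3)) (.leaf 3)) (.node (.leaf 3) (.leaf 3))) (.node (.node (.leaf 3) (.leaf 4)) (.node (.leaf 2) (.leaf 3)))))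

def srank148 : Janko.Tree (ℕ) :=
  (.node (.node (.node (.node (.node (.leaf 4) (.leaf 3)) (.leaf 4)) (.node (.leaf 3) (.leaf 3))) (.node (.node (.leaf 3) (.leaf 4)) (.node (.leaf 3) (.leaf 3)))) (.node (.node (.node (.node (.leaf 3) (.leaf 3)) (.leaf 3)) (.node (.leaf 3) (.leaf 3))) (.node (.node (.leaf 4) (.leaf 4)) (.node (.leaf 3) (.leaf 3)))))

def srank149 : Janko.Tree (ℕ) :=
  (.node (.node (.node (.node (.node (.leaf 3) (.leaf 3)) (.leaf 3)) (.node (.leaf 4) (.leaf 4))) (.node (.node (.leaf 4) (.leaf 3)) (.node (.leaf 3) (.leaf 4)))) (.node (.node (.node (.node (.leaf 4) (.leaf 3)) (.leaf 3)) (.node (.leaf 3) (.leaf 3))) (.node (.node (.leaf 3) (.leaf 3)) (.node (.leaf 3) (.leaf 2)))))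

def srank150 : Janko.Tree (ℕ) :=
  (.node (.node (.node (.node (.node (.leaf 3) (.leaf 3)) (.leaf 4)) (.node (.leaf 3) (.leaf 3))) (.node (.node (.leaf 4) (.leaf 3)) (.node (.leaf 3) (.leaf 4)))) (.node (.node (.node (.node (.leaf 3) (.leaf 3)) (.leaf 3)) (.node (.leaf 3) (.leaf 4))) (.node (.node (.leaf 3) (.leaf 4)) (.node (.leaf 3) (.leaf 3)))))

def srank151 : Janko.Tree (ℕ) :=
  (.node (.node (.node (.node (.node (.leaf 3) (.leaf 3)) (.leaf 3)) (.node (.leaf 4) (.leaf 3))) (.node (.node (.leaf 4) (.leaf 3)) (.node (.leaf 2) (.leaf 4)))) (.node (.node (.node (.node (.leaf 3) (.leaf 3)) (.leaf 3)) (.node (.leaf 4) (.leaf 3))) (.node (.node (.leaf 4) (.leaf 3)) (.node (.leaf 4) (.leaf 3)))))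

def srank152 : Janko.Tree (ℕ) :=
  (.node (.node (.node (.node (.node (.leaf 3) (.leaf 3)) (.leaf 4)) (.node (.leaf 3) (.leaf 3))) (.node (.node (.leaf 3) (.leaf 4)) (.node (.leaf 3) (.leaf 4)))) (.node (.node (.node (.node (.leaf 3) (.leaf 3)) (.leaf 4)) (.node (.leaf 3) (.leaf 3))) (.node (.node (.leaf 4) (.leaf 3)) (.node (.leaf 3) (.leaf 2)))))

def srank153 : Janko.Tree (ℕ) :=
  (.node (.node (.node (.node (.node (.leaf 3) (.leaf 3)) (.leaf 3)) (.node (.leaf 3) (.leaf 3))) (.node (.node (.leaf 4) (.leaf 3)) (.node (.leaf 3) (.leaf 4)))) (.node (.node (.node (.node (.leaf 3) (.leaf 3)) (.leaf 2)) (.node (.leaf 4) (.leaf 4))) (.node (.node (.leaf 3) (.leaf 2)) (.node (.leaf 3) (.leaf 3)))))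

def srank154 : Janko.Tree (ℕ) :=
  (.node (.node (.node (.node (.node (.leaf 3) (.leaf 3)) (.leaf 2)) (.node (.leaf 3) (.leaf 3))) (.node (.node (.leaf 3) (.leaf 3)) (.node (.leaf 4) (.leaf 4)))) (.node (.node (.node (.node (.leaf 4) (.leaf 4)) (.leaf 3)) (.node (.leaf 3) (.leaf 4))) (.node (.node (.leaf 3) (.leaf 4)) (.node (.leaf 3) (.leaf 3)))))

def srank155 : Janko.Tree (ℕ) :=
  (.node (.node (.node (.node (.node (.leaf 3) (.leaf 3)) (.leaf 4)) (.node (.leaf 3) (.leaf 3))) (.node (.node (.leaf 2) (.leaf 4)) (.node (.leaf 4) (.leaf 3)))) (.node (.node (.node (.node (.leaf 2) (.leaf 4)) (.leaf 3)) (.node (.leaf 4) (.leaf 3))) (.node (.node (.leaf 3) (.leaf 3)) (.node (.leaf 4) (.leaf 4)))))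

def srank156 : Janko.Tree (ℕ) :=
  (.node (.node (.node (.node (.node (.leaf 3) (.leaf 2)) (.leaf 4)) (.node (.leaf 3) (.leaf 4))) (.node (.node (.leaf 4) (.leaf 3)) (.node (.leaf 4) (.leaf 4)))) (.node (.node (.node (.node (.leaf 3) (.leaf 3)) (.leaf 2)) (.node (.leaf 4) (.leaf 2))) (.node (.node (.leaf 3) (.leaf 3)) (.node (.leaf 4) (.leaf 4)))))

def srank157 : Janko.Tree (ℕ) :=
  (.node (.node (.node (.node (.node (.leaf 3) (.leaf 3)) (.leaf 3)) (.node (.leaf 3) (.leaf 3))) (.node (.node (.leaf 3) (.leaf 4)) (.node (.leaf 3) (.leaf 4)))) (.node (.node (.node (.node (.leaf 3) (.leaf 3)) (.leaf 3)) (.node (.leaf 2) (.leaf 3))) (.node (.node (.leaf 3) (.leaf 3)) (.node (.leaf 4) (.leaf 4)))))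

def srank158 : Janko.Tree (ℕ) :=
  (.node (.node (.node (.node (.node (.leaf 2) (.leaf 3)) (.leaf 2)) (.node (.leaf 3) (.leaf 4))) (.node (.node (.leaf 3) (.leaf 3)) (.node (.leaf 2) (.leaf 3)))) (.node (.node (.node (.node (.leaf 3) (.leaf 2)) (.leaf 3)) (.node (.leaf 3) (.leaf 3))) (.node (.node (.leaf 3) (.leaf 2)) (.node (.leaf 3) (.leaf 4)))))

def srank159 : Janko.Tree (ℕ) :=
  (.node (.node (.node (.node (.node (.leaf 4) (.leaf 4)) (.leaf 4)) (.node (.leaf 3) (.leaf 3))) (.node (.node (.leaf 4) (.leaf 3)) (.node (.leaf 4) (.leaf 4)))) (.node (.node (.node (.node (.leaf 4) (.leaf 4)) (.leaf 3)) (.node (.leaf 3) (.leaf 3))) (.node (.node (.leaf 3) (.leaf 3)) (.node (.leaf 3) (.leaf 4)))))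

def srank160 : Janko.Tree (ℕ) :=
  (.node (.node (.node (.node (.node (.leaf 3) (.leaf 3)) (.leaf 4)) (.node (.leaf 3) (.leaf 2))) (.node (.node (.leaf 3) (.leaf 3)) (.node (.leaf 4) (.leaf 3)))) (.node (.node (.node (.node (.leaf 4) (.leaf 3)) (.leaf 3)) (.node (.leaf 3) (.leaf 4))) (.node (.node (.leaf 4) (.leaf 4)) (.node (.leaf 3) (.leaf 4)))))

def srank161 : Janko.Tree (ℕ) :=
  (.node (.node (.node (.node (.node (.leaf 3) (.leaf 3)) (.leaf 3)) (.node (.leaf 4) (.leaf 4))) (.node (.node (.leaf 4) (.leaf 3)) (.node (.leaf 3) (.leaf 4)))) (.node (.node (.node (.node (.leaf 4) (.leaf 4)) (.leaf 3)) (.node (.leaf 4) (.leaf 2))) (.node (.node (.leaf 3) (.leaf 3)) (.node (.leaf 3) (.leaf 4)))))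

def srank162 : Janko.Tree (ℕ) :=
  (.node (.node (.node (.node (.node (.leaf 4) (.leaf 3)) (.leaf 2)) (.node (.leaf 3) (.leaf 4))) (.node (.node (.leaf 3) (.leaf 3)) (.node (.leaf 3) (.leaf 3)))) (.node (.node (.node (.node (.leaf 3) (.leaf 3)) (.leaf 4)) (.node (.leaf 3) (.leaf 3))) (.node (.node (.leaf 3) (.leaf 3)) (.node (.leaf 4) (.leaf 3)))))

def srank163 : Janko.Tree (ℕ) :=
  (.node (.node (.node (.node (.node (.leaf 3) (.leaf 3)) (.leaf 3)) (.node (.leaf 4) (.leaf 3))) (.node (.node (.leaf 3) (.leaf 4)) (.node (.leaf 4) (.leaf 4)))) (.node (.node (.node (.node (.leaf 3) (.leaf 3)) (.leaf 3)) (.node (.leaf 4) (.leaf 3))) (.node (.node (.leaf 3) (.leaf 3)) (.node (.leaf 3) (.leaf 4)))))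

def srank164 : Janko.Tree (ℕ) :=
  (.node (.node (.node (.node (.node (.leaf 3) (.leaf 4)) (.leaf 3)) (.node (.leaf 3) (.leaf 3))) (.node (.node (.leaf 3) (.leaf 3)) (.node (.leaf 4) (.leaf 3)))) (.node (.node (.node (.leaf 3) (.leaf 3)) (.node (.leaf 3) (.leaf 3))) (.node (.node (.leaf 3) (.leaf 3)) (.node (.leaf 2) (.leaf 3)))))

def srank165 : Janko.Tree (ℕ) :=
  (.node (.node (.node (.node (.node (.leaf 4) (.leaf 4)) (.leaf 3)) (.node (.leaf 3) (.leaf 4))) (.node (.node (.leaf 3) (.leaf 4)) (.node (.leaf 3) (.leaf 3)))) (.node (.node (.node (.leaf 4) (.leaf 4)) (.node (.leaf 3) (.leaf 3))) (.node (.node (.leaf 3) (.leaf 4)) (.node (.leaf 3) (.leaf 4)))))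

def srank166 : Janko.Tree (ℕ) :=
  (.node (.node (.node (.node (.node (.leaf 3) (.leaf 3)) (.leaf 4)) (.node (.leaf 3) (.leaf 4))) (.node (.node (.leaf 3) (.leaf 3)) (.node (.leaf 2) (.leaf 4)))) (.node (.node (.node (.leaf 4) (.leaf 4)) (.node (.leaf 2) (.leaf 3))) (.node (.node (.leaf 3) (.leaf 3)) (.node (.leaf 3) (.leaf 3)))))

def srank167 : Janko.Tree (ℕ) :=
  (.node (.node (.node (.node (.node (.leaf 4) (.leaf 4)) (.leaf 3)) (.node (.leaf 4) (.leaf 3))) (.node (.node (.leaf 4) (.leaf 3)) (.node (.leaf 4) (.leaf 1)))) (.node (.node (.node (.leaf 4) (.leaf 2)) (.node (.leaf 4) (.leaf 4))) (.node (.node (.leaf 3) (.leaf 3)) (.node (.leaf 3) (.leaf 3)))))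

def srank168 : Janko.Tree (ℕ) :=
  (.node (.node (.node (.node (.node (.leaf 4) (.leaf 3)) (.leaf 3)) (.node (.leaf 3) (.leaf 3))) (.node (.node (.leaf 3) (.leaf 4)) (.node (.leaf 3) (.leaf 3)))) (.node (.node (.node (.leaf 2) (.leaf 2)) (.node (.leaf 4) (.leaf 3))) (.node (.node (.leaf 3) (.leaf 3)) (.node (.leaf 3) (.leaf 4)))))

def srank169 : Janko.Tree (ℕ) :=
  (.node (.node (.node (.node (.node (.leaf 3) (.leaf 3)) (.leaf 3)) (.node (.leaf 4) (.leaf 3))) (.node (.node (.leaf 3) (.leaf 3)) (.node (.leaf 4) (.leaf 4)))) (.node (.node (.node (.leaf 4) (.leaf 3)) (.node (.leaf 3) (.leaf 3))) (.node (.node (.leaf 4) (.leaf 4)) (.node (.leaf 4) (.leaf 3)))))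

def srank170 : Janko.Tree (ℕ) :=
  (.node (.node (.node (.node (.node (.leaf 3) (.leaf 4)) (.leaf 3)) (.node (.leaf 4) (.leaf 4))) (.node (.node (.leaf 3) (.leaf 3)) (.node (.leaf 4) (.leaf 3)))) (.node (.node (.node (.leaf 4) (.leaf 3)) (.node (.leaf 2) (.leaf 3))) (.node (.node (.leaf 4) (.leaf 3)) (.node (.leaf 3) (.leaf 3)))))

def srank171 : Janko.Tree (ℕ) :=
  (.node (.node (.node (.node (.node (.leaf 3) (.leaf 5)) (.leaf 3)) (.node (.leaf 3) (.leaf 3))) (.node (.node (.leaf 3) (.leaf 3)) (.node (.leaf 4) (.leaf 3)))) (.node (.node (.node (.leaf 4) (.leaf 3)) (.node (.leaf 3) (.leaf 3))) (.node (.node (.leaf 2) (.leaf 3)) (.node (.leaf 3) (.leaf 3)))))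

def srank172 : Janko.Tree (ℕ) :=
  (.node (.node (.node (.node (.node (.leaf 4) (.leaf 3)) (.leaf 4)) (.node (.leaf 3) (.leaf 3))) (.node (.node (.leaf 4) (.leaf 3)) (.node (.leaf 3) (.leaf 3)))) (.node (.node (.node (.leaf 3) (.leaf 4)) (.node (.leaf 4) (.leaf 4))) (.node (.node (.leaf 3) (.leaf 3)) (.node (.leaf 4) (.leaf 4)))))

def srank173 : Janko.Tree (ℕ) :=
  (.node (.node (.node (.node (.node (.leaf 3) (.leaf 4)) (.leaf 4)) (.node (.leaf 3) (.leaf 2))) (.node (.node (.leaf 4) (.leaf 2)) (.node (.leaf 4) (.leaf 3)))) (.node (.node (.node (.leaf 3) (.leaf 4)) (.node (.leaf 3) (.leaf 3))) (.node (.node (.leaf 3) (.leaf 4)) (.node (.leaf 3) (.leaf 3)))))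

def srank174 : Janko.Tree (ℕ) :=
  (.node (.node (.node (.node (.node (.leaf 4) (.leaf 3)) (.leaf 3)) (.node (.leaf 3) (.leaf 3))) (.node (.node (.leaf 1) (.leaf 4)) (.node (.leaf 4) (.leaf 2)))) (.node (.node (.node (.leaf 4) (.leaf 4)) (.node (.leaf 3) (.leaf 3))) (.node (.node (.leaf 3) (.leaf 3)) (.node (.leaf 3) (.leaf 4)))))

def srank175 : Janko.Tree (ℕ) :=
  (.node (.node (.node (.node (.node (.leaf 4) (.leaf 3)) (.leaf 4)) (.node (.leaf 3) (.leaf 3))) (.node (.node (.leaf 3) (.leaf 3)) (.node (.leaf 4) (.leaf 4)))) (.node (.node (.node (.leaf 3) (.leaf 3)) (.node (.leaf 3) (.leaf 2))) (.node (.node (.leaf 4) (.leaf 4)) (.node (.leaf 4) (.leaf 4)))))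

def srank176 : Janko.Tree (ℕ) :=
  (.node (.node (.node (.node (.node (.leaf 3) (.leaf 3)) (.leaf 2)) (.node (.leaf 4) (.leaf 3))) (.node (.node (.leaf 4) (.leaf 3)) (.node (.leaf 3) (.leaf 3)))) (.node (.node (.node (.leaf 4) (.leaf 4)) (.node (.leaf 4) (.leaf 3))) (.node (.node (.leaf 2) (.leaf 3)) (.node (.leaf 4) (.leaf 3)))))

def srank177 : Janko.Tree (ℕ) :=
  (.node (.node (.node (.node (.node (.leaf 2) (.leaf 2)) (.leaf 2)) (.node (.leaf 3) (.leaf 3))) (.node (.node (.leaf 3) (.leaf 4)) (.node (.leaf 4) (.leaf 3)))) (.node (.node (.node (.leaf 4) (.leaf 2)) (.node (.leaf 4) (.leaf 3))) (.node (.node (.leaf 4) (.leaf 2)) (.node (.leaf 4) (.leaf 3)))))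

def srank178 : Janko.Tree (ℕ) :=
  (.node (.node (.node (.node (.node (.leaf 3) (.leaf 3)) (.leaf 3)) (.node (.leaf 2) (.leaf 2))) (.node (.node (.leaf 4) (.leaf 3)) (.node (.leaf 4) (.leaf 3)))) (.node (.node (.node (.leaf 3) (.leaf 3)) (.node (.leaf 4) (.leaf 2))) (.node (.node (.leaf 3) (.leaf 3)) (.node (.leaf 3) (.leaf 3)))))

def srank179 : Janko.Tree (ℕ) :=
  (.node (.node (.node (.node (.node (.leaf 3) (.leaf 3)) (.leaf 4)) (.node (.leaf 3) (.leaf 4))) (.node (.node (.leaf 3) (.leaf 4)) (.node (.leaf 4) (.leaf 3)))) (.node (.node (.node (.leaf 3) (.leaf 3)) (.node (.leaf 3) (.leaf 3))) (.node (.node (.leaf 3) (.leaf 3)) (.node (.leaf 3) (.leaf 3)))))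

def srank180 : Janko.Tree (ℕ) :=
  (.node (.node (.node (.node (.node (.leaf 3) (.leaf 3)) (.leaf 3)) (.node (.leaf 3) (.leaf 3))) (.node (.node (.leaf 3) (.leaf 3)) (.node (.leaf 4) (.leaf 4)))) (.node (.node (.node (.leaf 4) (.leaf 3)) (.node (.leaf 3) (.leaf 4))) (.node (.node (.leaf 3) (.leaf 3)) (.node (.leaf 4) (.leaf 2)))))

def srank181 : Janko.Tree (ℕ) :=
  (.node (.node (.node (.node (.node (.leaf 3) (.leaf 3)) (.leaf 3)) (.node (.leaf 3) (.leaf 4))) (.node (.node (.leaf 3) (.leaf 3)) (.node (.leaf 3) (.leaf 3)))) (.node (.node (.node (.leaf 3) (.leaf 3)) (.node (.leaf 3) (.leaf 3))) (.node (.node (.leaf 3) (.leaf 4)) (.node (.leaf 3) (.leaf 4)))))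

def srank182 : Janko.Tree (ℕ) :=
  (.node (.node (.node (.node (.node (.leaf 2) (.leaf 5)) (.leaf 4)) (.node (.leaf 3) (.leaf 4))) (.node (.node (.leaf 3) (.leaf 3)) (.node (.leaf 3) (.leaf 3)))) (.node (.node (.node (.leaf 3) (.leaf 3)) (.node (.leaf 3) (.leaf 4))) (.node (.node (.leaf 4) (.leaf 4)) (.node (.leaf 3) (.leaf 2)))))

def srank183 : Janko.Tree (ℕ) :=
  (.node (.node (.node (.node (.node (.leaf 4) (.leaf 3)) (.leaf 3)) (.node (.leaf 3) (.leaf 3))) (.node (.node (.leaf 3) (.leaf 4)) (.node (.leaf 3) (.leaf 3)))) (.node (.node (.node (.leaf 4) (.leaf 3)) (.node (.leaf 3) (.leaf 2))) (.node (.node (.leaf 3) (.leaf 3)) (.node (.leaf 3) (.leaf 3)))))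

def srank184 : Janko.Tree (ℕ) :=
  (.node (.node (.node (.node (.node (.leaf 4) (.leaf 4)) (.leaf 3)) (.node (.leaf 3) (.leaf 3))) (.node (.node (.leaf 3) (.leaf 3)) (.node (.leaf 3) (.leaf 3)))) (.node (.node (.node (.leaf 3) (.leaf 3)) (.node (.leaf 3) (.leaf 3))) (.node (.node (.leaf 3) (.leaf 4)) (.node (.leaf 4) (.leaf 3)))))

def srank185 : Janko.Tree (ℕ) :=
  (.node (.node (.node (.node (.node (.leaf 3) (.leaf 3)) (.leaf 4)) (.node (.leaf 3) (.leaf 4))) (.node (.node (.leaf 3) (.leaf 3)) (.node (.leaf 3) (.leaf 2)))) (.node (.node (.node (.leaf 3) (.leaf 3)) (.node (.leaf 3) (.leaf 3))) (.node (.node (.leaf 3) (.leaf 3)) (.node (.leaf 3) (.leaf 4)))))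

def srank186 : Janko.Tree (ℕ) :=
  (.node (.node (.node (.node (.node (.leaf 4) (.leaf 3)) (.leaf 3)) (.node (.leaf 3) (.leaf 4))) (.node (.node (.leaf 3) (.leaf 3)) (.node (.leaf 4) (.leaf 4)))) (.node (.node (.node (.leaf 3) (.leaf 4)) (.node (.leaf 3) (.leaf 4))) (.node (.node (.leaf 4) (.leaf 3)) (.node (.leaf 3) (.leaf 3)))))

def srank187 : Janko.Tree (ℕ) :=
  (.node (.node (.node (.node (.node (.leaf 3) (.leaf 3)) (.leaf 3)) (.node (.leaf 3) (.leaf 4))) (.node (.node (.leaf 3) (.leaf 4)) (.node (.leaf 3) (.leaf 4)))) (.node (.node (.node (.leaf 3) (.leaf 3)) (.node (.leaf 3) (.leaf 3))) (.node (.node (.leaf 4) (.leaf 3)) (.node (.leaf 3) (.leaf 3)))))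

def srank188 : Janko.Tree (ℕ) :=
  (.node (.node (.node (.node (.node (.leaf 3) (.leaf 4)) (.leaf 3)) (.node (.leaf 2) (.leaf 3))) (.node (.node (.leaf 3) (.leaf 4)) (.node (.leaf 3) (.leaf 2)))) (.node (.node (.node (.leaf 4) (.leaf 3)) (.node (.leaf 4) (.leaf 3))) (.node (.node (.leaf 3) (.leaf 4)) (.node (.leaf 3) (.leaf 3)))))

def srank189 : Janko.Tree (ℕ) :=
  (.node (.node (.node (.node (.node (.leaf 4) (.leaf 3)) (.leaf 4)) (.node (.leaf 2) (.leaf 3))) (.node (.node (.leaf 3) (.leaf 3)) (.node (.leaf 3) (.leaf 3)))) (.node (.node (.node (.leaf 3) (.leaf 4)) (.node (.leaf 2) (.leaf 3))) (.node (.node (.leaf 4) (.leaf 4)) (.node (.leaf 3) (.leaf 4)))))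

def srank190 : Janko.Tree (ℕ) :=
  (.node (.node (.node (.node (.node (.leaf 3) (.leaf 3)) (.leaf 4)) (.node (.leaf 4) (.leaf 4))) (.node (.node (.leaf 3) (.leaf 3)) (.node (.leaf 3) (.leaf 2)))) (.node (.node (.node (.leaf 3) (.leaf 3)) (.node (.leaf 3) (.leaf 3))) (.node (.node (.leaf 2) (.leaf 3)) (.node (.leaf 3) (.leaf 3)))))

def srank191 : Janko.Tree (ℕ) :=
  (.node (.node (.node (.node (.node (.leaf 3) (.leaf 2)) (.leaf 3)) (.node (.leaf 3) (.leaf 4))) (.node (.node (.leaf 3) (.leaf 3)) (.node (.leaf 4) (.leaf 3)))) (.node (.node (.node (.leaf 3) (.leaf 3)) (.node (.leaf 3) (.leaf 3))) (.node (.node (.leaf 3) (.leaf 2)) (.node (.leaf 3) (.leaf 3)))))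

def srank192 : Janko.Tree (ℕ) :=
  (.node (.node (.node (.node (.node (.leaf 4) (.leaf 2)) (.leaf 3)) (.node (.leaf 4) (.leaf 3))) (.node (.node (.leaf 3) (.leaf 4)) (.node (.leaf 3) (.leaf 3)))) (.node (.node (.node (.leaf 3) (.leaf 3)) (.node (.leaf 3) (.leaf 4))) (.node (.node (.leaf 4) (.leaf 3)) (.node (.leaf 3) (.leaf 3)))))

def srank193 : Janko.Tree (ℕ) :=
  (.node (.node (.node (.node (.node (.leaf 2) (.leaf 3)) (.leaf 3)) (.node (.leaf 3) (.leaf 2))) (.node (.node (.leaf 3) (.leaf 3)) (.node (.leaf 3) (.leaf 2)))) (.node (.node (.node (.leaf 4) (.leaf 3)) (.node (.leaf 2) (.leaf 3))) (.node (.node (.leaf 4) (.leaf 3)) (.node (.leaf 2) (.leaf 4)))))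

def srank194 : Janko.Tree (ℕ) :=
  (.node (.node (.node (.node (.node (.leaf 4) (.leaf 2)) (.leaf 4)) (.node (.leaf 3) (.leaf 3))) (.node (.node (.leaf 3) (.leaf 4)) (.node (.leaf 4) (.leaf 3)))) (.node (.node (.node (.leaf 3) (.leaf 3)) (.node (.leaf 3) (.leaf 4))) (.node (.node (.leaf 4) (.leaf 3)) (.node (.leaf 3) (.leaf 3)))))

def srank195 : Janko.Tree (ℕ) :=
  (.node (.node (.node (.node (.node (.leaf 3) (.leaf 3)) (.leaf 3)) (.node (.leaf 3) (.leaf 3))) (.node (.node (.leaf 3) (.leaf 3)) (.node (.leaf 3) (.leaf 3)))) (.node (.node (.node (.leaf 3) (.leaf 3)) (.node (.leaf 3) (.leaf 3))) (.node (.node (.leaf 4) (.leaf 4)) (.node (.leaf 3) (.leaf 4)))))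

def srank196 : Janko.Tree (ℕ) :=
  (.node (.node (.node (.node (.node (.leaf 3) (.leaf 4)) (.leaf 3)) (.node (.leaf 3) (.leaf 3))) (.node (.node (.leaf 4) (.leaf 3)) (.node (.leaf 3) (.leaf 4)))) (.node (.node (.node (.leaf 3) (.leaf 3)) (.node (.leaf 3) (.leaf 3))) (.node (.node (.leaf 4) (.leaf 3)) (.node (.leaf 3) (.leaf 4)))))

def srank197 : Janko.Tree (ℕ) :=
  (.node (.node (.node (.node (.node (.leaf 4) (.leaf 3)) (.leaf 3)) (.node (.leaf 3) (.leaf 4))) (.node (.node (.leaf 4) (.leaf 3)) (.node (.leaf 4) (.leaf 3)))) (.node (.node (.node (.leaf 3) (.leaf 2)) (.node (.leaf 2) (.leaf 4))) (.node (.node (.leaf 4) (.leaf 2)) (.node (.leaf 4) (.leaf 3)))))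

def srank198 : Janko.Tree (ℕ) :=
  (.node (.node (.node (.node (.node (.leaf 4) (.leaf 2)) (.leaf 3)) (.node (.leaf 3) (.leaf 4))) (.node (.node (.leaf 4) (.leaf 3)) (.node (.leaf 4) (.leaf 2)))) (.node (.node (.node (.leaf 3) (.leaf 2)) (.node (.leaf 3) (.leaf 1))) (.node (.node (.leaf 3) (.leaf 4)) (.node (.leaf 2) (.leaf 2)))))

def srank199 : Janko.Tree (ℕ) :=
  (.node (.node (.node (.node (.node (.leaf 3) (.leaf 3)) (.leaf 4)) (.node (.leaf 4) (.leaf 3))) (.node (.node (.leaf 3) (.leaf 2)) (.node (.leaf 3) (.leaf 4)))) (.node (.node (.node (.leaf 3) (.leaf 4)) (.node (.leaf 3) (.leaf 4))) (.node (.node (.leaf 3) (.leaf 2)) (.node (.leaf 3) (.leaf 4)))))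

def srank1100 : Janko.Tree (ℕ) :=
  (.node (.node (.node (.node (.node (.leaf 3) (.leaf 4)) (.leaf 4)) (.node (.leaf 4) (.leaf 3))) (.node (.node (.leaf 3) (.leaf 3)) (.node (.leaf 3) (.leaf 3)))) (.node (.node (.node (.leaf 3) (.leaf 4)) (.node (.leaf 4) (.leaf 4))) (.node (.node (.leaf 4) (.leaf 3)) (.node (.leaf 3) (.leaf 4)))))

def srank1101 : Janko.Tree (ℕ) :=
  (.node (.node (.node (.node (.node (.leaf 3) (.leaf 3)) (.leaf 4)) (.node (.leaf 3) (.leaf 3))) (.node (.node (.leaf 3) (.leaf 4)) (.node (.leaf 3) (.leaf 3)))) (.node (.node (.node (.leaf 4) (.leaf 3)) (.node (.leaf 3) (.leaf 3))) (.node (.node (.leaf 3) (.leaf 4)) (.node (.leaf 3) (.leaf 3)))))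

def srank1102 : Janko.Tree (ℕ) :=
  (.node (.node (.node (.node (.node (.leaf 3) (.leaf 3)) (.leaf 4)) (.node (.leaf 3) (.leaf 3))) (.node (.node (.leaf 2) (.leaf 3)) (.node (.leaf 3) (.leaf 3)))) (.node (.node (.node (.leaf 2) (.leaf 4)) (.node (.leaf 3) (.leaf 4))) (.node (.node (.leaf 4) (.leaf 4)) (.node (.leaf 3) (.leaf 4)))))

def srank1103 : Janko.Tree (ℕ) :=
  (.node (.node (.node (.node (.node (.leaf 3) (.leaf 3)) (.leaf 3)) (.node (.leaf 2) (.leaf 4))) (.node (.node (.leaf 3) (.leaf 3)) (.node (.leaf 3) (.leaf 3)))) (.node (.node (.node (.leaf 3) (.leaf 3)) (.node (.leaf 4) (.leaf 3))) (.node (.node (.leaf 4) (.leaf 3)) (.node (.leaf 3) (.leaf 3)))))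

def srank1104 : Janko.Tree (ℕ) :=
  (.node (.node (.node (.node (.node (.leaf 4) (.leaf 4)) (.leaf 3)) (.node (.leaf 3) (.leaf 3))) (.node (.node (.leaf 3) (.leaf 3)) (.node (.leaf 4) (.leaf 4)))) (.node (.node (.node (.leaf 3) (.leaf 2)) (.node (.leaf 4) (.leaf 4))) (.node (.node (.leaf 3) (.leaf 3)) (.node (.leaf 4) (.leaf 3)))))

def srank1105 : Janko.Tree (ℕ) :=
  (.node (.node (.node (.node (.node (.leaf 3) (.leaf 4)) (.leaf 4)) (.node (.leaf 4) (.leaf 2))) (.node (.node (.leaf 3) (.leaf 4)) (.node (.leaf 3) (.leaf 3)))) (.node (.node (.node (.leaf 3) (.leaf 3)) (.node (.leaf 2) (.leaf 3))) (.node (.node (.leaf 3) (.leaf 3)) (.node (.leaf 4) (.leaf 4)))))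

def srank1106 : Janko.Tree (ℕ) :=
  (.node (.node (.node (.node (.node (.leaf 3) (.leaf 4)) (.leaf 3)) (.node (.leaf 3) (.leaf 3))) (.node (.node (.leaf 3) (.leaf 4)) (.node (.leaf 3) (.leaf 4)))) (.node (.node (.node (.leaf 4) (.leaf 4)) (.node (.leaf 4) (.leaf 3))) (.node (.node (.leaf 3) (.leaf 3)) (.node (.leaf 3) (.leaf 3)))))

def srank1107 : Janko.Tree (ℕ) :=
  (.node (.node (.node (.node (.node (.leaf 3) (.leaf 3)) (.leaf 3)) (.node (.leaf 4) (.leaf 3))) (.node (.node (.leaf 4) (.leaf 4)) (.node (.leaf 3) (.leaf 2)))) (.node (.node (.node (.leaf 3) (.leaf 3)) (.node (.leaf 3) (.leaf 2))) (.node (.node (.leaf 3) (.leaf 3)) (.node (.leaf 2) (.leaf 4)))))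

def srank1108 : Janko.Tree (ℕ) :=
  (.node (.node (.node (.node (.node (.leaf 3) (.leaf 3)) (.leaf 3)) (.node (.leaf 3) (.leaf 2))) (.node (.node (.leaf 4) (.leaf 3)) (.node (.leaf 3) (.leaf 4)))) (.node (.node (.node (.leaf 4) (.leaf 3)) (.node (.leaf 3) (.leaf 3))) (.node (.node (.leaf 4) (.leaf 3)) (.node (.leaf 3) (.leaf 4)))))

def srank1109 : Janko.Tree (ℕ) :=
  (.node (.node (.node (.node (.node (.leaf 3) (.leaf 4)) (.leaf 3)) (.node (.leaf 4) (.leaf 3))) (.node (.node (.leaf 4) (.leaf 1)) (.node (.leaf 3) (.leaf 4)))) (.node (.node (.node (.leaf 3) (.leaf 3)) (.node (.leaf 3) (.leaf 2))) (.node (.node (.leaf 3) (.leaf 2)) (.node (.leaf 3) (.leaf 1)))))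

def srank1110 : Janko.Tree (ℕ) :=
  (.node (.node (.node (.node (.node (.leaf 3) (.leaf 1)) (.leaf 3)) (.node (.leaf 3) (.leaf 4))) (.node (.node (.leaf 4) (.leaf 4)) (.node (.leaf 3) (.leaf 3)))) (.node (.node (.node (.leaf 4) (.leaf 3)) (.node (.leaf 2) (.leaf 4))) (.node (.node (.leaf 3) (.leaf 3)) (.node (.leaf 3) (.leaf 4)))))

def srank1111 : Janko.Tree (ℕ) :=
  (.node (.node (.node (.node (.node (.leaf 3) (.leaf 4)) (.leaf 3)) (.node (.leaf 3) (.leaf 3))) (.node (.node (.leaf 4) (.leaf 3)) (.node (.leaf 3) (.leaf 3)))) (.node (.node (.node (.leaf 3) (.leaf 4)) (.node (.leaf 4) (.leaf 4))) (.node (.node (.leaf 3) (.leaf 3)) (.node (.leaf 3) (.leaf 3)))))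

def srank1112 : Janko.Tree (ℕ) :=
  (.node (.node (.node (.node (.node (.leaf 3) (.leaf 3)) (.leaf 3)) (.node (.leaf 4) (.leaf 3))) (.node (.node (.leaf 4) (.leaf 3)) (.node (.leaf 2) (.leaf 3)))) (.node (.node (.node (.leaf 4) (.leaf 3)) (.node (.leaf 3) (.leaf 3))) (.node (.node (.leaf 4) (.leaf 1)) (.node (.leaf 4) (.leaf 3)))))

def srank1113 : Janko.Tree (ℕ) :=
  (.node (.node (.node (.node (.node (.leaf 3) (.leaf 2)) (.leaf 4)) (.node (.leaf 4) (.leaf 3))) (.node (.node (.leaf 4) (.leaf 3)) (.node (.leaf 3) (.leaf 3)))) (.node (.node (.node (.leaf 4) (.leaf 3)) (.node (.leaf 4) (.leaf 4))) (.node (.node (.leaf 4) (.leaf 3)) (.node (.leaf 3) (.leaf 4)))))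

def srank1114 : Janko.Tree (ℕ) :=
  (.node (.node (.node (.node (.node (.leaf 3) (.leaf 4)) (.leaf 3)) (.node (.leaf 3) (.leaf 3))) (.node (.node (.leaf 3) (.leaf 3)) (.node (.leaf 4) (.leaf 3)))) (.node (.node (.node (.leaf 3) (.leaf 3)) (.node (.leaf 4) (.leaf 4))) (.node (.node (.leaf 3) (.leaf 3)) (.node (.leaf 3) (.leaf 3)))))

def srank1115 : Janko.Tree (ℕ) :=
  (.node (.node (.node (.node (.node (.leaf 3) (.leaf 3)) (.leaf 4)) (.node (.leaf 3) (.leaf 3))) (.node (.node (.leaf 3) (.leaf 3)) (.node (.leaf 4) (.leaf 3)))) (.node (.node (.node (.leaf 4) (.leaf 3)) (.node (.leaf 4) (.leaf 4))) (.node (.node (.leaf 3) (.leaf 3)) (.node (.leaf 3) (.leaf 3)))))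

def srank1116 : Janko.Tree (ℕ) :=
  (.node (.node (.node (.node (.node (.leaf 3) (.leaf 3)) (.leaf 3)) (.node (.leaf 3) (.leaf 3))) (.node (.node (.leaf 4) (.leaf 4)) (.node (.leaf 3) (.leaf 3)))) (.node (.node (.node (.leaf 3) (.leaf 4)) (.node (.leaf 4) (.leaf 3))) (.node (.node (.leaf 3) (.leaf 3)) (.node (.leaf 3) (.leaf 3)))))

def srank1117 : Janko.Tree (ℕ) :=
  (.node (.node (.node (.node (.node (.leaf 3) (.leaf 4)) (.leaf 3)) (.node (.leaf 4) (.leaf 3))) (.node (.node (.leaf 3) (.leaf 3)) (.node (.leaf 3) (.leaf 3)))) (.node (.node (.node (.leaf 4) (.leaf 4)) (.node (.leaf 3) (.leaf 4))) (.node (.node (.leaf 3) (.leaf 3)) (.node (.leaf 4) (.leaf 3)))))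

def srank1118 : Janko.Tree (ℕ) :=
  (.node (.node (.node (.node (.node (.leaf 3) (.leaf 3)) (.leaf 3)) (.node (.leaf 3) (.leaf 4))) (.node (.node (.leaf 3) (.leaf 3)) (.node (.leaf 3) (.leaf 2)))) (.node (.node (.node (.leaf 3) (.leaf 3)) (.node (.leaf 3) (.leaf 4))) (.node (.node (.leaf 4) (.leaf 4)) (.node (.leaf 3) (.leaf 4)))))

def srank1119 : Janko.Tree (ℕ) :=
  (.node (.node (.node (.node (.node (.leaf 3) (.leaf 4)) (.leaf 4)) (.node (.leaf 3) (.leaf 3))) (.node (.node (.leaf 3) (.leaf 3)) (.node (.leaf 3) (.leaf 4)))) (.node (.node (.node (.leaf 3) (.leaf 3)) (.node (.leaf 3) (.leaf 3))) (.node (.node (.leaf 4) (.leaf 3)) (.node (.leaf 3) (.leaf 3)))))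

def srank1120 : Janko.Tree (ℕ) :=
  (.node (.node (.node (.node (.node (.leaf 3) (.leaf 3)) (.leaf 3)) (.node (.leaf 4) (.leaf 4))) (.node (.node (.leaf 3) (.leaf 4)) (.node (.leaf 4) (.leaf 3)))) (.node (.node (.node (.leaf 3) (.leaf 3)) (.node (.leaf 4) (.leaf 3))) (.node (.node (.leaf 4) (.leaf 3)) (.node (.leaf 4) (.leaf 3)))))

def srank1121 : Janko.Tree (ℕ) :=
  (.node (.node (.node (.node (.node (.leaf 3) (.leaf 3)) (.leaf 3)) (.node (.leaf 3) (.leaf 3))) (.node (.node (.leaf 3) (.leaf 4)) (.node (.leaf 3) (.leaf 2)))) (.node (.node (.node (.leaf 4) (.leaf 4)) (.node (.leaf 4) (.leaf 4))) (.node (.node (.leaf 4) (.leaf 3)) (.node (.leaf 3) (.leaf 3)))))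

def srank1122 : Janko.Tree (ℕ) :=
  (.node (.node (.node (.node (.node (.leaf 4) (.leaf 4)) (.leaf 3)) (.node (.leaf 3) (.leaf 3))) (.node (.node (.leaf 4) (.leaf 4)) (.node (.leaf 4) (.leaf 3)))) (.node (.node (.node (.leaf 4) (.leaf 3)) (.node (.leaf 4) (.leaf 1))) (.node (.node (.leaf 4) (.leaf 4)) (.node (.leaf 3) (.leaf 3)))))

def srank1123 : Janko.Tree (ℕ) :=
  (.node (.node (.node (.node (.node (.leaf 4) (.leaf 2)) (.leaf 3)) (.node (.leaf 3) (.leaf 4))) (.node (.node (.leaf 3) (.leaf 3)) (.node (.leaf 3) (.leaf 3)))) (.node (.node (.node (.leaf 4) (.leaf 3)) (.node (.leaf 3) (.leaf 3))) (.node (.node (.leaf 3) (.leaf 3)) (.node (.leaf 2) (.leaf 4)))))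

def srank1124 : Janko.Tree (ℕ) :=
  (.node (.node (.node (.node (.node (.leaf 3) (.leaf 4)) (.leaf 3)) (.node (.leaf 3) (.leaf 4))) (.node (.node (.leaf 4) (.leaf 4)) (.node (.leaf 4) (.leaf 3)))) (.node (.node (.node (.leaf 3) (.leaf 4)) (.node (.leaf 3) (.leaf 2))) (.node (.node (.leaf 4) (.leaf 3)) (.node (.leaf 3) (.leaf 3)))))

def srank1125 : Janko.Tree (ℕ) :=
  (.node (.node (.node (.node (.node (.leaf 4) (.leaf 3)) (.leaf 3)) (.node (.leaf 4) (.leaf 2))) (.node (.node (.leaf 4) (.leaf 3)) (.node (.leaf 3) (.leaf 4)))) (.node (.node (.node (.leaf 2) (.leaf 3)) (.node (.leaf 4) (.leaf 4))) (.node (.node (.leaf 4) (.leaf 3)) (.node (.leaf 2) (.leaf 4)))))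

def srank1126 : Janko.Tree (ℕ) :=
  (.node (.node (.node (.node (.node (.leaf 2) (.leaf 3)) (.leaf 4)) (.node (.leaf 4) (.leaf 3))) (.node (.node (.leaf 4) (.leaf 4)) (.node (.leaf 4) (.leaf 3)))) (.node (.node (.node (.leaf 4) (.leaf 3)) (.node (.leaf 3) (.leaf 4))) (.node (.node (.leaf 3) (.leaf 3)) (.node (.leaf 3) (.leaf 4)))))

def srank1127 : Janko.Tree (ℕ) :=
  (.node (.node (.node (.node (.node (.leaf 3) (.leaf 3)) (.leaf 3)) (.node (.leaf 3) (.leaf 2))) (.node (.node (.leaf 4) (.leaf 3)) (.node (.leaf 3) (.leaf 3)))) (.node (.node (.node (.leaf 4) (.leaf 3)) (.node (.leaf 4) (.leaf 4))) (.node (.node (.leaf 3) (.leaf 3)) (.node (.leaf 3) (.leaf 4)))))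

def srank1 : Janko.Tree (ℕ) :=
  (.node (.node (.node (.node (.node (.node (.node srank10 srank164) (.node srank132 srank196)) (.node (.node srank116 srank180) (.node srank148 srank1112))) (.node (.node (.node srank18 srank172) (.node srank140 srank1104)) (.node (.node srank124 srank188) (.node srank156 srank1120)))) (.node (.node (.node (.node srank14 srank168) (.node srank136 srank1100)) (.node (.node srank120 srank184) (.node srank152 srank1116))) (.node (.node (.node srank112 srank176) (.node srank144 srank1108)) (.node (.node srank128 srank192) (.node srank160 srank1124))))) (.node (.node (.node (.node (.node srank12 srank166) (.node srank134 srank198)) (.node (.node srank118 srank182) (.node srank150 srank1114))) (.node (.node (.node srank110 srank174) (.node srank142 srank1106)) (.node (.node srank126 srank190) (.node srank158 srank1122)))) (.node (.node (.node (.node srank16 srank170) (.node srank138 srank1102)) (.node (.node srank122 srank186) (.node srank154 srank1118))) (.node (.node (.node srank114 srank178) (.node srank146 srank1110)) (.node (.node srank130 srank194)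 (.node srank162 srank1126)))))) (.node (.node (.node (.node (.node (.node srank11 srank165) (.node srank133 srank197)) (.node (.node srank117 srank181) (.node srank149 srank1113))) (.node (.node (.node srank19 srank173) (.node srank141 srank1105)) (.node (.node srank125 srank189) (.node srank157 srank1121)))) (.node (.node (.node (.node srank15 srank169) (.node srank137 srank1101)) (.node (.node srank121 srank185) (.node srank153 srank1117))) (.node (.node (.node srank113 srank177) (.node srank145 srank1109)) (.node (.node srank129 srank193) (.node srank161 srank1125))))) (.node (.node (.node (.node (.node srank13 srank167) (.node srank135 srank199)) (.node (.node srank119 srank183) (.node srank151 srank1115))) (.node (.node (.node srank111 srank175) (.node srank143 srank1107)) (.node (.node srank127 srank191) (.node srank159 srank1123)))) (.node (.node (.node (.node srank17 srank171) (.node srank139 srank1103)) (.node (.node srank123 srank187) (.node srank155 srank1119))) (.node (.node (.node srank115 srank179) (.node srank147 srank1111)) (.node (.node srank131 srank195) (.node srank163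 srank1127)))))))

/-- The signs. -/
def signs1 : CentralTable.Signs where
  bit := bit1
  rel := fun a b => (nbr1.get a).any (Nat.beq b)
  par := spar1
  rank := srank1
  word := [false, false, false, false, true, true, false, true, false, false, false, false, true, true, true, false, true, false, false, false, true, false, true, true, true, true]

def bit20 : Janko.Tree (Bool) :=
  (.node (.node (.node (.node (.node (.leaf false) (.leaf true)) (.leaf true)) (.node (.leaf false) (.leaf false))) (.node (.node (.leaf false) (.leaf false)) (.node (.leaf false) (.leaf false)))) (.node (.node (.node (.node (.leaf false) (.leaf false)) (.leaf false)) (.node (.leaf false) (.leaf false))) (.node (.node (.leaf false) (.leaf false)) (.node (.leaf false) (.leaf false)))))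

def bit21 : Janko.Tree (Bool) :=
  (.node (.node (.node (.node (.node (.leaf false) (.leaf false)) (.leaf false)) (.node (.leaf false) (.leaf false))) (.node (.node (.leaf false) (.leaf false)) (.node (.leaf false) (.leaf false)))) (.node (.node (.node (.node (.leaf false) (.leaf true)) (.leaf false)) (.node (.leaf false) (.leaf false))) (.node (.node (.leaf false) (.leaf false)) (.node (.leaf false) (.leaf false)))))

def bit22 : Janko.Tree (Bool) :=
  (.node (.node (.node (.node (.node (.leaf false) (.leaf false)) (.leaf false)) (.node (.leaf false) (.leaf false))) (.node (.node (.leaf false) (.leaf true)) (.node (.leaf false) (.leaf false)))) (.node (.node (.node (.node (.leaf false) (.leaf true)) (.leaf true)) (.node (.leaf false) (.leaf false))) (.node (.node (.leaf false) (.leaf false)) (.node (.leaf false) (.leaf false)))))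

def bit23 : Janko.Tree (Bool) :=
  (.node (.node (.node (.node (.node (.leaf false) (.leaf false)) (.leaf false)) (.node (.leaf false) (.leaf false))) (.node (.node (.leaf false) (.leaf false)) (.node (.leaf false) (.leaf true)))) (.node (.node (.node (.node (.leaf false) (.leaf false)) (.leaf false)) (.node (.leaf false) (.leaf false))) (.node (.node (.leaf false) (.leaf false)) (.node (.leaf true) (.leaf false)))))

def bit24 : Janko.Tree (Bool) :=
  (.node (.node (.node (.node (.node (.leaf false) (.leaf false)) (.leaf true)) (.node (.leaf false) (.leaf false))) (.node (.node (.leaf false) (.leaf false)) (.node (.leaf false) (.leaf true)))) (.node (.node (.node (.node (.leaf false) (.leaf false)) (.leaf false)) (.node (.leaf false) (.leaf true))) (.node (.node (.leaf false) (.leaf false)) (.node (.leaf false) (.leaf false)))))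

def bit25 : Janko.Tree (Bool) :=
  (.node (.node (.node (.node (.node (.leaf false) (.leaf false)) (.leaf false)) (.node (.leaf false) (.leaf true))) (.node (.node (.leaf false) (.leaf false)) (.node (.leaf false) (.leaf true)))) (.node (.node (.node (.node (.leaf false) (.leaf true)) (.leaf false)) (.node (.leaf false) (.leaf false))) (.node (.node (.leaf false) (.leaf false)) (.node (.leaf true) (.leaf false)))))

def bit26 : Janko.Tree (Bool) :=
  (.node (.node (.node (.node (.node (.leaf false) (.leaf true)) (.leaf false)) (.node (.leaf false) (.leaf false))) (.node (.node (.leaf false) (.leaf false)) (.node (.leaf false) (.leaf false)))) (.node (.node (.node (.node (.leaf false) (.leaf false)) (.leaf false)) (.node (.leaf false) (.leaf false))) (.node (.node (.leaf false) (.leaf false)) (.node (.leaf true) (.leaf true)))))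

def bit27 : Janko.Tree (Bool) :=
  (.node (.node (.node (.node (.node (.leaf false) (.leaf true)) (.leaf false)) (.node (.leaf false) (.leaf false))) (.node (.node (.leaf false) (.leaf false)) (.node (.leaf false) (.leaf false)))) (.node (.node (.node (.node (.leaf false) (.leaf true)) (.leaf false)) (.node (.leaf false) (.leaf false))) (.node (.node (.leaf false) (.leaf false)) (.node (.leaf false) (.leaf false)))))

def bit28 : Janko.Tree (Bool) :=
  (.node (.node (.node (.node (.node (.leaf false) (.leaf false)) (.leaf true)) (.node (.leaf false) (.leaf false))) (.node (.node (.leaf false) (.leaf false)) (.node (.leaf false) (.leaf true)))) (.node (.node (.node (.node (.leaf false) (.leaf false)) (.leaf false)) (.node (.leaf false) (.leaf false))) (.node (.node (.leaf false) (.leaf false)) (.node (.leaf false) (.leaf false)))))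

def bit29 : Janko.Tree (Bool) :=
  (.node (.node (.node (.node (.node (.leaf false) (.leaf false)) (.leaf false)) (.node (.leaf false) (.leaf false))) (.node (.node (.leaf false) (.leaf true)) (.node (.leaf false) (.leaf true)))) (.node (.node (.node (.node (.leaf false) (.leaf false)) (.leaf false)) (.node (.leaf false) (.leaf true))) (.node (.node (.leaf false) (.leaf false)) (.node (.leaf false) (.leaf false)))))

def bit210 : Janko.Tree (Bool) :=
  (.node (.node (.node (.node (.node (.leaf false) (.leaf false)) (.leaf false)) (.node (.leaf false) (.leaf false))) (.node (.node (.leaf false) (.leaf false)) (.node (.leaf false) (.leaf false)))) (.node (.node (.node (.node (.leaf false) (.leaf false)) (.leaf false)) (.node (.leaf false) (.leaf false))) (.node (.node (.leaf false) (.leaf false)) (.node (.leaf false) (.leaf false)))))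

def bit211 : Janko.Tree (Bool) :=
  (.node (.node (.node (.node (.node (.leaf false) (.leaf true)) (.leaf false)) (.node (.leaf false) (.leaf false))) (.node (.node (.leaf false) (.leaf false)) (.node (.leaf false) (.leaf false)))) (.node (.node (.node (.node (.leaf false) (.leaf false)) (.leaf false)) (.node (.leaf true) (.leaf false))) (.node (.node (.leaf false) (.leaf false)) (.node (.leaf false) (.leaf false)))))

def bit212 : Janko.Tree (Bool) :=
  (.node (.node (.node (.node (.node (.leaf false) (.leaf true)) (.leaf false)) (.node (.leaf false) (.leaf true))) (.node (.node (.leaf false) (.leaf false)) (.node (.leaf false) (.leaf true)))) (.node (.node (.node (.node (.leaf false) (.leaf false)) (.leaf false)) (.node (.leaf false) (.leaf false))) (.node (.node (.leaf false) (.leaf true)) (.node (.leaf false) (.leaf false)))))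

def bit213 : Janko.Tree (Bool) :=
  (.node (.node (.node (.node (.node (.leaf false) (.leaf false)) (.leaf false)) (.node (.leaf false) (.leaf false))) (.node (.node (.leaf false) (.leaf true)) (.node (.leaf false) (.leaf false)))) (.node (.node (.node (.node (.leaf false) (.leaf false)) (.leaf false)) (.node (.leaf false) (.leaf true))) (.node (.node (.leaf false) (.leaf true)) (.node (.leaf true) (.leaf true)))))

def bit214 : Janko.Tree (Bool) :=
  (.node (.node (.node (.node (.node (.leaf false) (.leaf true)) (.leaf true)) (.node (.leaf false) (.leaf true))) (.node (.node (.leaf false) (.leaf false)) (.node (.leaf false) (.leaf false)))) (.node (.node (.node (.node (.leaf false) (.leaf false)) (.leaf false)) (.node (.leaf false) (.leaf false))) (.node (.node (.leaf false) (.leaf false)) (.node (.leaf true) (.leaf false)))))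

def bit215 : Janko.Tree (Bool) :=
  (.node (.node (.node (.node (.node (.leaf false) (.leaf false)) (.leaf false)) (.node (.leaf false) (.leaf false))) (.node (.node (.leaf false) (.leaf true)) (.node (.leaf false) (.leaf false)))) (.node (.node (.node (.node (.leaf false) (.leaf true)) (.leaf false)) (.node (.leaf false) (.leaf false))) (.node (.node (.leaf false) (.leaf false)) (.node (.leaf true) (.leaf true)))))

def bit216 : Janko.Tree (Bool) :=
  (.node (.node (.node (.node (.node (.leaf false) (.leaf true)) (.leaf false)) (.node (.leaf false) (.leaf true))) (.node (.node (.leaf false) (.leaf true)) (.node (.leaf false) (.leaf false)))) (.node (.node (.node (.node (.leaf false) (.leaf false)) (.leaf false)) (.node (.leaf true) (.leaf false))) (.node (.node (.leaf false) (.leaf false)) (.node (.leaf false) (.leaf false)))))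

def bit217 : Janko.Tree (Bool) :=
  (.node (.node (.node (.node (.node (.leaf false) (.leaf true)) (.leaf false)) (.node (.leaf false) (.leaf false))) (.node (.node (.leaf false) (.leaf false)) (.node (.leaf false) (.leaf true)))) (.node (.node (.node (.node (.leaf false) (.leaf false)) (.leaf false)) (.node (.leaf false) (.leaf true))) (.node (.node (.leaf false) (.leaf true)) (.node (.leaf false) (.leaf false)))))

def bit218 : Janko.Tree (Bool) :=
  (.node (.node (.node (.node (.node (.leaf false) (.leaf false)) (.leaf false)) (.node (.leaf false) (.leaf false))) (.node (.node (.leaf false) (.leaf false)) (.node (.leaf false) (.leaf true)))) (.node (.node (.node (.node (.leaf false) (.leaf true)) (.leaf false)) (.node (.leaf false) (.leaf false))) (.node (.node (.leaf false) (.leaf false)) (.node (.leaf false) (.leaf false)))))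

def bit219 : Janko.Tree (Bool) :=
  (.node (.node (.node (.node (.node (.leaf false) (.leaf false)) (.leaf true)) (.node (.leaf false) (.leaf false))) (.node (.node (.leaf false) (.leaf false)) (.node (.leaf false) (.leaf false)))) (.node (.node (.node (.node (.leaf false) (.leaf true)) (.leaf false)) (.node (.leaf false) (.leaf false))) (.node (.node (.leaf false) (.leaf false)) (.node (.leaf false) (.leaf true)))))

def bit220 : Janko.Tree (Bool) :=
  (.node (.node (.node (.node (.node (.leaf false) (.leaf false)) (.leaf false)) (.node (.leaf true) (.leaf false))) (.node (.node (.leaf false) (.leaf false)) (.node (.leaf false) (.leaf false)))) (.node (.node (.node (.node (.leaf false) (.leaf true)) (.leaf false)) (.node (.leaf false) (.leaf false))) (.node (.node (.leaf false) (.leaf false)) (.node (.leaf false) (.leaf false)))))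

def bit221 : Janko.Tree (Bool) :=
  (.node (.node (.node (.node (.node (.leaf false) (.leaf false)) (.leaf false)) (.node (.leaf false) (.leaf false))) (.node (.node (.leaf false) (.leaf false)) (.node (.leaf true) (.leaf false)))) (.node (.node (.node (.node (.leaf false) (.leaf true)) (.leaf true)) (.node (.leaf false) (.leaf false))) (.node (.node (.leaf true) (.leaf false)) (.node (.leaf false) (.leaf false)))))

def bit222 : Janko.Tree (Bool) :=
  (.node (.node (.node (.node (.node (.leaf false) (.leaf false)) (.leaf false)) (.node (.leaf false) (.leaf false))) (.node (.node (.leaf false) (.leaf false)) (.node (.leaf false) (.leaf true)))) (.node (.node (.node (.node (.leaf false) (.leaf true)) (.leaf false)) (.node (.leaf false) (.leaf false))) (.node (.node (.leaf false) (.leaf false)) (.node (.leaf false) (.leaf false)))))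

def bit223 : Janko.Tree (Bool) :=
  (.node (.node (.node (.node (.node (.leaf false) (.leaf false)) (.leaf false)) (.node (.leaf false) (.leaf false))) (.node (.node (.leaf false) (.leaf false)) (.node (.leaf false) (.leaf false)))) (.node (.node (.node (.node (.leaf false) (.leaf true)) (.leaf false)) (.node (.leaf false) (.leaf false))) (.node (.node (.leaf false) (.leaf false)) (.node (.leaf false) (.leaf false)))))

def bit224 : Janko.Tree (Bool) :=
  (.node (.node (.node (.node (.node (.leaf false) (.leaf false)) (.leaf false)) (.node (.leaf false) (.leaf false))) (.node (.node (.leaf false) (.leaf false)) (.node (.leaf false) (.leaf false)))) (.node (.node (.node (.node (.leaf false) (.leaf true)) (.leaf false)) (.node (.leaf false) (.leaf false))) (.node (.node (.leaf false) (.leaf false)) (.node (.leaf false) (.leaf false)))))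

def bit225 : Janko.Tree (Bool) :=
  (.node (.node (.node (.node (.node (.leaf false) (.leaf false)) (.leaf false)) (.node (.leaf false) (.leaf false))) (.node (.node (.leaf false) (.leaf true)) (.node (.leaf false) (.leaf false)))) (.node (.node (.node (.node (.leaf false) (.leaf true)) (.leaf false)) (.node (.leaf false) (.leaf false))) (.node (.node (.leaf false) (.leaf false)) (.node (.leaf false) (.leaf false)))))

def bit226 : Janko.Tree (Bool) :=
  (.node (.node (.node (.node (.node (.leaf false) (.leaf false)) (.leaf false)) (.node (.leaf false) (.leaf true))) (.node (.node (.leaf false) (.leaf false)) (.node (.leaf false) (.leaf true)))) (.node (.node (.node (.node (.leaf false) (.leaf true)) (.leaf false)) (.node (.leaf false) (.leaf false))) (.node (.node (.leaf false) (.leaf false)) (.node (.leaf false) (.leaf false)))))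

def bit227 : Janko.Tree (Bool) :=
  (.node (.node (.node (.node (.node (.leaf false) (.leaf true)) (.leaf false)) (.node (.leaf false) (.leaf false))) (.node (.node (.leaf false) (.leaf true)) (.node (.leaf false) (.leaf false)))) (.node (.node (.node (.node (.leaf false) (.leaf true)) (.leaf false)) (.node (.leaf false) (.leaf false))) (.node (.node (.leaf false) (.leaf false)) (.node (.leaf false) (.leaf false)))))

def bit228 : Janko.Tree (Bool) :=
  (.node (.node (.node (.node (.node (.leaf false) (.leaf false)) (.leaf false)) (.node (.leaf false) (.leaf true))) (.node (.node (.leaf true) (.leaf false)) (.node (.leaf false) (.leaf false)))) (.node (.node (.node (.node (.leaf false) (.leaf true)) (.leaf false)) (.node (.leaf false) (.leaf false))) (.node (.node (.leaf false) (.leaf false)) (.node (.leaf false) (.leaf false)))))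

def bit229 : Janko.Tree (Bool) :=
  (.node (.node (.node (.node (.node (.leaf false) (.leaf true)) (.leaf false)) (.node (.leaf false) (.leaf false))) (.node (.node (.leaf false) (.leaf true)) (.node (.leaf false) (.leaf false)))) (.node (.node (.node (.node (.leaf false) (.leaf false)) (.leaf false)) (.node (.leaf false) (.leaf true))) (.node (.node (.leaf false) (.leaf true)) (.node (.leaf true) (.leaf false)))))

def bit230 : Janko.Tree (Bool) :=
  (.node (.node (.node (.node (.node (.leaf false) (.leaf false)) (.leaf false)) (.node (.leaf false) (.leaf false))) (.node (.node (.leaf false) (.leaf false)) (.node (.leaf false) (.leaf false)))) (.node (.node (.node (.node (.leaf false) (.leaf false)) (.leaf false)) (.node (.leaf false) (.leaf true))) (.node (.node (.leaf false) (.leaf false)) (.node (.leaf true) (.leaf false)))))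

def bit231 : Janko.Tree (Bool) :=
  (.node (.node (.node (.node (.node (.leaf false) (.leaf false)) (.leaf false)) (.node (.leaf false) (.leaf false))) (.node (.node (.leaf false) (.leaf false)) (.node (.leaf true) (.leaf false)))) (.node (.node (.node (.node (.leaf false) (.leaf true)) (.leaf false)) (.node (.leaf false) (.leaf false))) (.node (.node (.leaf false) (.leaf false)) (.node (.leaf true) (.leaf false)))))

def bit232 : Janko.Tree (Bool) :=
  (.node (.node (.node (.node (.node (.leaf false) (.leaf false)) (.leaf false)) (.node (.leaf false) (.leaf false))) (.node (.node (.leaf false) (.leaf false)) (.node (.leaf false) (.leaf false)))) (.node (.node (.node (.node (.leaf false) (.leaf true)) (.leaf true)) (.node (.leaf false) (.leaf false))) (.node (.node (.leaf false) (.leaf false)) (.node (.leaf false) (.leaf false)))))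

def bit233 : Janko.Tree (Bool) :=
  (.node (.node (.node (.node (.node (.leaf false) (.leaf true)) (.leaf false)) (.node (.leaf false) (.leaf false))) (.node (.node (.leaf false) (.leaf false)) (.node (.leaf false) (.leaf true)))) (.node (.node (.node (.node (.leaf false) (.leaf false)) (.leaf false)) (.node (.leaf false) (.leaf false))) (.node (.node (.leaf false) (.leaf true)) (.node (.leaf false) (.leaf false)))))

def bit234 : Janko.Tree (Bool) :=
  (.node (.node (.node (.node (.node (.leaf false) (.leaf false)) (.leaf false)) (.node (.leaf false) (.leaf false))) (.node (.node (.leaf false) (.leaf false)) (.node (.leaf false) (.leaf false)))) (.node (.node (.node (.node (.leaf false) (.leaf true)) (.leaf false)) (.node (.leaf false) (.leaf false))) (.node (.node (.leaf false) (.leaf false)) (.node (.leaf false) (.leaf true)))))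

def bit235 : Janko.Tree (Bool) :=
  (.node (.node (.node (.node (.node (.leaf false) (.leaf false)) (.leaf false)) (.node (.leaf false) (.leaf false))) (.node (.node (.leaf false) (.leaf false)) (.node (.leaf false) (.leaf true)))) (.node (.node (.node (.node (.leaf false) (.leaf false)) (.leaf false)) (.node (.leaf false) (.leaf false))) (.node (.node (.leaf false) (.leaf true)) (.node (.leaf true) (.leaf false)))))

def bit236 : Janko.Tree (Bool) :=
  (.node (.node (.node (.node (.node (.leaf false) (.leaf true)) (.leaf false)) (.node (.leaf true) (.leaf false))) (.node (.node (.leaf false) (.leaf false)) (.node (.leaf false) (.leaf false)))) (.node (.node (.node (.node (.leaf false) (.leaf false)) (.leaf false)) (.node (.leaf false) (.leaf false))) (.node (.node (.leaf false) (.leaf true)) (.node (.leaf false) (.leaf false)))))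

def bit237 : Janko.Tree (Bool) :=
  (.node (.node (.node (.node (.node (.leaf false) (.leaf false)) (.leaf false)) (.node (.leaf false) (.leaf false))) (.node (.node (.leaf false) (.leaf false)) (.node (.leaf false) (.leaf false)))) (.node (.node (.node (.node (.leaf false) (.leaf false)) (.leaf false)) (.node (.leaf false) (.leaf false))) (.node (.node (.leaf false) (.leaf false)) (.node (.leaf false) (.leaf true)))))

def bit238 : Janko.Tree (Bool) :=
  (.node (.node (.node (.node (.node (.leaf false) (.leaf true)) (.leaf false)) (.node (.leaf true) (.leaf false))) (.node (.node (.leaf false) (.leaf false)) (.node (.leaf false) (.leaf false)))) (.node (.node (.node (.node (.leaf false) (.leaf false)) (.leaf false)) (.node (.leaf false) (.leaf false))) (.node (.node (.leaf false) (.leaf false)) (.node (.leaf false) (.leaf true)))))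

def bit239 : Janko.Tree (Bool) :=
  (.node (.node (.node (.node (.node (.leaf false) (.leaf false)) (.leaf false)) (.node (.leaf false) (.leaf false))) (.node (.node (.leaf false) (.leaf false)) (.node (.leaf false) (.leaf false)))) (.node (.node (.node (.node (.leaf false) (.leaf false)) (.leaf false)) (.node (.leaf false) (.leaf false))) (.node (.node (.leaf false) (.leaf true)) (.node (.leaf false) (.leaf false)))))

def bit240 : Janko.Tree (Bool) :=
  (.node (.node (.node (.node (.node (.leaf false) (.leaf false)) (.leaf true)) (.node (.leaf false) (.leaf false))) (.node (.node (.leaf false) (.leaf false)) (.node (.leaf false) (.leaf false)))) (.node (.node (.node (.node (.leaf false) (.leaf false)) (.leaf true)) (.node (.leaf false) (.leaf true))) (.node (.node (.leaf true) (.leaf false)) (.node (.leaf false) (.leaf false)))))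

def bit241 : Janko.Tree (Bool) :=
  (.node (.node (.node (.node (.node (.leaf false) (.leaf false)) (.leaf false)) (.node (.leaf false) (.leaf false))) (.node (.node (.leaf false) (.leaf false)) (.node (.leaf false) (.leaf true)))) (.node (.node (.node (.node (.leaf false) (.leaf true)) (.leaf false)) (.node (.leaf false) (.leaf true))) (.node (.node (.leaf false) (.leaf false)) (.node (.leaf false) (.leaf false)))))

def bit242 : Janko.Tree (Bool) :=
  (.node (.node (.node (.node (.node (.leaf false) (.leaf false)) (.leaf false)) (.node (.leaf false) (.leaf false))) (.node (.node (.leaf false) (.leaf false)) (.node (.leaf false) (.leaf false)))) (.node (.node (.node (.node (.leaf false) (.leaf false)) (.leaf false)) (.node (.leaf true) (.leaf false))) (.node (.node (.leaf false) (.leaf false)) (.node (.leaf false) (.leaf true)))))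

def bit243 : Janko.Tree (Bool) :=
  (.node (.node (.node (.node (.node (.leaf false) (.leaf false)) (.leaf false)) (.node (.leaf false) (.leaf false))) (.node (.node (.leaf false) (.leaf false)) (.node (.leaf false) (.leaf true)))) (.node (.node (.node (.node (.leaf false) (.leaf true)) (.leaf false)) (.node (.leaf true) (.leaf false))) (.node (.node (.leaf false) (.leaf false)) (.node (.leaf false) (.leaf true)))))

def bit244 : Janko.Tree (Bool) :=
  (.node (.node (.node (.node (.node (.leaf false) (.leaf false)) (.leaf false)) (.node (.leaf false) (.leaf false))) (.node (.node (.leaf false) (.leaf false)) (.node (.leaf false) (.leaf true)))) (.node (.node (.node (.node (.leaf false) (.leaf false)) (.leaf false)) (.node (.leaf true) (.leaf false))) (.node (.node (.leaf false) (.leaf true)) (.node (.leaf false) (.leaf false)))))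

def bit245 : Janko.Tree (Bool) :=
  (.node (.node (.node (.node (.node (.leaf false) (.leaf true)) (.leaf false)) (.node (.leaf false) (.leaf false))) (.node (.node (.leaf false) (.leaf false)) (.node (.leaf false) (.leaf false)))) (.node (.node (.node (.node (.leaf false) (.leaf true)) (.leaf false)) (.node (.leaf false) (.leaf false))) (.node (.node (.leaf false) (.leaf false)) (.node (.leaf false) (.leaf true)))))

def bit246 : Janko.Tree (Bool) :=
  (.node (.node (.node (.node (.node (.leaf false) (.leaf true)) (.leaf false)) (.node (.leaf false) (.leaf true))) (.node (.node (.leaf false) (.leaf false)) (.node (.leaf false) (.leaf true)))) (.node (.node (.node (.node (.leaf false) (.leaf true)) (.leaf false)) (.node (.leaf false) (.leaf false))) (.node (.node (.leaf true) (.leaf false)) (.node (.leaf false) (.leaf true)))))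

def bit247 : Janko.Tree (Bool) :=
  (.node (.node (.node (.node (.node (.leaf false) (.leaf false)) (.leaf false)) (.node (.leaf false) (.leaf false))) (.node (.node (.leaf false) (.leaf true)) (.node (.leaf false) (.leaf true)))) (.node (.node (.node (.node (.leaf false) (.leaf false)) (.leaf false)) (.node (.leaf false) (.leaf true))) (.node (.node (.leaf false) (.leaf false)) (.node (.leaf false) (.leaf false)))))

def bit248 : Janko.Tree (Bool) :=
  (.node (.node (.node (.node (.node (.leaf false) (.leaf true)) (.leaf false)) (.node (.leaf false) (.leaf false))) (.node (.node (.leaf false) (.leaf true)) (.node (.leaf true) (.leaf false)))) (.node (.node (.node (.node (.leaf false) (.leaf true)) (.leaf false)) (.node (.leaf false) (.leaf false))) (.node (.node (.leaf false) (.leaf false)) (.node (.leaf true) (.leaf false)))))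

def bit249 : Janko.Tree (Bool) :=
  (.node (.node (.node (.node (.node (.leaf false) (.leaf false)) (.leaf false)) (.node (.leaf false) (.leaf true))) (.node (.node (.leaf false) (.leaf false)) (.node (.leaf false) (.leaf false)))) (.node (.node (.node (.node (.leaf false) (.leaf false)) (.leaf false)) (.node (.leaf false) (.leaf true))) (.node (.node (.leaf false) (.leaf false)) (.node (.leaf false) (.leaf true)))))

def bit250 : Janko.Tree (Bool) :=
  (.node (.node (.node (.node (.node (.leaf false) (.leaf true)) (.leaf true)) (.node (.leaf false) (.leaf true))) (.node (.node (.leaf false) (.leaf false)) (.node (.leaf false) (.leaf false)))) (.node (.node (.node (.node (.leaf false) (.leaf true)) (.leaf false)) (.node (.leaf true) (.leaf false))) (.node (.node (.leaf false) (.leaf false)) (.node (.leaf false) (.leaf true)))))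

def bit251 : Janko.Tree (Bool) :=
  (.node (.node (.node (.node (.node (.leaf false) (.leaf true)) (.leaf false)) (.node (.leaf false) (.leaf false))) (.node (.node (.leaf false) (.leaf false)) (.node (.leaf false) (.leaf true)))) (.node (.node (.node (.node (.leaf false) (.leaf false)) (.leaf false)) (.node (.leaf true) (.leaf true))) (.node (.node (.leaf false) (.leaf false)) (.node (.leaf false) (.leaf false)))))

def bit252 : Janko.Tree (Bool) :=
  (.node (.node (.node (.node (.node (.leaf false) (.leaf true)) (.leaf false)) (.node (.leaf false) (.leaf false))) (.node (.node (.leaf false) (.leaf false)) (.node (.leaf false) (.leaf true)))) (.node (.node (.node (.node (.leaf false) (.leaf false)) (.leaf false)) (.node (.leaf false) (.leaf false))) (.node (.node (.leaf false) (.leaf false)) (.node (.leaf false) (.leaf false)))))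

def bit253 : Janko.Tree (Bool) :=
  (.node (.node (.node (.node (.node (.leaf false) (.leaf false)) (.leaf false)) (.node (.leaf false) (.leaf true))) (.node (.node (.leaf false) (.leaf false)) (.node (.leaf false) (.leaf false)))) (.node (.node (.node (.node (.leaf false) (.leaf true)) (.leaf false)) (.node (.leaf false) (.leaf false))) (.node (.node (.leaf false) (.leaf true)) (.node (.leaf false) (.leaf false)))))

def bit254 : Janko.Tree (Bool) :=
  (.node (.node (.node (.node (.node (.leaf false) (.leaf true)) (.leaf true)) (.node (.leaf false) (.leaf false))) (.node (.node (.leaf false) (.leaf false)) (.node (.leaf false) (.leaf false)))) (.node (.node (.node (.node (.leaf false) (.leaf false)) (.leaf true)) (.node (.leaf false) (.leaf false))) (.node (.node (.leaf false) (.leaf false)) (.node (.leaf false) (.leaf false)))))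

def bit255 : Janko.Tree (Bool) :=
  (.node (.node (.node (.node (.node (.leaf false) (.leaf true)) (.leaf false)) (.node (.leaf false) (.leaf false))) (.node (.node (.leaf false) (.leaf true)) (.node (.leaf false) (.leaf true)))) (.node (.node (.node (.node (.leaf false) (.leaf true)) (.leaf false)) (.node (.leaf false) (.leaf false))) (.node (.node (.leaf false) (.leaf false)) (.node (.leaf true) (.leaf false)))))

def bit256 : Janko.Tree (Bool) :=
  (.node (.node (.node (.node (.node (.leaf false) (.leaf false)) (.leaf false)) (.node (.leaf false) (.leaf false))) (.node (.node (.leaf false) (.leaf false)) (.node (.leaf false) (.leaf true)))) (.node (.node (.node (.node (.leaf false) (.leaf true)) (.leaf true)) (.node (.leaf false) (.leaf true))) (.node (.node (.leaf false) (.leaf true)) (.node (.leaf false) (.leaf false)))))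

def bit257 : Janko.Tree (Bool) :=
  (.node (.node (.node (.node (.node (.leaf false) (.leaf false)) (.leaf false)) (.node (.leaf false) (.leaf false))) (.node (.node (.leaf false) (.leaf false)) (.node (.leaf false) (.leaf true)))) (.node (.node (.node (.node (.leaf false) (.leaf false)) (.leaf false)) (.node (.leaf false) (.leaf false))) (.node (.node (.leaf false) (.leaf false)) (.node (.leaf false) (.leaf true)))))

def bit258 : Janko.Tree (Bool) :=
  (.node (.node (.node (.node (.node (.leaf false) (.leaf true)) (.leaf false)) (.node (.leaf false) (.leaf true))) (.node (.node (.leaf false) (.leaf false)) (.node (.leaf false) (.leaf false)))) (.node (.node (.node (.node (.leaf false) (.leaf true)) (.leaf false)) (.node (.leaf false) (.leaf false))) (.node (.node (.leaf false) (.leaf false)) (.node (.leaf false) (.leaf false)))))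

def bit259 : Janko.Tree (Bool) :=
  (.node (.node (.node (.node (.node (.leaf false) (.leaf true)) (.leaf false)) (.node (.leaf false) (.leaf true))) (.node (.node (.leaf false) (.leaf false)) (.node (.leaf false) (.leaf true)))) (.node (.node (.node (.node (.leaf false) (.leaf true)) (.leaf true)) (.node (.leaf false) (.leaf false))) (.node (.node (.leaf false) (.leaf false)) (.node (.leaf false) (.leaf false)))))

def bit260 : Janko.Tree (Bool) :=
  (.node (.node (.node (.node (.node (.leaf false) (.leaf true)) (.leaf true)) (.node (.leaf false) (.leaf false))) (.node (.node (.leaf false) (.leaf false)) (.node (.leaf true) (.leaf false)))) (.node (.node (.node (.node (.leaf false) (.leaf false)) (.leaf true)) (.node (.leaf false) (.leaf true))) (.node (.node (.leaf false) (.leaf false)) (.node (.leaf false) (.leaf true)))))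

def bit261 : Janko.Tree (Bool) :=
  (.node (.node (.node (.node (.node (.leaf false) (.leaf false)) (.leaf false)) (.node (.leaf false) (.leaf false))) (.node (.node (.leaf false) (.leaf false)) (.node (.leaf false) (.leaf false)))) (.node (.node (.node (.node (.leaf false) (.leaf false)) (.leaf false)) (.node (.leaf false) (.leaf false))) (.node (.node (.leaf false) (.leaf true)) (.node (.leaf false) (.leaf false)))))

def bit262 : Janko.Tree (Bool) :=
  (.node (.node (.node (.node (.node (.leaf false) (.leaf false)) (.leaf false)) (.node (.leaf false) (.leaf false))) (.node (.node (.leaf false) (.leaf false)) (.node (.leaf false) (.leaf false)))) (.node (.node (.node (.node (.leaf false) (.leaf false)) (.leaf false)) (.node (.leaf false) (.leaf false))) (.node (.node (.leaf true) (.leaf true)) (.node (.leaf false) (.leaf false)))))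

def bit263 : Janko.Tree (Bool) :=
  (.node (.node (.node (.node (.node (.leaf false) (.leaf true)) (.leaf true)) (.node (.leaf false) (.leaf false))) (.node (.node (.leaf false) (.leaf true)) (.node (.leaf false) (.leaf false)))) (.node (.node (.node (.node (.leaf false) (.leaf false)) (.leaf false)) (.node (.leaf true) (.leaf true))) (.node (.node (.leaf false) (.leaf false)) (.node (.leaf false) (.leaf false)))))

def bit264 : Janko.Tree (Bool) :=
  (.node (.node (.node (.node (.node (.leaf false) (.leaf false)) (.leaf false)) (.node (.leaf false) (.leaf false))) (.node (.node (.leaf false) (.leaf false)) (.node (.leaf false) (.leaf false)))) (.node (.node (.node (.node (.leaf false) (.leaf false)) (.leaf false)) (.node (.leaf false) (.leaf false))) (.node (.node (.leaf false) (.leaf false)) (.node (.leaf false) (.leaf false)))))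

def bit265 : Janko.Tree (Bool) :=
  (.node (.node (.node (.node (.node (.leaf false) (.leaf true)) (.leaf false)) (.node (.leaf false) (.leaf false))) (.node (.node (.leaf false) (.leaf false)) (.node (.leaf false) (.leaf false)))) (.node (.node (.node (.node (.leaf false) (.leaf false)) (.leaf false)) (.node (.leaf false) (.leaf false))) (.node (.node (.leaf false) (.leaf false)) (.node (.leaf false) (.leaf false)))))

def bit266 : Janko.Tree (Bool) :=
  (.node (.node (.node (.node (.node (.leaf false) (.leaf false)) (.leaf true)) (.node (.leaf false) (.leaf true))) (.node (.node (.leaf false) (.leaf false)) (.node (.leaf false) (.leaf true)))) (.node (.node (.node (.node (.leaf false) (.leaf true)) (.leaf false)) (.node (.leaf false) (.leaf false))) (.node (.node (.leaf false) (.leaf false)) (.node (.leaf false) (.leaf false)))))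

def bit267 : Janko.Tree (Bool) :=
  (.node (.node (.node (.node (.node (.leaf false) (.leaf false)) (.leaf false)) (.node (.leaf false) (.leaf false))) (.node (.node (.leaf false) (.leaf false)) (.node (.leaf false) (.leaf false)))) (.node (.node (.node (.node (.leaf false) (.leaf false)) (.leaf false)) (.node (.leaf false) (.leaf true))) (.node (.node (.leaf false) (.leaf false)) (.node (.leaf false) (.leaf false)))))

def bit268 : Janko.Tree (Bool) :=
  (.node (.node (.node (.node (.node (.leaf false) (.leaf true)) (.leaf false)) (.node (.leaf false) (.leaf true))) (.node (.node (.leaf false) (.leaf false)) (.node (.leaf false) (.leaf false)))) (.node (.node (.node (.node (.leaf false) (.leaf false)) (.leaf false)) (.node (.leaf false) (.leaf false))) (.node (.node (.leaf false) (.leaf true)) (.node (.leaf false) (.leaf false)))))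

def bit269 : Janko.Tree (Bool) :=
  (.node (.node (.node (.node (.node (.leaf false) (.leaf false)) (.leaf false)) (.node (.leaf false) (.leaf false))) (.node (.node (.leaf false) (.leaf false)) (.node (.leaf false) (.leaf false)))) (.node (.node (.node (.node (.leaf false) (.leaf false)) (.leaf false)) (.node (.leaf false) (.leaf false))) (.node (.node (.leaf false) (.leaf false)) (.node (.leaf false) (.leaf true)))))

def bit270 : Janko.Tree (Bool) :=
  (.node (.node (.node (.node (.node (.leaf false) (.leaf false)) (.leaf false)) (.node (.leaf false) (.leaf false))) (.node (.node (.leaf false) (.leaf false)) (.node (.leaf false) (.leaf false)))) (.node (.node (.node (.node (.leaf false) (.leaf true)) (.leaf false)) (.node (.leaf false) (.leaf false))) (.node (.node (.leaf false) (.leaf false)) (.node (.leaf false) (.leaf false)))))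

def bit271 : Janko.Tree (Bool) :=
  (.node (.node (.node (.node (.node (.leaf false) (.leaf true)) (.leaf true)) (.node (.leaf false) (.leaf false))) (.node (.node (.leaf false) (.leaf true)) (.node (.leaf false) (.leaf false)))) (.node (.node (.node (.node (.leaf false) (.leaf false)) (.leaf false)) (.node (.leaf false) (.leaf false))) (.node (.node (.leaf false) (.leaf false)) (.node (.leaf true) (.leaf false)))))

def bit272 : Janko.Tree (Bool) :=
  (.node (.node (.node (.node (.node (.leaf false) (.leaf false)) (.leaf false)) (.node (.leaf false) (.leaf false))) (.node (.node (.leaf false) (.leaf false)) (.node (.leaf false) (.leaf false)))) (.node (.node (.node (.node (.leaf false) (.leaf true)) (.leaf false)) (.node (.leaf true) (.leaf true))) (.node (.node (.leaf false) (.leaf false)) (.node (.leaf false) (.leaf false)))))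

def bit273 : Janko.Tree (Bool) :=
  (.node (.node (.node (.node (.node (.leaf false) (.leaf false)) (.leaf false)) (.node (.leaf false) (.leaf true))) (.node (.node (.leaf false) (.leaf false)) (.node (.leaf false) (.leaf false)))) (.node (.node (.node (.node (.leaf false) (.leaf false)) (.leaf false)) (.node (.leaf false) (.leaf false))) (.node (.node (.leaf false) (.leaf true)) (.node (.leaf false) (.leaf true)))))

def bit274 : Janko.Tree (Bool) :=
  (.node (.node (.node (.node (.node (.leaf false) (.leaf false)) (.leaf false)) (.node (.leaf false) (.leaf true))) (.node (.node (.leaf false) (.leaf false)) (.node (.leaf false) (.leaf false)))) (.node (.node (.node (.node (.leaf false) (.leaf false)) (.leaf false)) (.node (.leaf false) (.leaf false))) (.node (.node (.leaf false) (.leaf false)) (.node (.leaf false) (.leaf false)))))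

def bit275 : Janko.Tree (Bool) :=
  (.node (.node (.node (.node (.node (.leaf false) (.leaf false)) (.leaf false)) (.node (.leaf false) (.leaf true))) (.node (.node (.leaf false) (.leaf false)) (.node (.leaf true) (.leaf true)))) (.node (.node (.node (.node (.leaf false) (.leaf true)) (.leaf false)) (.node (.leaf false) (.leaf false))) (.node (.node (.leaf false) (.leaf false)) (.node (.leaf true) (.leaf true)))))

def bit276 : Janko.Tree (Bool) :=
  (.node (.node (.node (.node (.node (.leaf false) (.leaf true)) (.leaf false)) (.node (.leaf false) (.leaf false))) (.node (.node (.leaf false) (.leaf false)) (.node (.leaf false) (.leaf false)))) (.node (.node (.node (.node (.leaf false) (.leaf true)) (.leaf true)) (.node (.leaf false) (.leaf true))) (.node (.node (.leaf false) (.leaf false)) (.node (.leaf false) (.leaf false)))))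

def bit277 : Janko.Tree (Bool) :=
  (.node (.node (.node (.node (.node (.leaf false) (.leaf true)) (.leaf false)) (.node (.leaf false) (.leaf true))) (.node (.node (.leaf false) (.leaf false)) (.node (.leaf false) (.leaf false)))) (.node (.node (.node (.node (.leaf false) (.leaf true)) (.leaf false)) (.node (.leaf false) (.leaf false))) (.node (.node (.leaf false) (.leaf false)) (.node (.leaf false) (.leaf false)))))

def bit278 : Janko.Tree (Bool) :=
  (.node (.node (.node (.node (.node (.leaf false) (.leaf true)) (.leaf true)) (.node (.leaf false) (.leaf false))) (.node (.node (.leaf false) (.leaf false)) (.node (.leaf false) (.leaf false)))) (.node (.node (.node (.node (.leaf false) (.leaf false)) (.leaf true)) (.node (.leaf false) (.leaf false))) (.node (.node (.leaf false) (.leaf false)) (.node (.leaf false) (.leaf false)))))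

def bit279 : Janko.Tree (Bool) :=
  (.node (.node (.node (.node (.node (.leaf false) (.leaf true)) (.leaf false)) (.node (.leaf false) (.leaf false))) (.node (.node (.leaf false) (.leaf true)) (.node (.leaf false) (.leaf true)))) (.node (.node (.node (.node (.leaf false) (.leaf true)) (.leaf false)) (.node (.leaf false) (.leaf true))) (.node (.node (.leaf false) (.leaf false)) (.node (.leaf false) (.leaf true)))))

def bit280 : Janko.Tree (Bool) :=
  (.node (.node (.node (.node (.node (.leaf false) (.leaf true)) (.leaf true)) (.node (.leaf false) (.leaf false))) (.node (.node (.leaf false) (.leaf false)) (.node (.leaf false) (.leaf false)))) (.node (.node (.node (.node (.leaf false) (.leaf false)) (.leaf false)) (.node (.leaf false) (.leaf true))) (.node (.node (.leaf false) (.leaf false)) (.node (.leaf false) (.leaf true)))))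

def bit281 : Janko.Tree (Bool) :=
  (.node (.node (.node (.node (.node (.leaf false) (.leaf false)) (.leaf false)) (.node (.leaf false) (.leaf false))) (.node (.node (.leaf false) (.leaf false)) (.node (.leaf false) (.leaf false)))) (.node (.node (.node (.node (.leaf false) (.leaf false)) (.leaf false)) (.node (.leaf false) (.leaf false))) (.node (.node (.leaf false) (.leaf false)) (.node (.leaf false) (.leaf false)))))

def bit282 : Janko.Tree (Bool) :=
  (.node (.node (.node (.node (.node (.leaf false) (.leaf true)) (.leaf false)) (.node (.leaf false) (.leaf false))) (.node (.node (.leaf false) (.leaf false)) (.node (.leaf true) (.leaf false)))) (.node (.node (.node (.node (.leaf false) (.leaf true)) (.leaf false)) (.node (.leaf false) (.leaf false))) (.node (.node (.leaf false) (.leaf true)) (.node (.leaf false) (.leaf true)))))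

def bit283 : Janko.Tree (Bool) :=
  (.node (.node (.node (.node (.node (.leaf false) (.leaf true)) (.leaf false)) (.node (.leaf false) (.leaf true))) (.node (.node (.leaf false) (.leaf false)) (.node (.leaf false) (.leaf true)))) (.node (.node (.node (.node (.leaf false) (.leaf true)) (.leaf false)) (.node (.leaf true) (.leaf false))) (.node (.node (.leaf false) (.leaf false)) (.node (.leaf true) (.leaf true)))))

def bit284 : Janko.Tree (Bool) :=
  (.node (.node (.node (.node (.node (.leaf false) (.leaf false)) (.leaf false)) (.node (.leaf true) (.leaf true))) (.node (.node (.leaf false) (.leaf false)) (.node (.leaf false) (.leaf false)))) (.node (.node (.node (.node (.leaf false) (.leaf true)) (.leaf false)) (.node (.leaf false) (.leaf false))) (.node (.node (.leaf false) (.leaf false)) (.node (.leaf false) (.leaf true)))))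

def bit285 : Janko.Tree (Bool) :=
  (.node (.node (.node (.node (.node (.leaf false) (.leaf true)) (.leaf false)) (.node (.leaf false) (.leaf false))) (.node (.node (.leaf false) (.leaf false)) (.node (.leaf false) (.leaf false)))) (.node (.node (.node (.node (.leaf false) (.leaf false)) (.leaf false)) (.node (.leaf false) (.leaf false))) (.node (.node (.leaf true) (.leaf false)) (.node (.leaf false) (.leaf true)))))

def bit286 : Janko.Tree (Bool) :=
  (.node (.node (.node (.node (.node (.leaf false) (.leaf true)) (.leaf true)) (.node (.leaf false) (.leaf true))) (.node (.node (.leaf false) (.leaf false)) (.node (.leaf false) (.leaf false)))) (.node (.node (.node (.node (.leaf false) (.leaf true)) (.leaf false)) (.node (.leaf false) (.leaf false))) (.node (.node (.leaf false) (.leaf false)) (.node (.leaf false) (.leaf true)))))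

def bit287 : Janko.Tree (Bool) :=
  (.node (.node (.node (.node (.node (.leaf false) (.leaf false)) (.leaf false)) (.node (.leaf false) (.leaf true))) (.node (.node (.leaf false) (.leaf false)) (.node (.leaf false) (.leaf true)))) (.node (.node (.node (.node (.leaf false) (.leaf true)) (.leaf false)) (.node (.leaf false) (.leaf false))) (.node (.node (.leaf false) (.leaf true)) (.node (.leaf false) (.leaf false)))))

def bit288 : Janko.Tree (Bool) :=
  (.node (.node (.node (.node (.node (.leaf false) (.leaf true)) (.leaf true)) (.node (.leaf false) (.leaf true))) (.node (.node (.leaf false) (.leaf false)) (.node (.leaf false) (.leaf false)))) (.node (.node (.node (.node (.leaf false) (.leaf false)) (.leaf false)) (.node (.leaf false) (.leaf false))) (.node (.node (.leaf false) (.leaf false)) (.node (.leaf false) (.leaf false)))))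

def bit289 : Janko.Tree (Bool) :=
  (.node (.node (.node (.node (.node (.leaf false) (.leaf true)) (.leaf false)) (.node (.leaf false) (.leaf false))) (.node (.node (.leaf false) (.leaf false)) (.node (.leaf false) (.leaf false)))) (.node (.node (.node (.node (.leaf false) (.leaf true)) (.leaf false)) (.node (.leaf false) (.leaf false))) (.node (.node (.leaf false) (.leaf false)) (.node (.leaf true) (.leaf true)))))

def bit290 : Janko.Tree (Bool) :=
  (.node (.node (.node (.node (.node (.leaf false) (.leaf false)) (.leaf false)) (.node (.leaf false) (.leaf false))) (.node (.node (.leaf false) (.leaf false)) (.node (.leaf true) (.leaf false)))) (.node (.node (.node (.node (.leaf false) (.leaf true)) (.leaf false)) (.node (.leaf false) (.leaf true))) (.node (.node (.leaf false) (.leaf false)) (.node (.leaf true) (.leaf false)))))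

def bit291 : Janko.Tree (Bool) :=
  (.node (.node (.node (.node (.node (.leaf false) (.leaf false)) (.leaf false)) (.node (.leaf true) (.leaf false))) (.node (.node (.leaf false) (.leaf false)) (.node (.leaf false) (.leaf true)))) (.node (.node (.node (.node (.leaf false) (.leaf false)) (.leaf false)) (.node (.leaf true) (.leaf false))) (.node (.node (.leaf false) (.leaf false)) (.node (.leaf false) (.leaf false)))))

def bit292 : Janko.Tree (Bool) :=
  (.node (.node (.node (.node (.node (.leaf false) (.leaf false)) (.leaf false)) (.node (.leaf false) (.leaf false))) (.node (.node (.leaf false) (.leaf false)) (.node (.leaf false) (.leaf false)))) (.node (.node (.node (.node (.leaf false) (.leaf true)) (.leaf true)) (.node (.leaf false) (.leaf false))) (.node (.node (.leaf false) (.leaf false)) (.node (.leaf false) (.leaf true)))))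

def bit293 : Janko.Tree (Bool) :=
  (.node (.node (.node (.node (.node (.leaf false) (.leaf true)) (.leaf false)) (.node (.leaf false) (.leaf false))) (.node (.node (.leaf false) (.leaf true)) (.node (.leaf false) (.leaf false)))) (.node (.node (.node (.node (.leaf false) (.leaf false)) (.leaf false)) (.node (.leaf false) (.leaf true))) (.node (.node (.leaf true) (.leaf false)) (.node (.leaf false) (.leaf false)))))

def bit294 : Janko.Tree (Bool) :=
  (.node (.node (.node (.node (.node (.leaf false) (.leaf true)) (.leaf false)) (.node (.leaf false) (.leaf false))) (.node (.node (.leaf false) (.leaf true)) (.node (.leaf false) (.leaf false)))) (.node (.node (.node (.node (.leaf false) (.leaf false)) (.leaf true)) (.node (.leaf false) (.leaf false))) (.node (.node (.leaf false) (.leaf false)) (.node (.leaf false) (.leaf false)))))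

def bit295 : Janko.Tree (Bool) :=
  (.node (.node (.node (.node (.node (.leaf false) (.leaf true)) (.leaf true)) (.node (.leaf true) (.leaf false))) (.node (.node (.leaf false) (.leaf false)) (.node (.leaf false) (.leaf false)))) (.node (.node (.node (.node (.leaf false) (.leaf false)) (.leaf false)) (.node (.leaf false) (.leaf false))) (.node (.node (.leaf false) (.leaf false)) (.node (.leaf false) (.leaf false)))))

def bit296 : Janko.Tree (Bool) :=
  (.node (.node (.node (.node (.node (.leaf false) (.leaf false)) (.leaf false)) (.node (.leaf false) (.leaf false))) (.node (.node (.leaf false) (.leaf false)) (.node (.leaf false) (.leaf false)))) (.node (.node (.node (.node (.leaf false) (.leaf true)) (.leaf false)) (.node (.leaf false) (.leaf true))) (.node (.node (.leaf false) (.leaf false)) (.node (.leaf false) (.leaf false)))))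

def bit297 : Janko.Tree (Bool) :=
  (.node (.node (.node (.node (.node (.leaf false) (.leaf false)) (.leaf false)) (.node (.leaf false) (.leaf true))) (.node (.node (.leaf false) (.leaf false)) (.node (.leaf false) (.leaf false)))) (.node (.node (.node (.node (.leaf false) (.leaf false)) (.leaf false)) (.node (.leaf false) (.leaf false))) (.node (.node (.leaf false) (.leaf false)) (.node (.leaf false) (.leaf true)))))

def bit298 : Janko.Tree (Bool) :=
  (.node (.node (.node (.node (.node (.leaf false) (.leaf false)) (.leaf false)) (.node (.leaf false) (.leaf true))) (.node (.node (.leaf false) (.leaf false)) (.node (.leaf false) (.leaf false)))) (.node (.node (.node (.node (.leaf false) (.leaf false)) (.leaf false)) (.node (.leaf false) (.leaf true))) (.node (.node (.leaf false) (.leaf false)) (.node (.leaf false) (.leaf true)))))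

def bit299 : Janko.Tree (Bool) :=
  (.node (.node (.node (.node (.node (.leaf false) (.leaf true)) (.leaf false)) (.node (.leaf false) (.leaf true))) (.node (.node (.leaf false) (.leaf false)) (.node (.leaf false) (.leaf false)))) (.node (.node (.node (.node (.leaf false) (.leaf false)) (.leaf true)) (.node (.leaf false) (.leaf false))) (.node (.node (.leaf false) (.leaf false)) (.node (.leaf true) (.leaf false)))))

def bit2100 : Janko.Tree (Bool) :=
  (.node (.node (.node (.node (.node (.leaf false) (.leaf true)) (.leaf false)) (.node (.leaf false) (.leaf false))) (.node (.node (.leaf false) (.leaf true)) (.node (.leaf false) (.leaf false)))) (.node (.node (.node (.node (.leaf false) (.leaf false)) (.leaf false)) (.node (.leaf false) (.leaf false))) (.node (.node (.leaf false) (.leaf false)) (.node (.leaf false) (.leaf true)))))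

def bit2101 : Janko.Tree (Bool) :=
  (.node (.node (.node (.node (.node (.leaf false) (.leaf false)) (.leaf true)) (.node (.leaf false) (.leaf false))) (.node (.node (.leaf false) (.leaf false)) (.node (.leaf false) (.leaf false)))) (.node (.node (.node (.node (.leaf false) (.leaf true)) (.leaf false)) (.node (.leaf false) (.leaf false))) (.node (.node (.leaf false) (.leaf false)) (.node (.leaf false) (.leaf false)))))

def bit2102 : Janko.Tree (Bool) :=
  (.node (.node (.node (.node (.node (.leaf false) (.leaf true)) (.leaf false)) (.node (.leaf false) (.leaf false))) (.node (.node (.leaf false) (.leaf false)) (.node (.leaf false) (.leaf true)))) (.node (.node (.node (.node (.leaf false) (.leaf true)) (.leaf false)) (.node (.leaf false) (.leaf false))) (.node (.node (.leaf false) (.leaf false)) (.node (.leaf false) (.leaf true)))))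

def bit2103 : Janko.Tree (Bool) :=
  (.node (.node (.node (.node (.node (.leaf false) (.leaf true)) (.leaf false)) (.node (.leaf false) (.leaf false))) (.node (.node (.leaf false) (.leaf false)) (.node (.leaf false) (.leaf false)))) (.node (.node (.node (.node (.leaf false) (.leaf false)) (.leaf false)) (.node (.leaf false) (.leaf false))) (.node (.node (.leaf false) (.leaf false)) (.node (.leaf false) (.leaf true)))))

def bit2104 : Janko.Tree (Bool) :=
  (.node (.node (.node (.node (.node (.leaf false) (.leaf false)) (.leaf false)) (.node (.leaf false) (.leaf false))) (.node (.node (.leaf false) (.leaf false)) (.node (.leaf true) (.leaf true)))) (.node (.node (.node (.node (.leaf false) (.leaf false)) (.leaf false)) (.node (.leaf false) (.leaf true))) (.node (.node (.leaf false) (.leaf false)) (.node (.leaf false) (.leaf false)))))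

def bit2105 : Janko.Tree (Bool) :=
  (.node (.node (.node (.node (.node (.leaf false) (.leaf true)) (.leaf false)) (.node (.leaf false) (.leaf false))) (.node (.node (.leaf false) (.leaf false)) (.node (.leaf false) (.leaf false)))) (.node (.node (.node (.node (.leaf false) (.leaf false)) (.leaf false)) (.node (.leaf false) (.leaf false))) (.node (.node (.leaf false) (.leaf false)) (.node (.leaf false) (.leaf true)))))

def bit2106 : Janko.Tree (Bool) :=
  (.node (.node (.node (.node (.node (.leaf false) (.leaf false)) (.leaf false)) (.node (.leaf false) (.leaf true))) (.node (.node (.leaf false) (.leaf true)) (.node (.leaf false) (.leaf false)))) (.node (.node (.node (.node (.leaf false) (.leaf false)) (.leaf true)) (.node (.leaf false) (.leaf true))) (.node (.node (.leaf false) (.leaf false)) (.node (.leaf false) (.leaf true)))))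

def bit2107 : Janko.Tree (Bool) :=
  (.node (.node (.node (.node (.node (.leaf false) (.leaf false)) (.leaf false)) (.node (.leaf false) (.leaf false))) (.node (.node (.leaf false) (.leaf false)) (.node (.leaf false) (.leaf false)))) (.node (.node (.node (.node (.leaf false) (.leaf true)) (.leaf false)) (.node (.leaf false) (.leaf false))) (.node (.node (.leaf false) (.leaf false)) (.node (.leaf false) (.leaf false)))))

def bit2108 : Janko.Tree (Bool) :=
  (.node (.node (.node (.node (.node (.leaf false) (.leaf false)) (.leaf false)) (.node (.leaf false) (.leaf false))) (.node (.node (.leaf false) (.leaf false)) (.node (.leaf false) (.leaf false)))) (.node (.node (.node (.node (.leaf false) (.leaf true)) (.leaf false)) (.node (.leaf false) (.leaf false))) (.node (.node (.leaf false) (.leaf false)) (.node (.leaf false) (.leaf true)))))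

def bit2109 : Janko.Tree (Bool) :=
  (.node (.node (.node (.node (.node (.leaf false) (.leaf true)) (.leaf false)) (.node (.leaf false) (.leaf true))) (.node (.node (.leaf false) (.leaf true)) (.node (.leaf false) (.leaf false)))) (.node (.node (.node (.node (.leaf false) (.leaf true)) (.leaf false)) (.node (.leaf false) (.leaf true))) (.node (.node (.leaf false) (.leaf false)) (.node (.leaf false) (.leaf true)))))

def bit2110 : Janko.Tree (Bool) :=
  (.node (.node (.node (.node (.node (.leaf false) (.leaf false)) (.leaf false)) (.node (.leaf false) (.leaf false))) (.node (.node (.leaf false) (.leaf true)) (.node (.leaf false) (.leaf false)))) (.node (.node (.node (.node (.leaf false) (.leaf false)) (.leaf true)) (.node (.leaf false) (.leaf false))) (.node (.node (.leaf false) (.leaf false)) (.node (.leaf true) (.leaf false)))))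

def bit2111 : Janko.Tree (Bool) :=
  (.node (.node (.node (.node (.node (.leaf false) (.leaf false)) (.leaf false)) (.node (.leaf false) (.leaf true))) (.node (.node (.leaf false) (.leaf false)) (.node (.leaf false) (.leaf false)))) (.node (.node (.node (.node (.leaf false) (.leaf false)) (.leaf true)) (.node (.leaf false) (.leaf true))) (.node (.node (.leaf false) (.leaf false)) (.node (.leaf false) (.leaf true)))))

def bit2112 : Janko.Tree (Bool) :=
  (.node (.node (.node (.node (.node (.leaf false) (.leaf true)) (.leaf false)) (.node (.leaf false) (.leaf false))) (.node (.node (.leaf false) (.leaf true)) (.node (.leaf true) (.leaf false)))) (.node (.node (.node (.node (.leaf false) (.leaf false)) (.leaf false)) (.node (.leaf false) (.leaf false))) (.node (.node (.leaf false) (.leaf false)) (.node (.leaf true) (.leaf false)))))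

def bit2113 : Janko.Tree (Bool) :=
  (.node (.node (.node (.node (.node (.leaf false) (.leaf false)) (.leaf false)) (.node (.leaf false) (.leaf true))) (.node (.node (.leaf false) (.leaf false)) (.node (.leaf false) (.leaf false)))) (.node (.node (.node (.node (.leaf false) (.leaf true)) (.leaf true)) (.node (.leaf false) (.leaf false))) (.node (.node (.leaf false) (.leaf false)) (.node (.leaf true) (.leaf false)))))

def bit2114 : Janko.Tree (Bool) :=
  (.node (.node (.node (.node (.node (.leaf false) (.leaf false)) (.leaf false)) (.node (.leaf false) (.leaf false))) (.node (.node (.leaf false) (.leaf false)) (.node (.leaf false) (.leaf false)))) (.node (.node (.node (.node (.leaf false) (.leaf false)) (.leaf true)) (.node (.leaf false) (.leaf false))) (.node (.node (.leaf false) (.leaf false)) (.node (.leaf true) (.leaf false)))))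

def bit2115 : Janko.Tree (Bool) :=
  (.node (.node (.node (.node (.node (.leaf false) (.leaf true)) (.leaf false)) (.node (.leaf false) (.leaf false))) (.node (.node (.leaf false) (.leaf false)) (.node (.leaf false) (.leaf false)))) (.node (.node (.node (.node (.leaf false) (.leaf false)) (.leaf false)) (.node (.leaf false) (.leaf false))) (.node (.node (.leaf false) (.leaf false)) (.node (.leaf false) (.leaf true)))))

def bit2116 : Janko.Tree (Bool) :=
  (.node (.node (.node (.node (.node (.leaf false) (.leaf true)) (.leaf false)) (.node (.leaf false) (.leaf false))) (.node (.node (.leaf false) (.leaf true)) (.node (.leaf true) (.leaf false)))) (.node (.node (.node (.node (.leaf false) (.leaf true)) (.leaf false)) (.node (.leaf false) (.leaf false))) (.node (.node (.leaf false) (.leaf false)) (.node (.leaf false) (.leaf true)))))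

def bit2117 : Janko.Tree (Bool) :=
  (.node (.node (.node (.node (.node (.leaf false) (.leaf true)) (.leaf false)) (.node (.leaf false) (.leaf false))) (.node (.node (.leaf false) (.leaf false)) (.node (.leaf false) (.leaf false)))) (.node (.node (.node (.node (.leaf false) (.leaf true)) (.leaf false)) (.node (.leaf false) (.leaf false))) (.node (.node (.leaf false) (.leaf false)) (.node (.leaf true) (.leaf true)))))

def bit2118 : Janko.Tree (Bool) :=
  (.node (.node (.node (.node (.node (.leaf false) (.leaf false)) (.leaf false)) (.node (.leaf false) (.leaf false))) (.node (.node (.leaf false) (.leaf true)) (.node (.leaf false) (.leaf true)))) (.node (.node (.node (.node (.leaf false) (.leaf false)) (.leaf false)) (.node (.leaf false) (.leaf false))) (.node (.node (.leaf false) (.leaf false)) (.node (.leaf false) (.leaf true)))))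

def bit2119 : Janko.Tree (Bool) :=
  (.node (.node (.node (.node (.node (.leaf false) (.leaf true)) (.leaf false)) (.node (.leaf false) (.leaf false))) (.node (.node (.leaf false) (.leaf false)) (.node (.leaf false) (.leaf false)))) (.node (.node (.node (.node (.leaf false) (.leaf false)) (.leaf false)) (.node (.leaf false) (.leaf false))) (.node (.node (.leaf false) (.leaf true)) (.node (.leaf true) (.leaf true)))))

def bit2120 : Janko.Tree (Bool) :=
  (.node (.node (.node (.node (.node (.leaf false) (.leaf false)) (.leaf false)) (.node (.leaf false) (.leaf false))) (.node (.node (.leaf false) (.leaf false)) (.node (.leaf true) (.leaf false)))) (.node (.node (.node (.node (.leaf false) (.leaf false)) (.leaf false)) (.node (.leaf false) (.leaf false))) (.node (.node (.leaf false) (.leaf false)) (.node (.leaf false) (.leaf false)))))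

def bit2121 : Janko.Tree (Bool) :=
  (.node (.node (.node (.node (.node (.leaf false) (.leaf true)) (.leaf false)) (.node (.leaf false) (.leaf false))) (.node (.node (.leaf false) (.leaf false)) (.node (.leaf false) (.leaf false)))) (.node (.node (.node (.node (.leaf false) (.leaf false)) (.leaf false)) (.node (.leaf false) (.leaf false))) (.node (.node (.leaf false) (.leaf true)) (.node (.leaf false) (.leaf false)))))

def bit2122 : Janko.Tree (Bool) :=
  (.node (.node (.node (.node (.node (.leaf false) (.leaf false)) (.leaf false)) (.node (.leaf true) (.leaf false))) (.node (.node (.leaf false) (.leaf true)) (.node (.leaf false) (.leaf true)))) (.node (.node (.node (.node (.leaf false) (.leaf false)) (.leaf true)) (.node (.leaf false) (.leaf false))) (.node (.node (.leaf false) (.leaf true)) (.node (.leaf false) (.leaf true)))))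

def bit2123 : Janko.Tree (Bool) :=
  (.node (.node (.node (.node (.node (.leaf false) (.leaf false)) (.leaf false)) (.node (.leaf false) (.leaf false))) (.node (.node (.leaf false) (.leaf false)) (.node (.leaf true) (.leaf false)))) (.node (.node (.node (.node (.leaf false) (.leaf false)) (.leaf true)) (.node (.leaf false) (.leaf false))) (.node (.node (.leaf false) (.leaf true)) (.node (.leaf false) (.leaf false)))))

def bit2124 : Janko.Tree (Bool) :=
  (.node (.node (.node (.node (.node (.leaf false) (.leaf true)) (.leaf true)) (.node (.leaf false) (.leaf false))) (.node (.node (.leaf false) (.leaf false)) (.node (.leaf false) (.leaf false)))) (.node (.node (.node (.node (.leaf false) (.leaf true)) (.leaf false)) (.node (.leaf false) (.leaf false))) (.node (.node (.leaf false) (.leaf false)) (.node (.leaf false) (.leaf true)))))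

def bit2125 : Janko.Tree (Bool) :=
  (.node (.node (.node (.node (.node (.leaf false) (.leaf false)) (.leaf true)) (.node (.leaf false) (.leaf false))) (.node (.node (.leaf false) (.leaf true)) (.node (.leaf true) (.leaf false)))) (.node (.node (.node (.node (.leaf false) (.leaf true)) (.leaf false)) (.node (.leaf true) (.leaf false))) (.node (.node (.leaf false) (.leaf false)) (.node (.leaf false) (.leaf true)))))

def bit2126 : Janko.Tree (Bool) :=
  (.node (.node (.node (.node (.node (.leaf false) (.leaf false)) (.leaf false)) (.node (.leaf true) (.leaf false))) (.node (.node (.leaf false) (.leaf false)) (.node (.leaf false) (.leaf false)))) (.node (.node (.node (.node (.leaf false) (.leaf true)) (.leaf false)) (.node (.leaf false) (.leaf false))) (.node (.node (.leaf false) (.leaf false)) (.node (.leaf false) (.leaf true)))))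

def bit2127 : Janko.Tree (Bool) :=
  (.node (.node (.node (.node (.node (.leaf false) (.leaf false)) (.leaf false)) (.node (.leaf false) (.leaf true))) (.node (.node (.leaf false) (.leaf false)) (.node (.leaf false) (.leaf false)))) (.node (.node (.node (.node (.leaf false) (.leaf true)) (.leaf false)) (.node (.leaf false) (.leaf false))) (.node (.node (.leaf false) (.leaf false)) (.node (.leaf false) (.leaf false)))))

def bit2128 : Janko.Tree (Bool) :=
  (.node (.node (.node (.node (.node (.leaf false) (.leaf true)) (.leaf false)) (.node (.leaf false) (.leaf false))) (.node (.node (.leaf false) (.leaf false)) (.node (.leaf false) (.leaf true)))) (.node (.node (.node (.leaf false) (.leaf false)) (.node (.leaf false) (.leaf false))) (.node (.node (.leaf false) (.leaf true)) (.node (.leaf false) (.leaf true)))))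

def bit2129 : Janko.Tree (Bool) :=
  (.node (.node (.node (.node (.node (.leaf false) (.leaf false)) (.leaf false)) (.node (.leaf false) (.leaf false))) (.node (.node (.leaf false) (.leaf false)) (.node (.leaf false) (.leaf false)))) (.node (.node (.node (.leaf false) (.leaf false)) (.node (.leaf false) (.leaf false))) (.node (.node (.leaf false) (.leaf false)) (.node (.leaf false) (.leaf false)))))

def bit2130 : Janko.Tree (Bool) :=
  (.node (.node (.node (.node (.node (.leaf false) (.leaf false)) (.leaf false)) (.node (.leaf false) (.leaf true))) (.node (.node (.leaf false) (.leaf true)) (.node (.leaf false) (.leaf true)))) (.node (.node (.node (.leaf false) (.leaf true)) (.node (.leaf false) (.leaf false))) (.node (.node (.leaf false) (.leaf false)) (.node (.leaf false) (.leaf true)))))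

def bit2131 : Janko.Tree (Bool) :=
  (.node (.node (.node (.node (.node (.leaf false) (.leaf false)) (.leaf true)) (.node (.leaf false) (.leaf true))) (.node (.node (.leaf false) (.leaf false)) (.node (.leaf false) (.leaf true)))) (.node (.node (.node (.leaf false) (.leaf false)) (.node (.leaf false) (.leaf false))) (.node (.node (.leaf false) (.leaf false)) (.node (.leaf false) (.leaf true)))))

def bit2132 : Janko.Tree (Bool) :=
  (.node (.node (.node (.node (.node (.leaf false) (.leaf false)) (.leaf true)) (.node (.leaf false) (.leaf true))) (.node (.node (.leaf false) (.leaf false)) (.node (.leaf false) (.leaf true)))) (.node (.node (.node (.leaf false) (.leaf true)) (.node (.leaf false) (.leaf false))) (.node (.node (.leaf false) (.leaf false)) (.node (.leaf false) (.leaf true)))))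

def bit2133 : Janko.Tree (Bool) :=
  (.node (.node (.node (.node (.node (.leaf false) (.leaf false)) (.leaf false)) (.node (.leaf false) (.leaf false))) (.node (.node (.leaf false) (.leaf true)) (.node (.leaf false) (.leaf false)))) (.node (.node (.node (.leaf false) (.leaf false)) (.node (.leaf false) (.leaf false))) (.node (.node (.leaf false) (.leaf false)) (.node (.leaf true) (.leaf false)))))

def bit2134 : Janko.Tree (Bool) :=
  (.node (.node (.node (.node (.node (.leaf false) (.leaf true)) (.leaf false)) (.node (.leaf false) (.leaf true))) (.node (.node (.leaf false) (.leaf false)) (.node (.leaf false) (.leaf false)))) (.node (.node (.node (.leaf false) (.leaf false)) (.node (.leaf false) (.leaf false))) (.node (.node (.leaf true) (.leaf true)) (.node (.leaf false) (.leaf false)))))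

def bit2135 : Janko.Tree (Bool) :=
  (.node (.node (.node (.node (.node (.leaf false) (.leaf false)) (.leaf false)) (.node (.leaf false) (.leaf false))) (.node (.node (.leaf false) (.leaf false)) (.node (.leaf false) (.leaf false)))) (.node (.node (.node (.leaf false) (.leaf false)) (.node (.leaf false) (.leaf false))) (.node (.node (.leaf false) (.leaf false)) (.node (.leaf false) (.leaf false)))))

def bit2136 : Janko.Tree (Bool) :=
  (.node (.node (.node (.node (.node (.leaf false) (.leaf false)) (.leaf false)) (.node (.leaf false) (.leaf false))) (.node (.node (.leaf false) (.leaf false)) (.node (.leaf false) (.leaf false)))) (.node (.node (.node (.leaf false) (.leaf false)) (.node (.leaf false) (.leaf false))) (.node (.node (.leaf false) (.leaf false)) (.node (.leaf false) (.leaf true)))))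

def bit2137 : Janko.Tree (Bool) :=
  (.node (.node (.node (.node (.node (.leaf false) (.leaf false)) (.leaf false)) (.node (.leaf false) (.leaf false))) (.node (.node (.leaf false) (.leaf false)) (.node (.leaf true) (.leaf true)))) (.node (.node (.node (.leaf false) (.leaf false)) (.node (.leaf false) (.leaf false))) (.node (.node (.leaf false) (.leaf true)) (.node (.leaf false) (.leaf true)))))

def bit2138 : Janko.Tree (Bool) :=
  (.node (.node (.node (.node (.node (.leaf false) (.leaf false)) (.leaf true)) (.node (.leaf false) (.leaf false))) (.node (.node (.leaf false) (.leaf false)) (.node (.leaf false) (.leaf false)))) (.node (.node (.node (.leaf false) (.leaf false)) (.node (.leaf false) (.leaf false))) (.node (.node (.leaf false) (.leaf false)) (.node (.leaf false) (.leaf false)))))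

def bit2139 : Janko.Tree (Bool) :=
  (.node (.node (.node (.node (.node (.leaf false) (.leaf false)) (.leaf false)) (.node (.leaf false) (.leaf true))) (.node (.node (.leaf false) (.leaf false)) (.node (.leaf true) (.leaf true)))) (.node (.node (.node (.leaf false) (.leaf false)) (.node (.leaf false) (.leaf false))) (.node (.node (.leaf false) (.leaf false)) (.node (.leaf false) (.leaf true)))))

def bit2140 : Janko.Tree (Bool) :=
  (.node (.node (.node (.node (.node (.leaf false) (.leaf true)) (.leaf false)) (.node (.leaf false) (.leaf false))) (.node (.node (.leaf false) (.leaf false)) (.node (.leaf false) (.leaf true)))) (.node (.node (.node (.leaf false) (.leaf false)) (.node (.leaf false) (.leaf false))) (.node (.node (.leaf false) (.leaf false)) (.node (.leaf false) (.leaf true)))))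

def bit2141 : Janko.Tree (Bool) :=
  (.node (.node (.node (.node (.node (.leaf false) (.leaf false)) (.leaf false)) (.node (.leaf false) (.leaf false))) (.node (.node (.leaf false) (.leaf false)) (.node (.leaf false) (.leaf true)))) (.node (.node (.node (.leaf false) (.leaf false)) (.node (.leaf false) (.leaf true))) (.node (.node (.leaf false) (.leaf false)) (.node (.leaf false) (.leaf true)))))

def bit2142 : Janko.Tree (Bool) :=
  (.node (.node (.node (.node (.node (.leaf false) (.leaf true)) (.leaf false)) (.node (.leaf false) (.leaf false))) (.node (.node (.leaf false) (.leaf false)) (.node (.leaf false) (.leaf false)))) (.node (.node (.node (.leaf false) (.leaf false)) (.node (.leaf false) (.leaf false))) (.node (.node (.leaf false) (.leaf false)) (.node (.leaf false) (.leaf false)))))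

def bit2143 : Janko.Tree (Bool) :=
  (.node (.node (.node (.node (.node (.leaf false) (.leaf true)) (.leaf false)) (.node (.leaf false) (.leaf true))) (.node (.node (.leaf false) (.leaf false)) (.node (.leaf false) (.leaf false)))) (.node (.node (.node (.leaf false) (.leaf false)) (.node (.leaf false) (.leaf true))) (.node (.node (.leaf false) (.leaf false)) (.node (.leaf false) (.leaf true)))))

def bit2144 : Janko.Tree (Bool) :=
  (.node (.node (.node (.node (.node (.leaf false) (.leaf false)) (.leaf true)) (.node (.leaf false) (.leaf false))) (.node (.node (.leaf false) (.leaf false)) (.node (.leaf false) (.leaf true)))) (.node (.node (.node (.leaf false) (.leaf false)) (.node (.leaf false) (.leaf false))) (.node (.node (.leaf false) (.leaf true)) (.node (.leaf false) (.leaf false)))))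

def bit2145 : Janko.Tree (Bool) :=
  (.node (.node (.node (.node (.node (.leaf false) (.leaf false)) (.leaf false)) (.node (.leaf false) (.leaf true))) (.node (.node (.leaf false) (.leaf true)) (.node (.leaf false) (.leaf false)))) (.node (.node (.node (.leaf false) (.leaf false)) (.node (.leaf false) (.leaf false))) (.node (.node (.leaf false) (.leaf false)) (.node (.leaf false) (.leaf false)))))

def bit2146 : Janko.Tree (Bool) :=
  (.node (.node (.node (.node (.node (.leaf false) (.leaf false)) (.leaf false)) (.node (.leaf false) (.leaf false))) (.node (.node (.leaf false) (.leaf true)) (.node (.leaf true) (.leaf false)))) (.node (.node (.node (.leaf false) (.leaf false)) (.node (.leaf false) (.leaf false))) (.node (.node (.leaf false) (.leaf false)) (.node (.leaf false) (.leaf true)))))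

def bit2147 : Janko.Tree (Bool) :=
  (.node (.node (.node (.node (.node (.leaf false) (.leaf false)) (.leaf true)) (.node (.leaf false) (.leaf true))) (.node (.node (.leaf false) (.leaf false)) (.node (.leaf false) (.leaf true)))) (.node (.node (.node (.leaf false) (.leaf true)) (.node (.leaf false) (.leaf false))) (.node (.node (.leaf true) (.leaf false)) (.node (.leaf false) (.leaf false)))))

def bit2148 : Janko.Tree (Bool) :=
  (.node (.node (.node (.node (.node (.leaf false) (.leaf false)) (.leaf true)) (.node (.leaf false) (.leaf false))) (.node (.node (.leaf false) (.leaf false)) (.node (.leaf false) (.leaf true)))) (.node (.node (.node (.leaf false) (.leaf true)) (.node (.leaf false) (.leaf false))) (.node (.node (.leaf false) (.leaf false)) (.node (.leaf false) (.leaf false)))))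

def bit2149 : Janko.Tree (Bool) :=
  (.node (.node (.node (.node (.node (.leaf false) (.leaf true)) (.leaf false)) (.node (.leaf false) (.leaf false))) (.node (.node (.leaf false) (.leaf true)) (.node (.leaf false) (.leaf true)))) (.node (.node (.node (.leaf false) (.leaf false)) (.node (.leaf false) (.leaf true))) (.node (.node (.leaf false) (.leaf false)) (.node (.leaf false) (.leaf true)))))

def bit2150 : Janko.Tree (Bool) :=
  (.node (.node (.node (.node (.node (.leaf false) (.leaf false)) (.leaf false)) (.node (.leaf false) (.leaf false))) (.node (.node (.leaf false) (.leaf false)) (.node (.leaf false) (.leaf false)))) (.node (.node (.node (.leaf false) (.leaf false)) (.node (.leaf false) (.leaf true))) (.node (.node (.leaf false) (.leaf true)) (.node (.leaf false) (.leaf false)))))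

def bit2151 : Janko.Tree (Bool) :=
  (.node (.node (.node (.node (.node (.leaf false) (.leaf true)) (.leaf false)) (.node (.leaf false) (.leaf false))) (.node (.node (.leaf false) (.leaf false)) (.node (.leaf false) (.leaf true)))) (.node (.node (.node (.leaf false) (.leaf true)) (.node (.leaf false) (.leaf false))) (.node (.node (.leaf false) (.leaf false)) (.node (.leaf false) (.leaf false)))))

def bit2152 : Janko.Tree (Bool) :=
  (.node (.node (.node (.node (.node (.leaf false) (.leaf true)) (.leaf false)) (.node (.leaf false) (.leaf false))) (.node (.node (.leaf false) (.leaf true)) (.node (.leaf false) (.leaf false)))) (.node (.node (.node (.leaf false) (.leaf false)) (.node (.leaf false) (.leaf true))) (.node (.node (.leaf false) (.leaf false)) (.node (.leaf false) (.leaf false)))))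

def bit2153 : Janko.Tree (Bool) :=
  (.node (.node (.node (.node (.node (.leaf false) (.leaf true)) (.leaf false)) (.node (.leaf false) (.leaf false))) (.node (.node (.leaf false) (.leaf false)) (.node (.leaf false) (.leaf false)))) (.node (.node (.node (.leaf false) (.leaf false)) (.node (.leaf false) (.leaf false))) (.node (.node (.leaf false) (.leaf true)) (.node (.leaf false) (.leaf false)))))

def bit2154 : Janko.Tree (Bool) :=
  (.node (.node (.node (.node (.node (.leaf false) (.leaf false)) (.leaf false)) (.node (.leaf false) (.leaf true))) (.node (.node (.leaf false) (.leaf false)) (.node (.leaf false) (.leaf false)))) (.node (.node (.node (.leaf false) (.leaf true)) (.node (.leaf false) (.leaf false))) (.node (.node (.leaf false) (.leaf true)) (.node (.leaf false) (.leaf true)))))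

def bit2155 : Janko.Tree (Bool) :=
  (.node (.node (.node (.node (.node (.leaf false) (.leaf true)) (.leaf false)) (.node (.leaf false) (.leaf true))) (.node (.node (.leaf false) (.leaf false)) (.node (.leaf false) (.leaf false)))) (.node (.node (.node (.leaf false) (.leaf false)) (.node (.leaf false) (.leaf false))) (.node (.node (.leaf false) (.leaf true)) (.node (.leaf false) (.leaf false)))))

def bit2156 : Janko.Tree (Bool) :=
  (.node (.node (.node (.node (.node (.leaf false) (.leaf false)) (.leaf false)) (.node (.leaf false) (.leaf false))) (.node (.node (.leaf false) (.leaf false)) (.node (.leaf false) (.leaf false)))) (.node (.node (.node (.leaf false) (.leaf false)) (.node (.leaf false) (.leaf true))) (.node (.node (.leaf false) (.leaf false)) (.node (.leaf false) (.leaf false)))))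

def bit2157 : Janko.Tree (Bool) :=
  (.node (.node (.node (.node (.node (.leaf false) (.leaf false)) (.leaf true)) (.node (.leaf false) (.leaf false))) (.node (.node (.leaf false) (.leaf false)) (.node (.leaf false) (.leaf false)))) (.node (.node (.node (.leaf false) (.leaf false)) (.node (.leaf false) (.leaf true))) (.node (.node (.leaf false) (.leaf true)) (.node (.leaf false) (.leaf true)))))

def bit2158 : Janko.Tree (Bool) :=
  (.node (.node (.node (.node (.node (.leaf false) (.leaf false)) (.leaf false)) (.node (.leaf false) (.leaf true))) (.node (.node (.leaf false) (.leaf false)) (.node (.leaf false) (.leaf false)))) (.node (.node (.node (.leaf false) (.leaf false)) (.node (.leaf false) (.leaf true))) (.node (.node (.leaf false) (.leaf true)) (.node (.leaf true) (.leaf false)))))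

def bit2159 : Janko.Tree (Bool) :=
  (.node (.node (.node (.node (.node (.leaf false) (.leaf false)) (.leaf true)) (.node (.leaf false) (.leaf true))) (.node (.node (.leaf false) (.leaf false)) (.node (.leaf false) (.leaf false)))) (.node (.node (.node (.leaf false) (.leaf true)) (.node (.leaf false) (.leaf true))) (.node (.node (.leaf false) (.leaf true)) (.node (.leaf false) (.leaf false)))))

def bit2160 : Janko.Tree (Bool) :=
  (.node (.node (.node (.node (.node (.leaf false) (.leaf false)) (.leaf false)) (.node (.leaf false) (.leaf false))) (.node (.node (.leaf false) (.leaf true)) (.node (.leaf false) (.leaf false)))) (.node (.node (.node (.leaf false) (.leaf false)) (.node (.leaf false) (.leaf false))) (.node (.node (.leaf false) (.leaf false)) (.node (.leaf false) (.leaf false)))))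

def bit2161 : Janko.Tree (Bool) :=
  (.node (.node (.node (.node (.node (.leaf false) (.leaf false)) (.leaf false)) (.node (.leaf true) (.leaf false))) (.node (.node (.leaf false) (.leaf false)) (.node (.leaf false) (.leaf true)))) (.node (.node (.node (.leaf false) (.leaf false)) (.node (.leaf false) (.leaf true))) (.node (.node (.leaf false) (.leaf false)) (.node (.leaf false) (.leaf true)))))

def bit2162 : Janko.Tree (Bool) :=
  (.node (.node (.node (.node (.node (.leaf false) (.leaf false)) (.leaf true)) (.node (.leaf false) (.leaf true))) (.node (.node (.leaf false) (.leaf true)) (.node (.leaf false) (.leaf true)))) (.node (.node (.node (.leaf false) (.leaf false)) (.node (.leaf false) (.leaf true))) (.node (.node (.leaf true) (.leaf false)) (.node (.leaf true) (.leaf false)))))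

def bit2163 : Janko.Tree (Bool) :=
  (.node (.node (.node (.node (.node (.leaf false) (.leaf true)) (.leaf false)) (.node (.leaf false) (.leaf true))) (.node (.node (.leaf false) (.leaf true)) (.node (.leaf false) (.leaf true)))) (.node (.node (.node (.leaf false) (.leaf false)) (.node (.leaf false) (.leaf true))) (.node (.node (.leaf false) (.leaf false)) (.node (.leaf false) (.leaf true)))))

def bit2164 : Janko.Tree (Bool) :=
  (.node (.node (.node (.node (.node (.leaf false) (.leaf false)) (.leaf false)) (.node (.leaf false) (.leaf false))) (.node (.node (.leaf false) (.leaf true)) (.node (.leaf false) (.leaf false)))) (.node (.node (.node (.leaf false) (.leaf false)) (.node (.leaf false) (.leaf true))) (.node (.node (.leaf false) (.leaf false)) (.node (.leaf false) (.leaf true)))))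

def bit2165 : Janko.Tree (Bool) :=
  (.node (.node (.node (.node (.node (.leaf false) (.leaf false)) (.leaf false)) (.node (.leaf false) (.leaf false))) (.node (.node (.leaf false) (.leaf false)) (.node (.leaf false) (.leaf false)))) (.node (.node (.node (.leaf false) (.leaf false)) (.node (.leaf false) (.leaf false))) (.node (.node (.leaf false) (.leaf false)) (.node (.leaf false) (.leaf false)))))

def bit2166 : Janko.Tree (Bool) :=
  (.node (.node (.node (.node (.node (.leaf false) (.leaf true)) (.leaf false)) (.node (.leaf false) (.leaf false))) (.node (.node (.leaf false) (.leaf false)) (.node (.leaf false) (.leaf false)))) (.node (.node (.node (.leaf false) (.leaf true)) (.node (.leaf false) (.leaf false))) (.node (.node (.leaf false) (.leaf true)) (.node (.leaf false) (.leaf false)))))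

def bit2167 : Janko.Tree (Bool) :=
  (.node (.node (.node (.node (.node (.leaf false) (.leaf false)) (.leaf false)) (.node (.leaf false) (.leaf false))) (.node (.node (.leaf false) (.leaf false)) (.node (.leaf false) (.leaf false)))) (.node (.node (.node (.leaf false) (.leaf false)) (.node (.leaf false) (.leaf false))) (.node (.node (.leaf false) (.leaf false)) (.node (.leaf false) (.leaf true)))))

def bit2168 : Janko.Tree (Bool) :=
  (.node (.node (.node (.node (.node (.leaf false) (.leaf false)) (.leaf true)) (.node (.leaf false) (.leaf false))) (.node (.node (.leaf true) (.leaf false)) (.node (.leaf false) (.leaf false)))) (.node (.node (.node (.leaf false) (.leaf false)) (.node (.leaf false) (.leaf false))) (.node (.node (.leaf false) (.leaf true)) (.node (.leaf false) (.leaf true)))))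

def bit2169 : Janko.Tree (Bool) :=
  (.node (.node (.node (.node (.node (.leaf false) (.leaf false)) (.leaf false)) (.node (.leaf false) (.leaf false))) (.node (.node (.leaf false) (.leaf false)) (.node (.leaf false) (.leaf true)))) (.node (.node (.node (.leaf false) (.leaf false)) (.node (.leaf false) (.leaf true))) (.node (.node (.leaf false) (.leaf false)) (.node (.leaf true) (.leaf true)))))

def bit2170 : Janko.Tree (Bool) :=
  (.node (.node (.node (.node (.node (.leaf false) (.leaf true)) (.leaf false)) (.node (.leaf false) (.leaf false))) (.node (.node (.leaf false) (.leaf false)) (.node (.leaf false) (.leaf false)))) (.node (.node (.node (.leaf false) (.leaf false)) (.node (.leaf false) (.leaf false))) (.node (.node (.leaf false) (.leaf false)) (.node (.leaf false) (.leaf true)))))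

def bit2171 : Janko.Tree (Bool) :=
  (.node (.node (.node (.node (.node (.leaf false) (.leaf false)) (.leaf true)) (.node (.leaf false) (.leaf false))) (.node (.node (.leaf false) (.leaf false)) (.node (.leaf false) (.leaf false)))) (.node (.node (.node (.leaf false) (.leaf false)) (.node (.leaf false) (.leaf false))) (.node (.node (.leaf false) (.leaf false)) (.node (.leaf false) (.leaf true)))))

def bit2172 : Janko.Tree (Bool) :=
  (.node (.node (.node (.node (.node (.leaf false) (.leaf false)) (.leaf false)) (.node (.leaf false) (.leaf true))) (.node (.node (.leaf false) (.leaf false)) (.node (.leaf true) (.leaf true)))) (.node (.node (.node (.leaf false) (.leaf false)) (.node (.leaf false) (.leaf true))) (.node (.node (.leaf false) (.leaf true)) (.node (.leaf false) (.leaf false)))))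

def bit2173 : Janko.Tree (Bool) :=
  (.node (.node (.node (.node (.node (.leaf false) (.leaf false)) (.leaf false)) (.node (.leaf false) (.leaf true))) (.node (.node (.leaf false) (.leaf false)) (.node (.leaf false) (.leaf false)))) (.node (.node (.node (.leaf false) (.leaf true)) (.node (.leaf false) (.leaf false))) (.node (.node (.leaf false) (.leaf true)) (.node (.leaf true) (.leaf true)))))

def bit2174 : Janko.Tree (Bool) :=
  (.node (.node (.node (.node (.node (.leaf false) (.leaf false)) (.leaf false)) (.node (.leaf false) (.leaf true))) (.node (.node (.leaf false) (.leaf false)) (.node (.leaf false) (.leaf false)))) (.node (.node (.node (.leaf false) (.leaf false)) (.node (.leaf false) (.leaf false))) (.node (.node (.leaf false) (.leaf false)) (.node (.leaf false) (.leaf true)))))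

def bit2175 : Janko.Tree (Bool) :=
  (.node (.node (.node (.node (.node (.leaf false) (.leaf false)) (.leaf false)) (.node (.leaf false) (.leaf true))) (.node (.node (.leaf false) (.leaf true)) (.node (.leaf false) (.leaf false)))) (.node (.node (.node (.leaf false) (.leaf false)) (.node (.leaf false) (.leaf false))) (.node (.node (.leaf true) (.leaf false)) (.node (.leaf false) (.leaf true)))))

def bit2176 : Janko.Tree (Bool) :=
  (.node (.node (.node (.node (.node (.leaf false) (.leaf false)) (.leaf false)) (.node (.leaf false) (.leaf false))) (.node (.node (.leaf false) (.leaf true)) (.node (.leaf false) (.leaf false)))) (.node (.node (.node (.leaf false) (.leaf false)) (.node (.leaf false) (.leaf false))) (.node (.node (.leaf false) (.leaf false)) (.node (.leaf false) (.leaf false)))))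

def bit2177 : Janko.Tree (Bool) :=
  (.node (.node (.node (.node (.node (.leaf false) (.leaf true)) (.leaf true)) (.node (.leaf false) (.leaf false))) (.node (.node (.leaf false) (.leaf false)) (.node (.leaf false) (.leaf false)))) (.node (.node (.node (.leaf false) (.leaf false)) (.node (.leaf false) (.leaf false))) (.node (.node (.leaf false) (.leaf false)) (.node (.leaf false) (.leaf false)))))

def bit2178 : Janko.Tree (Bool) :=
  (.node (.node (.node (.node (.node (.leaf false) (.leaf false)) (.leaf false)) (.node (.leaf false) (.leaf false))) (.node (.node (.leaf false) (.leaf false)) (.node (.leaf false) (.leaf true)))) (.node (.node (.node (.leaf false) (.leaf true)) (.node (.leaf false) (.leaf false))) (.node (.node (.leaf true) (.leaf true)) (.node (.leaf false) (.leaf true)))))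

def bit2179 : Janko.Tree (Bool) :=
  (.node (.node (.node (.node (.node (.leaf false) (.leaf true)) (.leaf false)) (.node (.leaf true) (.leaf true))) (.node (.node (.leaf false) (.leaf false)) (.node (.leaf false) (.leaf false)))) (.node (.node (.node (.leaf false) (.leaf false)) (.node (.leaf false) (.leaf false))) (.node (.node (.leaf false) (.leaf false)) (.node (.leaf false) (.leaf true)))))

def bit2180 : Janko.Tree (Bool) :=
  (.node (.node (.node (.node (.node (.leaf false) (.leaf false)) (.leaf false)) (.node (.leaf false) (.leaf false))) (.node (.node (.leaf false) (.leaf false)) (.node (.leaf false) (.leaf false)))) (.node (.node (.node (.leaf false) (.leaf false)) (.node (.leaf false) (.leaf false))) (.node (.node (.leaf false) (.leaf false)) (.node (.leaf false) (.leaf true)))))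

def bit2181 : Janko.Tree (Bool) :=
  (.node (.node (.node (.node (.node (.leaf false) (.leaf false)) (.leaf false)) (.node (.leaf false) (.leaf true))) (.node (.node (.leaf false) (.leaf true)) (.node (.leaf false) (.leaf false)))) (.node (.node (.node (.leaf false) (.leaf false)) (.node (.leaf false) (.leaf true))) (.node (.node (.leaf false) (.leaf true)) (.node (.leaf false) (.leaf false)))))

def bit2182 : Janko.Tree (Bool) :=
  (.node (.node (.node (.node (.node (.leaf false) (.leaf false)) (.leaf false)) (.node (.leaf false) (.leaf false))) (.node (.node (.leaf false) (.leaf false)) (.node (.leaf false) (.leaf false)))) (.node (.node (.node (.leaf false) (.leaf true)) (.node (.leaf false) (.leaf false))) (.node (.node (.leaf false) (.leaf true)) (.node (.leaf false) (.leaf false)))))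

def bit2183 : Janko.Tree (Bool) :=
  (.node (.node (.node (.node (.node (.leaf false) (.leaf false)) (.leaf false)) (.node (.leaf false) (.leaf false))) (.node (.node (.leaf false) (.leaf false)) (.node (.leaf false) (.leaf false)))) (.node (.node (.node (.leaf false) (.leaf true)) (.node (.leaf false) (.leaf true))) (.node (.node (.leaf false) (.leaf false)) (.node (.leaf false) (.leaf false)))))

def bit2184 : Janko.Tree (Bool) :=
  (.node (.node (.node (.node (.node (.leaf false) (.leaf false)) (.leaf false)) (.node (.leaf true) (.leaf true))) (.node (.node (.leaf false) (.leaf false)) (.node (.leaf false) (.leaf true)))) (.node (.node (.node (.leaf false) (.leaf false)) (.node (.leaf true) (.leaf false))) (.node (.node (.leaf false) (.leaf false)) (.node (.leaf false) (.leaf false)))))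

def bit2185 : Janko.Tree (Bool) :=
  (.node (.node (.node (.node (.node (.leaf false) (.leaf false)) (.leaf false)) (.node (.leaf true) (.leaf false))) (.node (.node (.leaf false) (.leaf false)) (.node (.leaf false) (.leaf true)))) (.node (.node (.node (.leaf false) (.leaf false)) (.node (.leaf false) (.leaf false))) (.node (.node (.leaf false) (.leaf false)) (.node (.leaf false) (.leaf true)))))

def bit2186 : Janko.Tree (Bool) :=
  (.node (.node (.node (.node (.node (.leaf false) (.leaf false)) (.leaf true)) (.node (.leaf false) (.leaf false))) (.node (.node (.leaf false) (.leaf false)) (.node (.leaf false) (.leaf false)))) (.node (.node (.node (.leaf false) (.leaf false)) (.node (.leaf false) (.leaf false))) (.node (.node (.leaf false) (.leaf false)) (.node (.leaf false) (.leaf true)))))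

def bit2187 : Janko.Tree (Bool) :=
  (.node (.node (.node (.node (.node (.leaf false) (.leaf false)) (.leaf true)) (.node (.leaf false) (.leaf false))) (.node (.node (.leaf false) (.leaf false)) (.node (.leaf false) (.leaf false)))) (.node (.node (.node (.leaf false) (.leaf true)) (.node (.leaf false) (.leaf true))) (.node (.node (.leaf false) (.leaf false)) (.node (.leaf true) (.leaf true)))))

def bit2188 : Janko.Tree (Bool) :=
  (.node (.node (.node (.node (.node (.leaf false) (.leaf true)) (.leaf false)) (.node (.leaf false) (.leaf false))) (.node (.node (.leaf false) (.leaf false)) (.node (.leaf false) (.leaf false)))) (.node (.node (.node (.leaf false) (.leaf false)) (.node (.leaf false) (.leaf true))) (.node (.node (.leaf false) (.leaf false)) (.node (.leaf false) (.leaf true)))))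

def bit2189 : Janko.Tree (Bool) :=
  (.node (.node (.node (.node (.node (.leaf false) (.leaf true)) (.leaf false)) (.node (.leaf true) (.leaf true))) (.node (.node (.leaf false) (.leaf true)) (.node (.leaf false) (.leaf true)))) (.node (.node (.node (.leaf false) (.leaf true)) (.node (.leaf true) (.leaf false))) (.node (.node (.leaf false) (.leaf false)) (.node (.leaf false) (.leaf true)))))

def bit2190 : Janko.Tree (Bool) :=
  (.node (.node (.node (.node (.node (.leaf false) (.leaf false)) (.leaf false)) (.node (.leaf false) (.leaf false))) (.node (.node (.leaf false) (.leaf true)) (.node (.leaf false) (.leaf true)))) (.node (.node (.node (.leaf false) (.leaf true)) (.node (.leaf false) (.leaf false))) (.node (.node (.leaf false) (.leaf true)) (.node (.leaf false) (.leaf true)))))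

def bit2191 : Janko.Tree (Bool) :=
  (.node (.node (.node (.node (.node (.leaf false) (.leaf true)) (.leaf false)) (.node (.leaf false) (.leaf false))) (.node (.node (.leaf false) (.leaf true)) (.node (.leaf false) (.leaf true)))) (.node (.node (.node (.leaf false) (.leaf false)) (.node (.leaf false) (.leaf false))) (.node (.node (.leaf false) (.leaf false)) (.node (.leaf false) (.leaf false)))))

def bit2192 : Janko.Tree (Bool) :=
  (.node (.node (.node (.node (.node (.leaf false) (.leaf false)) (.leaf false)) (.node (.leaf false) (.leaf false))) (.node (.node (.leaf false) (.leaf true)) (.node (.leaf true) (.leaf false)))) (.node (.node (.node (.leaf false) (.leaf false)) (.node (.leaf false) (.leaf false))) (.node (.node (.leaf false) (.leaf false)) (.node (.leaf false) (.leaf false)))))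

def bit2193 : Janko.Tree (Bool) :=
  (.node (.node (.node (.node (.node (.leaf false) (.leaf true)) (.leaf false)) (.node (.leaf false) (.leaf false))) (.node (.node (.leaf false) (.leaf false)) (.node (.leaf false) (.leaf true)))) (.node (.node (.node (.leaf false) (.leaf true)) (.node (.leaf false) (.leaf false))) (.node (.node (.leaf false) (.leaf false)) (.node (.leaf false) (.leaf false)))))

def bit2194 : Janko.Tree (Bool) :=
  (.node (.node (.node (.node (.node (.leaf false) (.leaf false)) (.leaf false)) (.node (.leaf false) (.leaf false))) (.node (.node (.leaf false) (.leaf false)) (.node (.leaf false) (.leaf true)))) (.node (.node (.node (.leaf false) (.leaf false)) (.node (.leaf false) (.leaf false))) (.node (.node (.leaf false) (.leaf false)) (.node (.leaf false) (.leaf false)))))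

def bit2195 : Janko.Tree (Bool) :=
  (.node (.node (.node (.node (.node (.leaf false) (.leaf true)) (.leaf true)) (.node (.leaf false) (.leaf false))) (.node (.node (.leaf false) (.leaf true)) (.node (.leaf false) (.leaf false)))) (.node (.node (.node (.leaf false) (.leaf false)) (.node (.leaf false) (.leaf false))) (.node (.node (.leaf false) (.leaf true)) (.node (.leaf false) (.leaf false)))))

def bit2196 : Janko.Tree (Bool) :=
  (.node (.node (.node (.node (.node (.leaf false) (.leaf false)) (.leaf false)) (.node (.leaf false) (.leaf false))) (.node (.node (.leaf false) (.leaf false)) (.node (.leaf false) (.leaf false)))) (.node (.node (.node (.leaf false) (.leaf true)) (.node (.leaf false) (.leaf true))) (.node (.node (.leaf true) (.leaf false)) (.node (.leaf false) (.leaf false)))))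

def bit2197 : Janko.Tree (Bool) :=
  (.node (.node (.node (.node (.node (.leaf false) (.leaf false)) (.leaf false)) (.node (.leaf false) (.leaf false))) (.node (.node (.leaf false) (.leaf true)) (.node (.leaf false) (.leaf false)))) (.node (.node (.node (.leaf false) (.leaf true)) (.node (.leaf false) (.leaf true))) (.node (.node (.leaf false) (.leaf false)) (.node (.leaf false) (.leaf true)))))

def bit2198 : Janko.Tree (Bool) :=
  (.node (.node (.node (.node (.node (.leaf false) (.leaf false)) (.leaf true)) (.node (.leaf false) (.leaf false))) (.node (.node (.leaf false) (.leaf false)) (.node (.leaf false) (.leaf false)))) (.node (.node (.node (.leaf false) (.leaf false)) (.node (.leaf false) (.leaf true))) (.node (.node (.leaf false) (.leaf true)) (.node (.leaf false) (.leaf false)))))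

def bit2199 : Janko.Tree (Bool) :=
  (.node (.node (.node (.node (.node (.leaf false) (.leaf true)) (.leaf false)) (.node (.leaf false) (.leaf false))) (.node (.node (.leaf false) (.leaf false)) (.node (.leaf false) (.leaf false)))) (.node (.node (.node (.leaf false) (.leaf false)) (.node (.leaf false) (.leaf true))) (.node (.node (.leaf false) (.leaf false)) (.node (.leaf false) (.leaf true)))))

def bit2200 : Janko.Tree (Bool) :=
  (.node (.node (.node (.node (.node (.leaf false) (.leaf false)) (.leaf false)) (.node (.leaf false) (.leaf false))) (.node (.node (.leaf false) (.leaf false)) (.node (.leaf false) (.leaf false)))) (.node (.node (.node (.leaf false) (.leaf false)) (.node (.leaf true) (.leaf false))) (.node (.node (.leaf false) (.leaf false)) (.node (.leaf true) (.leaf true)))))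

def bit2201 : Janko.Tree (Bool) :=
  (.node (.node (.node (.node (.node (.leaf false) (.leaf false)) (.leaf false)) (.node (.leaf false) (.leaf true))) (.node (.node (.leaf false) (.leaf false)) (.node (.leaf false) (.leaf false)))) (.node (.node (.node (.leaf false) (.leaf false)) (.node (.leaf false) (.leaf true))) (.node (.node (.leaf false) (.leaf true)) (.node (.leaf false) (.leaf false)))))

def bit2202 : Janko.Tree (Bool) :=
  (.node (.node (.node (.node (.node (.leaf false) (.leaf false)) (.leaf false)) (.node (.leaf false) (.leaf false))) (.node (.node (.leaf false) (.leaf false)) (.node (.leaf false) (.leaf true)))) (.node (.node (.node (.leaf false) (.leaf true)) (.node (.leaf false) (.leaf false))) (.node (.node (.leaf false) (.leaf false)) (.node (.leaf false) (.leaf false)))))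

def bit2203 : Janko.Tree (Bool) :=
  (.node (.node (.node (.node (.node (.leaf false) (.leaf false)) (.leaf false)) (.node (.leaf false) (.leaf false))) (.node (.node (.leaf false) (.leaf false)) (.node (.leaf false) (.leaf false)))) (.node (.node (.node (.leaf false) (.leaf false)) (.node (.leaf false) (.leaf false))) (.node (.node (.leaf false) (.leaf false)) (.node (.leaf false) (.leaf false)))))

def bit2204 : Janko.Tree (Bool) :=
  (.node (.node (.node (.node (.node (.leaf false) (.leaf false)) (.leaf true)) (.node (.leaf false) (.leaf false))) (.node (.node (.leaf false) (.leaf false)) (.node (.leaf false) (.leaf true)))) (.node (.node (.node (.leaf false) (.leaf true)) (.node (.leaf false) (.leaf true))) (.node (.node (.leaf false) (.leaf true)) (.node (.leaf false) (.leaf false)))))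

def bit2205 : Janko.Tree (Bool) :=
  (.node (.node (.node (.node (.node (.leaf false) (.leaf false)) (.leaf false)) (.node (.leaf false) (.leaf false))) (.node (.node (.leaf true) (.leaf false)) (.node (.leaf false) (.leaf false)))) (.node (.node (.node (.leaf false) (.leaf false)) (.node (.leaf true) (.leaf true))) (.node (.node (.leaf false) (.leaf false)) (.node (.leaf false) (.leaf false)))))

def bit2206 : Janko.Tree (Bool) :=
  (.node (.node (.node (.node (.node (.leaf false) (.leaf false)) (.leaf false)) (.node (.leaf false) (.leaf false))) (.node (.node (.leaf false) (.leaf true)) (.node (.leaf false) (.leaf false)))) (.node (.node (.node (.leaf false) (.leaf true)) (.node (.leaf false) (.leaf false))) (.node (.node (.leaf false) (.leaf false)) (.node (.leaf true) (.leaf false)))))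

def bit2207 : Janko.Tree (Bool) :=
  (.node (.node (.node (.node (.node (.leaf false) (.leaf false)) (.leaf false)) (.node (.leaf false) (.leaf true))) (.node (.node (.leaf false) (.leaf false)) (.node (.leaf false) (.leaf false)))) (.node (.node (.node (.leaf false) (.leaf false)) (.node (.leaf true) (.leaf true))) (.node (.node (.leaf false) (.leaf false)) (.node (.leaf false) (.leaf true)))))

def bit2208 : Janko.Tree (Bool) :=
  (.node (.node (.node (.node (.node (.leaf false) (.leaf false)) (.leaf false)) (.node (.leaf false) (.leaf false))) (.node (.node (.leaf false) (.leaf true)) (.node (.leaf true) (.leaf false)))) (.node (.node (.node (.leaf false) (.leaf false)) (.node (.leaf false) (.leaf false))) (.node (.node (.leaf false) (.leaf true)) (.node (.leaf true) (.leaf false)))))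

def bit2209 : Janko.Tree (Bool) :=
  (.node (.node (.node (.node (.node (.leaf false) (.leaf false)) (.leaf true)) (.node (.leaf false) (.leaf false))) (.node (.node (.leaf false) (.leaf false)) (.node (.leaf false) (.leaf false)))) (.node (.node (.node (.leaf false) (.leaf true)) (.node (.leaf false) (.leaf false))) (.node (.node (.leaf false) (.leaf false)) (.node (.leaf false) (.leaf true)))))

def bit2210 : Janko.Tree (Bool) :=
  (.node (.node (.node (.node (.node (.leaf false) (.leaf false)) (.leaf false)) (.node (.leaf false) (.leaf false))) (.node (.node (.leaf false) (.leaf false)) (.node (.leaf false) (.leaf false)))) (.node (.node (.node (.leaf false) (.leaf false)) (.node (.leaf false) (.leaf false))) (.node (.node (.leaf false) (.leaf false)) (.node (.leaf false) (.leaf false)))))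

def bit2211 : Janko.Tree (Bool) :=
  (.node (.node (.node (.node (.node (.leaf false) (.leaf false)) (.leaf false)) (.node (.leaf false) (.leaf false))) (.node (.node (.leaf false) (.leaf false)) (.node (.leaf false) (.leaf true)))) (.node (.node (.node (.leaf false) (.leaf false)) (.node (.leaf false) (.leaf false))) (.node (.node (.leaf false) (.leaf false)) (.node (.leaf true) (.leaf false)))))

def bit2212 : Janko.Tree (Bool) :=
  (.node (.node (.node (.node (.node (.leaf false) (.leaf false)) (.leaf true)) (.node (.leaf true) (.leaf false))) (.node (.node (.leaf false) (.leaf true)) (.node (.leaf false) (.leaf true)))) (.node (.node (.node (.leaf false) (.leaf false)) (.node (.leaf false) (.leaf false))) (.node (.node (.leaf false) (.leaf false)) (.node (.leaf false) (.leaf false)))))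

def bit2213 : Janko.Tree (Bool) :=
  (.node (.node (.node (.node (.node (.leaf false) (.leaf false)) (.leaf false)) (.node (.leaf false) (.leaf false))) (.node (.node (.leaf false) (.leaf false)) (.node (.leaf false) (.leaf true)))) (.node (.node (.node (.leaf false) (.leaf false)) (.node (.leaf false) (.leaf true))) (.node (.node (.leaf false) (.leaf true)) (.node (.leaf false) (.leaf true)))))

def bit2214 : Janko.Tree (Bool) :=
  (.node (.node (.node (.node (.node (.leaf false) (.leaf true)) (.leaf false)) (.node (.leaf false) (.leaf true))) (.node (.node (.leaf false) (.leaf false)) (.node (.leaf false) (.leaf false)))) (.node (.node (.node (.leaf false) (.leaf false)) (.node (.leaf false) (.leaf true))) (.node (.node (.leaf false) (.leaf false)) (.node (.leaf false) (.leaf false)))))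

def bit2215 : Janko.Tree (Bool) :=
  (.node (.node (.node (.node (.node (.leaf false) (.leaf false)) (.leaf false)) (.node (.leaf false) (.leaf false))) (.node (.node (.leaf false) (.leaf false)) (.node (.leaf false) (.leaf false)))) (.node (.node (.node (.leaf false) (.leaf false)) (.node (.leaf false) (.leaf false))) (.node (.node (.leaf false) (.leaf false)) (.node (.leaf false) (.leaf true)))))

def bit2216 : Janko.Tree (Bool) :=
  (.node (.node (.node (.node (.node (.leaf false) (.leaf false)) (.leaf false)) (.node (.leaf false) (.leaf false))) (.node (.node (.leaf false) (.leaf false)) (.node (.leaf false) (.leaf false)))) (.node (.node (.node (.leaf false) (.leaf false)) (.node (.leaf false) (.leaf false))) (.node (.node (.leaf false) (.leaf false)) (.node (.leaf false) (.leaf false)))))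

def bit2217 : Janko.Tree (Bool) :=
  (.node (.node (.node (.node (.node (.leaf false) (.leaf false)) (.leaf false)) (.node (.leaf false) (.leaf false))) (.node (.node (.leaf false) (.leaf false)) (.node (.leaf false) (.leaf true)))) (.node (.node (.node (.leaf false) (.leaf false)) (.node (.leaf false) (.leaf false))) (.node (.node (.leaf false) (.leaf false)) (.node (.leaf false) (.leaf false)))))

def bit2218 : Janko.Tree (Bool) :=
  (.node (.node (.node (.node (.node (.leaf false) (.leaf false)) (.leaf false)) (.node (.leaf false) (.leaf false))) (.node (.node (.leaf false) (.leaf false)) (.node (.leaf true) (.leaf false)))) (.node (.node (.node (.leaf false) (.leaf true)) (.node (.leaf false) (.leaf false))) (.node (.node (.leaf false) (.leaf false)) (.node (.leaf false) (.leaf true)))))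

def bit2219 : Janko.Tree (Bool) :=
  (.node (.node (.node (.node (.node (.leaf false) (.leaf false)) (.leaf false)) (.node (.leaf false) (.leaf false))) (.node (.node (.leaf false) (.leaf false)) (.node (.leaf false) (.leaf false)))) (.node (.node (.node (.leaf false) (.leaf false)) (.node (.leaf false) (.leaf false))) (.node (.node (.leaf false) (.leaf false)) (.node (.leaf false) (.leaf true)))))

def bit2220 : Janko.Tree (Bool) :=
  (.node (.node (.node (.node (.node (.leaf false) (.leaf false)) (.leaf true)) (.node (.leaf false) (.leaf true))) (.node (.node (.leaf false) (.leaf false)) (.node (.leaf false) (.leaf false)))) (.node (.node (.node (.leaf false) (.leaf false)) (.node (.leaf false) (.leaf true))) (.node (.node (.leaf false) (.leaf true)) (.node (.leaf false) (.leaf true)))))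

def bit2221 : Janko.Tree (Bool) :=
  (.node (.node (.node (.node (.node (.leaf false) (.leaf true)) (.leaf false)) (.node (.leaf false) (.leaf true))) (.node (.node (.leaf false) (.leaf false)) (.node (.leaf false) (.leaf false)))) (.node (.node (.node (.leaf false) (.leaf false)) (.node (.leaf false) (.leaf true))) (.node (.node (.leaf false) (.leaf false)) (.node (.leaf true) (.leaf true)))))

def bit2222 : Janko.Tree (Bool) :=
  (.node (.node (.node (.node (.node (.leaf false) (.leaf false)) (.leaf false)) (.node (.leaf false) (.leaf false))) (.node (.node (.leaf false) (.leaf true)) (.node (.leaf false) (.leaf false)))) (.node (.node (.node (.leaf false) (.leaf false)) (.node (.leaf false) (.leaf true))) (.node (.node (.leaf false) (.leaf false)) (.node (.leaf true) (.leaf false)))))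

def bit2223 : Janko.Tree (Bool) :=
  (.node (.node (.node (.node (.node (.leaf false) (.leaf true)) (.leaf false)) (.node (.leaf false) (.leaf false))) (.node (.node (.leaf false) (.leaf true)) (.node (.leaf false) (.leaf false)))) (.node (.node (.node (.leaf false) (.leaf true)) (.node (.leaf false) (.leaf true))) (.node (.node (.leaf false) (.leaf true)) (.node (.leaf false) (.leaf false)))))

def bit2224 : Janko.Tree (Bool) :=
  (.node (.node (.node (.node (.node (.leaf false) (.leaf false)) (.leaf true)) (.node (.leaf false) (.leaf false))) (.node (.node (.leaf false) (.leaf false)) (.node (.leaf false) (.leaf false)))) (.node (.node (.node (.leaf false) (.leaf true)) (.node (.leaf false) (.leaf false))) (.node (.node (.leaf false) (.leaf false)) (.node (.leaf false) (.leaf true)))))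

def bit2225 : Janko.Tree (Bool) :=
  (.node (.node (.node (.node (.node (.leaf false) (.leaf true)) (.leaf false)) (.node (.leaf false) (.leaf false))) (.node (.node (.leaf false) (.leaf false)) (.node (.leaf true) (.leaf false)))) (.node (.node (.node (.leaf false) (.leaf false)) (.node (.leaf false) (.leaf true))) (.node (.node (.leaf false) (.leaf true)) (.node (.leaf true) (.leaf true)))))

def bit2226 : Janko.Tree (Bool) :=
  (.node (.node (.node (.node (.node (.leaf false) (.leaf true)) (.leaf false)) (.node (.leaf false) (.leaf true))) (.node (.node (.leaf false) (.leaf false)) (.node (.leaf false) (.leaf false)))) (.node (.node (.node (.leaf false) (.leaf false)) (.node (.leaf false) (.leaf false))) (.node (.node (.leaf false) (.leaf true)) (.node (.leaf false) (.leaf false)))))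

def bit2227 : Janko.Tree (Bool) :=
  (.node (.node (.node (.node (.node (.leaf false) (.leaf true)) (.leaf false)) (.node (.leaf false) (.leaf false))) (.node (.node (.leaf false) (.leaf false)) (.node (.leaf false) (.leaf true)))) (.node (.node (.node (.leaf true) (.leaf false)) (.node (.leaf false) (.leaf true))) (.node (.node (.leaf false) (.leaf false)) (.node (.leaf false) (.leaf false)))))

def bit2228 : Janko.Tree (Bool) :=
  (.node (.node (.node (.node (.node (.leaf false) (.leaf false)) (.leaf false)) (.node (.leaf false) (.leaf false))) (.node (.node (.leaf true) (.leaf false)) (.node (.leaf false) (.leaf true)))) (.node (.node (.node (.leaf false) (.leaf false)) (.node (.leaf false) (.leaf false))) (.node (.node (.leaf false) (.leaf false)) (.node (.leaf false) (.leaf true)))))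

def bit2229 : Janko.Tree (Bool) :=
  (.node (.node (.node (.node (.node (.leaf false) (.leaf false)) (.leaf false)) (.node (.leaf false) (.leaf false))) (.node (.node (.leaf false) (.leaf false)) (.node (.leaf true) (.leaf false)))) (.node (.node (.node (.leaf false) (.leaf false)) (.node (.leaf false) (.leaf true))) (.node (.node (.leaf false) (.leaf true)) (.node (.leaf true) (.leaf false)))))

def bit2230 : Janko.Tree (Bool) :=
  (.node (.node (.node (.node (.node (.leaf false) (.leaf true)) (.leaf false)) (.node (.leaf false) (.leaf true))) (.node (.node (.leaf false) (.leaf true)) (.node (.leaf false) (.leaf false)))) (.node (.node (.node (.leaf false) (.leaf false)) (.node (.leaf false) (.leaf false))) (.node (.node (.leaf false) (.leaf false)) (.node (.leaf false) (.leaf true)))))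

def bit2231 : Janko.Tree (Bool) :=
  (.node (.node (.node (.node (.node (.leaf false) (.leaf false)) (.leaf false)) (.node (.leaf false) (.leaf true))) (.node (.node (.leaf false) (.leaf true)) (.node (.leaf false) (.leaf false)))) (.node (.node (.node (.leaf false) (.leaf false)) (.node (.leaf true) (.leaf true))) (.node (.node (.leaf false) (.leaf false)) (.node (.leaf false) (.leaf false)))))

def bit2232 : Janko.Tree (Bool) :=
  (.node (.node (.node (.node (.node (.leaf false) (.leaf true)) (.leaf false)) (.node (.leaf false) (.leaf false))) (.node (.node (.leaf false) (.leaf false)) (.node (.leaf false) (.leaf false)))) (.node (.node (.node (.leaf false) (.leaf false)) (.node (.leaf false) (.leaf false))) (.node (.node (.leaf false) (.leaf false)) (.node (.leaf false) (.leaf true)))))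

def bit2233 : Janko.Tree (Bool) :=
  (.node (.node (.node (.node (.node (.leaf false) (.leaf false)) (.leaf false)) (.node (.leaf false) (.leaf true))) (.node (.node (.leaf false) (.leaf true)) (.node (.leaf false) (.leaf true)))) (.node (.node (.node (.leaf false) (.leaf false)) (.node (.leaf false) (.leaf true))) (.node (.node (.leaf false) (.leaf false)) (.node (.leaf false) (.leaf true)))))

def bit2234 : Janko.Tree (Bool) :=
  (.node (.node (.node (.node (.node (.leaf false) (.leaf false)) (.leaf false)) (.node (.leaf false) (.leaf true))) (.node (.node (.leaf false) (.leaf false)) (.node (.leaf false) (.leaf false)))) (.node (.node (.node (.leaf false) (.leaf false)) (.node (.leaf false) (.leaf false))) (.node (.node (.leaf false) (.leaf false)) (.node (.leaf false) (.leaf false)))))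

def bit2235 : Janko.Tree (Bool) :=
  (.node (.node (.node (.node (.node (.leaf false) (.leaf true)) (.leaf false)) (.node (.leaf false) (.leaf false))) (.node (.node (.leaf true) (.leaf false)) (.node (.leaf false) (.leaf true)))) (.node (.node (.node (.leaf false) (.leaf false)) (.node (.leaf false) (.leaf false))) (.node (.node (.leaf false) (.leaf false)) (.node (.leaf false) (.leaf false)))))

def bit2236 : Janko.Tree (Bool) :=
  (.node (.node (.node (.node (.node (.leaf false) (.leaf true)) (.leaf true)) (.node (.leaf false) (.leaf false))) (.node (.node (.leaf false) (.leaf false)) (.node (.leaf false) (.leaf false)))) (.node (.node (.node (.leaf false) (.leaf false)) (.node (.leaf false) (.leaf false))) (.node (.node (.leaf false) (.leaf true)) (.node (.leaf false) (.leaf true)))))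

def bit2237 : Janko.Tree (Bool) :=
  (.node (.node (.node (.node (.node (.leaf false) (.leaf true)) (.leaf true)) (.node (.leaf false) (.leaf false))) (.node (.node (.leaf false) (.leaf false)) (.node (.leaf false) (.leaf false)))) (.node (.node (.node (.leaf false) (.leaf false)) (.node (.leaf false) (.leaf false))) (.node (.node (.leaf false) (.leaf true)) (.node (.leaf false) (.leaf false)))))

def bit2238 : Janko.Tree (Bool) :=
  (.node (.node (.node (.node (.node (.leaf false) (.leaf false)) (.leaf false)) (.node (.leaf false) (.leaf false))) (.node (.node (.leaf false) (.leaf true)) (.node (.leaf false) (.leaf true)))) (.node (.node (.node (.leaf false) (.leaf false)) (.node (.leaf false) (.leaf false))) (.node (.node (.leaf false) (.leaf false)) (.node (.leaf false) (.leaf false)))))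

def bit2239 : Janko.Tree (Bool) :=
  (.node (.node (.node (.node (.node (.leaf false) (.leaf false)) (.leaf false)) (.node (.leaf false) (.leaf false))) (.node (.node (.leaf false) (.leaf true)) (.node (.leaf false) (.leaf false)))) (.node (.node (.node (.leaf false) (.leaf false)) (.node (.leaf false) (.leaf false))) (.node (.node (.leaf false) (.leaf false)) (.node (.leaf false) (.leaf false)))))

def bit2240 : Janko.Tree (Bool) :=
  (.node (.node (.node (.node (.node (.leaf false) (.leaf false)) (.leaf false)) (.node (.leaf false) (.leaf false))) (.node (.node (.leaf false) (.leaf false)) (.node (.leaf false) (.leaf false)))) (.node (.node (.node (.leaf false) (.leaf false)) (.node (.leaf true) (.leaf false))) (.node (.node (.leaf true) (.leaf false)) (.node (.leaf false) (.leaf false)))))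

def bit2241 : Janko.Tree (Bool) :=
  (.node (.node (.node (.node (.node (.leaf false) (.leaf true)) (.leaf true)) (.node (.leaf false) (.leaf false))) (.node (.node (.leaf false) (.leaf false)) (.node (.leaf false) (.leaf false)))) (.node (.node (.node (.leaf false) (.leaf false)) (.node (.leaf false) (.leaf true))) (.node (.node (.leaf false) (.leaf true)) (.node (.leaf false) (.leaf true)))))

def bit2242 : Janko.Tree (Bool) :=
  (.node (.node (.node (.node (.node (.leaf false) (.leaf true)) (.leaf false)) (.node (.leaf false) (.leaf false))) (.node (.node (.leaf false) (.leaf false)) (.node (.leaf false) (.leaf true)))) (.node (.node (.node (.leaf false) (.leaf false)) (.node (.leaf false) (.leaf true))) (.node (.node (.leaf false) (.leaf true)) (.node (.leaf false) (.leaf false)))))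

def bit2243 : Janko.Tree (Bool) :=
  (.node (.node (.node (.node (.node (.leaf false) (.leaf true)) (.leaf false)) (.node (.leaf false) (.leaf false))) (.node (.node (.leaf false) (.leaf false)) (.node (.leaf false) (.leaf false)))) (.node (.node (.node (.leaf false) (.leaf false)) (.node (.leaf false) (.leaf false))) (.node (.node (.leaf false) (.leaf false)) (.node (.leaf false) (.leaf true)))))

def bit2244 : Janko.Tree (Bool) :=
  (.node (.node (.node (.node (.node (.leaf false) (.leaf false)) (.leaf false)) (.node (.leaf false) (.leaf false))) (.node (.node (.leaf false) (.leaf false)) (.node (.leaf false) (.leaf false)))) (.node (.node (.node (.leaf false) (.leaf false)) (.node (.leaf true) (.leaf false))) (.node (.node (.leaf false) (.leaf false)) (.node (.leaf false) (.leaf false)))))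

def bit2245 : Janko.Tree (Bool) :=
  (.node (.node (.node (.node (.node (.leaf false) (.leaf true)) (.leaf false)) (.node (.leaf false) (.leaf true))) (.node (.node (.leaf false) (.leaf false)) (.node (.leaf false) (.leaf false)))) (.node (.node (.node (.leaf false) (.leaf false)) (.node (.leaf false) (.leaf false))) (.node (.node (.leaf false) (.leaf false)) (.node (.leaf false) (.leaf true)))))

def bit2246 : Janko.Tree (Bool) :=
  (.node (.node (.node (.node (.node (.leaf false) (.leaf true)) (.leaf true)) (.node (.leaf false) (.leaf true))) (.node (.node (.leaf false) (.leaf false)) (.node (.leaf false) (.leaf false)))) (.node (.node (.node (.leaf false) (.leaf false)) (.node (.leaf false) (.leaf false))) (.node (.node (.leaf false) (.leaf false)) (.node (.leaf true) (.leaf true)))))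

def bit2247 : Janko.Tree (Bool) :=
  (.node (.node (.node (.node (.node (.leaf false) (.leaf false)) (.leaf false)) (.node (.leaf false) (.leaf false))) (.node (.node (.leaf false) (.leaf false)) (.node (.leaf false) (.leaf false)))) (.node (.node (.node (.leaf false) (.leaf false)) (.node (.leaf false) (.leaf false))) (.node (.node (.leaf false) (.leaf false)) (.node (.leaf false) (.leaf false)))))

def bit2248 : Janko.Tree (Bool) :=
  (.node (.node (.node (.node (.node (.leaf false) (.leaf false)) (.leaf false)) (.node (.leaf false) (.leaf false))) (.node (.node (.leaf false) (.leaf false)) (.node (.leaf false) (.leaf false)))) (.node (.node (.node (.leaf false) (.leaf false)) (.node (.leaf false) (.leaf false))) (.node (.node (.leaf false) (.leaf false)) (.node (.leaf false) (.leaf true)))))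

def bit2249 : Janko.Tree (Bool) :=
  (.node (.node (.node (.node (.node (.leaf false) (.leaf true)) (.leaf false)) (.node (.leaf false) (.leaf false))) (.node (.node (.leaf false) (.leaf false)) (.node (.leaf false) (.leaf false)))) (.node (.node (.node (.leaf false) (.leaf true)) (.node (.leaf false) (.leaf true))) (.node (.node (.leaf false) (.leaf false)) (.node (.leaf false) (.leaf false)))))

def bit2250 : Janko.Tree (Bool) :=
  (.node (.node (.node (.node (.node (.leaf false) (.leaf true)) (.leaf true)) (.node (.leaf false) (.leaf false))) (.node (.node (.leaf false) (.leaf false)) (.node (.leaf false) (.leaf false)))) (.node (.node (.node (.leaf false) (.leaf false)) (.node (.leaf true) (.leaf false))) (.node (.node (.leaf false) (.leaf false)) (.node (.leaf false) (.leaf false)))))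

def bit2251 : Janko.Tree (Bool) :=
  (.node (.node (.node (.node (.node (.leaf false) (.leaf true)) (.leaf false)) (.node (.leaf false) (.leaf false))) (.node (.node (.leaf false) (.leaf false)) (.node (.leaf false) (.leaf false)))) (.node (.node (.node (.leaf false) (.leaf false)) (.node (.leaf false) (.leaf false))) (.node (.node (.leaf true) (.leaf false)) (.node (.leaf false) (.leaf true)))))

def bit2252 : Janko.Tree (Bool) :=
  (.node (.node (.node (.node (.node (.leaf false) (.leaf true)) (.leaf false)) (.node (.leaf false) (.leaf true))) (.node (.node (.leaf false) (.leaf true)) (.node (.leaf false) (.leaf false)))) (.node (.node (.node (.leaf false) (.leaf false)) (.node (.leaf false) (.leaf true))) (.node (.node (.leaf false) (.leaf false)) (.node (.leaf false) (.leaf false)))))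

def bit2253 : Janko.Tree (Bool) :=
  (.node (.node (.node (.node (.node (.leaf false) (.leaf true)) (.leaf false)) (.node (.leaf false) (.leaf true))) (.node (.node (.leaf false) (.leaf false)) (.node (.leaf false) (.leaf false)))) (.node (.node (.node (.leaf false) (.leaf false)) (.node (.leaf false) (.leaf false))) (.node (.node (.leaf false) (.leaf true)) (.node (.leaf false) (.leaf true)))))

def bit2254 : Janko.Tree (Bool) :=
  (.node (.node (.node (.node (.node (.leaf false) (.leaf false)) (.leaf false)) (.node (.leaf false) (.leaf true))) (.node (.node (.leaf false) (.leaf false)) (.node (.leaf false) (.leaf true)))) (.node (.node (.node (.leaf false) (.leaf false)) (.node (.leaf true) (.leaf false))) (.node (.node (.leaf false) (.leaf false)) (.node (.leaf false) (.leaf false)))))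

def bit2255 : Janko.Tree (Bool) :=
  (.node (.node (.node (.node (.node (.leaf false) (.leaf true)) (.leaf false)) (.node (.leaf false) (.leaf false))) (.node (.node (.leaf false) (.leaf false)) (.node (.leaf false) (.leaf true)))) (.node (.node (.node (.leaf false) (.leaf false)) (.node (.leaf false) (.leaf false))) (.node (.node (.leaf false) (.leaf false)) (.node (.leaf false) (.leaf true)))))

def bit2 : Janko.Tree (Bool) :=
  (.node (.node (.node (.node (.node (.node (.node (.node bit20 bit2128) (.node bit264 bit2192)) (.node (.node bit232 bit2160) (.node bit296 bit2224))) (.node (.node (.node bit216 bit2144) (.node bit280 bit2208)) (.node (.node bit248 bit2176) (.node bit2112 bit2240)))) (.node (.node (.node (.node bit28 bit2136) (.node bit272 bit2200)) (.node (.node bit240 bit2168) (.node bit2104 bit2232))) (.node (.node (.node bit224 bit2152) (.node bit288 bit2216)) (.node (.node bit256 bit2184) (.node bit2120 bit2248))))) (.node (.node (.node (.node (.node bit24 bit2132) (.node bit268 bit2196)) (.node (.node bit236 bit2164) (.node bit2100 bit2228))) (.node (.node (.node bit220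 bit2148) (.node bit284 bit2212)) (.node (.node bit252 bit2180) (.node bit2116 bit2244)))) (.node (.node (.node (.node bit212 bit2140) (.node bit276 bit2204)) (.node (.node bit244 bit2172) (.node bit2108 bit2236))) (.node (.node (.node bit228 bit2156) (.node bit292 bit2220)) (.node (.node bit260 bit2188) (.node bit2124 bit2252)))))) (.node (.node (.node (.node (.node (.node bit22 bit2130) (.node bit266 bit2194)) (.node (.node bit234 bit2162) (.node bit298 bit2226))) (.node (.node (.node bit218 bit2146) (.node bit282 bit2210)) (.node (.node bit250 bit2178) (.node bit2114 bit2242)))) (.node (.node (.node (.node bit210 bit2138) (.node bit274 bit2202)) (.node (.node bit242 bit2170) (.node bit2106 bit2234))) (.node (.node (.node bit226 bit2154) (.node bit290 bit2218)) (.node (.node bit258 bit2186) (.node bit2122 bit2250))))) (.node (.node (.node (.node (.node bit26 bit2134) (.node bit270 bit2198)) (.node (.node bit238 bit2166) (.node bit2102 bit2230))) (.node (.node (.node bit222 bit2150) (.node bit286 bit2214)) (.node (.node bit254 bit2182) (.node bit2118 bit2246)))) (.node (.node (.node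 (.node bit214 bit2142) (.node bit278 bit2206)) (.node (.node bit246 bit2174) (.node bit2110 bit2238))) (.node (.node (.node bit230 bit2158) (.node bit294 bit2222)) (.node (.node bit262 bit2190) (.node bit2126 bit2254))))))) (.node (.node (.node (.node (.node (.node (.node bit21 bit2129) (.node bit265 bit2193)) (.node (.node bit233 bit2161) (.node bit297 bit2225))) (.node (.node (.node bit217 bit2145) (.node bit281 bit2209)) (.node (.node bit249 bit2177) (.node bit2113 bit2241)))) (.node (.node (.node (.node bit29 bit2137) (.node bit273 bit2201)) (.node (.node bit241 bit2169) (.node bit2105 bit2233))) (.node (.node (.node bit225 bit2153) (.node bit289 bit2217)) (.node (.node bit257 bit2185) (.node bit2121 bit2249))))) (.node (.node (.node (.node (.node bit25 bit2133) (.node bit269 bit2197)) (.node (.node bit237 bit2165) (.node bit2101 bit2229))) (.node (.node (.node bit221 bit2149) (.node bit285 bit2213)) (.node (.node bit253 bit2181) (.node bit2117 bit2245)))) (.node (.node (.node (.node bit213 bit2141) (.node bit277 bit2205)) (.node (.node bit245 bit2173) (.node bit2109 bit2237)))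 (.node (.node (.node bit229 bit2157) (.node bit293 bit2221)) (.node (.node bit261 bit2189) (.node bit2125 bit2253)))))) (.node (.node (.node (.node (.node (.node bit23 bit2131) (.node bit267 bit2195)) (.node (.node bit235 bit2163) (.node bit299 bit2227))) (.node (.node (.node bit219 bit2147) (.node bit283 bit2211)) (.node (.node bit251 bit2179) (.node bit2115 bit2243)))) (.node (.node (.node (.node bit211 bit2139) (.node bit275 bit2203)) (.node (.node bit243 bit2171) (.node bit2107 bit2235))) (.node (.node (.node bit227 bit2155) (.node bit291 bit2219)) (.node (.node bit259 bit2187) (.node bit2123 bit2251))))) (.node (.node (.node (.node (.node bit27 bit2135) (.node bit271 bit2199)) (.node (.node bit239 bit2167) (.node bit2103 bit2231))) (.node (.node (.node bit223 bit2151) (.node bit287 bit2215)) (.node (.node bit255 bit2183) (.node bit2119 bit2247)))) (.node (.node (.node (.node bit215 bit2143) (.node bit279 bit2207)) (.node (.node bit247 bit2175) (.node bit2111 bit2239))) (.node (.node (.node bit231 bit2159) (.node bit295 bit2223)) (.node (.node bit263 bit2191) (.node bit2127 bit2255))))))))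

def nbr20 : Janko.Tree (List ℕ) :=
  (.node (.node (.node (.node (.node (.leaf [2, 660, 1316, 2056, 2779, 3041, 3524, 3573, 3663, 3718, 4059, 4130, 4317]) (.leaf [233, 319, 500, 1066, 1568, 1906, 2066, 2620, 2725, 2825, 3941, 3972, 4267])) (.leaf [22, 701, 1161, 1628, 1778, 1806, 1970, 2115, 3615, 3643, 3710, 4175, 4331])) (.node (.leaf [541, 612, 1038, 1069, 1976, 2668, 2985, 3077, 3435, 3796, 3883, 4094, 4404]) (.leaf [205, 308, 884, 988, 1233, 1872, 2969, 2987, 3624, 3829, 3851, 3887, 4379]))) (.node (.node (.leaf [255, 578, 781, 792, 811, 997, 2458, 2464, 2518, 2529, 2823, 2845, 3935]) (.leaf [247, 584, 950, 1028, 1115, 2532, 2716, 3200, 3255, 3513, 3945, 4065, 4431])) (.node (.leaf [156, 193, 327, 332, 746, 798, 2062, 2408, 3402, 3636, 3959, 4234, 4463]) (.leaf [208, 285, 1176, 1364, 1409, 1520, 1905, 1917, 2507, 3553, 4053, 4114, 4171])))) (.node (.node (.node (.node (.leaf [432, 522, 692, 797, 890, 1798, 2052, 2119, 2750, 2771, 4209, 4246, 4439]) (.leaf [62, 195, 667, 737, 771, 1018, 1264, 2030, 2765, 2879, 3137, 3577, 4225])) (.leaf [124, 413, 440, 550, 1632, 2488, 2509, 2738,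 2878, 2944, 3185, 3453, 4142])) (.node (.leaf [341, 570, 1080, 1401, 1852, 1854, 1964, 1985, 2083, 2253, 2267, 3703, 4450]) (.leaf [236, 1022, 1147, 1149, 1273, 1467, 1657, 2166, 2493, 2562, 2613, 3633, 3922]))) (.node (.node (.leaf [622, 806, 857, 1189, 1206, 1212, 1225, 1543, 2041, 2439, 2617, 2708, 3078]) (.leaf [392, 710, 846, 1061, 1255, 1733, 2673, 3423, 3504, 3799, 3994, 4288, 4437])) (.node (.leaf [782, 1052, 1446, 1517, 1575, 1723, 1920, 2240, 3346, 3549, 3692, 3798, 3838]) (.leaf [271, 376, 493, 1218, 1615, 1704, 1967, 2018, 3507, 3575, 4046, 4226, 4352])))))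

def nbr21 : Janko.Tree (List ℕ) :=
  (.node (.node (.node (.node (.node (.leaf [3, 661, 1317, 2057, 2778, 3040, 3525, 3572, 3662, 3719, 4058, 4131, 4316]) (.leaf [232, 318, 501, 1067, 1569, 1907, 2067, 2621, 2724, 2824, 3940, 3973, 4266])) (.leaf [23, 700, 1160, 1629, 1779, 1807, 1971, 2114, 3614, 3642, 3711, 4174, 4330])) (.node (.leaf [540, 613, 1039, 1068, 1977, 2669, 2984, 3076, 3434, 3797, 3882, 4095, 4405]) (.leaf [204, 309, 885, 989, 1232, 1873, 2968, 2986, 3625, 3828, 3850, 3886, 4378]))) (.node (.node (.leaf [254, 579, 780, 793, 810, 996, 2459, 2465, 2519, 2528, 2822, 2844, 3934]) (.leaf [246, 585, 951, 1029, 1114, 2533, 2717, 3201, 3254, 3512, 3944, 4064, 4430])) (.node (.leaf [157, 192, 326, 333, 747, 799, 2063, 2409, 3403, 3637, 3958, 4235, 4462]) (.leaf [209, 284, 1177, 1365, 1408, 1521, 1904, 1916, 2506, 3552, 4052, 4115, 4170])))) (.node (.node (.node (.node (.leaf [433, 523, 693, 796, 891, 1799, 2053, 2118, 2751, 2770, 4208, 4247, 4438]) (.leaf [63, 194, 666, 736, 770, 1019, 1265, 2031, 2764, 2878, 3136, 3576, 4224])) (.leaf [125, 412, 441, 551, 1633, 2489, 2508, 2739,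 2879, 2945, 3184, 3452, 4143])) (.node (.leaf [340, 571, 1081, 1400, 1853, 1855, 1965, 1984, 2082, 2252, 2266, 3702, 4451]) (.leaf [237, 1023, 1146, 1148, 1272, 1466, 1656, 2167, 2492, 2563, 2612, 3632, 3923]))) (.node (.node (.leaf [623, 807, 856, 1188, 1207, 1213, 1224, 1542, 2040, 2438, 2616, 2709, 3079]) (.leaf [393, 711, 847, 1060, 1254, 1732, 2672, 3422, 3505, 3798, 3995, 4289, 4436])) (.node (.leaf [783, 1053, 1447, 1516, 1574, 1722, 1921, 2241, 3347, 3548, 3693, 3799, 3839]) (.leaf [270, 377, 492, 1219, 1614, 1705, 1966, 2019, 3506, 3574, 4047, 4227, 4353])))))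

def nbr22 : Janko.Tree (List ℕ) :=
  (.node (.node (.node (.node (.node (.leaf [6, 949, 1094, 1988, 2649, 3349, 3547, 3600, 3732, 3755, 3760, 3765, 4469]) (.leaf [102, 235, 1068, 2152, 2170, 2251, 2390, 2665, 3252, 3387, 3434, 3809, 4449])) (.leaf [607, 954, 1153, 1227, 1547, 1608, 1700, 2262, 2348, 2449, 3179, 3613, 4019])) (.node (.leaf [4, 29, 1197, 1416, 1467, 2000, 2118, 2346, 3299, 3570, 4091, 4148, 4410]) (.leaf [126, 138, 385, 691, 1003, 1681, 1989, 2197, 2525, 2584, 3165, 3801, 4435]))) (.node (.node (.leaf [476, 676, 794, 1583, 1663, 1871, 2219, 2745, 2821, 3003, 3533, 4091, 4159]) (.leaf [265, 1001, 1010, 1500, 1958, 2061, 2351, 2356, 2849, 3202, 3395, 3654, 3724])) (.node (.leaf [88, 195, 334, 748, 1449, 2064, 2474, 2940, 3638, 3932, 4281, 4340, 4465]) (.leaf [81, 212, 296, 1047, 1599, 1705, 2355, 2450, 2810, 3218, 3463, 4116, 4296])))) (.node (.node (.node (.node (.leaf [434, 557, 646, 799, 2056, 2265, 2548, 2779, 2982, 2988, 3511, 3526, 3696]) (.leaf [158, 297, 775, 819, 1840, 2034, 3281, 3766, 3940, 4015, 4118, 4157, 4350])) (.leaf [442, 468, 516, 621, 864, 1113, 2352,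 2946, 3479, 3575, 3676, 3929, 4125])) (.node (.leaf [366, 628, 918, 1164, 1856, 2111, 2210, 2562, 2612, 2645, 3254, 3559, 3955]) (.leaf [447, 700, 823, 1659, 2466, 3123, 3231, 3377, 3493, 3711, 3791, 3848, 3946]))) (.node (.node (.leaf [465, 528, 1208, 1410, 1731, 2441, 2710, 2769, 2978, 3033, 3184, 3607, 4249]) (.leaf [114, 141, 160, 627, 1007, 2171, 2299, 2665, 2694, 3224, 3506, 4227, 4270])) (.node (.leaf [1064, 1519, 1577, 2242, 2402, 2450, 2464, 2528, 3072, 3348, 4278, 4399, 4469]) (.leaf [294, 497, 764, 1220, 1256, 1782, 1981, 3008, 3249, 3475, 3494, 3967, 4258])))))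

def nbr23 : Janko.Tree (List ℕ) :=
  (.node (.node (.node (.node (.node (.leaf [7, 948, 1095, 1989, 2648, 3348, 3546, 3601, 3733, 3754, 3761, 3764, 4468]) (.leaf [103, 234, 1069, 2153, 2171, 2250, 2391, 2664, 3253, 3386, 3435, 3808, 4448])) (.leaf [606, 955, 1152, 1226, 1546, 1609, 1701, 2263, 2349, 2448, 3178, 3612, 4018])) (.node (.leaf [5, 28, 1196, 1417, 1466, 2001, 2119, 2347, 3298, 3571, 4090, 4149, 4411]) (.leaf [127, 139, 384, 690, 1002, 1680, 1988, 2196, 2524, 2585, 3164, 3800, 4434]))) (.node (.node (.leaf [477, 677, 795, 1582, 1662, 1870, 2218, 2744, 2820, 3002, 3532, 4090, 4158]) (.leaf [264, 1000, 1011, 1501, 1959, 2060, 2350, 2357, 2848, 3203, 3394, 3655, 3725])) (.node (.leaf [89, 194, 335, 749, 1448, 2065, 2475, 2941, 3639, 3933, 4280, 4341, 4464]) (.leaf [80, 213, 297, 1046, 1598, 1704, 2354, 2451, 2811, 3219, 3462, 4117, 4297])))) (.node (.node (.node (.node (.leaf [435, 556, 647, 798, 2057, 2264, 2549, 2778, 2983, 2989, 3510, 3527, 3697]) (.leaf [159, 296, 774, 818, 1841, 2035, 3280, 3767, 3941, 4014, 4119, 4156, 4351])) (.leaf [443, 469, 517, 620, 865, 1112, 2353,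 2947, 3478, 3574, 3677, 3928, 4124])) (.node (.leaf [367, 629, 919, 1165, 1857, 2110, 2211, 2563, 2613, 2644, 3255, 3558, 3954]) (.leaf [446, 701, 822, 1658, 2467, 3122, 3230, 3376, 3492, 3710, 3790, 3849, 3947]))) (.node (.node (.leaf [464, 529, 1209, 1411, 1730, 2440, 2711, 2768, 2979, 3032, 3185, 3606, 4248]) (.leaf [115, 140, 161, 626, 1006, 2170, 2298, 2664, 2695, 3225, 3507, 4226, 4271])) (.node (.leaf [1065, 1518, 1576, 2243, 2403, 2451, 2465, 2529, 3073, 3349, 4279, 4398, 4468]) (.leaf [295, 496, 765, 1221, 1257, 1783, 1980, 3009, 3248, 3474, 3495, 3966, 4259])))))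

def nbr24 : Janko.Tree (List ℕ) :=
  (.node (.node (.node (.node (.node (.leaf [8, 680, 1096, 1712, 1990, 2842, 3053, 3429, 3549, 3636, 3784, 3984, 4406]) (.leaf [0, 249, 1231, 1796, 2370, 2470, 2833, 2900, 3105, 3243, 3403, 4029, 4145])) (.leaf [600, 850, 956, 1229, 1247, 1702, 1735, 2350, 3530, 3615, 3746, 4222, 4433])) (.node (.leaf [570, 1179, 1347, 1418, 1711, 2002, 2292, 2442, 2987, 3001, 3527, 4074, 4374]) (.leaf [62, 741, 1099, 1398, 2133, 2288, 2506, 2583, 2928, 3059, 3178, 3355, 3831]))) (.node (.node (.leaf [649, 796, 848, 1152, 2024, 2348, 2688, 3169, 3387, 4233, 4240, 4246, 4459]) (.leaf [267, 483, 1259, 1366, 2358, 2774, 3086, 3176, 3204, 3483, 3515, 3656, 4067])) (.node (.leaf [817, 887, 1168, 1214, 1292, 2066, 2189, 2501, 2724, 3345, 3681, 3753, 4463]) (.leaf [39, 214, 261, 298, 727, 1049, 2967, 3091, 3486, 3489, 3930, 4118, 4416])))) (.node (.node (.node (.node (.leaf [436, 927, 1702, 1997, 2131, 2173, 2420, 2626, 3626, 3861, 4359, 4433, 4447]) (.leaf [58, 551, 773, 838, 1207, 1683, 2078, 2287, 2525, 2709, 3097, 3734, 3782])) (.leaf [771, 798, 1278, 1482, 1654, 2056,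 2491, 2518, 2704, 2880, 3525, 3935, 4024])) (.node (.leaf [479, 1579, 1756, 1860, 1899, 2003, 2184, 2234, 2442, 2540, 2743, 3873, 4054]) (.leaf [462, 861, 864, 1502, 1872, 1936, 2101, 2360, 2782, 2919, 3414, 3774, 4041]))) (.node (.node (.leaf [76, 133, 218, 568, 590, 1210, 1251, 1881, 2440, 2645, 2931, 3630, 4216]) (.leaf [143, 152, 338, 421, 1268, 1551, 2051, 2063, 2408, 2699, 3042, 3321, 3964])) (.node (.leaf [1210, 1580, 1662, 1706, 2091, 2239, 2440, 2486, 3310, 3619, 3712, 3862, 3895]) (.leaf [256, 373, 761, 1102, 1188, 1212, 1229, 2248, 2320, 3117, 3325, 3447, 3596])))))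

def nbr25 : Janko.Tree (List ℕ) :=
  (.node (.node (.node (.node (.node (.leaf [9, 681, 1097, 1713, 1991, 2843, 3052, 3428, 3548, 3637, 3785, 3985, 4407]) (.leaf [1, 248, 1230, 1797, 2371, 2471, 2832, 2901, 3104, 3242, 3402, 4028, 4144])) (.leaf [601, 851, 957, 1228, 1246, 1703, 1734, 2351, 3531, 3614, 3747, 4223, 4432])) (.node (.leaf [571, 1178, 1346, 1419, 1710, 2003, 2293, 2443, 2986, 3000, 3526, 4075, 4375]) (.leaf [63, 740, 1098, 1399, 2132, 2289, 2507, 2582, 2929, 3058, 3179, 3354, 3830]))) (.node (.node (.leaf [648, 797, 849, 1153, 2025, 2349, 2689, 3168, 3386, 4232, 4241, 4247, 4458]) (.leaf [266, 482, 1258, 1367, 2359, 2775, 3087, 3177, 3205, 3482, 3514, 3657, 4066])) (.node (.leaf [816, 886, 1169, 1215, 1293, 2067, 2188, 2500, 2725, 3344, 3680, 3752, 4462]) (.leaf [38, 215, 260, 299, 726, 1048, 2966, 3090, 3487, 3488, 3931, 4119, 4417])))) (.node (.node (.node (.node (.leaf [437, 926, 1703, 1996, 2130, 2172, 2421, 2627, 3627, 3860, 4358, 4432, 4446]) (.leaf [59, 550, 772, 839, 1206, 1682, 2079, 2286, 2524, 2708, 3096, 3735, 3783])) (.leaf [770, 799, 1279, 1483, 1655, 2057,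 2490, 2519, 2705, 2881, 3524, 3934, 4025])) (.node (.leaf [478, 1578, 1757, 1861, 1898, 2002, 2185, 2235, 2443, 2541, 2742, 3872, 4055]) (.leaf [463, 860, 865, 1503, 1873, 1937, 2100, 2361, 2783, 2918, 3415, 3775, 4040]))) (.node (.node (.leaf [77, 132, 219, 569, 591, 1211, 1250, 1880, 2441, 2644, 2930, 3631, 4217]) (.leaf [142, 153, 339, 420, 1269, 1550, 2050, 2062, 2409, 2698, 3043, 3320, 3965])) (.node (.leaf [1211, 1581, 1663, 1707, 2090, 2238, 2441, 2487, 3311, 3618, 3713, 3863, 3894]) (.leaf [257, 372, 760, 1103, 1189, 1213, 1228, 2249, 2321, 3116, 3324, 3446, 3597])))))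

def nbr26 : Janko.Tree (List ℕ) :=
  (.node (.node (.node (.node (.node (.leaf [14, 271, 412, 1495, 2768, 3447, 3573, 3843, 3916, 4141, 4166, 4245, 4248]) (.leaf [275, 415, 742, 769, 965, 1262, 1473, 2083, 2103, 2267, 2484, 3871, 4370])) (.leaf [49, 279, 816, 1091, 1108, 1395, 1410, 2346, 2586, 2997, 3708, 3852, 4360])) (.node (.leaf [12, 186, 277, 463, 806, 1207, 1293, 1591, 2240, 2286, 2578, 3695, 4175]) (.leaf [82, 610, 977, 1323, 1411, 1668, 2632, 3033, 3146, 3471, 3634, 3972, 4430]))) (.node (.node (.leaf [564, 651, 798, 1427, 2350, 2668, 2973, 2988, 3654, 3869, 4223, 4235, 4404]) (.leaf [286, 335, 931, 1108, 1395, 2097, 2468, 2504, 2763, 2787, 3034, 3304, 4152])) (.node (.leaf [96, 819, 969, 1294, 1586, 1923, 2068, 2074, 3023, 3196, 3683, 3738, 4465]) (.leaf [263, 280, 592, 717, 793, 1156, 1926, 2073, 2285, 3023, 3222, 3489, 3989])))) (.node (.node (.node (.node (.leaf [112, 438, 1347, 1654, 1959, 2517, 2708, 2946, 3230, 3418, 4079, 4232, 4381]) (.leaf [40, 129, 252, 995, 1265, 1321, 1969, 2765, 3112, 3291, 3367, 3580, 4027])) (.leaf [171, 802, 930, 1402, 1627, 1839, 2304, 2446,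 2787, 2792, 4261, 4307, 4396])) (.node (.leaf [100, 481, 1282, 1581, 1862, 2486, 2542, 2809, 2819, 3395, 3883, 4020, 4203]) (.leaf [704, 907, 912, 1431, 1820, 1938, 2310, 3416, 3426, 3598, 3713, 3894, 4113]))) (.node (.node (.leaf [2, 441, 1212, 1632, 1873, 2013, 2580, 3079, 3851, 3914, 3943, 4043, 4218]) (.leaf [145, 154, 341, 2053, 2065, 2601, 2696, 2701, 2940, 3009, 3702, 3966, 3981])) (.node (.leaf [930, 1212, 1326, 1664, 1770, 2785, 3015, 3223, 3621, 3714, 3814, 3864, 4043]) (.leaf [18, 377, 426, 1173, 1472, 2274, 2698, 3082, 3208, 3368, 3970, 4146, 4161])))))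

def nbr27 : Janko.Tree (List ℕ) :=
  (.node (.node (.node (.node (.node (.leaf [15, 270, 413, 1494, 2769, 3446, 3572, 3842, 3917, 4140, 4167, 4244, 4249]) (.leaf [274, 414, 743, 768, 964, 1263, 1472, 2082, 2102, 2266, 2485, 3870, 4371])) (.leaf [48, 278, 817, 1090, 1109, 1394, 1411, 2347, 2587, 2996, 3709, 3853, 4361])) (.node (.leaf [13, 187, 276, 462, 807, 1206, 1292, 1590, 2241, 2287, 2579, 3694, 4174]) (.leaf [83, 611, 976, 1322, 1410, 1669, 2633, 3032, 3147, 3470, 3635, 3973, 4431]))) (.node (.node (.leaf [565, 650, 799, 1426, 2351, 2669, 2972, 2989, 3655, 3868, 4222, 4234, 4405]) (.leaf [287, 334, 930, 1109, 1394, 2096, 2469, 2505, 2762, 2786, 3035, 3305, 4153])) (.node (.leaf [97, 818, 968, 1295, 1587, 1922, 2069, 2075, 3022, 3197, 3682, 3739, 4464]) (.leaf [262, 281, 593, 716, 792, 1157, 1927, 2072, 2284, 3022, 3223, 3488, 3988])))) (.node (.node (.node (.node (.leaf [113, 439, 1346, 1655, 1958, 2516, 2709, 2947, 3231, 3419, 4078, 4233, 4380]) (.leaf [41, 128, 253, 994, 1264, 1320, 1968, 2764, 3113, 3290, 3366, 3581, 4026])) (.leaf [170, 803, 931, 1403, 1626, 1838, 2305, 2447,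 2786, 2793, 4260, 4306, 4397])) (.node (.leaf [101, 480, 1283, 1580, 1863, 2487, 2543, 2808, 2818, 3394, 3882, 4021, 4202]) (.leaf [705, 906, 913, 1430, 1821, 1939, 2311, 3417, 3427, 3599, 3712, 3895, 4112]))) (.node (.node (.leaf [3, 440, 1213, 1633, 1872, 2012, 2581, 3078, 3850, 3915, 3942, 4042, 4219]) (.leaf [144, 155, 340, 2052, 2064, 2600, 2697, 2700, 2941, 3008, 3703, 3967, 3980])) (.node (.leaf [931, 1213, 1327, 1665, 1771, 2784, 3014, 3222, 3620, 3715, 3815, 3865, 4042]) (.leaf [19, 376, 427, 1172, 1473, 2275, 2699, 3083, 3209, 3369, 3971, 4147, 4160])))))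

def nbr28 : Janko.Tree (List ℕ) :=
  (.node (.node (.node (.node (.node (.leaf [16, 433, 620, 1059, 1830, 2685, 2770, 3449, 3935, 4011, 4031, 4165, 4250]) (.leaf [520, 1172, 1317, 1754, 1757, 2224, 2275, 2742, 3036, 4058, 4196, 4255, 4471])) (.leaf [51, 86, 544, 858, 1093, 1231, 1344, 2173, 2344, 2618, 3073, 4177, 4278])) (.node (.leaf [279, 906, 1051, 1062, 1209, 1295, 1410, 1826, 2008, 2242, 2269, 2502, 2903]) (.leaf [458, 901, 926, 964, 1750, 2267, 2626, 2810, 3135, 3344, 3362, 3702, 4141]))) (.node (.node (.leaf [400, 800, 1160, 1426, 1953, 2420, 3194, 3642, 4008, 4206, 4230, 4358, 4378]) (.leaf [445, 933, 1110, 1231, 1275, 1382, 1397, 1804, 2470, 3036, 3259, 3727, 4107])) (.node (.leaf [190, 751, 1162, 1499, 1588, 1867, 2070, 2642, 3193, 3758, 3952, 4185, 4209]) (.leaf [247, 282, 594, 719, 942, 1611, 2199, 2287, 2468, 3351, 3491, 3792, 3867])))) (.node (.node (.node (.node (.leaf [91, 382, 440, 903, 1351, 1763, 1850, 1865, 2027, 2183, 2712, 3775, 4377]) (.leaf [231, 434, 451, 770, 1385, 1397, 1520, 1721, 2761, 3127, 3366, 3997, 4012])) (.leaf [26, 672, 740, 892, 967, 1243, 2100,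 2127, 2828, 2884, 3041, 4276, 4299])) (.node (.leaf [148, 731, 1691, 1866, 2049, 2058, 2071, 2240, 2404, 2564, 3245, 3772, 4102]) (.leaf [344, 1015, 1289, 2090, 2094, 2364, 2691, 2979, 3457, 3509, 3607, 3664, 4210]))) (.node (.node (.leaf [618, 870, 991, 1004, 1253, 1281, 1288, 2663, 2691, 3176, 3330, 4259, 4318]) (.leaf [32, 612, 668, 985, 1157, 1554, 1789, 1877, 2085, 2692, 2806, 2878, 3796])) (.node (.leaf [630, 765, 1380, 1686, 2494, 2564, 3253, 3511, 3546, 3646, 3696, 3765, 4207]) (.leaf [271, 522, 845, 1799, 1904, 1917, 1960, 2286, 3043, 3226, 3782, 3866, 4244])))))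

def nbr29 : Janko.Tree (List ℕ) :=
  (.node (.node (.node (.node (.node (.leaf [17, 432, 621, 1058, 1831, 2684, 2771, 3448, 3934, 4010, 4030, 4164, 4251]) (.leaf [521, 1173, 1316, 1755, 1756, 2225, 2274, 2743, 3037, 4059, 4197, 4254, 4470])) (.leaf [50, 87, 545, 859, 1092, 1230, 1345, 2172, 2345, 2619, 3072, 4176, 4279])) (.node (.leaf [278, 907, 1050, 1063, 1208, 1294, 1411, 1827, 2009, 2243, 2268, 2503, 2902]) (.leaf [459, 900, 927, 965, 1751, 2266, 2627, 2811, 3134, 3345, 3363, 3703, 4140]))) (.node (.node (.leaf [401, 801, 1161, 1427, 1952, 2421, 3195, 3643, 4009, 4207, 4231, 4359, 4379]) (.leaf [444, 932, 1111, 1230, 1274, 1383, 1396, 1805, 2471, 3037, 3258, 3726, 4106])) (.node (.leaf [191, 750, 1163, 1498, 1589, 1866, 2071, 2643, 3192, 3759, 3953, 4184, 4208]) (.leaf [246, 283, 595, 718, 943, 1610, 2198, 2286, 2469, 3350, 3490, 3793, 3866])))) (.node (.node (.node (.node (.leaf [90, 383, 441, 902, 1350, 1762, 1851, 1864, 2026, 2182, 2713, 3774, 4376]) (.leaf [230, 435, 450, 771, 1384, 1396, 1521, 1720, 2760, 3126, 3367, 3996, 4013])) (.leaf [27, 673, 741, 893, 966, 1242, 2101,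 2126, 2829, 2885, 3040, 4277, 4298])) (.node (.leaf [149, 730, 1690, 1867, 2048, 2059, 2070, 2241, 2405, 2565, 3244, 3773, 4103]) (.leaf [345, 1014, 1288, 2091, 2095, 2365, 2690, 2978, 3456, 3508, 3606, 3665, 4211]))) (.node (.node (.leaf [619, 871, 990, 1005, 1252, 1280, 1289, 2662, 2690, 3177, 3331, 4258, 4319]) (.leaf [33, 613, 669, 984, 1156, 1555, 1788, 1876, 2084, 2693, 2807, 2879, 3797])) (.node (.leaf [631, 764, 1381, 1687, 2495, 2565, 3252, 3510, 3547, 3647, 3697, 3764, 4206]) (.leaf [270, 523, 844, 1798, 1905, 1916, 1961, 2287, 3042, 3227, 3783, 3867, 4245])))))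

def nbr210 : Janko.Tree (List ℕ) :=
  (.node (.node (.node (.node (.node (.leaf [18, 267, 1172, 1558, 2478, 2772, 2778, 2982, 3482, 3584, 3612, 4059, 4065]) (.leaf [3, 681, 1068, 1336, 1548, 1566, 1742, 1839, 1872, 2761, 3774, 3828, 4414])) (.leaf [53, 126, 546, 637, 860, 1233, 1533, 1800, 1841, 2728, 3473, 3944, 4394])) (.node (.leaf [86, 202, 730, 1064, 1144, 1452, 2124, 2146, 2643, 3073, 3389, 3638, 4122]) (.leaf [313, 612, 629, 992, 1190, 1743, 1850, 2715, 2807, 2918, 3559, 3774, 4322]))) (.node (.node (.leaf [384, 402, 802, 1221, 1312, 1403, 1428, 1583, 1989, 3405, 3644, 4364, 4385]) (.leaf [675, 987, 1192, 1331, 1356, 1835, 2006, 2472, 3002, 3498, 3502, 3888, 4139])) (.node (.leaf [289, 354, 1084, 1590, 1882, 2072, 2726, 3025, 3511, 3608, 3685, 3964, 4291]) (.leaf [245, 265, 284, 1067, 1087, 1986, 2165, 2502, 2851, 3397, 3493, 3716, 3982])))) (.node (.node (.node (.node (.leaf [442, 695, 1475, 1641, 1765, 1860, 2029, 2185, 3419, 3599, 3886, 4178, 4239]) (.leaf [9, 648, 1129, 1376, 1552, 1693, 1949, 2023, 3197, 3473, 3898, 3984, 4428])) (.leaf [28, 380, 643, 674, 1245, 1912,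 2699, 2886, 3043, 3298, 3712, 3811, 3863])) (.node (.leaf [179, 666, 1019, 1426, 1528, 1868, 2223, 2228, 2444, 2992, 3332, 3602, 4206]) (.leaf [786, 931, 1017, 1146, 1302, 1626, 2096, 2530, 3319, 3675, 3776, 3795, 3857]))) (.node (.node (.leaf [831, 872, 993, 1214, 1303, 1626, 1869, 2433, 3127, 3955, 4207, 4253, 4261]) (.leaf [34, 151, 1159, 1416, 1440, 1821, 1930, 2197, 2247, 2346, 2912, 2996, 4113])) (.node (.leaf [65, 92, 206, 691, 763, 946, 1280, 2223, 2652, 2706, 3449, 3816, 4420]) (.leaf [327, 650, 1144, 1700, 1919, 1964, 2207, 3044, 3402, 3585, 3612, 4009, 4451])))))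

def nbr211 : Janko.Tree (List ℕ) :=
  (.node (.node (.node (.node (.node (.leaf [19, 266, 1173, 1559, 2479, 2773, 2779, 2983, 3483, 3585, 3613, 4058, 4064]) (.leaf [2, 680, 1069, 1337, 1549, 1567, 1743, 1838, 1873, 2760, 3775, 3829, 4415])) (.leaf [52, 127, 547, 636, 861, 1232, 1532, 1801, 1840, 2729, 3472, 3945, 4395])) (.node (.leaf [87, 203, 731, 1065, 1145, 1453, 2125, 2147, 2642, 3072, 3388, 3639, 4123]) (.leaf [312, 613, 628, 993, 1191, 1742, 1851, 2714, 2806, 2919, 3558, 3775, 4323]))) (.node (.node (.leaf [385, 403, 803, 1220, 1313, 1402, 1429, 1582, 1988, 3404, 3645, 4365, 4384]) (.leaf [674, 986, 1193, 1330, 1357, 1834, 2007, 2473, 3003, 3499, 3503, 3889, 4138])) (.node (.leaf [288, 355, 1085, 1591, 1883, 2073, 2727, 3024, 3510, 3609, 3684, 3965, 4290]) (.leaf [244, 264, 285, 1066, 1086, 1987, 2164, 2503, 2850, 3396, 3492, 3717, 3983])))) (.node (.node (.node (.node (.leaf [443, 694, 1474, 1640, 1764, 1861, 2028, 2184, 3418, 3598, 3887, 4179, 4238]) (.leaf [8, 649, 1128, 1377, 1553, 1692, 1948, 2022, 3196, 3472, 3899, 3985, 4429])) (.leaf [29, 381, 642, 675, 1244, 1913,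 2698, 2887, 3042, 3299, 3713, 3810, 3862])) (.node (.leaf [178, 667, 1018, 1427, 1529, 1869, 2222, 2229, 2445, 2993, 3333, 3603, 4207]) (.leaf [787, 930, 1016, 1147, 1303, 1627, 2097, 2531, 3318, 3674, 3777, 3794, 3856]))) (.node (.node (.leaf [830, 873, 992, 1215, 1302, 1627, 1868, 2432, 3126, 3954, 4206, 4252, 4260]) (.leaf [35, 150, 1158, 1417, 1441, 1820, 1931, 2196, 2246, 2347, 2913, 2997, 4112])) (.node (.leaf [64, 93, 207, 690, 762, 947, 1281, 2222, 2653, 2707, 3448, 3817, 4421]) (.leaf [326, 651, 1145, 1701, 1918, 1965, 2206, 3045, 3403, 3584, 3613, 4008, 4450])))))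

def nbr212 : Janko.Tree (List ℕ) :=
  (.node (.node (.node (.node (.node (.leaf [20, 1128, 1706, 1972, 2308, 2480, 2741, 2826, 3310, 3614, 3640, 4182, 4393]) (.leaf [101, 1162, 1282, 1348, 1523, 2218, 2295, 2455, 2482, 3002, 3854, 4077, 4272])) (.leaf [117, 148, 926, 1235, 1268, 1618, 1810, 2871, 3084, 3103, 3135, 3244, 3320])) (.node (.leaf [74, 732, 1066, 1375, 1454, 1533, 1800, 1883, 2148, 2904, 3391, 3571, 3982]) (.leaf [315, 418, 560, 614, 631, 1745, 2311, 2717, 2855, 3419, 3598, 3646, 4431]))) (.node (.node (.leaf [346, 660, 1507, 1781, 2106, 2313, 2346, 2685, 2734, 3046, 3869, 4091, 4373]) (.leaf [388, 989, 1194, 1333, 1358, 1709, 1851, 2201, 2713, 2715, 3166, 3239, 3840])) (.node (.leaf [192, 326, 677, 969, 1348, 1666, 2074, 2219, 2676, 2759, 3143, 3542, 3962]) (.leaf [267, 286, 597, 624, 1394, 1563, 2837, 2853, 3292, 3399, 3769, 4354, 4360])))) (.node (.node (.node (.node (.leaf [112, 435, 444, 918, 1110, 2158, 2209, 2725, 3200, 3513, 3646, 3681, 3950]) (.leaf [182, 514, 917, 1699, 1744, 2041, 2439, 2661, 2717, 2856, 2866, 4242, 4285])) (.leaf [112, 324, 887, 1187, 1346,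 2169, 2722, 2724, 2825, 2987, 3616, 4017, 4265])) (.node (.leaf [889, 1254, 1622, 1733, 1940, 2776, 2985, 3109, 3453, 3918, 4143, 4303, 4389]) (.leaf [270, 1006, 1370, 1798, 1910, 2159, 2203, 2364, 2390, 2599, 3836, 4187, 4326]))) (.node (.node (.leaf [563, 620, 1195, 1216, 1526, 1533, 1957, 2138, 2633, 2883, 3297, 3360, 3840]) (.leaf [36, 205, 665, 1418, 1823, 2215, 2271, 2292, 2797, 2875, 2914, 3625, 4115])) (.node (.leaf [330, 475, 907, 1323, 1342, 1411, 2060, 2303, 2584, 2978, 3346, 3549, 3598]) (.leaf [88, 608, 1575, 1702, 1921, 2474, 2624, 2961, 3404, 3614, 3641, 3982, 4446])))))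

def nbr213 : Janko.Tree (List ℕ) :=
  (.node (.node (.node (.node (.node (.leaf [21, 1129, 1707, 1973, 2309, 2481, 2740, 2827, 3311, 3615, 3641, 4183, 4392]) (.leaf [100, 1163, 1283, 1349, 1522, 2219, 2294, 2454, 2483, 3003, 3855, 4076, 4273])) (.leaf [116, 149, 927, 1234, 1269, 1619, 1811, 2870, 3085, 3102, 3134, 3245, 3321])) (.node (.leaf [75, 733, 1067, 1374, 1455, 1532, 1801, 1882, 2149, 2905, 3390, 3570, 3983]) (.leaf [314, 419, 561, 615, 630, 1744, 2310, 2716, 2854, 3418, 3599, 3647, 4430]))) (.node (.node (.leaf [347, 661, 1506, 1780, 2107, 2312, 2347, 2684, 2735, 3047, 3868, 4090, 4372]) (.leaf [389, 988, 1195, 1332, 1359, 1708, 1850, 2200, 2712, 2714, 3167, 3238, 3841])) (.node (.leaf [193, 327, 676, 968, 1349, 1667, 2075, 2218, 2677, 2758, 3142, 3543, 3963]) (.leaf [266, 287, 596, 625, 1395, 1562, 2836, 2852, 3293, 3398, 3768, 4355, 4361])))) (.node (.node (.node (.node (.leaf [113, 434, 445, 919, 1111, 2159, 2208, 2724, 3201, 3512, 3647, 3680, 3951]) (.leaf [183, 515, 916, 1698, 1745, 2040, 2438, 2660, 2716, 2857, 2867, 4243, 4284])) (.leaf [113, 325, 886, 1186, 1347,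 2168, 2723, 2725, 2824, 2986, 3617, 4016, 4264])) (.node (.leaf [888, 1255, 1623, 1732, 1941, 2777, 2984, 3108, 3452, 3919, 4142, 4302, 4388]) (.leaf [271, 1007, 1371, 1799, 1911, 2158, 2202, 2365, 2391, 2598, 3837, 4186, 4327]))) (.node (.node (.leaf [562, 621, 1194, 1217, 1527, 1532, 1956, 2139, 2632, 2882, 3296, 3361, 3841]) (.leaf [37, 204, 664, 1419, 1822, 2214, 2270, 2293, 2796, 2874, 2915, 3624, 4114])) (.node (.leaf [331, 474, 906, 1322, 1343, 1410, 2061, 2302, 2585, 2979, 3347, 3548, 3599]) (.leaf [89, 609, 1574, 1703, 1920, 2475, 2625, 2960, 3405, 3615, 3640, 3983, 4447])))))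

def nbr214 : Janko.Tree (List ℕ) :=
  (.node (.node (.node (.node (.node (.leaf [30, 479, 706, 1577, 1969, 2384, 2649, 3237, 3873, 4071, 4342, 4439, 4449]) (.leaf [439, 650, 694, 837, 924, 1180, 1198, 1217, 2422, 2972, 3845, 3970, 4079])) (.leaf [272, 279, 430, 1063, 1561, 1564, 2023, 2534, 2616, 3213, 3848, 3853, 4037])) (.node (.leaf [314, 875, 904, 910, 1070, 1666, 1710, 2994, 3412, 3598, 3887, 3938, 4060]) (.leaf [331, 332, 478, 520, 639, 1411, 1756, 3273, 3606, 3635, 3927, 4422, 4439]))) (.node (.node (.leaf [164, 443, 694, 1068, 1496, 1658, 1839, 2298, 2664, 3432, 3681, 3912, 4026]) (.leaf [317, 891, 1040, 1308, 1360, 1800, 2729, 3036, 3398, 3845, 3877, 4334, 4471])) (.node (.leaf [89, 194, 679, 1198, 1848, 2015, 2076, 2222, 3028, 3145, 3845, 3953, 4120]) (.leaf [66, 634, 1108, 1563, 1789, 2292, 2571, 2659, 2879, 2985, 3452, 3484, 4163])))) (.node (.node (.node (.node (.leaf [192, 303, 446, 734, 1453, 2075, 2654, 2799, 2835, 3683, 3763, 4274, 4478]) (.leaf [44, 348, 993, 1691, 1710, 1802, 1850, 2167, 2604, 2867, 3981, 4242, 4286])) (.leaf [89, 296, 611, 818, 1668, 2797, 2888,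 2914, 2961, 3413, 3827, 4281, 4460])) (.node (.leaf [891, 1256, 1725, 1942, 1999, 2427, 3575, 3652, 3928, 4208, 4227, 4271, 4380]) (.leaf [336, 735, 786, 894, 1058, 2434, 3696, 3736, 3818, 4052, 4263, 4295, 4316]))) (.node (.node (.leaf [235, 324, 648, 1218, 1535, 1780, 1901, 1949, 1959, 3289, 4080, 4232, 4328]) (.leaf [38, 377, 1446, 1456, 1560, 1643, 3121, 3564, 3608, 4007, 4047, 4082, 4136])) (.node (.leaf [87, 203, 1384, 1520, 1746, 2269, 2288, 2302, 2305, 3549, 3698, 3756, 3799]) (.leaf [469, 498, 990, 1183, 1291, 1788, 2696, 2714, 2865, 3779, 3928, 4105, 4319])))))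

def nbr215 : Janko.Tree (List ℕ) :=
  (.node (.node (.node (.node (.node (.leaf [31, 478, 707, 1576, 1968, 2385, 2648, 3236, 3872, 4070, 4343, 4438, 4448]) (.leaf [438, 651, 695, 836, 925, 1181, 1199, 1216, 2423, 2973, 3844, 3971, 4078])) (.leaf [273, 278, 431, 1062, 1560, 1565, 2022, 2535, 2617, 3212, 3849, 3852, 4036])) (.node (.leaf [315, 874, 905, 911, 1071, 1667, 1711, 2995, 3413, 3599, 3886, 3939, 4061]) (.leaf [330, 333, 479, 521, 638, 1410, 1757, 3272, 3607, 3634, 3926, 4423, 4438]))) (.node (.node (.leaf [165, 442, 695, 1069, 1497, 1659, 1838, 2299, 2665, 3433, 3680, 3913, 4027]) (.leaf [316, 890, 1041, 1309, 1361, 1801, 2728, 3037, 3399, 3844, 3876, 4335, 4470])) (.node (.leaf [88, 195, 678, 1199, 1849, 2014, 2077, 2223, 3029, 3144, 3844, 3952, 4121]) (.leaf [67, 635, 1109, 1562, 1788, 2293, 2570, 2658, 2878, 2984, 3453, 3485, 4162])))) (.node (.node (.node (.node (.leaf [193, 302, 447, 735, 1452, 2074, 2655, 2798, 2834, 3682, 3762, 4275, 4479]) (.leaf [45, 349, 992, 1690, 1711, 1803, 1851, 2166, 2605, 2866, 3980, 4243, 4287])) (.leaf [88, 297, 610, 819, 1669, 2796, 2889,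 2915, 2960, 3412, 3826, 4280, 4461])) (.node (.leaf [890, 1257, 1724, 1943, 1998, 2426, 3574, 3653, 3929, 4209, 4226, 4270, 4381]) (.leaf [337, 734, 787, 895, 1059, 2435, 3697, 3737, 3819, 4053, 4262, 4294, 4317]))) (.node (.node (.leaf [234, 325, 649, 1219, 1534, 1781, 1900, 1948, 1958, 3288, 4081, 4233, 4329]) (.leaf [39, 376, 1447, 1457, 1561, 1642, 3120, 3565, 3609, 4006, 4046, 4083, 4137])) (.node (.leaf [86, 202, 1385, 1521, 1747, 2268, 2289, 2303, 2304, 3548, 3699, 3757, 3798]) (.leaf [468, 499, 991, 1182, 1290, 1789, 2697, 2715, 2864, 3778, 3929, 4104, 4318])))))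

def nbr216 : Janko.Tree (List ℕ) :=
  (.node (.node (.node (.node (.node (.leaf [32, 481, 708, 1833, 2231, 2256, 2265, 2739, 2928, 3429, 3977, 4020, 4286]) (.leaf [134, 485, 736, 745, 771, 975, 1688, 1699, 1748, 2076, 2220, 2660, 4025])) (.leaf [274, 427, 549, 581, 769, 1155, 1672, 2025, 3032, 3317, 3410, 3742, 4039])) (.node (.leaf [14, 509, 586, 1115, 1423, 1608, 1809, 1891, 1907, 1949, 2066, 2766, 3550]) (.leaf [199, 422, 703, 1267, 2908, 3086, 3183, 3414, 3644, 3711, 3742, 4040, 4178]))) (.node (.node (.leaf [8, 220, 556, 644, 1016, 1302, 1376, 1478, 1867, 2432, 2522, 3298, 4084]) (.leaf [221, 319, 556, 1042, 1362, 1619, 2554, 3227, 3842, 3847, 3972, 4244, 4455])) (.node (.leaf [94, 158, 521, 948, 1355, 2225, 2373, 2407, 2736, 3424, 3760, 3954, 4422]) (.leaf [68, 875, 1024, 1110, 1565, 1791, 2187, 2294, 2353, 2535, 2573, 3574, 3652])))) (.node (.node (.node (.node (.leaf [296, 329, 448, 462, 465, 865, 1113, 1591, 2350, 2889, 3171, 3740, 4276]) (.leaf [98, 1194, 1476, 1647, 1848, 1974, 2077, 2211, 2550, 2980, 3008, 3092, 3601])) (.leaf [300, 314, 615, 973, 984, 1071, 1696, 1876,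 2890, 2973, 3358, 3868, 4395])) (.node (.leaf [1088, 1379, 1534, 1649, 1743, 1872, 2430, 2551, 2864, 2918, 3569, 3691, 4105]) (.leaf [477, 880, 1357, 1562, 2477, 2581, 2697, 2988, 3292, 3510, 3765, 3778, 4304]))) (.node (.node (.leaf [202, 362, 702, 1220, 1403, 1478, 1784, 1867, 2049, 2140, 2456, 2793, 3471]) (.leaf [40, 580, 585, 821, 881, 1064, 2533, 3290, 3566, 3610, 4084, 4267, 4445])) (.node (.leaf [75, 370, 1100, 1801, 2133, 2290, 2307, 3072, 3564, 3648, 3695, 4176, 4398]) (.leaf [24, 249, 553, 941, 1309, 1975, 2210, 2246, 2904, 3521, 4145, 4362, 4403])))))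

def nbr217 : Janko.Tree (List ℕ) :=
  (.node (.node (.node (.node (.node (.leaf [33, 480, 709, 1832, 2230, 2257, 2264, 2738, 2929, 3428, 3976, 4021, 4287]) (.leaf [135, 484, 737, 744, 770, 974, 1689, 1698, 1749, 2077, 2221, 2661, 4024])) (.leaf [275, 426, 548, 580, 768, 1154, 1673, 2024, 3033, 3316, 3411, 3743, 4038])) (.node (.leaf [15, 508, 587, 1114, 1422, 1609, 1808, 1890, 1906, 1948, 2067, 2767, 3551]) (.leaf [198, 423, 702, 1266, 2909, 3087, 3182, 3415, 3645, 3710, 3743, 4041, 4179]))) (.node (.node (.leaf [9, 221, 557, 645, 1017, 1303, 1377, 1479, 1866, 2433, 2523, 3299, 4085]) (.leaf [220, 318, 557, 1043, 1363, 1618, 2555, 3226, 3843, 3846, 3973, 4245, 4454])) (.node (.leaf [95, 159, 520, 949, 1354, 2224, 2372, 2406, 2737, 3425, 3761, 3955, 4423]) (.leaf [69, 874, 1025, 1111, 1564, 1790, 2186, 2295, 2352, 2534, 2572, 3575, 3653])))) (.node (.node (.node (.node (.leaf [297, 328, 449, 463, 464, 864, 1112, 1590, 2351, 2888, 3170, 3741, 4277]) (.leaf [99, 1195, 1477, 1646, 1849, 1975, 2076, 2210, 2551, 2981, 3009, 3093, 3600])) (.leaf [301, 315, 614, 972, 985, 1070, 1697, 1877,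 2891, 2972, 3359, 3869, 4394])) (.node (.leaf [1089, 1378, 1535, 1648, 1742, 1873, 2431, 2550, 2865, 2919, 3568, 3690, 4104]) (.leaf [476, 881, 1356, 1563, 2476, 2580, 2696, 2989, 3293, 3511, 3764, 3779, 4305]))) (.node (.node (.leaf [203, 363, 703, 1221, 1402, 1479, 1785, 1866, 2048, 2141, 2457, 2792, 3470]) (.leaf [41, 581, 584, 820, 880, 1065, 2532, 3291, 3567, 3611, 4085, 4266, 4444])) (.node (.leaf [74, 371, 1101, 1800, 2132, 2291, 2306, 3073, 3565, 3649, 3694, 4177, 4399]) (.leaf [25, 248, 552, 940, 1308, 1974, 2211, 2247, 2905, 3520, 4144, 4363, 4402])))))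

def nbr218 : Janko.Tree (List ℕ) :=
  (.node (.node (.node (.node (.node (.leaf [34, 708, 739, 1663, 2262, 2392, 2600, 3481, 3533, 3542, 3980, 4073, 4324]) (.leaf [27, 136, 491, 730, 1074, 1690, 1750, 2031, 2814, 3051, 3088, 3344, 4458])) (.leaf [526, 805, 1167, 1239, 1942, 2239, 2601, 2930, 3128, 3246, 3279, 4324, 4475])) (.node (.leaf [16, 58, 600, 839, 1072, 1291, 1399, 1425, 1951, 2068, 3149, 3791, 3905]) (.leaf [551, 634, 1051, 1388, 1574, 1755, 1826, 2624, 2711, 3453, 3501, 3693, 4147]))) (.node (.node (.leaf [216, 222, 558, 672, 698, 846, 877, 1304, 1660, 2909, 3000, 3685, 4169]) (.leaf [228, 1547, 1656, 2170, 2319, 2436, 2460, 2493, 3038, 3094, 3430, 3482, 3507])) (.node (.leaf [142, 523, 2078, 2220, 2375, 2409, 2843, 2953, 3302, 3636, 3678, 3782, 3925]) (.leaf [70, 277, 1056, 1534, 1714, 1793, 1835, 2130, 2720, 3154, 3690, 3762, 3768])))) (.node (.node (.node (.node (.leaf [243, 298, 331, 450, 467, 907, 1115, 1609, 2502, 3173, 3514, 3863, 3895]) (.leaf [12, 276, 429, 647, 1563, 1687, 2545, 3484, 3511, 3768, 3850, 4194, 4424])) (.leaf [122, 975, 1670, 1698, 1904, 2300, 2632,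 2688, 2721, 2965, 2975, 3012, 3360])) (.node (.leaf [187, 804, 1092, 1181, 1586, 1874, 2998, 3005, 3277, 3279, 3695, 3970, 4177]) (.leaf [184, 1150, 1189, 1654, 2090, 2445, 2679, 2708, 3325, 3529, 3673, 4221, 4398]))) (.node (.node (.leaf [271, 995, 1222, 1485, 1680, 1768, 1961, 2039, 2599, 3581, 3813, 4141, 4382]) (.leaf [48, 1085, 1267, 1353, 1378, 1799, 2386, 2750, 2909, 3816, 3964, 4390, 4400])) (.node (.leaf [98, 487, 712, 941, 1026, 1227, 2379, 3062, 3159, 3375, 3469, 3687, 3835]) (.leaf [106, 406, 1242, 1432, 1495, 1797, 1801, 2259, 2339, 2359, 2669, 3670, 4335])))))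

def nbr219 : Janko.Tree (List ℕ) :=
  (.node (.node (.node (.node (.node (.leaf [35, 709, 738, 1662, 2263, 2393, 2601, 3480, 3532, 3543, 3981, 4072, 4325]) (.leaf [26, 137, 490, 731, 1075, 1691, 1751, 2030, 2815, 3050, 3089, 3345, 4459])) (.leaf [527, 804, 1166, 1238, 1943, 2238, 2600, 2931, 3129, 3247, 3278, 4325, 4474])) (.node (.leaf [17, 59, 601, 838, 1073, 1290, 1398, 1424, 1950, 2069, 3148, 3790, 3904]) (.leaf [550, 635, 1050, 1389, 1575, 1754, 1827, 2625, 2710, 3452, 3500, 3692, 4146]))) (.node (.node (.leaf [217, 223, 559, 673, 699, 847, 876, 1305, 1661, 2908, 3001, 3684, 4168]) (.leaf [229, 1546, 1657, 2171, 2318, 2437, 2461, 2492, 3039, 3095, 3431, 3483, 3506])) (.node (.leaf [143, 522, 2079, 2221, 2374, 2408, 2842, 2952, 3303, 3637, 3679, 3783, 3924]) (.leaf [71, 276, 1057, 1535, 1715, 1792, 1834, 2131, 2721, 3155, 3691, 3763, 3769])))) (.node (.node (.node (.node (.leaf [242, 299, 330, 451, 466, 906, 1114, 1608, 2503, 3172, 3515, 3862, 3894]) (.leaf [13, 277, 428, 646, 1562, 1686, 2544, 3485, 3510, 3769, 3851, 4195, 4425])) (.leaf [123, 974, 1671, 1699, 1905, 2301, 2633,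 2689, 2720, 2964, 2974, 3013, 3361])) (.node (.leaf [186, 805, 1093, 1180, 1587, 1875, 2999, 3004, 3276, 3278, 3694, 3971, 4176]) (.leaf [185, 1151, 1188, 1655, 2091, 2444, 2678, 2709, 3324, 3528, 3672, 4220, 4399]))) (.node (.node (.leaf [270, 994, 1223, 1484, 1681, 1769, 1960, 2038, 2598, 3580, 3812, 4140, 4383]) (.leaf [49, 1084, 1266, 1352, 1379, 1798, 2387, 2751, 2908, 3817, 3965, 4391, 4401])) (.node (.leaf [99, 486, 713, 940, 1027, 1226, 2378, 3063, 3158, 3374, 3468, 3686, 3834]) (.leaf [107, 407, 1243, 1433, 1494, 1796, 1800, 2258, 2338, 2358, 2668, 3671, 4334])))))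

def nbr220 : Janko.Tree (List ℕ) :=
  (.node (.node (.node (.node (.node (.leaf [36, 536, 741, 1038, 1239, 1665, 1847, 1932, 3028, 3341, 3579, 4092, 4433]) (.leaf [164, 999, 1044, 1203, 1811, 2212, 2227, 2553, 3095, 3195, 4232, 4406, 4458])) (.leaf [196, 807, 1241, 1933, 2155, 2566, 2578, 3223, 3550, 3942, 4092, 4353, 4400])) (.node (.leaf [22, 356, 478, 747, 799, 1861, 1931, 2061, 2647, 3302, 3599, 3654, 4444]) (.leaf [147, 206, 277, 738, 1090, 1208, 1340, 1509, 2721, 2807, 3412, 3708, 4461]))) (.node (.node (.leaf [50, 157, 700, 822, 1231, 1396, 2290, 3195, 3402, 3447, 4167, 4230, 4347]) (.leaf [283, 674, 2328, 2422, 2467, 2468, 2870, 2883, 3035, 3320, 3753, 3841, 4300])) (.node (.leaf [198, 459, 518, 608, 965, 980, 1653, 1725, 1764, 2558, 2926, 4099, 4178]) (.leaf [72, 279, 388, 576, 1002, 1159, 1795, 2022, 2160, 2722, 2981, 2997, 3692])))) (.node (.node (.node (.node (.leaf [203, 300, 452, 475, 512, 1001, 2100, 2303, 2891, 3616, 3823, 3849, 4122]) (.leaf [1165, 1449, 1562, 1809, 2052, 2136, 2282, 2308, 2363, 2409, 2697, 4354, 4476])) (.leaf [82, 353, 386, 1672, 1751, 2736, 2810,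 3051, 3633, 3839, 3845, 3952, 4421])) (.node (.leaf [636, 806, 1050, 1462, 1739, 1876, 2037, 2903, 3007, 3408, 3944, 4147, 4353]) (.leaf [186, 448, 465, 931, 1152, 1311, 2204, 2447, 2681, 2710, 3294, 3780, 4348]))) (.node (.node (.leaf [268, 390, 997, 1059, 1224, 1487, 1963, 2041, 2434, 2857, 3461, 3583, 3935]) (.leaf [336, 894, 1113, 1267, 1518, 1871, 1893, 2121, 2464, 2518, 3162, 4134, 4159])) (.node (.leaf [133, 332, 568, 1754, 1756, 2457, 3255, 3501, 3636, 3941, 4055, 4266, 4430]) (.leaf [110, 267, 678, 840, 896, 1121, 1856, 2671, 2852, 3701, 3835, 4016, 4303])))))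

def nbr221 : Janko.Tree (List ℕ) :=
  (.node (.node (.node (.node (.node (.leaf [37, 537, 740, 1039, 1238, 1664, 1846, 1933, 3029, 3340, 3578, 4093, 4432]) (.leaf [165, 998, 1045, 1202, 1810, 2213, 2226, 2552, 3094, 3194, 4233, 4407, 4459])) (.leaf [197, 806, 1240, 1932, 2154, 2567, 2579, 3222, 3551, 3943, 4093, 4352, 4401])) (.node (.leaf [23, 357, 479, 746, 798, 1860, 1930, 2060, 2646, 3303, 3598, 3655, 4445]) (.leaf [146, 207, 276, 739, 1091, 1209, 1341, 1508, 2720, 2806, 3413, 3709, 4460]))) (.node (.node (.leaf [51, 156, 701, 823, 1230, 1397, 2291, 3194, 3403, 3446, 4166, 4231, 4346]) (.leaf [282, 675, 2329, 2423, 2466, 2469, 2871, 2882, 3034, 3321, 3752, 3840, 4301])) (.node (.leaf [199, 458, 519, 609, 964, 981, 1652, 1724, 1765, 2559, 2927, 4098, 4179]) (.leaf [73, 278, 389, 577, 1003, 1158, 1794, 2023, 2161, 2723, 2980, 2996, 3693])))) (.node (.node (.node (.node (.leaf [202, 301, 453, 474, 513, 1000, 2101, 2302, 2890, 3617, 3822, 3848, 4123]) (.leaf [1164, 1448, 1563, 1808, 2053, 2137, 2283, 2309, 2362, 2408, 2696, 4355, 4477])) (.leaf [83, 352, 387, 1673, 1750, 2737, 2811,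 3050, 3632, 3838, 3844, 3953, 4420])) (.node (.leaf [637, 807, 1051, 1463, 1738, 1877, 2036, 2902, 3006, 3409, 3945, 4146, 4352]) (.leaf [187, 449, 464, 930, 1153, 1310, 2205, 2446, 2680, 2711, 3295, 3781, 4349]))) (.node (.node (.leaf [269, 391, 996, 1058, 1225, 1486, 1962, 2040, 2435, 2856, 3460, 3582, 3934]) (.leaf [337, 895, 1112, 1266, 1519, 1870, 1892, 2120, 2465, 2519, 3163, 4135, 4158])) (.node (.leaf [132, 333, 569, 1755, 1757, 2456, 3254, 3500, 3637, 3940, 4054, 4267, 4431]) (.leaf [111, 266, 679, 841, 897, 1120, 1857, 2670, 2853, 3700, 3834, 4017, 4302])))))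

def nbr222 : Janko.Tree (List ℕ) :=
  (.node (.node (.node (.node (.node (.leaf [38, 298, 466, 473, 1091, 1355, 2296, 2946, 3274, 3438, 3546, 3760, 4124]) (.leaf [166, 300, 747, 1001, 1205, 2229, 2506, 3498, 3553, 3590, 3655, 4234, 4365])) (.leaf [175, 528, 1243, 2087, 2157, 2922, 3130, 3185, 3248, 3552, 3670, 3900, 4258])) (.node (.leaf [26, 795, 861, 1074, 1123, 1662, 1849, 1936, 2216, 2651, 3065, 3318, 4298]) (.leaf [158, 279, 740, 764, 1511, 2209, 2325, 2703, 2723, 2790, 3281, 3646, 4298]))) (.node (.node (.leaf [52, 552, 702, 1233, 1403, 1448, 2054, 2428, 2474, 3449, 4044, 4164, 4365]) (.leaf [557, 1423, 1478, 1636, 1976, 2048, 2544, 3511, 3551, 3773, 4173, 4304, 4315])) (.node (.leaf [200, 506, 510, 683, 1655, 2491, 2545, 2560, 2985, 3455, 3485, 3539, 4143]) (.leaf [98, 1135, 1457, 1896, 1925, 2015, 2037, 2076, 2583, 3198, 3687, 3867, 4428])))) (.node (.node (.node (.node (.leaf [75, 122, 454, 2301, 2904, 3086, 3143, 3175, 3389, 3459, 3649, 3712, 3743]) (.leaf [555, 823, 1143, 2006, 2220, 2371, 2408, 2418, 3067, 3400, 3402, 4355, 4475])) (.leaf [54, 313, 354, 1116, 1619, 2892,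 3091, 3327, 3635, 3678, 4279, 4293, 4423])) (.node (.leaf [151, 452, 654, 732, 1878, 2072, 2147, 2243, 2266, 3355, 3685, 3989, 4123]) (.leaf [606, 767, 1008, 1392, 2348, 2436, 2511, 2676, 2758, 3378, 3915, 4236, 4240]))) (.node (.node (.leaf [1081, 1226, 1368, 1489, 1682, 1784, 1965, 3014, 3158, 3482, 3612, 3734, 3815]) (.leaf [40, 97, 495, 715, 1320, 1623, 2099, 3108, 3154, 3174, 3380, 3763, 4102])) (.node (.leaf [510, 704, 913, 989, 998, 1881, 1957, 2594, 2657, 3454, 3815, 4232, 4455]) (.leaf [24, 114, 343, 656, 683, 1290, 2675, 3484, 3731, 4105, 4194, 4243, 4461])))))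

def nbr223 : Janko.Tree (List ℕ) :=
  (.node (.node (.node (.node (.node (.leaf [39, 299, 467, 472, 1090, 1354, 2297, 2947, 3275, 3439, 3547, 3761, 4125]) (.leaf [167, 301, 746, 1000, 1204, 2228, 2507, 3499, 3552, 3591, 3654, 4235, 4364])) (.leaf [174, 529, 1242, 2086, 2156, 2923, 3131, 3184, 3249, 3553, 3671, 3901, 4259])) (.node (.leaf [27, 794, 860, 1075, 1122, 1663, 1848, 1937, 2217, 2650, 3064, 3319, 4299]) (.leaf [159, 278, 741, 765, 1510, 2208, 2324, 2702, 2722, 2791, 3280, 3647, 4299]))) (.node (.node (.leaf [53, 553, 703, 1232, 1402, 1449, 2055, 2429, 2475, 3448, 4045, 4165, 4364]) (.leaf [556, 1422, 1479, 1637, 1977, 2049, 2545, 3510, 3550, 3772, 4172, 4305, 4314])) (.node (.leaf [201, 507, 511, 682, 1654, 2490, 2544, 2561, 2984, 3454, 3484, 3538, 4142]) (.leaf [99, 1134, 1456, 1897, 1924, 2014, 2036, 2077, 2582, 3199, 3686, 3866, 4429])))) (.node (.node (.node (.node (.leaf [74, 123, 455, 2300, 2905, 3087, 3142, 3174, 3388, 3458, 3648, 3713, 3742]) (.leaf [554, 822, 1142, 2007, 2221, 2370, 2409, 2419, 3066, 3401, 3403, 4354, 4474])) (.leaf [55, 312, 355, 1117, 1618, 2893,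 3090, 3326, 3634, 3679, 4278, 4292, 4422])) (.node (.leaf [150, 453, 655, 733, 1879, 2073, 2146, 2242, 2267, 3354, 3684, 3988, 4122]) (.leaf [607, 766, 1009, 1393, 2349, 2437, 2510, 2677, 2759, 3379, 3914, 4237, 4241]))) (.node (.node (.leaf [1080, 1227, 1369, 1488, 1683, 1785, 1964, 3015, 3159, 3483, 3613, 3735, 3814]) (.leaf [41, 96, 494, 714, 1321, 1622, 2098, 3109, 3155, 3175, 3381, 3762, 4103])) (.node (.leaf [511, 705, 912, 988, 999, 1880, 1956, 2595, 2656, 3455, 3814, 4233, 4454]) (.leaf [25, 115, 342, 657, 682, 1291, 2674, 3485, 3730, 4104, 4195, 4242, 4460])))))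

def nbr224 : Janko.Tree (List ℕ) :=
  (.node (.node (.node (.node (.node (.leaf [40, 84, 475, 1142, 1446, 2208, 2220, 2298, 2404, 3548, 3636, 4026, 4102]) (.leaf [313, 1077, 1330, 1332, 1406, 1648, 1934, 2750, 3024, 3947, 3965, 4422, 4439])) (.leaf [251, 530, 1015, 1245, 1512, 1783, 2159, 2364, 3060, 3156, 3554, 4125, 4260])) (.node (.leaf [28, 1076, 1125, 1431, 1648, 1664, 1811, 1865, 1938, 2653, 2698, 3067, 3320]) (.leaf [138, 447, 720, 1279, 1518, 1576, 2370, 2649, 2705, 3024, 3444, 3650, 3947]))) (.node (.node (.leaf [154, 206, 651, 816, 862, 1833, 2105, 2625, 2739, 3307, 3868, 3932, 4079]) (.leaf [129, 178, 376, 831, 1149, 1239, 1302, 1457, 1942, 2764, 2969, 3019, 3624])) (.node (.leaf [56, 242, 1480, 1983, 1991, 1997, 2080, 2397, 2687, 3802, 3863, 4255, 4443]) (.leaf [189, 403, 583, 910, 966, 1098, 1118, 1490, 2336, 2354, 2885, 2895, 3750])))) (.node (.node (.node (.node (.leaf [131, 365, 456, 522, 724, 1253, 2194, 2415, 2431, 2587, 2825, 3744, 4272]) (.leaf [60, 86, 1120, 1222, 1247, 1573, 2305, 2345, 3351, 3639, 3716, 3835, 4427])) (.leaf [358, 367, 702, 910, 1887, 2276, 2775,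 2894, 2971, 3057, 3087, 3175, 4281])) (.node (.leaf [429, 454, 656, 1055, 1880, 2149, 2198, 2271, 2312, 2905, 3351, 4195, 4216]) (.leaf [366, 1203, 1255, 1638, 1751, 1912, 2686, 2886, 2938, 3095, 3505, 3879, 4280]))) (.node (.node (.leaf [609, 892, 966, 1228, 1491, 1684, 2538, 2826, 3016, 3055, 3614, 3949, 4320]) (.leaf [99, 497, 576, 662, 1705, 1724, 2093, 2101, 2124, 2361, 2980, 4122, 4226])) (.node (.leaf [512, 689, 700, 908, 915, 1000, 1959, 2013, 2274, 2969, 3055, 4234, 4331]) (.leaf [116, 981, 1034, 1150, 1414, 1716, 2138, 2325, 2535, 3274, 3296, 3733, 4036])))))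

def nbr225 : Janko.Tree (List ℕ) :=
  (.node (.node (.node (.node (.node (.leaf [41, 85, 474, 1143, 1447, 2209, 2221, 2299, 2405, 3549, 3637, 4027, 4103]) (.leaf [312, 1076, 1331, 1333, 1407, 1649, 1935, 2751, 3025, 3946, 3964, 4423, 4438])) (.leaf [250, 531, 1014, 1244, 1513, 1782, 2158, 2365, 3061, 3157, 3555, 4124, 4261])) (.node (.leaf [29, 1077, 1124, 1430, 1649, 1665, 1810, 1864, 1939, 2652, 2699, 3066, 3321]) (.leaf [139, 446, 721, 1278, 1519, 1577, 2371, 2648, 2704, 3025, 3445, 3651, 3946]))) (.node (.node (.leaf [155, 207, 650, 817, 863, 1832, 2104, 2624, 2738, 3306, 3869, 3933, 4078]) (.leaf [128, 179, 377, 830, 1148, 1238, 1303, 1456, 1943, 2765, 2968, 3018, 3625])) (.node (.leaf [57, 243, 1481, 1982, 1990, 1996, 2081, 2396, 2686, 3803, 3862, 4254, 4442]) (.leaf [188, 402, 582, 911, 967, 1099, 1119, 1491, 2337, 2355, 2884, 2894, 3751])))) (.node (.node (.node (.node (.leaf [130, 364, 457, 523, 725, 1252, 2195, 2414, 2430, 2586, 2824, 3745, 4273]) (.leaf [61, 87, 1121, 1223, 1246, 1572, 2304, 2344, 3350, 3638, 3717, 3834, 4426])) (.leaf [359, 366, 703, 911, 1886, 2277, 2774,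 2895, 2970, 3056, 3086, 3174, 4280])) (.node (.leaf [428, 455, 657, 1054, 1881, 2148, 2199, 2270, 2313, 2904, 3350, 4194, 4217]) (.leaf [367, 1202, 1254, 1639, 1750, 1913, 2687, 2887, 2939, 3094, 3504, 3878, 4281]))) (.node (.node (.leaf [608, 893, 967, 1229, 1490, 1685, 2539, 2827, 3017, 3054, 3615, 3948, 4321]) (.leaf [98, 496, 577, 663, 1704, 1725, 2092, 2100, 2125, 2360, 2981, 4123, 4227])) (.node (.leaf [513, 688, 701, 909, 914, 1001, 1958, 2012, 2275, 2968, 3054, 4235, 4330]) (.leaf [117, 980, 1035, 1151, 1415, 1717, 2139, 2324, 2534, 3275, 3297, 3732, 4037])))))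

def nbr226 : Janko.Tree (List ℕ) :=
  (.node (.node (.node (.node (.node (.leaf [42, 1746, 1865, 1894, 2468, 2924, 2992, 3102, 3320, 3519, 3602, 3699, 3793]) (.leaf [417, 744, 771, 1264, 2063, 2085, 2105, 2250, 2491, 3535, 3580, 3873, 4194])) (.leaf [145, 378, 487, 943, 1222, 1592, 2730, 3111, 3125, 3569, 3784, 3821, 3834])) (.node (.leaf [2, 257, 999, 1168, 1548, 1621, 2320, 2779, 3260, 3456, 3595, 3721, 3807]) (.leaf [230, 651, 707, 752, 788, 924, 1718, 2577, 2985, 3284, 3370, 3911, 4405]))) (.node (.node (.leaf [158, 517, 818, 1357, 1762, 1835, 2000, 2410, 2960, 3012, 3309, 3371, 4180]) (.leaf [41, 580, 813, 1368, 1445, 2020, 2436, 2846, 3097, 3378, 3482, 3746, 4164])) (.node (.leaf [246, 608, 845, 1099, 1547, 1750, 2036, 2082, 2805, 3017, 3094, 3867, 4011]) (.leaf [7, 191, 642, 1094, 2285, 2467, 2496, 2887, 2897, 2920, 3488, 3752, 4229])))) (.node (.node (.node (.node (.leaf [133, 458, 591, 646, 677, 824, 831, 1492, 3005, 3500, 4338, 4408, 4424]) (.leaf [7, 266, 275, 1205, 1380, 1672, 1754, 1880, 2308, 2654, 3693, 3838, 4354])) (.leaf [360, 369, 1674, 1889, 2092, 2098, 2316, 2718,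 2896, 2920, 3413, 3939, 4283])) (.node (.leaf [277, 557, 996, 1191, 1418, 1708, 2200, 2396, 2915, 2925, 3413, 3847, 4060]) (.leaf [485, 739, 1128, 1368, 2099, 2433, 2827, 3080, 3096, 3412, 3536, 3735, 4014]))) (.node (.node (.leaf [527, 764, 1109, 1280, 2807, 2878, 3198, 3553, 3686, 3709, 4052, 4259, 4313]) (.leaf [83, 166, 755, 914, 1380, 1673, 1806, 1821, 2024, 2797, 3152, 3416, 4330])) (.node (.leaf [921, 987, 1029, 1056, 1127, 1780, 1834, 2313, 2800, 2869, 3291, 3927, 4382]) (.leaf [118, 1094, 1677, 1734, 2107, 2450, 3208, 3231, 3348, 3869, 3970, 4078, 4360])))))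

def nbr227 : Janko.Tree (List ℕ) :=
  (.node (.node (.node (.node (.node (.leaf [43, 1747, 1864, 1895, 2469, 2925, 2993, 3103, 3321, 3518, 3603, 3698, 3792]) (.leaf [416, 745, 770, 1265, 2062, 2084, 2104, 2251, 2490, 3534, 3581, 3872, 4195])) (.leaf [144, 379, 486, 942, 1223, 1593, 2731, 3110, 3124, 3568, 3785, 3820, 3835])) (.node (.leaf [3, 256, 998, 1169, 1549, 1620, 2321, 2778, 3261, 3457, 3594, 3720, 3806]) (.leaf [231, 650, 706, 753, 789, 925, 1719, 2576, 2984, 3285, 3371, 3910, 4404]))) (.node (.node (.leaf [159, 516, 819, 1356, 1763, 1834, 2001, 2411, 2961, 3013, 3308, 3370, 4181]) (.leaf [40, 581, 812, 1369, 1444, 2021, 2437, 2847, 3096, 3379, 3483, 3747, 4165])) (.node (.leaf [247, 609, 844, 1098, 1546, 1751, 2037, 2083, 2804, 3016, 3095, 3866, 4010]) (.leaf [6, 190, 643, 1095, 2284, 2466, 2497, 2886, 2896, 2921, 3489, 3753, 4228])))) (.node (.node (.node (.node (.leaf [132, 459, 590, 647, 676, 825, 830, 1493, 3004, 3501, 4339, 4409, 4425]) (.leaf [6, 267, 274, 1204, 1381, 1673, 1755, 1881, 2309, 2655, 3692, 3839, 4355])) (.leaf [361, 368, 1675, 1888, 2093, 2099, 2317, 2719,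 2897, 2921, 3412, 3938, 4282])) (.node (.leaf [276, 556, 997, 1190, 1419, 1709, 2201, 2397, 2914, 2924, 3412, 3846, 4061]) (.leaf [484, 738, 1129, 1369, 2098, 2432, 2826, 3081, 3097, 3413, 3537, 3734, 4015]))) (.node (.node (.leaf [526, 765, 1108, 1281, 2806, 2879, 3199, 3552, 3687, 3708, 4053, 4258, 4312]) (.leaf [82, 167, 754, 915, 1381, 1672, 1807, 1820, 2025, 2796, 3153, 3417, 4331])) (.node (.leaf [920, 986, 1028, 1057, 1126, 1781, 1835, 2312, 2801, 2868, 3290, 3926, 4383]) (.leaf [119, 1095, 1676, 1735, 2106, 2451, 3209, 3230, 3349, 3868, 3971, 4079, 4361])))))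

def nbr228 : Janko.Tree (List ℕ) :=
  (.node (.node (.node (.node (.node (.leaf [44, 1100, 1266, 2174, 2470, 2752, 3104, 3139, 3276, 3604, 3694, 3980, 4178]) (.leaf [180, 293, 535, 540, 1743, 1850, 1883, 2182, 2605, 3334, 3570, 3864, 4149])) (.leaf [102, 489, 541, 755, 945, 1224, 1792, 1803, 2166, 2732, 3113, 4019, 4309])) (.node (.leaf [4, 96, 259, 470, 1001, 1550, 1623, 1965, 2322, 2531, 3597, 3623, 4392]) (.leaf [207, 232, 238, 709, 926, 1818, 2392, 2960, 3286, 3652, 3860, 4079, 4412]))) (.node (.node (.leaf [820, 1141, 1282, 1349, 1489, 2019, 2163, 2958, 3140, 3190, 3689, 4028, 4050]) (.leaf [147, 217, 644, 754, 1557, 1710, 2166, 2381, 2796, 4074, 4190, 4215, 4460])) (.node (.leaf [248, 312, 510, 1095, 1735, 1956, 2084, 2156, 2683, 2807, 2900, 3521, 3552]) (.leaf [94, 159, 304, 1039, 1127, 1239, 1456, 1835, 2622, 2802, 3565, 3888, 4474])))) (.node (.node (.node (.node (.leaf [135, 460, 593, 805, 1153, 1700, 2015, 2039, 3145, 3342, 3436, 3781, 3991]) (.leaf [131, 479, 639, 653, 1060, 1314, 1443, 1728, 3314, 3629, 4117, 4342, 4376])) (.leaf [18, 248, 407, 711, 718, 1573, 1746, 2359,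 2463, 2637, 2818, 4427, 4455])) (.node (.leaf [279, 374, 419, 559, 1170, 1522, 1524, 2595, 3207, 3277, 4062, 4193, 4299]) (.leaf [49, 596, 784, 1091, 1715, 2553, 2689, 2721, 2948, 3070, 4080, 4233, 4427]))) (.node (.node (.leaf [654, 859, 1049, 1127, 1230, 1777, 2072, 2197, 2801, 2913, 3260, 3489, 4404]) (.leaf [13, 103, 186, 234, 916, 1478, 1875, 2140, 2265, 3477, 3510, 4348, 4466])) (.node (.leaf [499, 692, 1344, 1760, 1801, 2317, 2338, 2718, 3158, 3529, 3536, 3649, 3877]) (.leaf [12, 102, 388, 1003, 1675, 1753, 2110, 2287, 2525, 3807, 3955, 4283, 4422])))))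

def nbr229 : Janko.Tree (List ℕ) :=
  (.node (.node (.node (.node (.node (.leaf [45, 1101, 1267, 2175, 2471, 2753, 3105, 3138, 3277, 3605, 3695, 3981, 4179]) (.leaf [181, 292, 534, 541, 1742, 1851, 1882, 2183, 2604, 3335, 3571, 3865, 4148])) (.leaf [103, 488, 540, 754, 944, 1225, 1793, 1802, 2167, 2733, 3112, 4018, 4308])) (.node (.leaf [5, 97, 258, 471, 1000, 1551, 1622, 1964, 2323, 2530, 3596, 3622, 4393]) (.leaf [206, 233, 239, 708, 927, 1819, 2393, 2961, 3287, 3653, 3861, 4078, 4413]))) (.node (.node (.leaf [821, 1140, 1283, 1348, 1488, 2018, 2162, 2959, 3141, 3191, 3688, 4029, 4051]) (.leaf [146, 216, 645, 755, 1556, 1711, 2167, 2380, 2797, 4075, 4191, 4214, 4461])) (.node (.leaf [249, 313, 511, 1094, 1734, 1957, 2085, 2157, 2682, 2806, 2901, 3520, 3553]) (.leaf [95, 158, 305, 1038, 1126, 1238, 1457, 1834, 2623, 2803, 3564, 3889, 4475])))) (.node (.node (.node (.node (.leaf [134, 461, 592, 804, 1152, 1701, 2014, 2038, 3144, 3343, 3437, 3780, 3990]) (.leaf [130, 478, 638, 652, 1061, 1315, 1442, 1729, 3315, 3628, 4116, 4343, 4377])) (.leaf [19, 249, 406, 710, 719, 1572, 1747, 2358,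 2462, 2636, 2819, 4426, 4454])) (.node (.leaf [278, 375, 418, 558, 1171, 1523, 1525, 2594, 3206, 3276, 4063, 4192, 4298]) (.leaf [48, 597, 785, 1090, 1714, 2552, 2688, 2720, 2949, 3071, 4081, 4232, 4426]))) (.node (.node (.leaf [655, 858, 1048, 1126, 1231, 1776, 2073, 2196, 2800, 2912, 3261, 3488, 4405]) (.leaf [12, 102, 187, 235, 917, 1479, 1874, 2141, 2264, 3476, 3511, 4349, 4467])) (.node (.leaf [498, 693, 1345, 1761, 1800, 2316, 2339, 2719, 3159, 3528, 3537, 3648, 3876]) (.leaf [13, 103, 389, 1002, 1674, 1752, 2111, 2286, 2524, 3806, 3954, 4282, 4423])))))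

def nbr230 : Janko.Tree (List ℕ) :=
  (.node (.node (.node (.node (.node (.leaf [62, 736, 821, 1477, 1974, 2321, 2942, 2971, 3075, 3447, 4313, 4362, 4444]) (.leaf [1, 393, 704, 890, 1897, 2119, 2340, 2933, 2942, 3504, 3866, 4074, 4191])) (.leaf [382, 949, 960, 963, 1228, 1739, 1762, 2171, 2548, 3039, 3117, 3216, 3527])) (.node (.leaf [81, 410, 868, 1162, 1552, 2385, 2512, 2602, 3122, 3837, 3855, 3921, 4089]) (.leaf [372, 949, 1263, 1298, 2216, 2412, 3116, 3289, 3312, 3533, 3654, 3754, 4374]))) (.node (.node (.leaf [822, 904, 992, 1666, 2363, 2408, 2505, 2717, 3254, 3955, 4055, 4290, 4363]) (.leaf [58, 225, 249, 586, 952, 2211, 2342, 2551, 3763, 4109, 4182, 4274, 4426])) (.node (.leaf [1170, 1368, 1462, 1740, 2001, 2086, 2255, 2280, 2706, 3233, 3301, 3370, 3910]) (.leaf [143, 306, 388, 821, 1241, 1353, 1682, 1992, 2078, 3166, 3567, 4050, 4401])))) (.node (.node (.node (.node (.leaf [137, 328, 462, 473, 595, 807, 1702, 2017, 2041, 3467, 3547, 3774, 4222]) (.leaf [328, 425, 696, 798, 1499, 1655, 1931, 2041, 3029, 3953, 4143, 4420, 4462])) (.leaf [20, 185, 543, 1100, 1733, 2162, 2898,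 3081, 3190, 3217, 3324, 4331, 4344])) (.node (.leaf [412, 561, 682, 847, 1193, 1555, 1877, 2037, 3073, 3358, 3502, 4168, 4243]) (.leaf [259, 401, 469, 1133, 1440, 1624, 2248, 2711, 2997, 3340, 3500, 3708, 4368]))) (.node (.node (.leaf [470, 656, 861, 1123, 1232, 1353, 2198, 2203, 2915, 3491, 3625, 4413, 4460]) (.leaf [217, 272, 558, 1424, 1639, 1879, 1926, 1979, 3643, 3791, 3849, 3879, 3988])) (.node (.leaf [448, 501, 1549, 1845, 2555, 2588, 2728, 2779, 2917, 3040, 3972, 4110, 4320]) (.leaf [136, 894, 928, 1165, 1625, 1679, 1726, 2275, 2326, 3254, 3339, 4196, 4403])))))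

def nbr231 : Janko.Tree (List ℕ) :=
  (.node (.node (.node (.node (.node (.leaf [63, 737, 820, 1476, 1975, 2320, 2943, 2970, 3074, 3446, 4312, 4363, 4445]) (.leaf [0, 392, 705, 891, 1896, 2118, 2341, 2932, 2943, 3505, 3867, 4075, 4190])) (.leaf [383, 948, 961, 962, 1229, 1738, 1763, 2170, 2549, 3038, 3116, 3217, 3526])) (.node (.leaf [80, 411, 869, 1163, 1553, 2384, 2513, 2603, 3123, 3836, 3854, 3920, 4088]) (.leaf [373, 948, 1262, 1299, 2217, 2413, 3117, 3288, 3313, 3532, 3655, 3755, 4375]))) (.node (.node (.leaf [823, 905, 993, 1667, 2362, 2409, 2504, 2716, 3255, 3954, 4054, 4291, 4362]) (.leaf [59, 224, 248, 587, 953, 2210, 2343, 2550, 3762, 4108, 4183, 4275, 4427])) (.node (.leaf [1171, 1369, 1463, 1741, 2000, 2087, 2254, 2281, 2707, 3232, 3300, 3371, 3911]) (.leaf [142, 307, 389, 820, 1240, 1352, 1683, 1993, 2079, 3167, 3566, 4051, 4400])))) (.node (.node (.node (.node (.leaf [136, 329, 463, 472, 594, 806, 1703, 2016, 2040, 3466, 3546, 3775, 4223]) (.leaf [329, 424, 697, 799, 1498, 1654, 1930, 2040, 3028, 3952, 4142, 4421, 4463])) (.leaf [21, 184, 542, 1101, 1732, 2163, 2899,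 3080, 3191, 3216, 3325, 4330, 4345])) (.node (.leaf [413, 560, 683, 846, 1192, 1554, 1876, 2036, 3072, 3359, 3503, 4169, 4242]) (.leaf [258, 400, 468, 1132, 1441, 1625, 2249, 2710, 2996, 3341, 3501, 3709, 4369]))) (.node (.node (.leaf [471, 657, 860, 1122, 1233, 1352, 2199, 2202, 2914, 3490, 3624, 4412, 4461]) (.leaf [216, 273, 559, 1425, 1638, 1878, 1927, 1978, 3642, 3790, 3848, 3878, 3989])) (.node (.leaf [449, 500, 1548, 1844, 2554, 2589, 2729, 2778, 2916, 3041, 3973, 4111, 4321]) (.leaf [137, 895, 929, 1164, 1624, 1678, 1727, 2274, 2327, 3255, 3338, 4197, 4402])))))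

def nbr232 : Janko.Tree (List ℕ) :=
  (.node (.node (.node (.node (.node (.leaf [64, 265, 1074, 1203, 2323, 2977, 3194, 3449, 3561, 3716, 3730, 3859, 3939]) (.leaf [229, 395, 557, 700, 1899, 2682, 2925, 3446, 3526, 3561, 3946, 4076, 4313])) (.leaf [831, 1134, 1251, 1329, 1456, 1496, 2003, 2802, 3127, 3424, 3913, 3950, 4396])) (.node (.leaf [261, 285, 412, 866, 1084, 1554, 2095, 2878, 3124, 3976, 4053, 4163, 4443]) (.leaf [1088, 1265, 1300, 1648, 2248, 2414, 2842, 2945, 3052, 3314, 3341, 3656, 4273]))) (.node (.node (.leaf [359, 676, 720, 824, 855, 1482, 1583, 1727, 1820, 1934, 2104, 3791, 3946]) (.leaf [242, 820, 868, 1064, 1084, 1145, 1590, 1985, 2162, 3074, 3805, 4400, 4442])) (.node (.leaf [534, 554, 874, 1029, 1543, 1564, 1675, 2088, 2438, 2780, 3956, 4018, 4308]) (.leaf [27, 197, 294, 420, 1273, 1458, 2210, 2612, 2657, 2814, 3065, 3967, 4402])))) (.node (.node (.node (.node (.leaf [382, 464, 1229, 2194, 2201, 2327, 2500, 2759, 3726, 3746, 3810, 4106, 4346]) (.leaf [89, 626, 1341, 1456, 1805, 2640, 2695, 3120, 3490, 3867, 4011, 4191, 4461])) (.leaf [107, 396, 614, 1071, 1536,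 1978, 1993, 2259, 2618, 2844, 3652, 3885, 4413])) (.node (.leaf [330, 809, 1107, 2143, 2261, 2567, 2619, 2649, 3018, 3025, 3609, 3701, 4439]) (.leaf [189, 296, 403, 1588, 1729, 2747, 2796, 2875, 3281, 3342, 3439, 3502, 4117]))) (.node (.node (.leaf [254, 378, 1234, 1431, 2050, 2687, 3182, 3226, 3321, 3384, 3519, 3996, 4337]) (.leaf [219, 274, 942, 1472, 1544, 1881, 2378, 3099, 3350, 3645, 3743, 3834, 3881])) (.node (.leaf [16, 935, 1237, 1424, 1640, 2071, 2643, 2687, 3457, 3595, 3803, 3879, 4045]) (.leaf [224, 304, 896, 939, 1167, 1404, 1589, 1603, 2277, 2302, 3757, 4185, 4475])))))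

def nbr233 : Janko.Tree (List ℕ) :=
  (.node (.node (.node (.node (.node (.leaf [65, 264, 1075, 1202, 2322, 2976, 3195, 3448, 3560, 3717, 3731, 3858, 3938]) (.leaf [228, 394, 556, 701, 1898, 2683, 2924, 3447, 3527, 3560, 3947, 4077, 4312])) (.leaf [830, 1135, 1250, 1328, 1457, 1497, 2002, 2803, 3126, 3425, 3912, 3951, 4397])) (.node (.leaf [260, 284, 413, 867, 1085, 1555, 2094, 2879, 3125, 3977, 4052, 4162, 4442]) (.leaf [1089, 1264, 1301, 1649, 2249, 2415, 2843, 2944, 3053, 3315, 3340, 3657, 4272]))) (.node (.node (.leaf [358, 677, 721, 825, 854, 1483, 1582, 1726, 1821, 1935, 2105, 3790, 3947]) (.leaf [243, 821, 869, 1065, 1085, 1144, 1591, 1984, 2163, 3075, 3804, 4401, 4443])) (.node (.leaf [535, 555, 875, 1028, 1542, 1565, 1674, 2089, 2439, 2781, 3957, 4019, 4309]) (.leaf [26, 196, 295, 421, 1272, 1459, 2211, 2613, 2656, 2815, 3064, 3966, 4403])))) (.node (.node (.node (.node (.leaf [383, 465, 1228, 2195, 2200, 2326, 2501, 2758, 3727, 3747, 3811, 4107, 4347]) (.leaf [88, 627, 1340, 1457, 1804, 2641, 2694, 3121, 3491, 3866, 4010, 4190, 4460])) (.leaf [106, 397, 615, 1070, 1537,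 1979, 1992, 2258, 2619, 2845, 3653, 3884, 4412])) (.node (.leaf [331, 808, 1106, 2142, 2260, 2566, 2618, 2648, 3019, 3024, 3608, 3700, 4438]) (.leaf [188, 297, 402, 1589, 1728, 2746, 2797, 2874, 3280, 3343, 3438, 3503, 4116]))) (.node (.node (.leaf [255, 379, 1235, 1430, 2051, 2686, 3183, 3227, 3320, 3385, 3518, 3997, 4336]) (.leaf [218, 275, 943, 1473, 1545, 1880, 2379, 3098, 3351, 3644, 3742, 3835, 3880])) (.node (.leaf [17, 934, 1236, 1425, 1641, 2070, 2642, 2686, 3456, 3594, 3802, 3878, 4044]) (.leaf [225, 305, 897, 938, 1166, 1405, 1588, 1602, 2276, 2303, 3756, 4184, 4474])))))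

def nbr234 : Janko.Tree (List ℕ) :=
  (.node (.node (.node (.node (.node (.leaf [66, 823, 1170, 1893, 2603, 3052, 3065, 3308, 3371, 3614, 3710, 4059, 4135]) (.leaf [517, 1324, 1459, 1500, 1586, 1601, 1761, 2458, 2999, 3015, 3158, 3479, 3620])) (.leaf [221, 1138, 1253, 1302, 1433, 1928, 2096, 2219, 2668, 3129, 3246, 3745, 3852])) (.node (.leaf [194, 263, 414, 736, 1027, 1455, 2046, 2077, 2801, 2980, 3687, 3897, 4049]) (.leaf [313, 368, 1205, 1257, 1914, 2110, 3098, 3248, 3553, 3558, 3881, 3947, 4282]))) (.node (.node (.leaf [361, 623, 678, 712, 857, 1405, 1585, 1613, 1822, 2192, 2411, 3834, 4466]) (.leaf [993, 1016, 1033, 1567, 1627, 1743, 2556, 2604, 3111, 3568, 3973, 4054, 4266])) (.node (.leaf [12, 388, 528, 577, 757, 1765, 2092, 2245, 2504, 3861, 4094, 4204, 4333]) (.leaf [391, 394, 482, 489, 938, 2203, 2279, 2399, 2714, 3193, 4185, 4186, 4318])))) (.node (.node (.node (.node (.leaf [375, 466, 1598, 1641, 3119, 3739, 3748, 3756, 3758, 4005, 4045, 4120, 4424]) (.leaf [308, 461, 1072, 1350, 1375, 1455, 1647, 2981, 3109, 3250, 3380, 3963, 4119])) (.leaf [28, 121, 642, 1479, 1592,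 1777, 1982, 2611, 2997, 3820, 4148, 4188, 4213])) (.node (.leaf [148, 811, 959, 1644, 1840, 1884, 2265, 2478, 2569, 2792, 3429, 3611, 3688]) (.leaf [439, 976, 1504, 1626, 1650, 1731, 2123, 2946, 3032, 3201, 3392, 3945, 4349]))) (.node (.node (.leaf [102, 928, 1164, 1875, 2052, 2111, 2174, 2376, 2838, 3386, 3465, 3981, 4073]) (.leaf [37, 486, 611, 727, 921, 1038, 1261, 1678, 2803, 3472, 3784, 3959, 3985])) (.node (.leaf [365, 724, 943, 1284, 1353, 1602, 2108, 2813, 2893, 3688, 4050, 4057, 4413]) (.leaf [2, 561, 1314, 1523, 1786, 1829, 2573, 3003, 3261, 3502, 4058, 4135, 4254])))))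

def nbr235 : Janko.Tree (List ℕ) :=
  (.node (.node (.node (.node (.node (.leaf [67, 822, 1171, 1892, 2602, 3053, 3064, 3309, 3370, 3615, 3711, 4058, 4134]) (.leaf [516, 1325, 1458, 1501, 1587, 1600, 1760, 2459, 2998, 3014, 3159, 3478, 3621])) (.leaf [220, 1139, 1252, 1303, 1432, 1929, 2097, 2218, 2669, 3128, 3247, 3744, 3853])) (.node (.leaf [195, 262, 415, 737, 1026, 1454, 2047, 2076, 2800, 2981, 3686, 3896, 4048]) (.leaf [312, 369, 1204, 1256, 1915, 2111, 3099, 3249, 3552, 3559, 3880, 3946, 4283]))) (.node (.node (.leaf [360, 622, 679, 713, 856, 1404, 1584, 1612, 1823, 2193, 2410, 3835, 4467]) (.leaf [992, 1017, 1032, 1566, 1626, 1742, 2557, 2605, 3110, 3569, 3972, 4055, 4267])) (.node (.leaf [13, 389, 529, 576, 756, 1764, 2093, 2244, 2505, 3860, 4095, 4205, 4332]) (.leaf [390, 395, 483, 488, 939, 2202, 2278, 2398, 2715, 3192, 4184, 4187, 4319])))) (.node (.node (.node (.node (.leaf [374, 467, 1599, 1640, 3118, 3738, 3749, 3757, 3759, 4004, 4044, 4121, 4425]) (.leaf [309, 460, 1073, 1351, 1374, 1454, 1646, 2980, 3108, 3251, 3381, 3962, 4118])) (.leaf [29, 120, 643, 1478, 1593,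 1776, 1983, 2610, 2996, 3821, 4149, 4189, 4212])) (.node (.leaf [149, 810, 958, 1645, 1841, 1885, 2264, 2479, 2568, 2793, 3428, 3610, 3689]) (.leaf [438, 977, 1505, 1627, 1651, 1730, 2122, 2947, 3033, 3200, 3393, 3944, 4348]))) (.node (.node (.leaf [103, 929, 1165, 1874, 2053, 2110, 2175, 2377, 2839, 3387, 3464, 3980, 4072]) (.leaf [36, 487, 610, 726, 920, 1039, 1260, 1679, 2802, 3473, 3785, 3958, 3984])) (.node (.leaf [364, 725, 942, 1285, 1352, 1603, 2109, 2812, 2892, 3689, 4051, 4056, 4412]) (.leaf [3, 560, 1315, 1522, 1787, 1828, 2572, 3002, 3260, 3503, 4059, 4134, 4255])))))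

def nbr236 : Janko.Tree (List ℕ) :=
  (.node (.node (.node (.node (.node (.leaf [68, 553, 867, 1172, 1819, 2510, 2741, 2949, 3027, 3067, 3666, 4126, 4145]) (.leaf [56, 356, 525, 719, 1445, 1930, 2043, 2189, 3380, 3460, 3583, 4354, 4463])) (.leaf [223, 831, 1140, 1198, 1304, 1493, 1536, 1824, 2143, 2566, 2579, 3411, 4106])) (.node (.leaf [265, 418, 693, 1170, 1556, 2335, 2542, 2750, 3025, 3323, 3394, 3444, 3899]) (.leaf [315, 561, 658, 1478, 1512, 2112, 2385, 2611, 2743, 3100, 3555, 4449, 4467]))) (.node (.node (.leaf [129, 363, 520, 722, 826, 922, 971, 1403, 2413, 2429, 3405, 4254, 4375]) (.leaf [34, 151, 394, 1485, 1554, 2025, 2861, 2887, 3121, 3387, 3441, 4083, 4186])) (.node (.leaf [176, 530, 579, 834, 1062, 1936, 1981, 2844, 3357, 3538, 3727, 3801, 4346]) (.leaf [293, 484, 526, 1270, 2140, 2401, 2661, 2716, 3964, 4253, 4263, 4291, 4317])))) (.node (.node (.node (.node (.leaf [222, 468, 741, 892, 1291, 1660, 2870, 3340, 3730, 3974, 3992, 4106, 4320]) (.leaf [165, 310, 463, 694, 1377, 2227, 2361, 3171, 3825, 3844, 3898, 4227, 4471])) (.leaf [968, 1278, 1483, 1515, 1596, 1666, 1779,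 2111, 2122, 3255, 3944, 3947, 4423])) (.node (.leaf [460, 1097, 1858, 1886, 2038, 2571, 2577, 3327, 3484, 3495, 3543, 3910, 4407]) (.leaf [473, 508, 513, 825, 1393, 1396, 1909, 2007, 2833, 3402, 3439, 3544, 4387]))) (.node (.node (.leaf [151, 317, 723, 960, 962, 1098, 1470, 2481, 2813, 3430, 3441, 3751, 4257]) (.leaf [488, 729, 923, 938, 971, 1189, 1683, 1787, 1792, 1993, 2614, 3306, 3932])) (.node (.leaf [348, 591, 945, 1235, 1286, 1604, 2645, 2860, 3440, 3986, 4246, 4338, 4350]) (.leaf [4, 471, 563, 805, 2279, 2740, 3238, 3246, 3256, 3744, 3840, 3970, 4126])))))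

def nbr237 : Janko.Tree (List ℕ) :=
  (.node (.node (.node (.node (.node (.leaf [69, 552, 866, 1173, 1818, 2511, 2740, 2948, 3026, 3066, 3667, 4127, 4144]) (.leaf [57, 357, 524, 718, 1444, 1931, 2042, 2188, 3381, 3461, 3582, 4355, 4462])) (.leaf [222, 830, 1141, 1199, 1305, 1492, 1537, 1825, 2142, 2567, 2578, 3410, 4107])) (.node (.leaf [264, 419, 692, 1171, 1557, 2334, 2543, 2751, 3024, 3322, 3395, 3445, 3898]) (.leaf [314, 560, 659, 1479, 1513, 2113, 2384, 2610, 2742, 3101, 3554, 4448, 4466]))) (.node (.node (.leaf [128, 362, 521, 723, 827, 923, 970, 1402, 2412, 2428, 3404, 4255, 4374]) (.leaf [35, 150, 395, 1484, 1555, 2024, 2860, 2886, 3120, 3386, 3440, 4082, 4187])) (.node (.leaf [177, 531, 578, 835, 1063, 1937, 1980, 2845, 3356, 3539, 3726, 3800, 4347]) (.leaf [292, 485, 527, 1271, 2141, 2400, 2660, 2717, 3965, 4252, 4262, 4290, 4316])))) (.node (.node (.node (.node (.leaf [223, 469, 740, 893, 1290, 1661, 2871, 3341, 3731, 3975, 3993, 4107, 4321]) (.leaf [164, 311, 462, 695, 1376, 2226, 2360, 3170, 3824, 3845, 3899, 4226, 4470])) (.leaf [969, 1279, 1482, 1514, 1597, 1667, 1778,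 2110, 2123, 3254, 3945, 3946, 4422])) (.node (.leaf [461, 1096, 1859, 1887, 2039, 2570, 2576, 3326, 3485, 3494, 3542, 3911, 4406]) (.leaf [472, 509, 512, 824, 1392, 1397, 1908, 2006, 2832, 3403, 3438, 3545, 4386]))) (.node (.node (.leaf [150, 316, 722, 961, 963, 1099, 1471, 2480, 2812, 3431, 3440, 3750, 4256]) (.leaf [489, 728, 922, 939, 970, 1188, 1682, 1786, 1793, 1992, 2615, 3307, 3933])) (.node (.leaf [349, 590, 944, 1234, 1287, 1605, 2644, 2861, 3441, 3987, 4247, 4339, 4351]) (.leaf [5, 470, 562, 804, 2278, 2741, 3239, 3247, 3257, 3745, 3841, 3971, 4127])))))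

def nbr238 : Janko.Tree (List ℕ) :=
  (.node (.node (.node (.node (.node (.leaf [70, 1170, 1217, 1454, 1530, 1904, 2423, 3060, 3206, 3361, 3396, 3983, 4328]) (.leaf [408, 542, 589, 889, 1434, 2045, 2116, 2215, 2361, 3023, 4149, 4188, 4465])) (.leaf [342, 1261, 1509, 1780, 1948, 2414, 2567, 2734, 3135, 3473, 3942, 4419, 4460])) (.node (.leaf [152, 1326, 1420, 1974, 1985, 2082, 2103, 2126, 2785, 2828, 3093, 4028, 4145]) (.leaf [54, 756, 1116, 1161, 1426, 1529, 1809, 1822, 1887, 2283, 2894, 3765, 3903]))) (.node (.node (.leaf [360, 680, 828, 1559, 1614, 1839, 1888, 2018, 2665, 2974, 3718, 4059, 4061]) (.leaf [36, 1217, 1426, 1487, 1857, 2140, 2271, 2533, 2863, 2973, 3559, 4085, 4317])) (.node (.leaf [45, 160, 581, 1064, 1084, 2021, 2094, 2167, 3440, 3605, 3831, 4257, 4300]) (.leaf [393, 486, 1048, 1325, 1500, 1679, 1768, 1828, 2237, 2472, 3141, 3190, 3338])))) (.node (.node (.node (.node (.leaf [188, 380, 951, 1151, 2744, 3119, 3242, 3342, 3385, 3529, 3732, 3810, 4023]) (.leaf [102, 1165, 1275, 1786, 1792, 2373, 2409, 3037, 3242, 3343, 3462, 3955, 4116])) (.leaf [258, 300, 364, 1093,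 2122, 2422, 2534, 2948, 3060, 3591, 3822, 3970, 4126])) (.node (.leaf [462, 1207, 1888, 2040, 2151, 2535, 2573, 3029, 3497, 3591, 3861, 4079, 4131]) (.leaf [759, 1414, 1481, 1873, 1933, 2013, 2080, 2103, 2586, 2825, 3505, 3551, 4379]))) (.node (.node (.leaf [319, 725, 964, 1094, 1236, 1857, 2271, 2558, 2645, 3092, 3420, 3753, 4210]) (.leaf [87, 888, 1307, 1344, 1454, 1883, 1884, 2789, 3035, 3397, 3865, 3874, 3963])) (.node (.leaf [37, 116, 584, 814, 833, 951, 1817, 2870, 2882, 3213, 3852, 4084, 4133]) (.leaf [13, 806, 812, 1040, 1308, 2174, 3078, 3467, 3824, 3851, 3889, 4139, 4200])))))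

def nbr239 : Janko.Tree (List ℕ) :=
  (.node (.node (.node (.node (.node (.leaf [71, 1171, 1216, 1455, 1531, 1905, 2422, 3061, 3207, 3360, 3397, 3982, 4329]) (.leaf [409, 543, 588, 888, 1435, 2044, 2117, 2214, 2360, 3022, 4148, 4189, 4464])) (.leaf [343, 1260, 1508, 1781, 1949, 2415, 2566, 2735, 3134, 3472, 3943, 4418, 4461])) (.node (.leaf [153, 1327, 1421, 1975, 1984, 2083, 2102, 2127, 2784, 2829, 3092, 4029, 4144]) (.leaf [55, 757, 1117, 1160, 1427, 1528, 1808, 1823, 1886, 2282, 2895, 3764, 3902]))) (.node (.node (.leaf [361, 681, 829, 1558, 1615, 1838, 1889, 2019, 2664, 2975, 3719, 4058, 4060]) (.leaf [37, 1216, 1427, 1486, 1856, 2141, 2270, 2532, 2862, 2972, 3558, 4084, 4316])) (.node (.leaf [44, 161, 580, 1065, 1085, 2020, 2095, 2166, 3441, 3604, 3830, 4256, 4301]) (.leaf [392, 487, 1049, 1324, 1501, 1678, 1769, 1829, 2236, 2473, 3140, 3191, 3339])))) (.node (.node (.node (.node (.leaf [189, 381, 950, 1150, 2745, 3118, 3243, 3343, 3384, 3528, 3733, 3811, 4022]) (.leaf [103, 1164, 1274, 1787, 1793, 2372, 2408, 3036, 3243, 3342, 3463, 3954, 4117])) (.leaf [259, 301, 365, 1092,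 2123, 2423, 2535, 2949, 3061, 3590, 3823, 3971, 4127])) (.node (.leaf [463, 1206, 1889, 2041, 2150, 2534, 2572, 3028, 3496, 3590, 3860, 4078, 4130]) (.leaf [758, 1415, 1480, 1872, 1932, 2012, 2081, 2102, 2587, 2824, 3504, 3550, 4378]))) (.node (.node (.leaf [318, 724, 965, 1095, 1237, 1856, 2270, 2559, 2644, 3093, 3421, 3752, 4211]) (.leaf [86, 889, 1306, 1345, 1455, 1882, 1885, 2788, 3034, 3396, 3864, 3875, 3962])) (.node (.leaf [36, 117, 585, 815, 832, 950, 1816, 2871, 2883, 3212, 3853, 4085, 4132]) (.leaf [12, 807, 813, 1041, 1309, 2175, 3079, 3466, 3825, 3850, 3888, 4138, 4201])))))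

def nbr240 : Janko.Tree (List ℕ) :=
  (.node (.node (.node (.node (.node (.leaf [72, 1172, 1219, 2425, 2635, 3062, 3208, 3288, 3362, 3374, 3398, 4361, 4470]) (.leaf [315, 1332, 1613, 1650, 1659, 2265, 2479, 2602, 2982, 3123, 3925, 3967, 4467])) (.leaf [275, 544, 1263, 1344, 1507, 1676, 1967, 2230, 2273, 2788, 3406, 3868, 3990])) (.node (.leaf [104, 1422, 1578, 1976, 2130, 2548, 3148, 3545, 3691, 3905, 3924, 3998, 4035]) (.leaf [56, 680, 1118, 1220, 1428, 1531, 1889, 2896, 2923, 3149, 3356, 3358, 4259]))) (.node (.node (.leaf [458, 557, 830, 905, 1618, 2257, 2975, 3134, 3410, 4061, 4077, 4084, 4169]) (.leaf [75, 216, 699, 976, 1343, 1505, 1889, 2151, 2230, 3056, 3146, 3174, 3642])) (.node (.leaf [162, 583, 1066, 1086, 1254, 1856, 1906, 2096, 2169, 2177, 2558, 4099, 4302]) (.leaf [75, 534, 828, 1021, 1033, 1197, 1559, 1816, 1913, 2438, 2982, 3476, 3571])))) (.node (.node (.node (.node (.leaf [86, 404, 640, 940, 1054, 1543, 1884, 2634, 2836, 2905, 3364, 3374, 3728]) (.leaf [538, 923, 1288, 1787, 2095, 2862, 2986, 3037, 3168, 3851, 3960, 4043, 4254])) (.leaf [122, 549, 590, 637, 2424,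 2950, 3062, 3408, 3438, 3458, 3544, 3593, 4128])) (.node (.leaf [654, 747, 956, 1861, 2029, 2134, 2216, 2477, 3220, 3697, 3736, 3755, 3765]) (.leaf [883, 1336, 1420, 1567, 1596, 1830, 2042, 2605, 2718, 2784, 3334, 3999, 4034]))) (.node (.node (.leaf [37, 856, 968, 1238, 1822, 2113, 2802, 2839, 3009, 3183, 3436, 3980, 4325]) (.leaf [331, 354, 1311, 1779, 2215, 2536, 2979, 3024, 3030, 3929, 4341, 4423, 4465])) (.node (.leaf [7, 524, 1256, 1290, 1789, 1858, 2560, 2759, 3485, 3768, 4106, 4355, 4381]) (.leaf [640, 814, 977, 1042, 1063, 1342, 1410, 1731, 2201, 3167, 3729, 3847, 3853])))))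

def nbr241 : Janko.Tree (List ℕ) :=
  (.node (.node (.node (.node (.node (.leaf [73, 1173, 1218, 2424, 2634, 3063, 3209, 3289, 3363, 3375, 3399, 4360, 4471]) (.leaf [314, 1333, 1612, 1651, 1658, 2264, 2478, 2603, 2983, 3122, 3924, 3966, 4466])) (.leaf [274, 545, 1262, 1345, 1506, 1677, 1966, 2231, 2272, 2789, 3407, 3869, 3991])) (.node (.leaf [105, 1423, 1579, 1977, 2131, 2549, 3149, 3544, 3690, 3904, 3925, 3999, 4034]) (.leaf [57, 681, 1119, 1221, 1429, 1530, 1888, 2897, 2922, 3148, 3357, 3359, 4258]))) (.node (.node (.leaf [459, 556, 831, 904, 1619, 2256, 2974, 3135, 3411, 4060, 4076, 4085, 4168]) (.leaf [74, 217, 698, 977, 1342, 1504, 1888, 2150, 2231, 3057, 3147, 3175, 3643])) (.node (.leaf [163, 582, 1067, 1087, 1255, 1857, 1907, 2097, 2168, 2176, 2559, 4098, 4303]) (.leaf [74, 535, 829, 1020, 1032, 1196, 1558, 1817, 1912, 2439, 2983, 3477, 3570])))) (.node (.node (.node (.node (.leaf [87, 405, 641, 941, 1055, 1542, 1885, 2635, 2837, 2904, 3365, 3375, 3729]) (.leaf [539, 922, 1289, 1786, 2094, 2863, 2987, 3036, 3169, 3850, 3961, 4042, 4255])) (.leaf [123, 548, 591, 636, 2425,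 2951, 3063, 3409, 3439, 3459, 3545, 3592, 4129])) (.node (.leaf [655, 746, 957, 1860, 2028, 2135, 2217, 2476, 3221, 3696, 3737, 3754, 3764]) (.leaf [882, 1337, 1421, 1566, 1597, 1831, 2043, 2604, 2719, 2785, 3335, 3998, 4035]))) (.node (.node (.leaf [36, 857, 969, 1239, 1823, 2112, 2803, 2838, 3008, 3182, 3437, 3981, 4324]) (.leaf [330, 355, 1310, 1778, 2214, 2537, 2978, 3025, 3031, 3928, 4340, 4422, 4464])) (.node (.leaf [6, 525, 1257, 1291, 1788, 1859, 2561, 2758, 3484, 3769, 4107, 4354, 4380]) (.leaf [641, 815, 976, 1043, 1062, 1343, 1411, 1730, 2200, 3166, 3728, 3846, 3852])))))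

def nbr242 : Janko.Tree (List ℕ) :=
  (.node (.node (.node (.node (.node (.leaf [74, 534, 900, 1160, 1778, 1883, 2029, 2427, 2619, 2964, 3024, 3687, 4009]) (.leaf [481, 652, 841, 1658, 1854, 2375, 2466, 2749, 3069, 3488, 3925, 4119, 4157])) (.leaf [546, 1040, 1265, 1678, 1969, 2032, 2728, 3012, 3137, 3407, 3466, 3535, 3658])) (.node (.leaf [173, 617, 1002, 1296, 1424, 1580, 1842, 1978, 2795, 3020, 3210, 3693, 4410]) (.leaf [58, 587, 658, 792, 882, 1891, 2692, 2955, 3421, 3489, 3660, 3753, 4301]))) (.node (.node (.leaf [22, 115, 559, 682, 832, 1629, 2413, 2607, 2882, 2926, 3890, 4063, 4169]) (.leaf [15, 567, 884, 1691, 1906, 1952, 2571, 2592, 2634, 3088, 3362, 3620, 4378])) (.node (.leaf [40, 1068, 1687, 2098, 2299, 2863, 3097, 3235, 3252, 3266, 3829, 3851, 4171]) (.leaf [20, 165, 1973, 2022, 2160, 2178, 2314, 2391, 2664, 3557, 3787, 4037, 4227])))) (.node (.node (.node (.node (.leaf [118, 316, 406, 498, 800, 1056, 1668, 1800, 2115, 2636, 2907, 3010, 3607]) (.leaf [196, 386, 421, 1672, 1704, 2408, 3047, 3202, 3463, 3723, 3725, 4033, 4362])) (.leaf [288, 302, 355, 669, 853, 1581, 2239,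 2542, 3160, 3262, 3824, 3832, 3898])) (.node (.leaf [169, 285, 658, 882, 1205, 1293, 1437, 1538, 1896, 2507, 2785, 2850, 4283]) (.leaf [399, 563, 936, 1027, 1054, 1642, 1832, 2379, 2798, 2929, 3354, 3897, 4289]))) (.node (.node (.leaf [473, 1044, 1240, 1682, 1787, 1847, 2014, 2841, 2923, 3464, 3573, 4093, 4248]) (.leaf [356, 781, 1423, 1885, 1896, 2479, 2597, 2646, 2943, 3372, 3795, 3871, 3924])) (.node (.leaf [9, 588, 1150, 1479, 1791, 2022, 2534, 2590, 3119, 4120, 4131, 4189, 4315]) (.leaf [9, 1046, 1441, 1571, 1630, 1990, 2496, 3660, 3668, 3708, 4068, 4112, 4293])))))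

def nbr243 : Janko.Tree (List ℕ) :=
  (.node (.node (.node (.node (.node (.leaf [75, 535, 901, 1161, 1779, 1882, 2028, 2426, 2618, 2965, 3025, 3686, 4008]) (.leaf [480, 653, 840, 1659, 1855, 2374, 2467, 2748, 3068, 3489, 3924, 4118, 4156])) (.leaf [547, 1041, 1264, 1679, 1968, 2033, 2729, 3013, 3136, 3406, 3467, 3534, 3659])) (.node (.leaf [172, 616, 1003, 1297, 1425, 1581, 1843, 1979, 2794, 3021, 3211, 3692, 4411]) (.leaf [59, 586, 659, 793, 883, 1890, 2693, 2954, 3420, 3488, 3661, 3752, 4300]))) (.node (.node (.leaf [23, 114, 558, 683, 833, 1628, 2412, 2606, 2883, 2927, 3891, 4062, 4168]) (.leaf [14, 566, 885, 1690, 1907, 1953, 2570, 2593, 2635, 3089, 3363, 3621, 4379])) (.node (.leaf [41, 1069, 1686, 2099, 2298, 2862, 3096, 3234, 3253, 3267, 3828, 3850, 4170]) (.leaf [21, 164, 1972, 2023, 2161, 2179, 2315, 2390, 2665, 3556, 3786, 4036, 4226])))) (.node (.node (.node (.node (.leaf [119, 317, 407, 499, 801, 1057, 1669, 1801, 2114, 2637, 2906, 3011, 3606]) (.leaf [197, 387, 420, 1673, 1705, 2409, 3046, 3203, 3462, 3722, 3724, 4032, 4363])) (.leaf [289, 303, 354, 668, 852, 1580, 2238,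 2543, 3161, 3263, 3825, 3833, 3899])) (.node (.leaf [168, 284, 659, 883, 1204, 1292, 1436, 1539, 1897, 2506, 2784, 2851, 4282]) (.leaf [398, 562, 937, 1026, 1055, 1643, 1833, 2378, 2799, 2928, 3355, 3896, 4288]))) (.node (.node (.leaf [472, 1045, 1241, 1683, 1786, 1846, 2015, 2840, 2922, 3465, 3572, 4092, 4249]) (.leaf [357, 780, 1422, 1884, 1897, 2478, 2596, 2647, 2942, 3373, 3794, 3870, 3925])) (.node (.leaf [8, 589, 1151, 1478, 1790, 2023, 2535, 2591, 3118, 4121, 4130, 4188, 4314]) (.leaf [8, 1047, 1440, 1570, 1631, 1991, 2497, 3661, 3669, 3709, 4069, 4113, 4292])))))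

def nbr244 : Janko.Tree (List ℕ) :=
  (.node (.node (.node (.node (.node (.leaf [76, 363, 902, 1221, 1361, 1634, 1637, 1840, 2121, 2479, 2596, 3404, 3767]) (.leaf [120, 166, 559, 876, 1001, 1011, 1428, 1437, 1929, 2991, 3643, 3804, 4331])) (.leaf [71, 171, 1267, 2130, 2465, 2706, 3082, 3139, 3232, 3271, 3421, 3661, 4421])) (.node (.leaf [291, 616, 1794, 1980, 2310, 2940, 3008, 3692, 3726, 3977, 4087, 4268, 4443]) (.leaf [60, 660, 1073, 1120, 1399, 2694, 3196, 3491, 3662, 3793, 3978, 4090, 4303]))) (.node (.node (.leaf [247, 729, 834, 836, 1119, 1556, 1610, 2419, 2542, 2808, 3356, 3833, 4182]) (.leaf [19, 563, 848, 982, 1670, 2211, 2575, 2688, 2798, 3382, 3509, 3601, 4427])) (.node (.leaf [198, 203, 1070, 1243, 1928, 2100, 2124, 2289, 2617, 3237, 3831, 3853, 4132]) (.leaf [17, 351, 620, 1072, 2139, 2665, 2678, 3265, 3275, 3442, 3663, 3673, 3719])))) (.node (.node (.node (.node (.leaf [24, 408, 480, 749, 1366, 1863, 2214, 2649, 3601, 3656, 3730, 3993, 4341]) (.leaf [58, 84, 882, 1571, 1991, 2343, 2449, 3075, 3522, 3637, 3790, 3989, 4430])) (.leaf [44, 1413, 1562, 1612, 2010, 2258, 2292,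 2471, 3049, 3700, 3834, 4257, 4286])) (.node (.leaf [171, 287, 660, 1120, 1295, 1439, 1898, 2107, 2611, 2742, 2787, 2852, 2873]) (.leaf [220, 412, 2281, 2416, 2508, 2901, 2966, 3125, 3250, 3842, 4062, 4102, 4119]))) (.node (.node (.leaf [258, 1242, 1354, 1433, 1789, 2531, 2692, 2711, 2771, 3184, 3453, 3776, 4389]) (.leaf [321, 892, 1887, 2176, 2191, 2733, 2881, 2945, 3700, 3911, 4142, 4200, 4302])) (.node (.leaf [483, 634, 710, 1195, 1223, 1944, 1947, 2036, 2359, 3073, 3206, 4146, 4383]) (.leaf [486, 710, 847, 1048, 1223, 1260, 1573, 1917, 2874, 3068, 3281, 3662, 4114])))))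

def nbr245 : Janko.Tree (List ℕ) :=
  (.node (.node (.node (.node (.node (.leaf [77, 362, 903, 1220, 1360, 1635, 1636, 1841, 2120, 2478, 2597, 3405, 3766]) (.leaf [121, 167, 558, 877, 1000, 1010, 1429, 1436, 1928, 2990, 3642, 3805, 4330])) (.leaf [70, 170, 1266, 2131, 2464, 2707, 3083, 3138, 3233, 3270, 3420, 3660, 4420])) (.node (.leaf [290, 617, 1795, 1981, 2311, 2941, 3009, 3693, 3727, 3976, 4086, 4269, 4442]) (.leaf [61, 661, 1072, 1121, 1398, 2695, 3197, 3490, 3663, 3792, 3979, 4091, 4302]))) (.node (.node (.leaf [246, 728, 835, 837, 1118, 1557, 1611, 2418, 2543, 2809, 3357, 3832, 4183]) (.leaf [18, 562, 849, 983, 1671, 2210, 2574, 2689, 2799, 3383, 3508, 3600, 4426])) (.node (.leaf [199, 202, 1071, 1242, 1929, 2101, 2125, 2288, 2616, 3236, 3830, 3852, 4133]) (.leaf [16, 350, 621, 1073, 2138, 2664, 2679, 3264, 3274, 3443, 3662, 3672, 3718])))) (.node (.node (.node (.node (.leaf [25, 409, 481, 748, 1367, 1862, 2215, 2648, 3600, 3657, 3731, 3992, 4340]) (.leaf [59, 85, 883, 1570, 1990, 2342, 2448, 3074, 3523, 3636, 3791, 3988, 4431])) (.leaf [45, 1412, 1563, 1613, 2011, 2259, 2293,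 2470, 3048, 3701, 3835, 4256, 4287])) (.node (.leaf [170, 286, 661, 1121, 1294, 1438, 1899, 2106, 2610, 2743, 2786, 2853, 2872]) (.leaf [221, 413, 2280, 2417, 2509, 2900, 2967, 3124, 3251, 3843, 4063, 4103, 4118]))) (.node (.node (.leaf [259, 1243, 1355, 1432, 1788, 2530, 2693, 2710, 2770, 3185, 3452, 3777, 4388]) (.leaf [320, 893, 1886, 2177, 2190, 2732, 2880, 2944, 3701, 3910, 4143, 4201, 4303])) (.node (.leaf [482, 635, 711, 1194, 1222, 1945, 1946, 2037, 2358, 3072, 3207, 4147, 4382]) (.leaf [487, 711, 846, 1049, 1222, 1261, 1572, 1916, 2875, 3069, 3280, 3663, 4115])))))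

def nbr246 : Janko.Tree (List ℕ) :=
  (.node (.node (.node (.node (.node (.leaf [78, 528, 715, 796, 809, 1364, 1406, 2039, 2922, 3956, 4018, 4140, 4248]) (.leaf [45, 262, 727, 1258, 1338, 2752, 2801, 2955, 3117, 3133, 3204, 3488, 3969])) (.leaf [75, 686, 951, 1028, 1271, 1675, 2132, 3057, 3143, 3368, 3416, 4022, 4147])) (.node (.leaf [618, 982, 1045, 1982, 2233, 2499, 2528, 2831, 3397, 4005, 4089, 4236, 4453]) (.leaf [4, 208, 1071, 1417, 1551, 1745, 1821, 2026, 3059, 3269, 3599, 3831, 4170]))) (.node (.node (.leaf [249, 836, 1046, 1197, 1558, 1746, 2018, 2418, 2497, 2810, 3188, 4028, 4065]) (.leaf [155, 512, 825, 1060, 1174, 1358, 1833, 1861, 2730, 3487, 3541, 3821, 4055])) (.node (.leaf [8, 415, 1117, 1128, 2013, 2102, 2283, 2523, 2528, 2610, 3534, 4189, 4279]) (.leaf [324, 649, 1143, 1279, 2204, 2667, 2680, 3393, 3401, 3444, 3721, 3898, 4311])))) (.node (.node (.node (.node (.leaf [110, 476, 1195, 1652, 1851, 1946, 1957, 2515, 2577, 2944, 3228, 4091, 4302]) (.leaf [55, 240, 252, 451, 835, 1202, 1580, 1680, 1920, 2809, 3580, 3801, 3974])) (.leaf [321, 809, 958, 1564, 1775, 2176,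 2260, 2294, 2472, 2558, 4019, 4138, 4297])) (.node (.leaf [255, 549, 780, 1422, 1900, 2766, 2970, 3146, 3175, 3743, 3904, 4172, 4391]) (.leaf [182, 503, 882, 2231, 3134, 3263, 3266, 3642, 3787, 3988, 4243, 4287, 4460]))) (.node (.node (.leaf [1244, 1689, 1791, 2056, 2143, 2221, 2562, 2694, 2747, 3438, 3575, 4124, 4271]) (.leaf [323, 380, 958, 977, 1277, 1788, 1889, 1961, 2947, 3860, 3929, 4332, 4381])) (.node (.leaf [184, 485, 1024, 1225, 1533, 1946, 1956, 2709, 2856, 3081, 3208, 3779, 4232]) (.leaf [80, 238, 477, 669, 868, 881, 1595, 1805, 2773, 3121, 3979, 4177, 4367])))))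

def nbr247 : Janko.Tree (List ℕ) :=
  (.node (.node (.node (.node (.node (.leaf [79, 529, 714, 797, 808, 1365, 1407, 2038, 2923, 3957, 4019, 4141, 4249]) (.leaf [44, 263, 726, 1259, 1339, 2753, 2800, 2954, 3116, 3132, 3205, 3489, 3968])) (.leaf [74, 687, 950, 1029, 1270, 1674, 2133, 3056, 3142, 3369, 3417, 4023, 4146])) (.node (.leaf [619, 983, 1044, 1983, 2232, 2498, 2529, 2830, 3396, 4004, 4088, 4237, 4452]) (.leaf [5, 209, 1070, 1416, 1550, 1744, 1820, 2027, 3058, 3268, 3598, 3830, 4171]))) (.node (.node (.leaf [248, 837, 1047, 1196, 1559, 1747, 2019, 2419, 2496, 2811, 3189, 4029, 4064]) (.leaf [154, 513, 824, 1061, 1175, 1359, 1832, 1860, 2731, 3486, 3540, 3820, 4054])) (.node (.leaf [9, 414, 1116, 1129, 2012, 2103, 2282, 2522, 2529, 2611, 3535, 4188, 4278]) (.leaf [325, 648, 1142, 1278, 2205, 2666, 2681, 3392, 3400, 3445, 3720, 3899, 4310])))) (.node (.node (.node (.node (.leaf [111, 477, 1194, 1653, 1850, 1947, 1956, 2514, 2576, 2945, 3229, 4090, 4303]) (.leaf [54, 241, 253, 450, 834, 1203, 1581, 1681, 1921, 2808, 3581, 3800, 3975])) (.leaf [320, 808, 959, 1565, 1774, 2177,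 2261, 2295, 2473, 2559, 4018, 4139, 4296])) (.node (.leaf [254, 548, 781, 1423, 1901, 2767, 2971, 3147, 3174, 3742, 3905, 4173, 4390]) (.leaf [183, 502, 883, 2230, 3135, 3262, 3267, 3643, 3786, 3989, 4242, 4286, 4461]))) (.node (.node (.leaf [1245, 1688, 1790, 2057, 2142, 2220, 2563, 2695, 2746, 3439, 3574, 4125, 4270]) (.leaf [322, 381, 959, 976, 1276, 1789, 1888, 1960, 2946, 3861, 3928, 4333, 4380])) (.node (.leaf [185, 484, 1025, 1224, 1532, 1947, 1957, 2708, 2857, 3080, 3209, 3778, 4233]) (.leaf [81, 239, 476, 668, 869, 880, 1594, 1804, 2772, 3120, 3978, 4176, 4366])))))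

def nbr248 : Janko.Tree (List ℕ) :=
  (.node (.node (.node (.node (.node (.leaf [80, 530, 798, 811, 1705, 2041, 3060, 3123, 3531, 3722, 3934, 3958, 4250]) (.leaf [144, 177, 264, 693, 1234, 1685, 1995, 2179, 3169, 3186, 3492, 3569, 4247])) (.leaf [77, 569, 953, 1273, 1334, 1837, 2134, 2316, 2526, 3145, 3764, 3778, 4109])) (.node (.leaf [396, 706, 1430, 1442, 1576, 1633, 1719, 2327, 2501, 2705, 3885, 4263, 4336]) (.leaf [210, 570, 1299, 1419, 1823, 2028, 2965, 3009, 3508, 3601, 3755, 4099, 4133]))) (.node (.node (.leaf [136, 838, 895, 1903, 2368, 2420, 2525, 2626, 2939, 3328, 3345, 3724, 3905]) (.leaf [10, 622, 755, 1176, 1763, 1835, 1863, 2732, 2816, 3155, 3175, 3910, 4202])) (.node (.leaf [358, 417, 846, 876, 1018, 1119, 1556, 2104, 2126, 3358, 3706, 4191, 4395]) (.leaf [569, 658, 1365, 1520, 1549, 1937, 2101, 2570, 2592, 2671, 2743, 4111, 4298])))) (.node (.node (.node (.node (.leaf [478, 784, 937, 1443, 1656, 2378, 2911, 2948, 3306, 3376, 3469, 3880, 4155]) (.leaf [302, 1107, 1215, 1425, 1580, 1813, 1845, 2189, 2481, 2778, 2836, 3399, 3720])) (.leaf [403, 479, 722, 1098, 1583, 1768,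 1970, 2132, 2229, 2598, 2646, 3307, 3373])) (.node (.leaf [281, 782, 839, 1424, 1902, 1926, 2092, 2377, 2780, 2911, 3021, 3221, 3938]) (.leaf [919, 935, 2139, 2210, 2394, 2441, 2756, 2815, 2858, 2978, 3344, 3509, 4462]))) (.node (.node (.leaf [378, 437, 1223, 1246, 1482, 1514, 2406, 2917, 2958, 3041, 3424, 3524, 4433]) (.leaf [112, 445, 603, 1609, 1891, 2246, 2559, 2899, 2949, 3070, 3880, 4019, 4144])) (.node (.leaf [181, 437, 454, 491, 509, 870, 2010, 2745, 3453, 3460, 3581, 4194, 4199]) (.leaf [410, 544, 1186, 1305, 1568, 2368, 2417, 2630, 2824, 2933, 3000, 3505, 4246])))))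

def nbr249 : Janko.Tree (List ℕ) :=
  (.node (.node (.node (.node (.node (.leaf [81, 531, 799, 810, 1704, 2040, 3061, 3122, 3530, 3723, 3935, 3959, 4251]) (.leaf [145, 176, 265, 692, 1235, 1684, 1994, 2178, 3168, 3187, 3493, 3568, 4246])) (.leaf [76, 568, 952, 1272, 1335, 1836, 2135, 2317, 2527, 3144, 3765, 3779, 4108])) (.node (.leaf [397, 707, 1431, 1443, 1577, 1632, 1718, 2326, 2500, 2704, 3884, 4262, 4337]) (.leaf [211, 571, 1298, 1418, 1822, 2029, 2964, 3008, 3509, 3600, 3754, 4098, 4132]))) (.node (.node (.leaf [137, 839, 894, 1902, 2369, 2421, 2524, 2627, 2938, 3329, 3344, 3725, 3904]) (.leaf [11, 623, 754, 1177, 1762, 1834, 1862, 2733, 2817, 3154, 3174, 3911, 4203])) (.node (.leaf [359, 416, 847, 877, 1019, 1118, 1557, 2105, 2127, 3359, 3707, 4190, 4394]) (.leaf [568, 659, 1364, 1521, 1548, 1936, 2100, 2571, 2593, 2670, 2742, 4110, 4299])))) (.node (.node (.node (.node (.leaf [479, 785, 936, 1442, 1657, 2379, 2910, 2949, 3307, 3377, 3468, 3881, 4154]) (.leaf [303, 1106, 1214, 1424, 1581, 1812, 1844, 2188, 2480, 2779, 2837, 3398, 3721])) (.leaf [402, 478, 723, 1099, 1582, 1769,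 1971, 2133, 2228, 2599, 2647, 3306, 3372])) (.node (.leaf [280, 783, 838, 1425, 1903, 1927, 2093, 2376, 2781, 2910, 3020, 3220, 3939]) (.leaf [918, 934, 2138, 2211, 2395, 2440, 2757, 2814, 2859, 2979, 3345, 3508, 4463]))) (.node (.node (.leaf [379, 436, 1222, 1247, 1483, 1515, 2407, 2916, 2959, 3040, 3425, 3525, 4432]) (.leaf [113, 444, 602, 1608, 1890, 2247, 2558, 2898, 2948, 3071, 3881, 4018, 4145])) (.node (.leaf [180, 436, 455, 490, 508, 871, 2011, 2744, 3452, 3461, 3580, 4195, 4198]) (.leaf [411, 545, 1187, 1304, 1569, 2369, 2416, 2631, 2825, 2932, 3001, 3504, 4247])))))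

def nbr250 : Janko.Tree (List ℕ) :=
  (.node (.node (.node (.node (.node (.leaf [82, 160, 813, 1770, 2170, 2244, 2811, 3014, 3216, 3483, 3885, 4065, 4205]) (.leaf [175, 346, 747, 2060, 2435, 2459, 2585, 2684, 3479, 3498, 3737, 3935, 3959])) (.leaf [335, 481, 523, 916, 1306, 1412, 1884, 2264, 2763, 2818, 3776, 3924, 4150])) (.node (.leaf [56, 243, 546, 668, 1438, 1984, 2388, 2731, 2773, 2872, 3262, 3381, 4028]) (.leaf [169, 484, 526, 1021, 1524, 2432, 3105, 3279, 3456, 3565, 3664, 3694, 4045]))) (.node (.node (.leaf [138, 840, 897, 1923, 1989, 2302, 2370, 2651, 3020, 3249, 3827, 4001, 4067]) (.leaf [342, 457, 516, 963, 1622, 1762, 1865, 1964, 2366, 3134, 3266, 3831, 4257])) (.node (.leaf [305, 352, 641, 1308, 1672, 1886, 2277, 2878, 3046, 3137, 3466, 3602, 4143]) (.leaf [3, 370, 660, 1551, 1939, 2486, 2572, 2673, 2698, 3595, 3713, 3723, 3994])))) (.node (.node (.node (.node (.leaf [480, 1030, 1607, 2152, 2456, 2868, 2950, 3308, 3471, 3940, 4157, 4383, 4448]) (.leaf [306, 534, 616, 1108, 1183, 1591, 1759, 3025, 3300, 3928, 4162, 4441, 4442])) (.leaf [390, 481, 724, 1094, 1585, 2134,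 2190, 2435, 2467, 2648, 3309, 3710, 4307])) (.node (.leaf [20, 699, 910, 973, 984, 1529, 1886, 2531, 2881, 3603, 3623, 3786, 4241]) (.leaf [214, 239, 328, 598, 697, 1344, 1883, 1966, 2183, 3538, 3741, 3775, 4176]))) (.node (.node (.leaf [102, 1225, 1248, 2128, 2192, 2408, 2524, 2556, 2919, 3043, 3724, 3782, 4435]) (.leaf [192, 204, 447, 601, 1175, 1399, 2561, 2951, 3178, 3530, 3808, 3892, 4448])) (.node (.leaf [38, 495, 1175, 1485, 1601, 3026, 3179, 3234, 3348, 3541, 3734, 4082, 4436]) (.leaf [568, 667, 774, 900, 1015, 1031, 1622, 3135, 3623, 3631, 3787, 3940, 4008])))))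

def nbr251 : Janko.Tree (List ℕ) :=
  (.node (.node (.node (.node (.node (.leaf [83, 161, 812, 1771, 2171, 2245, 2810, 3015, 3217, 3482, 3884, 4064, 4204]) (.leaf [174, 347, 746, 2061, 2434, 2458, 2584, 2685, 3478, 3499, 3736, 3934, 3958])) (.leaf [334, 480, 522, 917, 1307, 1413, 1885, 2265, 2762, 2819, 3777, 3925, 4151])) (.node (.leaf [57, 242, 547, 669, 1439, 1985, 2389, 2730, 2772, 2873, 3263, 3380, 4029]) (.leaf [168, 485, 527, 1020, 1525, 2433, 3104, 3278, 3457, 3564, 3665, 3695, 4044]))) (.node (.node (.leaf [139, 841, 896, 1922, 1988, 2303, 2371, 2650, 3021, 3248, 3826, 4000, 4066]) (.leaf [343, 456, 517, 962, 1623, 1763, 1864, 1965, 2367, 3135, 3267, 3830, 4256])) (.node (.leaf [304, 353, 640, 1309, 1673, 1887, 2276, 2879, 3047, 3136, 3467, 3603, 4142]) (.leaf [2, 371, 661, 1550, 1938, 2487, 2573, 2672, 2699, 3594, 3712, 3722, 3995])))) (.node (.node (.node (.node (.leaf [481, 1031, 1606, 2153, 2457, 2869, 2951, 3309, 3470, 3941, 4156, 4382, 4449]) (.leaf [307, 535, 617, 1109, 1182, 1590, 1758, 3024, 3301, 3929, 4163, 4440, 4443])) (.leaf [391, 480, 725, 1095, 1584, 2135,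 2191, 2434, 2466, 2649, 3308, 3711, 4306])) (.node (.leaf [21, 698, 911, 972, 985, 1528, 1887, 2530, 2880, 3602, 3622, 3787, 4240]) (.leaf [215, 238, 329, 599, 696, 1345, 1882, 1967, 2182, 3539, 3740, 3774, 4177]))) (.node (.node (.leaf [103, 1224, 1249, 2129, 2193, 2409, 2525, 2557, 2918, 3042, 3725, 3783, 4434]) (.leaf [193, 205, 446, 600, 1174, 1398, 2560, 2950, 3179, 3531, 3809, 3893, 4449])) (.node (.leaf [39, 494, 1174, 1484, 1600, 3027, 3178, 3235, 3349, 3540, 3735, 4083, 4437]) (.leaf [569, 666, 775, 901, 1014, 1030, 1623, 3134, 3622, 3630, 3786, 3941, 4009])))))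

def nbr252 : Janko.Tree (List ℕ) :=
  (.node (.node (.node (.node (.node (.leaf [54, 162, 815, 835, 1772, 1980, 2172, 2621, 2827, 3016, 3090, 3218, 4182]) (.leaf [50, 701, 785, 1487, 1715, 2434, 3287, 3293, 3469, 3479, 3560, 3591, 3819])) (.leaf [316, 445, 647, 813, 918, 962, 1275, 1308, 1774, 2246, 2562, 2795, 3217])) (.node (.leaf [47, 245, 670, 1284, 1434, 1973, 1986, 2360, 2390, 2629, 2733, 3253, 3264]) (.leaf [26, 171, 196, 672, 1023, 2531, 2902, 3083, 3319, 3567, 4047, 4353, 4457]))) (.node (.node (.leaf [238, 291, 697, 724, 842, 927, 943, 1594, 1611, 1996, 2783, 3420, 3728]) (.leaf [335, 584, 604, 749, 778, 837, 863, 1346, 2107, 2790, 2809, 4079, 4369])) (.node (.leaf [12, 61, 576, 931, 1002, 1147, 1310, 1839, 2197, 3979, 4152, 4180, 4414]) (.leaf [208, 344, 759, 1009, 1715, 2365, 2675, 2959, 3140, 3359, 3818, 3915, 4260])))) (.node (.node (.node (.node (.leaf [199, 390, 422, 482, 505, 997, 1186, 1462, 1653, 2659, 3084, 3409, 4306]) (.leaf [88, 469, 1196, 1685, 1909, 2006, 2015, 2118, 3568, 3730, 3780, 3866, 4105])) (.leaf [32, 826, 984, 1482, 1614, 1697, 1845, 2056, 2235,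 2264, 3040, 3913, 3937])) (.node (.leaf [565, 975, 1012, 1277, 1420, 1531, 1689, 1888, 1904, 2920, 3605, 3618, 3788]) (.leaf [83, 610, 1317, 2056, 2167, 2547, 2796, 3037, 3438, 3604, 3618, 3845, 3981]))) (.node (.node (.leaf [89, 155, 380, 674, 795, 901, 1250, 1839, 2007, 2064, 2745, 3144, 4397]) (.leaf [42, 833, 907, 913, 1241, 1864, 2008, 2585, 2962, 3114, 3514, 3801, 4377])) (.node (.leaf [280, 402, 583, 716, 1200, 2373, 2646, 2943, 3030, 3342, 3732, 3923, 4444]) (.leaf [170, 254, 1101, 1266, 2018, 2163, 2380, 2518, 2881, 3182, 3804, 4006, 4047])))))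

def nbr253 : Janko.Tree (List ℕ) :=
  (.node (.node (.node (.node (.node (.leaf [55, 163, 814, 834, 1773, 1981, 2173, 2620, 2826, 3017, 3091, 3219, 4183]) (.leaf [51, 700, 784, 1486, 1714, 2435, 3286, 3292, 3468, 3478, 3561, 3590, 3818])) (.leaf [317, 444, 646, 812, 919, 963, 1274, 1309, 1775, 2247, 2563, 2794, 3216])) (.node (.leaf [46, 244, 671, 1285, 1435, 1972, 1987, 2361, 2391, 2628, 2732, 3252, 3265]) (.leaf [27, 170, 197, 673, 1022, 2530, 2903, 3082, 3318, 3566, 4046, 4352, 4456]))) (.node (.node (.leaf [239, 290, 696, 725, 843, 926, 942, 1595, 1610, 1997, 2782, 3421, 3729]) (.leaf [334, 585, 605, 748, 779, 836, 862, 1347, 2106, 2791, 2808, 4078, 4368])) (.node (.leaf [13, 60, 577, 930, 1003, 1146, 1311, 1838, 2196, 3978, 4153, 4181, 4415]) (.leaf [209, 345, 758, 1008, 1714, 2364, 2674, 2958, 3141, 3358, 3819, 3914, 4261])))) (.node (.node (.node (.node (.leaf [198, 391, 423, 483, 504, 996, 1187, 1463, 1652, 2658, 3085, 3408, 4307]) (.leaf [89, 468, 1197, 1684, 1908, 2007, 2014, 2119, 3569, 3731, 3781, 3867, 4104])) (.leaf [33, 827, 985, 1483, 1615, 1696, 1844, 2057, 2234,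 2265, 3041, 3912, 3936])) (.node (.leaf [564, 974, 1013, 1276, 1421, 1530, 1688, 1889, 1905, 2921, 3604, 3619, 3789]) (.leaf [82, 611, 1316, 2057, 2166, 2546, 2797, 3036, 3439, 3605, 3619, 3844, 3980]))) (.node (.node (.leaf [88, 154, 381, 675, 794, 900, 1251, 1838, 2006, 2065, 2744, 3145, 4396]) (.leaf [43, 832, 906, 912, 1240, 1865, 2009, 2584, 2963, 3115, 3515, 3800, 4376])) (.node (.leaf [281, 403, 582, 717, 1201, 2372, 2647, 2942, 3031, 3343, 3733, 3922, 4445]) (.leaf [171, 255, 1100, 1267, 2019, 2162, 2381, 2519, 2880, 3183, 3805, 4007, 4046])))))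

def nbr254 : Janko.Tree (List ℕ) :=
  (.node (.node (.node (.node (.node (.leaf [84, 144, 1855, 2526, 2643, 3231, 3266, 3435, 3702, 3758, 3848, 3988, 4123]) (.leaf [5, 372, 1078, 1770, 2700, 3009, 3183, 3257, 3475, 3597, 3715, 3996, 4269])) (.leaf [93, 491, 1277, 1310, 1701, 2059, 2193, 2521, 2556, 2765, 3050, 3936, 4341])) (.node (.leaf [166, 368, 755, 1204, 1436, 1774, 1857, 2176, 2394, 2671, 2805, 2920, 4229]) (.leaf [532, 552, 703, 1027, 1541, 1562, 2456, 2658, 3124, 3666, 3743, 3835, 4467]))) (.node (.node (.leaf [240, 844, 945, 1047, 1596, 1680, 1779, 2115, 2197, 2831, 3979, 4112, 4338]) (.leaf [78, 287, 843, 1805, 2003, 2353, 2694, 2737, 2766, 3424, 3554, 3842, 3979])) (.node (.leaf [578, 780, 933, 955, 1004, 1062, 1149, 1408, 2027, 3180, 3259, 3625, 4171]) (.leaf [210, 721, 787, 1011, 1158, 1716, 3114, 3150, 3361, 3675, 3725, 3900, 4318])))) (.node (.node (.node (.node (.leaf [201, 292, 424, 484, 875, 1464, 1525, 1655, 1667, 2043, 2605, 3770, 4025]) (.leaf [303, 548, 791, 1154, 2071, 2189, 2238, 2336, 2355, 3256, 3773, 4101, 4172])) (.leaf [456, 924, 962, 1616, 1699, 1741,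 1748, 1904, 2058, 2192, 2808, 3042, 3232])) (.node (.leaf [616, 1121, 1386, 1417, 1908, 1952, 1955, 2044, 2786, 3268, 3669, 4110, 4411]) (.leaf [114, 342, 405, 441, 832, 1508, 1865, 3006, 3150, 3353, 3674, 4452, 4472]))) (.node (.node (.leaf [311, 456, 890, 1252, 1617, 2973, 3236, 3844, 3853, 4075, 4082, 4084, 4214]) (.leaf [476, 1059, 1522, 1525, 1766, 1870, 2517, 2536, 2683, 2900, 2967, 3229, 3736])) (.node (.leaf [244, 255, 284, 1293, 1335, 2380, 2501, 2650, 3065, 3366, 3370, 3839, 3996]) (.leaf [644, 949, 1021, 1147, 1303, 1657, 2170, 2380, 3014, 3806, 3838, 3864, 3954])))))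

def nbr255 : Janko.Tree (List ℕ) :=
  (.node (.node (.node (.node (.node (.leaf [85, 145, 1854, 2527, 2642, 3230, 3267, 3434, 3703, 3759, 3849, 3989, 4122]) (.leaf [4, 373, 1079, 1771, 2701, 3008, 3182, 3256, 3474, 3596, 3714, 3997, 4268])) (.leaf [92, 490, 1276, 1311, 1700, 2058, 2192, 2520, 2557, 2764, 3051, 3937, 4340])) (.node (.leaf [167, 369, 754, 1205, 1437, 1775, 1856, 2177, 2395, 2670, 2804, 2921, 4228]) (.leaf [533, 553, 702, 1026, 1540, 1563, 2457, 2659, 3125, 3667, 3742, 3834, 4466]))) (.node (.node (.leaf [241, 845, 944, 1046, 1597, 1681, 1778, 2114, 2196, 2830, 3978, 4113, 4339]) (.leaf [79, 286, 842, 1804, 2002, 2352, 2695, 2736, 2767, 3425, 3555, 3843, 3978])) (.node (.leaf [579, 781, 932, 954, 1005, 1063, 1148, 1409, 2026, 3181, 3258, 3624, 4170]) (.leaf [211, 720, 786, 1010, 1159, 1717, 3115, 3151, 3360, 3674, 3724, 3901, 4319])))) (.node (.node (.node (.node (.leaf [200, 293, 425, 485, 874, 1465, 1524, 1654, 1666, 2042, 2604, 3771, 4024]) (.leaf [302, 549, 790, 1155, 2070, 2188, 2239, 2337, 2354, 3257, 3772, 4100, 4173])) (.leaf [457, 925, 963, 1617, 1698, 1740,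 1749, 1905, 2059, 2193, 2809, 3043, 3233])) (.node (.leaf [617, 1120, 1387, 1416, 1909, 1953, 1954, 2045, 2787, 3269, 3668, 4111, 4410]) (.leaf [115, 343, 404, 440, 833, 1509, 1864, 3007, 3151, 3352, 3675, 4453, 4473]))) (.node (.node (.leaf [310, 457, 891, 1253, 1616, 2972, 3237, 3845, 3852, 4074, 4083, 4085, 4215]) (.leaf [477, 1058, 1523, 1524, 1767, 1871, 2516, 2537, 2682, 2901, 2966, 3228, 3737])) (.node (.leaf [245, 254, 285, 1292, 1334, 2381, 2500, 2651, 3064, 3367, 3371, 3838, 3997]) (.leaf [645, 948, 1020, 1146, 1302, 1656, 2171, 2381, 3015, 3807, 3839, 3865, 3955])))))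

def nbr256 : Janko.Tree (List ℕ) :=
  (.node (.node (.node (.node (.node (.leaf [86, 198, 540, 1068, 1883, 2618, 2659, 2905, 3350, 3608, 3704, 3742, 4221]) (.leaf [411, 459, 935, 1103, 1162, 1911, 2489, 2683, 3703, 3893, 4070, 4077, 4389])) (.leaf [15, 95, 493, 780, 1703, 1852, 2266, 2767, 3233, 3660, 3871, 4140, 4292])) (.node (.leaf [658, 757, 1160, 1191, 1438, 1788, 1859, 2396, 2571, 2610, 2673, 2807, 3586]) (.leaf [0, 319, 1545, 2434, 2458, 2465, 3092, 3286, 3394, 3428, 3562, 3770, 4020]))) (.node (.node (.leaf [582, 947, 1098, 1723, 2421, 2647, 3059, 3347, 3417, 3449, 3598, 3730, 3781]) (.leaf [500, 692, 826, 975, 1105, 1262, 2412, 2685, 3046, 3187, 3444, 3721, 4080])) (.node (.leaf [162, 336, 657, 1662, 1760, 2158, 2262, 2640, 2821, 3074, 3491, 3512, 3522]) (.leaf [210, 287, 370, 761, 1007, 2107, 2504, 3363, 3555, 3722, 4132, 4326, 4363])))) (.node (.node (.node (.node (.leaf [392, 486, 846, 1020, 1543, 1657, 1816, 1885, 2942, 3429, 3431, 3923, 3985]) (.leaf [702, 910, 985, 1421, 1567, 1606, 2152, 2285, 2429, 2829, 2884, 4345, 4415])) (.leaf [54, 221, 971, 1318, 1528, 1618,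 1847, 1906, 2059, 2168, 3621, 4103, 4158])) (.node (.leaf [618, 711, 871, 1298, 1313, 1383, 1388, 1419, 1692, 1910, 2340, 3995, 4375]) (.leaf [432, 818, 1322, 1394, 1413, 1668, 2044, 2303, 2763, 2956, 3822, 4257, 4465]))) (.node (.node (.leaf [583, 814, 888, 967, 1242, 1254, 1753, 2087, 2124, 2827, 2849, 3034, 3749]) (.leaf [91, 598, 1275, 1450, 1897, 2001, 2182, 2232, 2477, 3300, 3570, 3871, 4282])) (.node (.leaf [96, 447, 720, 1297, 1978, 3060, 3157, 3557, 3683, 3790, 3892, 4069, 4329]) (.leaf [595, 706, 916, 1102, 1122, 1212, 1327, 1420, 1830, 2199, 2429, 3949, 4070])))))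

def nbr257 : Janko.Tree (List ℕ) :=
  (.node (.node (.node (.node (.node (.leaf [87, 199, 541, 1069, 1882, 2619, 2658, 2904, 3351, 3609, 3705, 3743, 4220]) (.leaf [410, 458, 934, 1102, 1163, 1910, 2488, 2682, 3702, 3892, 4071, 4076, 4388])) (.leaf [14, 94, 492, 781, 1702, 1853, 2267, 2766, 3232, 3661, 3870, 4141, 4293])) (.node (.leaf [659, 756, 1161, 1190, 1439, 1789, 1858, 2397, 2570, 2611, 2672, 2806, 3587]) (.leaf [1, 318, 1544, 2435, 2459, 2464, 3093, 3287, 3395, 3429, 3563, 3771, 4021]))) (.node (.node (.leaf [583, 946, 1099, 1722, 2420, 2646, 3058, 3346, 3416, 3448, 3599, 3731, 3780]) (.leaf [501, 693, 827, 974, 1104, 1263, 2413, 2684, 3047, 3186, 3445, 3720, 4081])) (.node (.leaf [163, 337, 656, 1663, 1761, 2159, 2263, 2641, 2820, 3075, 3490, 3513, 3523]) (.leaf [211, 286, 371, 760, 1006, 2106, 2505, 3362, 3554, 3723, 4133, 4327, 4362])))) (.node (.node (.node (.node (.leaf [393, 487, 847, 1021, 1542, 1656, 1817, 1884, 2943, 3428, 3430, 3922, 3984]) (.leaf [703, 911, 984, 1420, 1566, 1607, 2153, 2284, 2428, 2828, 2885, 4344, 4414])) (.leaf [55, 220, 970, 1319, 1529, 1619,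 1846, 1907, 2058, 2169, 3620, 4102, 4159])) (.node (.leaf [619, 710, 870, 1299, 1312, 1382, 1389, 1418, 1693, 1911, 2341, 3994, 4374]) (.leaf [433, 819, 1323, 1395, 1412, 1669, 2045, 2302, 2762, 2957, 3823, 4256, 4464]))) (.node (.node (.leaf [582, 815, 889, 966, 1243, 1255, 1752, 2086, 2125, 2826, 2848, 3035, 3748]) (.leaf [90, 599, 1274, 1451, 1896, 2000, 2183, 2233, 2476, 3301, 3571, 3870, 4283])) (.node (.leaf [97, 446, 721, 1296, 1979, 3061, 3156, 3556, 3682, 3791, 3893, 4068, 4328]) (.leaf [594, 707, 917, 1103, 1123, 1213, 1326, 1421, 1831, 2198, 2428, 3948, 4071])))))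

def nbr258 : Janko.Tree (List ℕ) :=
  (.node (.node (.node (.node (.node (.leaf [28, 88, 902, 1922, 2013, 2119, 2968, 3826, 3850, 3960, 3983, 4191, 4212]) (.leaf [225, 350, 560, 628, 2206, 2343, 2675, 2855, 2983, 3476, 3585, 4243, 4467])) (.leaf [337, 902, 1230, 1634, 1760, 1996, 2173, 3261, 3961, 4075, 4255, 4295, 4337])) (.node (.leaf [56, 575, 1438, 1607, 1775, 2195, 2246, 2398, 2686, 2913, 3385, 3630, 4344]) (.leaf [158, 241, 613, 668, 1038, 2197, 2963, 3506, 3578, 3801, 4173, 4181, 4350]))) (.node (.node (.leaf [208, 846, 1223, 1714, 1792, 2150, 2615, 2948, 3072, 3111, 3431, 3590, 3638]) (.leaf [140, 453, 493, 506, 1660, 1955, 2009, 2266, 2484, 3450, 3506, 3813, 4024])) (.node (.leaf [156, 164, 197, 387, 1008, 2350, 2466, 3076, 3168, 3170, 3433, 3493, 4459]) (.leaf [816, 922, 1080, 1632, 1663, 1772, 1784, 2252, 2488, 2500, 2650, 3311, 3933])))) (.node (.node (.node (.node (.leaf [317, 394, 488, 1022, 1031, 1527, 2328, 2614, 3431, 3561, 3607, 3922, 4211]) (.leaf [553, 1086, 1355, 2004, 2369, 2406, 2419, 2630, 3065, 3264, 3275, 3400, 4403])) (.leaf [1141, 1382, 1499, 1517, 2005,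 2471, 2900, 3056, 3143, 3330, 3426, 4124, 4244])) (.node (.leaf [1008, 1021, 1217, 1426, 1526, 1807, 1912, 2350, 2888, 2961, 3278, 3309, 3615]) (.leaf [434, 445, 1134, 1324, 1396, 1436, 1775, 1896, 2340, 2558, 2934, 3458, 3649]))) (.node (.node (.leaf [354, 864, 887, 1258, 1290, 1293, 1590, 2089, 2893, 3149, 3928, 4016, 4137]) (.leaf [397, 1097, 1762, 1901, 1966, 2276, 2789, 2890, 3013, 3174, 3466, 3875, 4239])) (.node (.leaf [294, 421, 496, 1253, 1685, 1929, 2539, 3236, 3283, 3722, 4251, 4272, 4327]) (.leaf [93, 206, 398, 708, 929, 1832, 2621, 3677, 3738, 3756, 3941, 4072, 4403])))))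

def nbr259 : Janko.Tree (List ℕ) :=
  (.node (.node (.node (.node (.node (.leaf [29, 89, 903, 1923, 2012, 2118, 2969, 3827, 3851, 3961, 3982, 4190, 4213]) (.leaf [224, 351, 561, 629, 2207, 2342, 2674, 2854, 2982, 3477, 3584, 4242, 4466])) (.leaf [336, 903, 1231, 1635, 1761, 1997, 2172, 3260, 3960, 4074, 4254, 4294, 4336])) (.node (.leaf [57, 574, 1439, 1606, 1774, 2194, 2247, 2399, 2687, 2912, 3384, 3631, 4345]) (.leaf [159, 240, 612, 669, 1039, 2196, 2962, 3507, 3579, 3800, 4172, 4180, 4351]))) (.node (.node (.leaf [209, 847, 1222, 1715, 1793, 2151, 2614, 2949, 3073, 3110, 3430, 3591, 3639]) (.leaf [141, 452, 492, 507, 1661, 1954, 2008, 2267, 2485, 3451, 3507, 3812, 4025])) (.node (.leaf [157, 165, 196, 386, 1009, 2351, 2467, 3077, 3169, 3171, 3432, 3492, 4458]) (.leaf [817, 923, 1081, 1633, 1662, 1773, 1785, 2253, 2489, 2501, 2651, 3310, 3932])))) (.node (.node (.node (.node (.leaf [316, 395, 489, 1023, 1030, 1526, 2329, 2615, 3430, 3560, 3606, 3923, 4210]) (.leaf [552, 1087, 1354, 2005, 2368, 2407, 2418, 2631, 3064, 3265, 3274, 3401, 4402])) (.leaf [1140, 1383, 1498, 1516, 2004,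 2470, 2901, 3057, 3142, 3331, 3427, 4125, 4245])) (.node (.leaf [1009, 1020, 1216, 1427, 1527, 1806, 1913, 2351, 2889, 2960, 3279, 3308, 3614]) (.leaf [435, 444, 1135, 1325, 1397, 1437, 1774, 1897, 2341, 2559, 2935, 3459, 3648]))) (.node (.node (.leaf [355, 865, 886, 1259, 1291, 1292, 1591, 2088, 2892, 3148, 3929, 4017, 4136]) (.leaf [396, 1096, 1763, 1900, 1967, 2277, 2788, 2891, 3012, 3175, 3467, 3874, 4238])) (.node (.leaf [295, 420, 497, 1252, 1684, 1928, 2538, 3237, 3282, 3723, 4250, 4273, 4326]) (.leaf [92, 207, 399, 709, 928, 1833, 2620, 3676, 3739, 3757, 3940, 4073, 4402])))))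

def nbr260 : Janko.Tree (List ℕ) :=
  (.node (.node (.node (.node (.node (.leaf [90, 358, 1710, 1924, 2970, 3128, 3422, 3526, 3852, 3887, 4214, 4313, 4361]) (.leaf [227, 562, 630, 1574, 1716, 2138, 2309, 2345, 2574, 3392, 3641, 3956, 4096])) (.leaf [826, 971, 1633, 2402, 2490, 2518, 2528, 2738, 3535, 3933, 3942, 4048, 4081])) (.node (.leaf [52, 1506, 1718, 1780, 2152, 3289, 3435, 3654, 3683, 3707, 4368, 4405, 4418]) (.leaf [106, 290, 406, 551, 616, 1125, 1978, 2079, 3302, 3566, 3611, 3668, 4455]))) (.node (.node (.leaf [213, 458, 609, 630, 958, 1644, 2255, 2914, 3312, 3640, 4296, 4392, 4409]) (.leaf [184, 488, 761, 1188, 1225, 1526, 2202, 2876, 2898, 3070, 3283, 4310, 4326])) (.node (.leaf [43, 166, 1010, 1449, 1540, 1563, 2258, 2669, 3172, 3326, 3435, 3514, 3654]) (.leaf [818, 1253, 1327, 1665, 2001, 2254, 2538, 2652, 3330, 3479, 3676, 3739, 3948])))) (.node (.node (.node (.node (.leaf [133, 490, 980, 1016, 1340, 1659, 1725, 1935, 2030, 2556, 3433, 3492, 4213]) (.leaf [91, 188, 1179, 1803, 1910, 2016, 2683, 2712, 3275, 3526, 3547, 3733, 4357])) (.leaf [269, 936, 1249, 1584, 1766,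 1991, 1996, 2191, 2192, 2485, 2517, 2597, 3890])) (.node (.leaf [235, 1010, 1023, 1219, 1428, 1608, 1809, 1914, 2511, 2963, 3514, 4144, 4352]) (.leaf [1429, 1575, 1610, 1755, 1914, 2309, 3356, 3404, 3512, 3522, 3646, 3859, 4431]))) (.node (.node (.leaf [602, 611, 739, 892, 1177, 1260, 1297, 2094, 2167, 2732, 3976, 4287, 4461]) (.leaf [399, 1041, 1130, 1343, 1764, 1903, 1968, 2093, 2151, 2300, 2718, 3877, 4200])) (.node (.leaf [204, 261, 734, 1456, 1475, 1972, 2214, 2932, 2969, 3062, 4052, 4137, 4191]) (.leaf [134, 266, 327, 1153, 1338, 1880, 2304, 2447, 2775, 3188, 3336, 3612, 3814])))))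

def nbr261 : Janko.Tree (List ℕ) :=
  (.node (.node (.node (.node (.node (.leaf [91, 359, 1711, 1925, 2971, 3129, 3423, 3527, 3853, 3886, 4215, 4312, 4360]) (.leaf [226, 563, 631, 1575, 1717, 2139, 2308, 2344, 2575, 3393, 3640, 3957, 4097])) (.leaf [827, 970, 1632, 2403, 2491, 2519, 2529, 2739, 3534, 3932, 3943, 4049, 4080])) (.node (.leaf [53, 1507, 1719, 1781, 2153, 3288, 3434, 3655, 3682, 3706, 4369, 4404, 4419]) (.leaf [107, 291, 407, 550, 617, 1124, 1979, 2078, 3303, 3567, 3610, 3669, 4454]))) (.node (.node (.leaf [212, 459, 608, 631, 959, 1645, 2254, 2915, 3313, 3641, 4297, 4393, 4408]) (.leaf [185, 489, 760, 1189, 1224, 1527, 2203, 2877, 2899, 3071, 3282, 4311, 4327])) (.node (.leaf [42, 167, 1011, 1448, 1541, 1562, 2259, 2668, 3173, 3327, 3434, 3515, 3655]) (.leaf [819, 1252, 1326, 1664, 2000, 2255, 2539, 2653, 3331, 3478, 3677, 3738, 3949])))) (.node (.node (.node (.node (.leaf [132, 491, 981, 1017, 1341, 1658, 1724, 1934, 2031, 2557, 3432, 3493, 4212]) (.leaf [90, 189, 1178, 1802, 1911, 2017, 2682, 2713, 3274, 3527, 3546, 3732, 4356])) (.leaf [268, 937, 1248, 1585, 1767,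 1990, 1997, 2190, 2193, 2484, 2516, 2596, 3891])) (.node (.leaf [234, 1011, 1022, 1218, 1429, 1609, 1808, 1915, 2510, 2962, 3515, 4145, 4353]) (.leaf [1428, 1574, 1611, 1754, 1915, 2308, 3357, 3405, 3513, 3523, 3647, 3858, 4430]))) (.node (.node (.leaf [603, 610, 738, 893, 1176, 1261, 1296, 2095, 2166, 2733, 3977, 4286, 4460]) (.leaf [398, 1040, 1131, 1342, 1765, 1902, 1969, 2092, 2150, 2301, 2719, 3876, 4201])) (.node (.leaf [205, 260, 735, 1457, 1474, 1973, 2215, 2933, 2968, 3063, 4053, 4136, 4190]) (.leaf [135, 267, 326, 1152, 1339, 1881, 2305, 2446, 2774, 3189, 3337, 3613, 3815])))))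

def nbr262 : Janko.Tree (List ℕ) :=
  (.node (.node (.node (.node (.node (.leaf [122, 474, 618, 1323, 2209, 2633, 2754, 3127, 3718, 3823, 3950, 4071, 4389]) (.leaf [98, 713, 1169, 1899, 1924, 2003, 2479, 2779, 3284, 3527, 3719, 4326, 4356])) (.leaf [57, 344, 1984, 2094, 2102, 2257, 2267, 3135, 3358, 3497, 3630, 4286, 4442])) (.node (.leaf [207, 772, 816, 1442, 2033, 2248, 2618, 3656, 3687, 3709, 4117, 4154, 4412]) (.leaf [474, 622, 637, 1164, 1448, 2669, 2832, 3076, 3101, 3105, 3153, 3545, 3670]))) (.node (.node (.leaf [152, 215, 511, 682, 848, 960, 1099, 1390, 2083, 2594, 3314, 4397, 4416]) (.leaf [186, 235, 464, 763, 1271, 2769, 3557, 3808, 3818, 3893, 3968, 4262, 4451])) (.node (.leaf [984, 1018, 1145, 1452, 1528, 1554, 1708, 2397, 2922, 3359, 3840, 3857, 4442]) (.leaf [175, 954, 990, 1004, 1311, 1935, 2226, 2556, 2681, 2762, 3030, 4152, 4311])))) (.node (.node (.node (.node (.leaf [492, 533, 1562, 1612, 1660, 1852, 2545, 2790, 2985, 3079, 3435, 4215, 4369]) (.leaf [82, 161, 1085, 1198, 2485, 3004, 3238, 3822, 3891, 3952, 3971, 4101, 4163])) (.leaf [583, 618, 826, 1379, 1983, 2429,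 2884, 3330, 3569, 3749, 3780, 3994, 4044])) (.node (.leaf [99, 210, 570, 933, 1227, 1545, 1918, 1965, 2137, 3771, 4041, 4251, 4327]) (.leaf [1046, 1577, 1631, 1746, 2102, 2305, 2385, 2523, 2586, 2799, 3463, 4275, 4426]))) (.node (.node (.leaf [21, 112, 743, 973, 1262, 1285, 1299, 1692, 2390, 2684, 2898, 3869, 4310]) (.leaf [401, 598, 906, 1645, 1766, 1840, 2227, 2268, 2537, 2596, 3030, 3473, 4378])) (.node (.leaf [548, 907, 1209, 2592, 2734, 2979, 3031, 3256, 3593, 3665, 3801, 4152, 4180]) (.leaf [310, 374, 688, 809, 1252, 1280, 2509, 2658, 2879, 3125, 3317, 3608, 4005])))))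

def nbr263 : Janko.Tree (List ℕ) :=
  (.node (.node (.node (.node (.node (.leaf [123, 475, 619, 1322, 2208, 2632, 2755, 3126, 3719, 3822, 3951, 4070, 4388]) (.leaf [99, 712, 1168, 1898, 1925, 2002, 2478, 2778, 3285, 3526, 3718, 4327, 4357])) (.leaf [56, 345, 1985, 2095, 2103, 2256, 2266, 3134, 3359, 3496, 3631, 4287, 4443])) (.node (.leaf [206, 773, 817, 1443, 2032, 2249, 2619, 3657, 3686, 3708, 4116, 4155, 4413]) (.leaf [475, 623, 636, 1165, 1449, 2668, 2833, 3077, 3100, 3104, 3152, 3544, 3671]))) (.node (.node (.leaf [153, 214, 510, 683, 849, 961, 1098, 1391, 2082, 2595, 3315, 4396, 4417]) (.leaf [187, 234, 465, 762, 1270, 2768, 3556, 3809, 3819, 3892, 3969, 4263, 4450])) (.node (.leaf [985, 1019, 1144, 1453, 1529, 1555, 1709, 2396, 2923, 3358, 3841, 3856, 4443]) (.leaf [174, 955, 991, 1005, 1310, 1934, 2227, 2557, 2680, 2763, 3031, 4153, 4310])))) (.node (.node (.node (.node (.leaf [493, 532, 1563, 1613, 1661, 1853, 2544, 2791, 2984, 3078, 3434, 4214, 4368]) (.leaf [83, 160, 1084, 1199, 2484, 3005, 3239, 3823, 3890, 3953, 3970, 4100, 4162])) (.leaf [582, 619, 827, 1378, 1982, 2428,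 2885, 3331, 3568, 3748, 3781, 3995, 4045])) (.node (.leaf [98, 211, 571, 932, 1226, 1544, 1919, 1964, 2136, 3770, 4040, 4250, 4326]) (.leaf [1047, 1576, 1630, 1747, 2103, 2304, 2384, 2522, 2587, 2798, 3462, 4274, 4427]))) (.node (.node (.leaf [20, 113, 742, 972, 1263, 1284, 1298, 1693, 2391, 2685, 2899, 3868, 4311]) (.leaf [400, 599, 907, 1644, 1767, 1841, 2226, 2269, 2536, 2597, 3031, 3472, 4379])) (.node (.leaf [549, 906, 1208, 2593, 2735, 2978, 3030, 3257, 3592, 3664, 3800, 4153, 4181]) (.leaf [311, 375, 689, 808, 1253, 1281, 2508, 2659, 2878, 3124, 3316, 3609, 4004])))))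

def nbr264 : Janko.Tree (List ℕ) :=
  (.node (.node (.node (.node (.node (.leaf [124, 1168, 1214, 1325, 1453, 1569, 2739, 3388, 3459, 3720, 4080, 4271, 4478]) (.leaf [49, 384, 403, 526, 1647, 2076, 2349, 3167, 3198, 3250, 3578, 4093, 4400])) (.leaf [115, 1435, 1986, 2096, 2104, 2927, 3360, 3396, 3675, 3851, 4138, 4152, 4194])) (.node (.leaf [214, 791, 1319, 1466, 1470, 1525, 1634, 1721, 1955, 2860, 2966, 4063, 4410]) (.leaf [499, 626, 991, 2109, 2673, 2886, 2892, 3120, 3442, 3504, 3672, 3909, 4047]))) (.node (.node (.leaf [514, 538, 592, 619, 716, 850, 1111, 2331, 3037, 3176, 3342, 3950, 4284]) (.leaf [162, 582, 717, 1901, 2263, 2277, 2445, 2970, 3333, 3969, 4228, 4356, 4450])) (.node (.leaf [271, 424, 662, 997, 1418, 1460, 1705, 1868, 1910, 2515, 3017, 3350, 3867]) (.leaf [72, 424, 685, 1173, 2390, 2685, 3076, 3152, 3557, 3666, 3771, 4010, 4094])))) (.node (.node (.node (.node (.leaf [128, 494, 565, 1004, 1017, 1149, 1320, 1467, 2952, 3299, 3679, 3788, 3906]) (.leaf [97, 307, 664, 888, 1442, 2378, 2405, 3025, 3157, 3686, 3897, 3918, 4465])) (.leaf [70, 190, 879, 1417, 1835, 2243,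 2284, 2661, 2817, 2902, 3214, 3989, 4328])) (.node (.leaf [256, 609, 759, 999, 1229, 1516, 1547, 1920, 2454, 3039, 3426, 3651, 3819]) (.leaf [72, 279, 682, 838, 1282, 1489, 1560, 1683, 2294, 2595, 3280, 3455, 3663]))) (.node (.node (.leaf [192, 745, 975, 1264, 1287, 1301, 1421, 1694, 2252, 3013, 3893, 4295, 4451]) (.leaf [194, 1237, 1913, 2207, 2556, 2734, 3031, 3279, 3477, 3516, 3879, 4341, 4434])) (.node (.leaf [595, 619, 851, 1579, 1910, 2129, 3622, 3782, 3867, 3901, 3925, 4070, 4319]) (.leaf [913, 1284, 2163, 2281, 2392, 2539, 2813, 2854, 2976, 3048, 3115, 3216, 3846])))))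

def nbr265 : Janko.Tree (List ℕ) :=
  (.node (.node (.node (.node (.node (.leaf [125, 1169, 1215, 1324, 1452, 1568, 2738, 3389, 3458, 3721, 4081, 4270, 4479]) (.leaf [48, 385, 402, 527, 1646, 2077, 2348, 3166, 3199, 3251, 3579, 4092, 4401])) (.leaf [114, 1434, 1987, 2097, 2105, 2926, 3361, 3397, 3674, 3850, 4139, 4153, 4195])) (.node (.leaf [215, 790, 1318, 1467, 1471, 1524, 1635, 1720, 1954, 2861, 2967, 4062, 4411]) (.leaf [498, 627, 990, 2108, 2672, 2887, 2893, 3121, 3443, 3505, 3673, 3908, 4046]))) (.node (.node (.leaf [515, 539, 593, 618, 717, 851, 1110, 2330, 3036, 3177, 3343, 3951, 4285]) (.leaf [163, 583, 716, 1900, 2262, 2276, 2444, 2971, 3332, 3968, 4229, 4357, 4451])) (.node (.leaf [270, 425, 663, 996, 1419, 1461, 1704, 1869, 1911, 2514, 3016, 3351, 3866]) (.leaf [73, 425, 684, 1172, 2391, 2684, 3077, 3153, 3556, 3667, 3770, 4011, 4095])))) (.node (.node (.node (.node (.leaf [129, 495, 564, 1005, 1016, 1148, 1321, 1466, 2953, 3298, 3678, 3789, 3907]) (.leaf [96, 306, 665, 889, 1443, 2379, 2404, 3024, 3156, 3687, 3896, 3919, 4464])) (.leaf [71, 191, 878, 1416, 1834, 2242,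 2285, 2660, 2816, 2903, 3215, 3988, 4329])) (.node (.leaf [257, 608, 758, 998, 1228, 1517, 1546, 1921, 2455, 3038, 3427, 3650, 3818]) (.leaf [73, 278, 683, 839, 1283, 1488, 1561, 1682, 2295, 2594, 3281, 3454, 3662]))) (.node (.node (.leaf [193, 744, 974, 1265, 1286, 1300, 1420, 1695, 2253, 3012, 3892, 4294, 4450]) (.leaf [195, 1236, 1912, 2206, 2557, 2735, 3030, 3278, 3476, 3517, 3878, 4340, 4435])) (.node (.leaf [594, 618, 850, 1578, 1911, 2128, 3623, 3783, 3866, 3900, 3924, 4071, 4318]) (.leaf [912, 1285, 2162, 2280, 2393, 2538, 2812, 2855, 2977, 3049, 3114, 3217, 3847])))))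

def nbr266 : Janko.Tree (List ℕ) :=
  (.node (.node (.node (.node (.node (.leaf [126, 339, 471, 1232, 1680, 1812, 1845, 3129, 3745, 3887, 4073, 4077, 4230]) (.leaf [189, 500, 992, 1104, 1151, 1422, 1567, 1790, 2678, 2716, 2867, 3274, 4252])) (.leaf [68, 864, 1173, 1559, 1579, 2088, 2101, 2439, 2453, 2742, 3133, 3623, 4276])) (.node (.leaf [652, 793, 871, 1723, 1812, 1855, 2862, 2986, 3082, 3266, 3420, 4161, 4374]) (.leaf [38, 383, 440, 512, 645, 1175, 1184, 2317, 2526, 3299, 3586, 4473, 4478]))) (.node (.node (.leaf [220, 302, 328, 594, 718, 852, 935, 1215, 1432, 2433, 3632, 4463, 4478]) (.leaf [370, 465, 856, 1210, 1894, 2182, 2205, 2290, 2776, 3712, 3741, 3810, 4411])) (.node (.leaf [484, 1020, 1087, 1203, 1216, 1254, 1368, 1462, 1532, 2244, 3365, 3580, 3983]) (.leaf [588, 689, 978, 1476, 1637, 1748, 2021, 2126, 2885, 2937, 3092, 4234, 4315])))) (.node (.node (.node (.node (.leaf [496, 567, 662, 1661, 1869, 2547, 2824, 2954, 2987, 2994, 3001, 3133, 4378]) (.leaf [348, 500, 992, 2204, 2533, 2751, 3255, 3445, 3474, 3559, 3947, 3986, 4266])) (.leaf [72, 277, 388, 1055, 1373, 1419,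 2286, 2726, 2815, 2865, 3351, 3374, 4095])) (.node (.leaf [13, 860, 987, 1922, 1989, 1994, 2092, 2196, 2361, 4173, 4200, 4322, 4469]) (.leaf [76, 573, 925, 1198, 1533, 1712, 2142, 2633, 2780, 2910, 2930, 3635, 3778]))) (.node (.node (.leaf [591, 637, 894, 1266, 1317, 1390, 1605, 2222, 3670, 3845, 4197, 4317, 4420]) (.leaf [916, 1477, 1636, 1919, 2438, 2727, 2812, 2819, 3510, 3770, 3883, 4056, 4094])) (.node (.leaf [853, 1215, 1323, 1581, 1758, 2489, 2683, 2738, 2794, 3157, 3619, 3736, 4252]) (.leaf [94, 289, 405, 541, 1122, 1977, 2224, 2753, 3334, 3565, 3608, 4035, 4470])))))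

def nbr267 : Janko.Tree (List ℕ) :=
  (.node (.node (.node (.node (.node (.leaf [127, 338, 470, 1233, 1681, 1813, 1844, 3128, 3744, 3886, 4072, 4076, 4231]) (.leaf [188, 501, 993, 1105, 1150, 1423, 1566, 1791, 2679, 2717, 2866, 3275, 4253])) (.leaf [69, 865, 1172, 1558, 1578, 2089, 2100, 2438, 2452, 2743, 3132, 3622, 4277])) (.node (.leaf [653, 792, 870, 1722, 1813, 1854, 2863, 2987, 3083, 3267, 3421, 4160, 4375]) (.leaf [39, 382, 441, 513, 644, 1174, 1185, 2316, 2527, 3298, 3587, 4472, 4479]))) (.node (.node (.leaf [221, 303, 329, 595, 719, 853, 934, 1214, 1433, 2432, 3633, 4462, 4479]) (.leaf [371, 464, 857, 1211, 1895, 2183, 2204, 2291, 2777, 3713, 3740, 3811, 4410])) (.node (.leaf [485, 1021, 1086, 1202, 1217, 1255, 1369, 1463, 1533, 2245, 3364, 3581, 3982]) (.leaf [589, 688, 979, 1477, 1636, 1749, 2020, 2127, 2884, 2936, 3093, 4235, 4314])))) (.node (.node (.node (.node (.leaf [497, 566, 663, 1660, 1868, 2546, 2825, 2955, 2986, 2995, 3000, 3132, 4379]) (.leaf [349, 501, 993, 2205, 2532, 2750, 3254, 3444, 3475, 3558, 3946, 3987, 4267])) (.leaf [73, 276, 389, 1054, 1372, 1418,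 2287, 2727, 2814, 2864, 3350, 3375, 4094])) (.node (.leaf [12, 861, 986, 1923, 1988, 1995, 2093, 2197, 2360, 4172, 4201, 4323, 4468]) (.leaf [77, 572, 924, 1199, 1532, 1713, 2143, 2632, 2781, 2911, 2931, 3634, 3779]))) (.node (.node (.leaf [590, 636, 895, 1267, 1316, 1391, 1604, 2223, 3671, 3844, 4196, 4316, 4421]) (.leaf [917, 1476, 1637, 1918, 2439, 2726, 2813, 2818, 3511, 3771, 3882, 4057, 4095])) (.node (.leaf [852, 1214, 1322, 1580, 1759, 2488, 2682, 2739, 2795, 3156, 3618, 3737, 4253]) (.leaf [95, 288, 404, 540, 1123, 1976, 2225, 2752, 3335, 3564, 3609, 4034, 4471])))))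

def nbr268 : Janko.Tree (List ℕ) :=
  (.node (.node (.node (.node (.node (.leaf [128, 135, 268, 842, 1239, 1403, 1493, 1748, 2579, 2600, 2936, 3890, 3909]) (.leaf [130, 137, 1060, 1623, 1727, 2306, 2571, 2576, 2984, 3089, 3328, 3369, 4157])) (.leaf [508, 571, 825, 1493, 1583, 1854, 2744, 2937, 2986, 3169, 3410, 3616, 3848])) (.node (.leaf [638, 1052, 1410, 1444, 1464, 1957, 2042, 2514, 2550, 2632, 2864, 3778, 4342]) (.leaf [40, 442, 699, 1068, 1177, 1186, 1549, 1640, 2020, 3001, 3175, 3588, 3897]))) (.node (.node (.leaf [244, 854, 1222, 1434, 1482, 1681, 2111, 2380, 2880, 3206, 3397, 3745, 3865]) (.leaf [920, 1445, 1464, 1486, 3211, 3242, 3384, 3516, 3582, 3631, 3747, 3749, 4265])) (.node (.leaf [26, 119, 966, 1022, 1205, 1218, 1256, 1464, 1534, 1980, 3582, 4354, 4361]) (.leaf [521, 826, 888, 1004, 1928, 2403, 2538, 2612, 3023, 3331, 3392, 4097, 4469])))) (.node (.node (.node (.node (.leaf [392, 498, 1102, 1432, 2109, 2257, 2633, 2864, 3032, 3141, 3316, 3688, 4388]) (.leaf [107, 300, 617, 981, 1182, 1696, 1764, 1843, 1935, 2184, 2235, 2680, 4087])) (.leaf [96, 517, 864, 1193, 1455,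 1586, 1964, 2049, 2398, 2912, 3381, 3390, 3897])) (.node (.leaf [705, 977, 989, 1063, 1430, 1712, 1924, 1927, 1936, 1991, 3018, 3624, 4431]) (.leaf [121, 167, 390, 1548, 1737, 1863, 1892, 2021, 2671, 2937, 3100, 3152, 4184]))) (.node (.node (.leaf [421, 639, 896, 1268, 1319, 1392, 1602, 1619, 2224, 2339, 2364, 3915, 4422]) (.leaf [139, 313, 683, 902, 1923, 2197, 2491, 2926, 3090, 3261, 3705, 3934, 4195])) (.node (.leaf [848, 1144, 1460, 1880, 1943, 2271, 2594, 2874, 2931, 3045, 3207, 3663, 4131]) (.leaf [660, 1509, 1541, 1947, 2008, 2359, 2502, 2853, 3046, 3515, 4032, 4127, 4302])))))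

def nbr269 : Janko.Tree (List ℕ) :=
  (.node (.node (.node (.node (.node (.leaf [129, 134, 269, 843, 1238, 1402, 1492, 1749, 2578, 2601, 2937, 3891, 3908]) (.leaf [131, 136, 1061, 1622, 1726, 2307, 2570, 2577, 2985, 3088, 3329, 3368, 4156])) (.leaf [509, 570, 824, 1492, 1582, 1855, 2745, 2936, 2987, 3168, 3411, 3617, 3849])) (.node (.leaf [639, 1053, 1411, 1445, 1465, 1956, 2043, 2515, 2551, 2633, 2865, 3779, 4343]) (.leaf [41, 443, 698, 1069, 1176, 1187, 1548, 1641, 2021, 3000, 3174, 3589, 3896]))) (.node (.node (.leaf [245, 855, 1223, 1435, 1483, 1680, 2110, 2381, 2881, 3207, 3396, 3744, 3864]) (.leaf [921, 1444, 1465, 1487, 3210, 3243, 3385, 3517, 3583, 3630, 3746, 3748, 4264])) (.node (.leaf [27, 118, 967, 1023, 1204, 1219, 1257, 1465, 1535, 1981, 3583, 4355, 4360]) (.leaf [520, 827, 889, 1005, 1929, 2402, 2539, 2613, 3022, 3330, 3393, 4096, 4468])))) (.node (.node (.node (.node (.leaf [393, 499, 1103, 1433, 2108, 2256, 2632, 2865, 3033, 3140, 3317, 3689, 4389]) (.leaf [106, 301, 616, 980, 1183, 1697, 1765, 1842, 1934, 2185, 2234, 2681, 4086])) (.leaf [97, 516, 865, 1192, 1454,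 1587, 1965, 2048, 2399, 2913, 3380, 3391, 3896])) (.node (.leaf [704, 976, 988, 1062, 1431, 1713, 1925, 1926, 1937, 1990, 3019, 3625, 4430]) (.leaf [120, 166, 391, 1549, 1736, 1862, 1893, 2020, 2670, 2936, 3101, 3153, 4185]))) (.node (.node (.leaf [420, 638, 897, 1269, 1318, 1393, 1603, 1618, 2225, 2338, 2365, 3914, 4423]) (.leaf [138, 312, 682, 903, 1922, 2196, 2490, 2927, 3091, 3260, 3704, 3935, 4194])) (.node (.leaf [849, 1145, 1461, 1881, 1942, 2270, 2595, 2875, 2930, 3044, 3206, 3662, 4130]) (.leaf [661, 1508, 1540, 1946, 2009, 2358, 2503, 2852, 3047, 3514, 4033, 4126, 4303])))))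

def nbr270 : Janko.Tree (List ℕ) :=
  (.node (.node (.node (.node (.node (.leaf [130, 1278, 1327, 1666, 2370, 2414, 2677, 2992, 3401, 3585, 3760, 3813, 4025]) (.leaf [134, 975, 980, 1403, 1414, 1620, 1671, 2305, 2575, 2921, 3165, 4154, 4192])) (.leaf [622, 1350, 1495, 1585, 2218, 2455, 2607, 2668, 2939, 3143, 3742, 3904, 4220])) (.node (.leaf [88, 302, 636, 1128, 1233, 1448, 1844, 2222, 2432, 2522, 2915, 3640, 4275]) (.leaf [28, 42, 341, 345, 909, 1461, 2213, 2931, 2956, 3066, 3829, 4475, 4476]))) (.node (.node (.leaf [269, 410, 596, 856, 1224, 1276, 1493, 2113, 2192, 2932, 3208, 3399, 4335]) (.leaf [308, 827, 889, 922, 1614, 3235, 3386, 3749, 3850, 3962, 4083, 4148, 4213])) (.node (.leaf [862, 957, 1333, 1708, 2106, 2229, 2335, 2630, 3306, 3612, 3754, 4133, 4290]) (.leaf [108, 1273, 1554, 2693, 2759, 2771, 3211, 3356, 3516, 3963, 4186, 4237, 4347])))) (.node (.node (.node (.node (.leaf [115, 349, 394, 500, 572, 2142, 2518, 2866, 3440, 4080, 4105, 4270, 4319]) (.leaf [109, 122, 619, 1105, 1263, 1612, 1698, 1918, 2808, 2984, 3539, 3883, 4089])) (.leaf [98, 519, 608, 987, 1195, 1503,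 1879, 2037, 2360, 2400, 2914, 3894, 4471])) (.node (.leaf [538, 603, 717, 1065, 1926, 1978, 1993, 2094, 2356, 2591, 3020, 3567, 3877]) (.leaf [147, 292, 495, 1161, 1254, 1550, 2245, 2673, 2939, 3026, 3131, 3902, 3965]))) (.node (.node (.leaf [641, 698, 757, 802, 1270, 1394, 1887, 2045, 2786, 2852, 3056, 3331, 4441]) (.leaf [141, 315, 471, 506, 1697, 1925, 2764, 3296, 3625, 3832, 3887, 3936, 4037])) (.node (.leaf [2012, 2273, 2274, 2625, 2734, 2876, 3209, 3229, 3551, 3869, 3943, 3982, 4311]) (.leaf [264, 677, 839, 882, 895, 1468, 2851, 3187, 3441, 3791, 3939, 4159, 4300])))))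

def nbr271 : Janko.Tree (List ℕ) :=
  (.node (.node (.node (.node (.node (.leaf [131, 1279, 1326, 1667, 2371, 2415, 2676, 2993, 3400, 3584, 3761, 3812, 4024]) (.leaf [135, 974, 981, 1402, 1415, 1621, 1670, 2304, 2574, 2920, 3164, 4155, 4193])) (.leaf [623, 1351, 1494, 1584, 2219, 2454, 2606, 2669, 2938, 3142, 3743, 3905, 4221])) (.node (.leaf [89, 303, 637, 1129, 1232, 1449, 1845, 2223, 2433, 2523, 2914, 3641, 4274]) (.leaf [29, 43, 340, 344, 908, 1460, 2212, 2930, 2957, 3067, 3828, 4474, 4477]))) (.node (.node (.leaf [268, 411, 597, 857, 1225, 1277, 1492, 2112, 2193, 2933, 3209, 3398, 4334]) (.leaf [309, 826, 888, 923, 1615, 3234, 3387, 3748, 3851, 3963, 4082, 4149, 4212])) (.node (.leaf [863, 956, 1332, 1709, 2107, 2228, 2334, 2631, 3307, 3613, 3755, 4132, 4291]) (.leaf [109, 1272, 1555, 2692, 2758, 2770, 3210, 3357, 3517, 3962, 4187, 4236, 4346])))) (.node (.node (.node (.node (.leaf [114, 348, 395, 501, 573, 2143, 2519, 2867, 3441, 4081, 4104, 4271, 4318]) (.leaf [108, 123, 618, 1104, 1262, 1613, 1699, 1919, 2809, 2985, 3538, 3882, 4088])) (.leaf [99, 518, 609, 986, 1194, 1502,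 1878, 2036, 2361, 2401, 2915, 3895, 4470])) (.node (.leaf [539, 602, 716, 1064, 1927, 1979, 1992, 2095, 2357, 2590, 3021, 3566, 3876]) (.leaf [146, 293, 494, 1160, 1255, 1551, 2244, 2672, 2938, 3027, 3130, 3903, 3964]))) (.node (.node (.leaf [640, 699, 756, 803, 1271, 1395, 1886, 2044, 2787, 2853, 3057, 3330, 4440]) (.leaf [140, 314, 470, 507, 1696, 1924, 2765, 3297, 3624, 3833, 3886, 3937, 4036])) (.node (.leaf [2013, 2272, 2275, 2624, 2735, 2877, 3208, 3228, 3550, 3868, 3942, 3983, 4310]) (.leaf [265, 676, 838, 883, 894, 1469, 2850, 3186, 3440, 3790, 3938, 4158, 4301])))))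

def nbr272 : Janko.Tree (List ℕ) :=
  (.node (.node (.node (.node (.node (.leaf [132, 491, 1266, 1329, 1700, 1848, 2223, 3403, 3461, 3636, 3641, 3816, 4409]) (.leaf [190, 1474, 1757, 2185, 2427, 2457, 2680, 2793, 2817, 2868, 3927, 4209, 4307])) (.leaf [1053, 1386, 1419, 1711, 2056, 2240, 2287, 2746, 2797, 3128, 3412, 3558, 4283])) (.node (.leaf [90, 152, 262, 638, 672, 877, 1450, 1749, 2047, 2126, 2224, 2595, 3908]) (.leaf [44, 343, 776, 911, 1710, 2507, 2934, 3228, 3674, 3831, 3943, 4087, 4400]))) (.node (.node (.leaf [50, 217, 858, 1049, 1208, 2184, 2206, 2230, 2674, 2734, 3977, 4417, 4461]) (.leaf [895, 997, 1037, 1390, 2327, 2435, 2925, 3102, 3400, 3560, 4174, 4307, 4333])) (.node (.leaf [147, 1140, 1320, 1507, 1556, 1825, 2108, 3130, 3154, 3367, 3707, 4050, 4372]) (.leaf [352, 827, 1217, 1746, 2056, 2695, 3235, 3603, 3828, 3844, 4044, 4120, 4317])))) (.node (.node (.node (.node (.leaf [338, 420, 502, 737, 788, 896, 2362, 2436, 2998, 3150, 4230, 4362, 4403]) (.leaf [54, 775, 978, 1981, 1989, 2395, 2757, 3644, 3741, 3800, 3921, 4000, 4276])) (.leaf [290, 811, 1026, 1332, 1672,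 1881, 2478, 2714, 2918, 3415, 3612, 3742, 4454])) (.node (.leaf [166, 368, 1069, 1243, 1928, 2085, 2098, 2251, 2669, 2827, 3100, 3552, 4221]) (.leaf [31, 232, 451, 615, 947, 1723, 1921, 2706, 3369, 3384, 3432, 3652, 4022]))) (.node (.node (.leaf [499, 898, 1013, 1272, 1383, 1396, 1889, 2317, 2341, 3126, 3357, 3672, 3719]) (.leaf [121, 171, 1138, 1505, 1626, 1929, 2610, 2622, 3101, 3486, 3535, 3931, 4048])) (.node (.leaf [197, 766, 1009, 1111, 2352, 3280, 3555, 3646, 3766, 3859, 3954, 4261, 4362]) (.leaf [346, 809, 867, 1331, 1407, 2095, 2102, 2691, 2785, 3079, 4042, 4138, 4214])))))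

def nbr273 : Janko.Tree (List ℕ) :=
  (.node (.node (.node (.node (.node (.leaf [133, 490, 1267, 1328, 1701, 1849, 2222, 3402, 3460, 3637, 3640, 3817, 4408]) (.leaf [191, 1475, 1756, 2184, 2426, 2456, 2681, 2792, 2816, 2869, 3926, 4208, 4306])) (.leaf [1052, 1387, 1418, 1710, 2057, 2241, 2286, 2747, 2796, 3129, 3413, 3559, 4282])) (.node (.leaf [91, 153, 263, 639, 673, 876, 1451, 1748, 2046, 2127, 2225, 2594, 3909]) (.leaf [45, 342, 777, 910, 1711, 2506, 2935, 3229, 3675, 3830, 3942, 4086, 4401]))) (.node (.node (.leaf [51, 216, 859, 1048, 1209, 2185, 2207, 2231, 2675, 2735, 3976, 4416, 4460]) (.leaf [894, 996, 1036, 1391, 2326, 2434, 2924, 3103, 3401, 3561, 4175, 4306, 4332])) (.node (.leaf [146, 1141, 1321, 1506, 1557, 1824, 2109, 3131, 3155, 3366, 3706, 4051, 4373]) (.leaf [353, 826, 1216, 1747, 2057, 2694, 3234, 3602, 3829, 3845, 4045, 4121, 4316])))) (.node (.node (.node (.node (.leaf [339, 421, 503, 736, 789, 897, 2363, 2437, 2999, 3151, 4231, 4363, 4402]) (.leaf [55, 774, 979, 1980, 1988, 2394, 2756, 3645, 3740, 3801, 3920, 4001, 4277])) (.leaf [291, 810, 1027, 1333, 1673,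 1880, 2479, 2715, 2919, 3414, 3613, 3743, 4455])) (.node (.leaf [167, 369, 1068, 1242, 1929, 2084, 2099, 2250, 2668, 2826, 3101, 3553, 4220]) (.leaf [30, 233, 450, 614, 946, 1722, 1920, 2707, 3368, 3385, 3433, 3653, 4023]))) (.node (.node (.leaf [498, 899, 1012, 1273, 1382, 1397, 1888, 2316, 2340, 3127, 3356, 3673, 3718]) (.leaf [120, 170, 1139, 1504, 1627, 1928, 2611, 2623, 3100, 3487, 3534, 3930, 4049])) (.node (.leaf [196, 767, 1008, 1110, 2353, 3281, 3554, 3647, 3767, 3858, 3955, 4260, 4363]) (.leaf [347, 808, 866, 1330, 1406, 2094, 2103, 2690, 2784, 3078, 4043, 4139, 4215])))))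

def nbr274 : Janko.Tree (List ℕ) :=
  (.node (.node (.node (.node (.node (.leaf [134, 298, 929, 1391, 2225, 2595, 2959, 3425, 3519, 3815, 3914, 3990, 4196]) (.leaf [55, 162, 355, 716, 1086, 1201, 2186, 3007, 3408, 3459, 3580, 3813, 4285])) (.leaf [561, 1388, 1523, 1528, 1827, 2058, 2241, 2242, 2403, 2578, 2742, 3855, 4298])) (.node (.leaf [157, 267, 327, 1092, 1111, 1231, 1754, 1761, 2676, 2913, 3177, 3512, 3584]) (.leaf [60, 227, 1072, 2046, 2213, 2344, 2553, 2760, 2980, 3191, 4028, 4345, 4414]))) (.node (.node (.leaf [52, 219, 860, 1400, 1574, 1717, 2203, 2325, 2499, 2703, 3658, 3796, 3883]) (.leaf [283, 607, 1080, 1368, 1853, 2322, 2329, 2488, 2898, 3285, 3370, 3560, 4096])) (.node (.leaf [484, 497, 736, 859, 1667, 2092, 2306, 2801, 3132, 3328, 3412, 3665, 4290]) (.leaf [1453, 1460, 1944, 2396, 2705, 2957, 3206, 3240, 3333, 3589, 3626, 3744, 3863])))) (.node (.node (.node (.node (.leaf [340, 504, 742, 1075, 1403, 1462, 1620, 2086, 2144, 2392, 2601, 2977, 4475]) (.leaf [262, 529, 756, 1137, 1190, 1451, 1455, 1530, 2609, 3334, 3969, 4100, 4323])) (.leaf [196, 462, 794, 831, 1239,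 1503, 1703, 2350, 2578, 2960, 3861, 4260, 4397])) (.node (.leaf [35, 847, 855, 1260, 1297, 1434, 1930, 2104, 2673, 3121, 3542, 3872, 3985]) (.leaf [33, 612, 949, 1335, 2451, 2526, 2688, 2736, 3386, 3434, 3838, 4172, 4469]))) (.node (.node (.leaf [2, 225, 334, 2439, 2522, 2819, 3079, 3503, 3638, 3889, 4202, 4243, 4427]) (.leaf [149, 832, 951, 1201, 1469, 1494, 1509, 1539, 2008, 2569, 2607, 3118, 3322])) (.node (.leaf [152, 389, 1704, 2079, 2409, 2525, 2585, 2980, 3092, 3109, 3958, 4109, 4211]) (.leaf [265, 324, 471, 1150, 1879, 1958, 2444, 2976, 3491, 3522, 3832, 3894, 3898])))))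

def nbr275 : Janko.Tree (List ℕ) :=
  (.node (.node (.node (.node (.node (.leaf [135, 299, 928, 1390, 2224, 2594, 2958, 3424, 3518, 3814, 3915, 3991, 4197]) (.leaf [54, 163, 354, 717, 1087, 1200, 2187, 3006, 3409, 3458, 3581, 3812, 4284])) (.leaf [560, 1389, 1522, 1529, 1826, 2059, 2240, 2243, 2402, 2579, 2743, 3854, 4299])) (.node (.leaf [156, 266, 326, 1093, 1110, 1230, 1755, 1760, 2677, 2912, 3176, 3513, 3585]) (.leaf [61, 226, 1073, 2047, 2212, 2345, 2552, 2761, 2981, 3190, 4029, 4344, 4415]))) (.node (.node (.leaf [53, 218, 861, 1401, 1575, 1716, 2202, 2324, 2498, 2702, 3659, 3797, 3882]) (.leaf [282, 606, 1081, 1369, 1852, 2323, 2328, 2489, 2899, 3284, 3371, 3561, 4097])) (.node (.leaf [485, 496, 737, 858, 1666, 2093, 2307, 2800, 3133, 3329, 3413, 3664, 4291]) (.leaf [1452, 1461, 1945, 2397, 2704, 2956, 3207, 3241, 3332, 3588, 3627, 3745, 3862])))) (.node (.node (.node (.node (.leaf [341, 505, 743, 1074, 1402, 1463, 1621, 2087, 2145, 2393, 2600, 2976, 4474]) (.leaf [263, 528, 757, 1136, 1191, 1450, 1454, 1531, 2608, 3335, 3968, 4101, 4322])) (.leaf [197, 463, 795, 830, 1238,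 1502, 1702, 2351, 2579, 2961, 3860, 4261, 4396])) (.node (.leaf [34, 846, 854, 1261, 1296, 1435, 1931, 2105, 2672, 3120, 3543, 3873, 3984]) (.leaf [32, 613, 948, 1334, 2450, 2527, 2689, 2737, 3387, 3435, 3839, 4173, 4468]))) (.node (.node (.leaf [3, 224, 335, 2438, 2523, 2818, 3078, 3502, 3639, 3888, 4203, 4242, 4426]) (.leaf [148, 833, 950, 1200, 1468, 1495, 1508, 1538, 2009, 2568, 2606, 3119, 3323])) (.node (.leaf [153, 388, 1705, 2078, 2408, 2524, 2584, 2981, 3093, 3108, 3959, 4108, 4210]) (.leaf [264, 325, 470, 1151, 1878, 1959, 2445, 2977, 3490, 3523, 3833, 3895, 3899])))))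

def nbr276 : Janko.Tree (List ℕ) :=
  (.node (.node (.node (.node (.node (.leaf [84, 136, 305, 1393, 1603, 2174, 2275, 3055, 3302, 3466, 3725, 3783, 3901]) (.leaf [456, 523, 890, 1251, 1712, 1824, 1869, 2930, 3044, 3126, 3215, 3867, 4071])) (.leaf [1668, 1706, 1776, 2249, 2321, 2637, 2748, 3250, 3260, 3820, 3842, 3916, 4454])) (.node (.leaf [664, 772, 1448, 1452, 1709, 2333, 2677, 2914, 3378, 3626, 4165, 4280, 4412]) (.leaf [77, 372, 1102, 1532, 2135, 2217, 2428, 2555, 2903, 2916, 3566, 3945, 4348]))) (.node (.node (.leaf [66, 817, 862, 1078, 1347, 1400, 2032, 2253, 2292, 2315, 3013, 3048, 4032]) (.leaf [31, 850, 966, 1818, 2296, 2331, 3287, 3479, 3562, 3893, 3948, 4068, 4070])) (.node (.leaf [34, 855, 887, 1550, 1821, 1938, 2035, 2110, 3226, 3321, 3597, 3677, 4073]) (.leaf [81, 553, 805, 858, 2054, 2457, 2713, 3238, 3538, 3726, 3907, 3976, 4177])))) (.node (.node (.node (.node (.leaf [24, 117, 506, 1473, 1890, 1948, 2415, 2609, 2882, 3297, 3813, 4161, 4301]) (.leaf [42, 1411, 1935, 2008, 2346, 2469, 2568, 3047, 3076, 3187, 3492, 3791, 4342])) (.leaf [756, 790, 802, 1039, 1060, 1388,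 1729, 3530, 3722, 3994, 4094, 4101, 4157])) (.node (.leaf [6, 405, 524, 719, 1903, 2447, 2719, 3335, 3587, 3938, 4432, 4447, 4473]) (.leaf [39, 481, 1366, 1560, 2434, 2583, 2950, 3006, 3179, 3205, 3394, 4167, 4473]))) (.node (.node (.leaf [4, 227, 877, 1274, 1730, 2138, 2441, 3167, 3216, 3571, 3841, 4204, 4344]) (.leaf [409, 553, 589, 1460, 1974, 2126, 2666, 3041, 3066, 3401, 3588, 4131, 4371])) (.node (.leaf [104, 1561, 1770, 1801, 2245, 2289, 2359, 2636, 2719, 3178, 3564, 4034, 4332]) (.leaf [35, 114, 222, 646, 812, 831, 1600, 1815, 3850, 4006, 4082, 4169, 4170])))))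

def nbr277 : Janko.Tree (List ℕ) :=
  (.node (.node (.node (.node (.node (.leaf [85, 137, 304, 1392, 1602, 2175, 2274, 3054, 3303, 3467, 3724, 3782, 3900]) (.leaf [457, 522, 891, 1250, 1713, 1825, 1868, 2931, 3045, 3127, 3214, 3866, 4070])) (.leaf [1669, 1707, 1777, 2248, 2320, 2636, 2749, 3251, 3261, 3821, 3843, 3917, 4455])) (.node (.leaf [665, 773, 1449, 1453, 1708, 2332, 2676, 2915, 3379, 3627, 4164, 4281, 4413]) (.leaf [76, 373, 1103, 1533, 2134, 2216, 2429, 2554, 2902, 2917, 3567, 3944, 4349]))) (.node (.node (.leaf [67, 816, 863, 1079, 1346, 1401, 2033, 2252, 2293, 2314, 3012, 3049, 4033]) (.leaf [30, 851, 967, 1819, 2297, 2330, 3286, 3478, 3563, 3892, 3949, 4069, 4071])) (.node (.leaf [35, 854, 886, 1551, 1820, 1939, 2034, 2111, 3227, 3320, 3596, 3676, 4072]) (.leaf [80, 552, 804, 859, 2055, 2456, 2712, 3239, 3539, 3727, 3906, 3977, 4176])))) (.node (.node (.node (.node (.leaf [25, 116, 507, 1472, 1891, 1949, 2414, 2608, 2883, 3296, 3812, 4160, 4300]) (.leaf [43, 1410, 1934, 2009, 2347, 2468, 2569, 3046, 3077, 3186, 3493, 3790, 4343])) (.leaf [757, 791, 803, 1038, 1061, 1389,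 1728, 3531, 3723, 3995, 4095, 4100, 4156])) (.node (.leaf [7, 404, 525, 718, 1902, 2446, 2718, 3334, 3586, 3939, 4433, 4446, 4472]) (.leaf [38, 480, 1367, 1561, 2435, 2582, 2951, 3007, 3178, 3204, 3395, 4166, 4472]))) (.node (.node (.leaf [5, 226, 876, 1275, 1731, 2139, 2440, 3166, 3217, 3570, 3840, 4205, 4345]) (.leaf [408, 552, 588, 1461, 1975, 2127, 2667, 3040, 3067, 3400, 3589, 4130, 4370])) (.node (.leaf [105, 1560, 1771, 1800, 2244, 2288, 2358, 2637, 2718, 3179, 3565, 4035, 4333]) (.leaf [34, 115, 223, 647, 813, 830, 1601, 1814, 3851, 4007, 4083, 4168, 4171])))))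

def nbr278 : Janko.Tree (List ℕ) :=
  (.node (.node (.node (.node (.node (.leaf [33, 138, 183, 841, 1278, 2178, 2465, 3070, 3541, 3937, 4021, 4036, 4311]) (.leaf [209, 750, 776, 1155, 1650, 1814, 2238, 2441, 2542, 3033, 3111, 3268, 4006])) (.leaf [253, 976, 1202, 1778, 2122, 2245, 2382, 2427, 2938, 3291, 3885, 3929, 4406])) (.node (.leaf [666, 691, 774, 1171, 1450, 1454, 1753, 2223, 2335, 2594, 3035, 4282, 4351]) (.leaf [182, 431, 460, 532, 632, 1670, 2916, 2958, 3070, 3855, 3990, 4015, 4119]))) (.node (.node (.leaf [620, 821, 864, 1072, 1290, 1956, 2049, 2749, 3090, 3261, 3489, 3520, 4363]) (.leaf [1324, 1345, 1366, 1412, 1885, 1970, 3073, 3349, 3388, 3540, 3601, 3648, 3795])) (.node (.leaf [48, 291, 725, 1300, 1353, 1361, 1638, 2120, 2587, 3162, 3167, 3436, 4325]) (.leaf [252, 261, 555, 807, 860, 1474, 2439, 2498, 3132, 3944, 4005, 4284, 4323])))) (.node (.node (.node (.node (.leaf [508, 1034, 1398, 1571, 1594, 1901, 1941, 1948, 1950, 2250, 3461, 4303, 4408]) (.leaf [303, 622, 755, 1134, 1448, 1452, 1529, 1774, 2055, 2294, 2606, 3283, 3333])) (.leaf [116, 407, 443, 980, 1445, 1510,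 1620, 2021, 3107, 3451, 4178, 4301, 4387])) (.node (.leaf [8, 407, 542, 588, 2020, 2671, 3165, 3241, 3589, 3668, 3827, 4111, 4434]) (.leaf [285, 286, 866, 869, 1331, 1332, 1805, 2046, 2603, 2639, 2640, 3513, 4275]))) (.node (.node (.leaf [324, 435, 503, 1278, 1386, 1753, 2057, 2253, 2725, 3521, 3650, 3760, 3937]) (.leaf [556, 759, 996, 1075, 1317, 1461, 1462, 1715, 1739, 1933, 1976, 2548, 3561])) (.node (.leaf [581, 616, 1772, 1981, 2291, 2555, 3081, 3210, 3325, 3566, 3747, 4111, 4347]) (.leaf [133, 224, 233, 421, 990, 1602, 1700, 1858, 2039, 2557, 2892, 4266, 4339])))))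

def nbr279 : Janko.Tree (List ℕ) :=
  (.node (.node (.node (.node (.node (.leaf [32, 139, 182, 840, 1279, 2179, 2464, 3071, 3540, 3936, 4020, 4037, 4310]) (.leaf [208, 751, 777, 1154, 1651, 1815, 2239, 2440, 2543, 3032, 3110, 3269, 4007])) (.leaf [252, 977, 1203, 1779, 2123, 2244, 2383, 2426, 2939, 3290, 3884, 3928, 4407])) (.node (.leaf [667, 690, 775, 1170, 1451, 1455, 1752, 2222, 2334, 2595, 3034, 4283, 4350]) (.leaf [183, 430, 461, 533, 633, 1671, 2917, 2959, 3071, 3854, 3991, 4014, 4118]))) (.node (.node (.leaf [621, 820, 865, 1073, 1291, 1957, 2048, 2748, 3091, 3260, 3488, 3521, 4362]) (.leaf [1325, 1344, 1367, 1413, 1884, 1971, 3072, 3348, 3389, 3541, 3600, 3649, 3794])) (.node (.leaf [49, 290, 724, 1301, 1352, 1360, 1639, 2121, 2586, 3163, 3166, 3437, 4324]) (.leaf [253, 260, 554, 806, 861, 1475, 2438, 2499, 3133, 3945, 4004, 4285, 4322])))) (.node (.node (.node (.node (.leaf [509, 1035, 1399, 1570, 1595, 1900, 1940, 1949, 1951, 2251, 3460, 4302, 4409]) (.leaf [302, 623, 754, 1135, 1449, 1453, 1528, 1775, 2054, 2295, 2607, 3282, 3332])) (.leaf [117, 406, 442, 981, 1444, 1511,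 1621, 2020, 3106, 3450, 4179, 4300, 4386])) (.node (.leaf [9, 406, 543, 589, 2021, 2670, 3164, 3240, 3588, 3669, 3826, 4110, 4435]) (.leaf [284, 287, 867, 868, 1330, 1333, 1804, 2047, 2602, 2638, 2641, 3512, 4274]))) (.node (.node (.leaf [325, 434, 502, 1279, 1387, 1752, 2056, 2252, 2724, 3520, 3651, 3761, 3936]) (.leaf [557, 758, 997, 1074, 1316, 1460, 1463, 1714, 1738, 1932, 1977, 2549, 3560])) (.node (.leaf [580, 617, 1773, 1980, 2290, 2554, 3080, 3211, 3324, 3567, 3746, 4110, 4346]) (.leaf [132, 225, 232, 420, 991, 1603, 1701, 1859, 2038, 2556, 2893, 4267, 4338])))))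

def nbr280 : Janko.Tree (List ℕ) :=
  (.node (.node (.node (.node (.node (.leaf [140, 925, 1700, 2171, 2180, 2262, 2319, 2757, 3232, 3808, 3910, 4038, 4450]) (.leaf [121, 802, 1272, 1338, 1355, 1429, 1615, 1837, 1888, 2297, 2446, 2693, 3496])) (.leaf [1171, 1330, 1402, 1414, 1462, 1932, 2456, 2750, 3255, 3309, 3513, 4306, 4352])) (.node (.leaf [413, 546, 668, 776, 1456, 1805, 1876, 2583, 3268, 3270, 3425, 4167, 4394]) (.leaf [228, 308, 923, 988, 1063, 1612, 2200, 3123, 3230, 3259, 3726, 3758, 4088]))) (.node (.node (.leaf [179, 366, 376, 866, 1172, 1477, 2211, 2668, 3375, 3383, 4095, 4234, 4463]) (.leaf [317, 1368, 1533, 1774, 2190, 2399, 2729, 2916, 3284, 3390, 3784, 3911, 4407])) (.node (.leaf [156, 473, 824, 1092, 1235, 1363, 2122, 2831, 3098, 3102, 3169, 4093, 4339]) (.leaf [225, 248, 313, 1308, 1333, 1373, 1762, 1850, 1863, 1915, 2277, 2819, 3992])))) (.node (.node (.node (.node (.leaf [510, 642, 914, 1094, 1256, 1967, 2298, 2561, 2644, 3815, 3991, 4227, 4239]) (.leaf [629, 887, 1101, 1192, 1551, 1965, 2207, 2616, 3276, 3594, 3831, 4177, 4323])) (.leaf [174, 1514, 1545, 1556,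 2111, 2380, 2435, 2583, 3099, 3271, 3807, 4051, 4428])) (.node (.leaf [10, 409, 740, 1176, 1405, 1460, 1932, 2871, 2928, 3496, 3897, 4287, 4476]) (.leaf [525, 976, 1012, 1231, 1276, 1351, 1383, 2026, 2525, 2823, 2901, 2939, 4063]))) (.node (.node (.leaf [11, 379, 437, 702, 1280, 1834, 2130, 2284, 2687, 3593, 4164, 4280, 4421]) (.leaf [558, 721, 1077, 1158, 1319, 1464, 1524, 1842, 1935, 1978, 2514, 3228, 3563])) (.node (.leaf [87, 306, 641, 1342, 1604, 1758, 2276, 2303, 3056, 3156, 3875, 3992, 4067]) (.leaf [90, 903, 954, 1361, 1547, 1638, 1647, 1766, 2970, 3057, 3336, 3365, 4357])))))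

def nbr281 : Janko.Tree (List ℕ) :=
  (.node (.node (.node (.node (.node (.leaf [141, 924, 1701, 2170, 2181, 2263, 2318, 2756, 3233, 3809, 3911, 4039, 4451]) (.leaf [120, 803, 1273, 1339, 1354, 1428, 1614, 1836, 1889, 2296, 2447, 2692, 3497])) (.leaf [1170, 1331, 1403, 1415, 1463, 1933, 2457, 2751, 3254, 3308, 3512, 4307, 4353])) (.node (.leaf [412, 547, 669, 777, 1457, 1804, 1877, 2582, 3269, 3271, 3424, 4166, 4395]) (.leaf [229, 309, 922, 989, 1062, 1613, 2201, 3122, 3231, 3258, 3727, 3759, 4089]))) (.node (.node (.leaf [178, 367, 377, 867, 1173, 1476, 2210, 2669, 3374, 3382, 4094, 4235, 4462]) (.leaf [316, 1369, 1532, 1775, 2191, 2398, 2728, 2917, 3285, 3391, 3785, 3910, 4406])) (.node (.leaf [157, 472, 825, 1093, 1234, 1362, 2123, 2830, 3099, 3103, 3168, 4092, 4338]) (.leaf [224, 249, 312, 1309, 1332, 1372, 1763, 1851, 1862, 1914, 2276, 2818, 3993])))) (.node (.node (.node (.node (.leaf [511, 643, 915, 1095, 1257, 1966, 2299, 2560, 2645, 3814, 3990, 4226, 4238]) (.leaf [628, 886, 1100, 1193, 1550, 1964, 2206, 2617, 3277, 3595, 3830, 4176, 4322])) (.leaf [175, 1515, 1544, 1557,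 2110, 2381, 2434, 2582, 3098, 3270, 3806, 4050, 4429])) (.node (.leaf [11, 408, 741, 1177, 1404, 1461, 1933, 2870, 2929, 3497, 3896, 4286, 4477]) (.leaf [524, 977, 1013, 1230, 1277, 1350, 1382, 2027, 2524, 2822, 2900, 2938, 4062]))) (.node (.node (.leaf [10, 378, 436, 703, 1281, 1835, 2131, 2285, 2686, 3592, 4165, 4281, 4420]) (.leaf [559, 720, 1076, 1159, 1318, 1465, 1525, 1843, 1934, 1979, 2515, 3229, 3562])) (.node (.leaf [86, 307, 640, 1343, 1605, 1759, 2277, 2302, 3057, 3157, 3874, 3993, 4066]) (.leaf [91, 902, 955, 1360, 1546, 1639, 1646, 1767, 2971, 3056, 3337, 3364, 4356])))))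

def nbr282 : Janko.Tree (List ℕ) :=
  (.node (.node (.node (.node (.node (.leaf [142, 298, 1319, 2544, 2966, 3042, 3229, 3433, 3772, 3810, 4022, 4026, 4103]) (.leaf [42, 303, 1010, 1895, 2355, 2798, 2952, 2976, 3114, 3203, 3283, 3462, 3907])) (.leaf [91, 298, 971, 1134, 1436, 1528, 1608, 2324, 2594, 2963, 3423, 4283, 4299])) (.node (.leaf [47, 621, 670, 778, 821, 1298, 2632, 2638, 2720, 2846, 3442, 3783, 4164]) (.leaf [322, 536, 607, 617, 1109, 2329, 2849, 3035, 3238, 3256, 3340, 3948, 4100]))) (.node (.node (.leaf [368, 868, 880, 1203, 1536, 1669, 1706, 2213, 2383, 2845, 3805, 4281, 4465]) (.leaf [339, 355, 852, 1258, 1415, 3026, 3164, 3881, 3950, 3964, 4145, 4252, 4352])) (.node (.leaf [258, 296, 464, 763, 1089, 1598, 2322, 2944, 3184, 3436, 3449, 3780, 4105]) (.leaf [273, 652, 849, 1237, 1342, 1505, 1843, 1968, 2199, 2271, 3314, 3367, 3407])))) (.node (.node (.node (.node (.leaf [202, 512, 644, 1096, 1479, 1886, 1969, 2581, 2591, 3055, 3467, 4200, 4305]) (.leaf [609, 631, 969, 1103, 1194, 1575, 3009, 3032, 3596, 3944, 4099, 4146, 4430])) (.leaf [60, 602, 605, 841, 1151, 1278, 1297,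 1545, 2888, 3020, 3834, 3898, 4428])) (.node (.leaf [1, 12, 920, 987, 1407, 1934, 2504, 3229, 3243, 3811, 4087, 4139, 4153]) (.leaf [91, 152, 511, 1357, 1576, 2450, 2477, 2585, 2587, 2962, 3165, 4144, 4361]))) (.node (.node (.leaf [439, 712, 1002, 1181, 1567, 1581, 1597, 1627, 1680, 2188, 2516, 3773, 4253]) (.leaf [169, 179, 253, 837, 1746, 1939, 1982, 2463, 2993, 3317, 3802, 4005, 4044])) (.node (.leaf [25, 2044, 2215, 2414, 2517, 2537, 2596, 2730, 3160, 3170, 3262, 3624, 4461]) (.leaf [230, 233, 612, 615, 1603, 1604, 2339, 2588, 2689, 4197, 4350, 4404, 4412])))))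

def nbr283 : Janko.Tree (List ℕ) :=
  (.node (.node (.node (.node (.node (.leaf [143, 299, 1318, 2545, 2967, 3043, 3228, 3432, 3773, 3811, 4023, 4027, 4102]) (.leaf [43, 302, 1011, 1894, 2354, 2799, 2953, 2977, 3115, 3202, 3282, 3463, 3906])) (.leaf [90, 299, 970, 1135, 1437, 1529, 1609, 2325, 2595, 2962, 3422, 4282, 4298])) (.node (.leaf [46, 620, 671, 779, 820, 1299, 2633, 2639, 2721, 2847, 3443, 3782, 4165]) (.leaf [323, 537, 606, 616, 1108, 2328, 2848, 3034, 3239, 3257, 3341, 3949, 4101]))) (.node (.node (.leaf [369, 869, 881, 1202, 1537, 1668, 1707, 2212, 2382, 2844, 3804, 4280, 4464]) (.leaf [338, 354, 853, 1259, 1414, 3027, 3165, 3880, 3951, 3965, 4144, 4253, 4353])) (.node (.leaf [259, 297, 465, 762, 1088, 1599, 2323, 2945, 3185, 3437, 3448, 3781, 4104]) (.leaf [272, 653, 848, 1236, 1343, 1504, 1842, 1969, 2198, 2270, 3315, 3366, 3406])))) (.node (.node (.node (.node (.leaf [203, 513, 645, 1097, 1478, 1887, 1968, 2580, 2590, 3054, 3466, 4201, 4304]) (.leaf [608, 630, 968, 1102, 1195, 1574, 3008, 3033, 3597, 3945, 4098, 4147, 4431])) (.leaf [61, 603, 604, 840, 1150, 1279, 1296,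 1544, 2889, 3021, 3835, 3899, 4429])) (.node (.leaf [0, 13, 921, 986, 1406, 1935, 2505, 3228, 3242, 3810, 4086, 4138, 4152]) (.leaf [90, 153, 510, 1356, 1577, 2451, 2476, 2584, 2586, 2963, 3164, 4145, 4360]))) (.node (.node (.leaf [438, 713, 1003, 1180, 1566, 1580, 1596, 1626, 1681, 2189, 2517, 3772, 4252]) (.leaf [168, 178, 252, 836, 1747, 1938, 1983, 2462, 2992, 3316, 3803, 4004, 4045])) (.node (.leaf [24, 2045, 2214, 2415, 2516, 2536, 2597, 2731, 3161, 3171, 3263, 3625, 4460]) (.leaf [231, 232, 613, 614, 1602, 1605, 2338, 2589, 2688, 4196, 4351, 4405, 4413])))))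

def nbr284 : Janko.Tree (List ℕ) :=
  (.node (.node (.node (.node (.node (.leaf [120, 318, 500, 802, 1436, 1732, 1796, 2160, 2554, 2805, 3325, 3415, 3776]) (.leaf [24, 951, 1381, 1473, 2051, 2494, 2725, 2840, 2895, 3368, 3384, 3521, 3902])) (.leaf [257, 290, 575, 586, 1109, 1138, 1300, 1610, 2328, 2468, 4182, 4265, 4442])) (.node (.leaf [672, 832, 1181, 1304, 1321, 1458, 1568, 1587, 1870, 2855, 2953, 3114, 4385]) (.leaf [88, 136, 1129, 1340, 2012, 2306, 2368, 3054, 3241, 3338, 3413, 3614, 4222]))) (.node (.node (.leaf [315, 342, 470, 656, 911, 973, 2854, 3150, 3522, 3846, 4230, 4418, 4447]) (.leaf [280, 402, 673, 832, 1601, 1817, 3223, 3319, 3379, 3502, 3750, 3857, 4169])) (.node (.leaf [462, 534, 634, 1673, 2756, 2918, 3328, 3466, 3724, 3808, 3825, 4163, 4276]) (.leaf [701, 915, 929, 983, 1823, 1970, 2754, 3183, 3601, 3714, 3765, 3814, 4114])))) (.node (.node (.node (.node (.leaf [171, 184, 378, 543, 2464, 2671, 2742, 2869, 3070, 3100, 3855, 4220, 4272]) (.leaf [510, 573, 848, 1045, 1576, 2014, 2551, 3437, 3484, 3778, 4105, 4232, 4426])) (.leaf [20, 583, 910, 2277, 2372, 2413, 2428,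 2607, 2684, 2741, 3247, 3449, 3556])) (.node (.leaf [570, 745, 853, 1014, 1088, 1517, 1598, 1689, 2843, 3509, 4004, 4125, 4250]) (.leaf [396, 536, 760, 848, 1152, 1336, 1547, 1719, 1874, 2083, 2838, 3337, 3436]))) (.node (.node (.leaf [268, 423, 714, 994, 1004, 1321, 1417, 1459, 1739, 1909, 3014, 3022, 3989]) (.leaf [116, 365, 575, 1510, 1872, 2431, 2534, 2609, 2908, 3685, 4041, 4129, 4391])) (.node (.leaf [995, 1035, 1371, 2325, 2340, 2598, 2732, 2943, 3162, 3172, 3264, 3373, 4409]) (.leaf [125, 252, 352, 808, 1106, 1214, 1264, 1921, 2811, 2879, 3344, 3652, 3884])))))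

def nbr285 : Janko.Tree (List ℕ) :=
  (.node (.node (.node (.node (.node (.leaf [121, 319, 501, 803, 1437, 1733, 1797, 2161, 2555, 2804, 3324, 3414, 3777]) (.leaf [25, 950, 1380, 1472, 2050, 2495, 2724, 2841, 2894, 3369, 3385, 3520, 3903])) (.leaf [256, 291, 574, 587, 1108, 1139, 1301, 1611, 2329, 2469, 4183, 4264, 4443])) (.node (.leaf [673, 833, 1180, 1305, 1320, 1459, 1569, 1586, 1871, 2854, 2952, 3115, 4384]) (.leaf [89, 137, 1128, 1341, 2013, 2307, 2369, 3055, 3240, 3339, 3412, 3615, 4223]))) (.node (.node (.leaf [314, 343, 471, 657, 910, 972, 2855, 3151, 3523, 3847, 4231, 4419, 4446]) (.leaf [281, 403, 672, 833, 1600, 1816, 3222, 3318, 3378, 3503, 3751, 3856, 4168])) (.node (.leaf [463, 535, 635, 1672, 2757, 2919, 3329, 3467, 3725, 3809, 3824, 4162, 4277]) (.leaf [700, 914, 928, 982, 1822, 1971, 2755, 3182, 3600, 3715, 3764, 3815, 4115])))) (.node (.node (.node (.node (.leaf [170, 185, 379, 542, 2465, 2670, 2743, 2868, 3071, 3101, 3854, 4221, 4273]) (.leaf [511, 572, 849, 1044, 1577, 2015, 2550, 3436, 3485, 3779, 4104, 4233, 4427])) (.leaf [21, 582, 911, 2276, 2373, 2412, 2429,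 2606, 2685, 2740, 3246, 3448, 3557])) (.node (.leaf [571, 744, 852, 1015, 1089, 1516, 1599, 1688, 2842, 3508, 4005, 4124, 4251]) (.leaf [397, 537, 761, 849, 1153, 1337, 1546, 1718, 1875, 2082, 2839, 3336, 3437]))) (.node (.node (.leaf [269, 422, 715, 995, 1005, 1320, 1416, 1458, 1738, 1908, 3015, 3023, 3988]) (.leaf [117, 364, 574, 1511, 1873, 2430, 2535, 2608, 2909, 3684, 4040, 4128, 4390])) (.node (.leaf [994, 1034, 1370, 2324, 2341, 2599, 2733, 2942, 3163, 3173, 3265, 3372, 4408]) (.leaf [124, 253, 353, 809, 1107, 1215, 1265, 1920, 2810, 2878, 3345, 3653, 3885])))))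

def nbr286 : Janko.Tree (List ℕ) :=
  (.node (.node (.node (.node (.node (.leaf [146, 628, 898, 1378, 1438, 1798, 2492, 2562, 2663, 2807, 3417, 3780, 4209]) (.leaf [102, 602, 1249, 1601, 2485, 2999, 3005, 3110, 3179, 3471, 3972, 4019, 4448])) (.leaf [259, 1046, 1072, 1092, 1111, 1140, 1440, 2330, 2470, 2830, 3396, 3962, 4028])) (.node (.leaf [663, 674, 1192, 1460, 1468, 1739, 1945, 2036, 2366, 2574, 2955, 3116, 4301]) (.leaf [90, 359, 2127, 2216, 2302, 2370, 2790, 3056, 3346, 3799, 4145, 4184, 4299]))) (.node (.node (.leaf [42, 209, 344, 1222, 1540, 1917, 1944, 1960, 2453, 3124, 3203, 3481, 4268]) (.leaf [198, 512, 589, 1479, 1724, 2101, 2301, 3041, 3087, 3298, 3555, 3788, 4148])) (.node (.leaf [907, 1024, 1117, 1343, 1634, 1996, 2187, 2311, 2651, 3626, 3728, 3863, 4067]) (.leaf [934, 1247, 1482, 1582, 1681, 1779, 1971, 1989, 2483, 2515, 2756, 3350, 4077])))) (.node (.node (.node (.node (.leaf [102, 186, 393, 2108, 2318, 2487, 2673, 3005, 3131, 3295, 3808, 4056, 4163]) (.leaf [301, 472, 512, 575, 1566, 1832, 2016, 2535, 2553, 3274, 3869, 4234, 4345])) (.leaf [7, 940, 1420, 1985, 2252,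 2374, 2415, 2430, 2567, 2609, 2719, 2920, 3760])) (.node (.leaf [23, 151, 655, 747, 1164, 1940, 2197, 2604, 2697, 2926, 3104, 3242, 3981]) (.leaf [80, 653, 773, 839, 858, 2172, 2184, 2420, 3068, 3280, 4074, 4116, 4374]))) (.node (.node (.leaf [441, 821, 833, 1136, 1282, 1498, 1569, 1682, 1741, 2004, 3782, 4376, 4478]) (.leaf [111, 600, 1573, 1629, 2762, 2888, 3053, 3069, 3614, 3835, 3879, 4151, 4257])) (.node (.leaf [24, 703, 1220, 1796, 1808, 1891, 2190, 2269, 2596, 2894, 3645, 3666, 4144]) (.leaf [87, 198, 396, 544, 577, 1196, 2124, 2789, 3189, 3336, 3717, 3728, 4262])))))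

def nbr287 : Janko.Tree (List ℕ) :=
  (.node (.node (.node (.node (.node (.leaf [147, 629, 899, 1379, 1439, 1799, 2493, 2563, 2662, 2806, 3416, 3781, 4208]) (.leaf [103, 603, 1248, 1600, 2484, 2998, 3004, 3111, 3178, 3470, 3973, 4018, 4449])) (.leaf [258, 1047, 1073, 1093, 1110, 1141, 1441, 2331, 2471, 2831, 3397, 3963, 4029])) (.node (.leaf [662, 675, 1193, 1461, 1469, 1738, 1944, 2037, 2367, 2575, 2954, 3117, 4300]) (.leaf [91, 358, 2126, 2217, 2303, 2371, 2791, 3057, 3347, 3798, 4144, 4185, 4298]))) (.node (.node (.leaf [43, 208, 345, 1223, 1541, 1916, 1945, 1961, 2452, 3125, 3202, 3480, 4269]) (.leaf [199, 513, 588, 1478, 1725, 2100, 2300, 3040, 3086, 3299, 3554, 3789, 4149])) (.node (.leaf [906, 1025, 1116, 1342, 1635, 1997, 2186, 2310, 2650, 3627, 3729, 3862, 4066]) (.leaf [935, 1246, 1483, 1583, 1680, 1778, 1970, 1988, 2482, 2514, 2757, 3351, 4076])))) (.node (.node (.node (.node (.leaf [103, 187, 392, 2109, 2319, 2486, 2672, 3004, 3130, 3294, 3809, 4057, 4162]) (.leaf [300, 473, 513, 574, 1567, 1833, 2017, 2534, 2552, 3275, 3868, 4235, 4344])) (.leaf [6, 941, 1421, 1984, 2253,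 2375, 2414, 2431, 2566, 2608, 2718, 2921, 3761])) (.node (.leaf [22, 150, 654, 746, 1165, 1941, 2196, 2605, 2696, 2927, 3105, 3243, 3980]) (.leaf [81, 652, 772, 838, 859, 2173, 2185, 2421, 3069, 3281, 4075, 4117, 4375]))) (.node (.node (.leaf [440, 820, 832, 1137, 1283, 1499, 1568, 1683, 1740, 2005, 3783, 4377, 4479]) (.leaf [110, 601, 1572, 1628, 2763, 2889, 3052, 3068, 3615, 3834, 3878, 4150, 4256])) (.node (.leaf [25, 702, 1221, 1797, 1809, 1890, 2191, 2268, 2597, 2895, 3644, 3667, 4145]) (.leaf [86, 199, 397, 545, 576, 1197, 2125, 2788, 3188, 3337, 3716, 3729, 4263])))))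

def nbr288 : Janko.Tree (List ℕ) :=
  (.node (.node (.node (.node (.node (.leaf [116, 148, 350, 575, 629, 1857, 2049, 2141, 2395, 2521, 2913, 3275, 4253]) (.leaf [788, 933, 1148, 1304, 1320, 1661, 1688, 2423, 2562, 3284, 3321, 3450, 4106])) (.leaf [222, 310, 331, 728, 1815, 2155, 2232, 2542, 2566, 2954, 3210, 3824, 4236])) (.node (.leaf [324, 485, 519, 1142, 1462, 1698, 1741, 1878, 1901, 2857, 3460, 3628, 4354]) (.leaf [565, 975, 1036, 1336, 1520, 2077, 2304, 2549, 2761, 2972, 3358, 3998, 4260]))) (.node (.node (.leaf [348, 544, 576, 662, 764, 1509, 1558, 1783, 2032, 3323, 3709, 4033, 4246]) (.leaf [200, 217, 859, 2098, 2544, 3000, 3043, 3175, 3505, 3713, 3906, 4074, 4378])) (.node (.leaf [10, 59, 927, 1655, 1837, 2090, 2130, 3154, 3420, 3497, 4079, 4109, 4211]) (.leaf [465, 526, 1020, 1197, 1252, 1271, 1685, 1794, 1995, 2000, 2194, 3247, 3308])))) (.node (.node (.node (.node (.leaf [190, 308, 328, 382, 448, 953, 1153, 1350, 2527, 3121, 3387, 3758, 3984]) (.leaf [152, 338, 872, 1461, 1869, 1918, 2366, 2461, 2524, 2823, 3045, 3164, 3241])) (.leaf [270, 292, 503, 1525, 1615, 2117, 2436,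 2768, 2859, 2978, 3456, 3937, 4149])) (.node (.leaf [25, 308, 506, 657, 749, 1166, 1846, 1942, 1954, 2271, 2679, 3625, 4456]) (.leaf [127, 260, 775, 841, 860, 1989, 2789, 3070, 3282, 3883, 4076, 4118, 4273]))) (.node (.node (.leaf [160, 265, 443, 901, 1193, 1684, 1758, 2006, 2356, 3024, 3897, 4238, 4300]) (.leaf [213, 785, 2030, 2065, 2410, 2764, 2890, 3051, 3582, 3707, 3998, 4020, 4036])) (.node (.leaf [1034, 1175, 1399, 1675, 1798, 1960, 2081, 2088, 2133, 2452, 2598, 2896, 3148]) (.leaf [247, 404, 550, 728, 739, 1122, 1341, 1662, 2176, 2945, 3097, 3491, 4091])))))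

def nbr289 : Janko.Tree (List ℕ) :=
  (.node (.node (.node (.node (.node (.leaf [117, 149, 351, 574, 628, 1856, 2048, 2140, 2394, 2520, 2912, 3274, 4252]) (.leaf [789, 932, 1149, 1305, 1321, 1660, 1689, 2422, 2563, 3285, 3320, 3451, 4107])) (.leaf [223, 311, 330, 729, 1814, 2154, 2233, 2543, 2567, 2955, 3211, 3825, 4237])) (.node (.leaf [325, 484, 518, 1143, 1463, 1699, 1740, 1879, 1900, 2856, 3461, 3629, 4355]) (.leaf [564, 974, 1037, 1337, 1521, 2076, 2305, 2548, 2760, 2973, 3359, 3999, 4261]))) (.node (.node (.leaf [349, 545, 577, 663, 765, 1508, 1559, 1782, 2033, 3322, 3708, 4032, 4247]) (.leaf [201, 216, 858, 2099, 2545, 3001, 3042, 3174, 3504, 3712, 3907, 4075, 4379])) (.node (.leaf [11, 58, 926, 1654, 1836, 2091, 2131, 3155, 3421, 3496, 4078, 4108, 4210]) (.leaf [464, 527, 1021, 1196, 1253, 1270, 1684, 1795, 1994, 2001, 2195, 3246, 3309])))) (.node (.node (.node (.node (.leaf [191, 309, 329, 383, 449, 952, 1152, 1351, 2526, 3120, 3386, 3759, 3985]) (.leaf [153, 339, 873, 1460, 1868, 1919, 2367, 2460, 2525, 2822, 3044, 3165, 3240])) (.leaf [271, 293, 502, 1524, 1614, 2116, 2437,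 2769, 2858, 2979, 3457, 3936, 4148])) (.node (.leaf [24, 309, 507, 656, 748, 1167, 1847, 1943, 1955, 2270, 2678, 3624, 4457]) (.leaf [126, 261, 774, 840, 861, 1988, 2788, 3071, 3283, 3882, 4077, 4119, 4272]))) (.node (.node (.leaf [161, 264, 442, 900, 1192, 1685, 1759, 2007, 2357, 3025, 3896, 4239, 4301]) (.leaf [212, 784, 2031, 2064, 2411, 2765, 2891, 3050, 3583, 3706, 3999, 4021, 4037])) (.node (.leaf [1035, 1174, 1398, 1674, 1799, 1961, 2080, 2089, 2132, 2453, 2599, 2897, 3149]) (.leaf [246, 405, 551, 729, 738, 1123, 1340, 1663, 2177, 2944, 3096, 3490, 4090])))))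

def nbr290 : Janko.Tree (List ℕ) :=
  (.node (.node (.node (.node (.node (.leaf [150, 631, 1143, 1440, 1459, 1859, 1879, 1940, 2397, 2612, 2915, 3392, 3660]) (.leaf [26, 1311, 1317, 1637, 1903, 1977, 2969, 3050, 3334, 3998, 4094, 4101, 4235])) (.leaf [441, 644, 800, 1160, 1365, 1740, 1836, 1887, 2027, 2426, 2570, 2938, 4003])) (.node (.leaf [27, 326, 901, 1144, 1464, 1880, 1903, 2116, 2859, 3345, 3454, 3630, 4188]) (.leaf [370, 567, 947, 1843, 2306, 2974, 3058, 3088, 3114, 3268, 3360, 4410, 4459]))) (.node (.node (.leaf [350, 476, 546, 578, 766, 1489, 1511, 1785, 2034, 2772, 2988, 3280, 3310]) (.leaf [611, 1030, 1148, 1593, 2169, 2494, 2546, 2565, 2930, 2986, 3634, 3829, 3922])) (.node (.leaf [90, 954, 1799, 1811, 1910, 2027, 2132, 2306, 2475, 3059, 3244, 3417, 4390]) (.leaf [311, 331, 451, 695, 1068, 1640, 2532, 2614, 2727, 2760, 2972, 3609, 4223])))) (.node (.node (.node (.node (.leaf [382, 445, 514, 1575, 1977, 2241, 2563, 2807, 3559, 3587, 3796, 3881, 3951]) (.leaf [119, 165, 956, 1363, 1735, 1768, 1861, 2316, 3098, 3338, 3886, 3938, 4472])) (.leaf [62, 194, 603, 605, 1026, 1177,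 2591, 2929, 3379, 3469, 3517, 3626, 3747])) (.node (.leaf [76, 751, 1022, 1178, 1466, 1635, 1914, 2309, 2329, 2441, 2442, 3310, 4097]) (.leaf [340, 345, 795, 830, 1251, 1824, 2256, 3004, 3650, 3818, 3969, 4269, 4357]))) (.node (.node (.leaf [112, 321, 434, 1284, 1571, 1973, 2214, 2271, 2532, 2559, 2761, 2777, 4303]) (.leaf [78, 215, 2153, 2170, 2182, 2300, 2766, 3709, 4038, 4148, 4293, 4369, 4410])) (.node (.leaf [357, 738, 1060, 1174, 1458, 1601, 1727, 2600, 3494, 3966, 4343, 4449, 4478]) (.leaf [76, 129, 589, 656, 1881, 1943, 2137, 2308, 2601, 3404, 3644, 3789, 4001])))))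

def nbr291 : Janko.Tree (List ℕ) :=
  (.node (.node (.node (.node (.node (.leaf [151, 630, 1142, 1441, 1458, 1858, 1878, 1941, 2396, 2613, 2914, 3393, 3661]) (.leaf [27, 1310, 1316, 1636, 1902, 1976, 2968, 3051, 3335, 3999, 4095, 4100, 4234])) (.leaf [440, 645, 801, 1161, 1364, 1741, 1837, 1886, 2026, 2427, 2571, 2939, 4002])) (.node (.leaf [26, 327, 900, 1145, 1465, 1881, 1902, 2117, 2858, 3344, 3455, 3631, 4189]) (.leaf [371, 566, 946, 1842, 2307, 2975, 3059, 3089, 3115, 3269, 3361, 4411, 4458]))) (.node (.node (.leaf [351, 477, 547, 579, 767, 1488, 1510, 1784, 2035, 2773, 2989, 3281, 3311]) (.leaf [610, 1031, 1149, 1592, 2168, 2495, 2547, 2564, 2931, 2987, 3635, 3828, 3923])) (.node (.leaf [91, 955, 1798, 1810, 1911, 2026, 2133, 2307, 2474, 3058, 3245, 3416, 4391]) (.leaf [310, 330, 450, 694, 1069, 1641, 2533, 2615, 2726, 2761, 2973, 3608, 4222])))) (.node (.node (.node (.node (.leaf [383, 444, 515, 1574, 1976, 2240, 2562, 2806, 3558, 3586, 3797, 3880, 3950]) (.leaf [118, 164, 957, 1362, 1734, 1769, 1860, 2317, 3099, 3339, 3887, 3939, 4473])) (.leaf [63, 195, 602, 604, 1027, 1176,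 2590, 2928, 3378, 3468, 3516, 3627, 3746])) (.node (.leaf [77, 750, 1023, 1179, 1467, 1634, 1915, 2308, 2328, 2440, 2443, 3311, 4096]) (.leaf [341, 344, 794, 831, 1250, 1825, 2257, 3005, 3651, 3819, 3968, 4268, 4356]))) (.node (.node (.leaf [113, 320, 435, 1285, 1570, 1972, 2215, 2270, 2533, 2558, 2760, 2776, 4302]) (.leaf [79, 214, 2152, 2171, 2183, 2301, 2767, 3708, 4039, 4149, 4292, 4368, 4411])) (.node (.leaf [356, 739, 1061, 1175, 1459, 1600, 1726, 2601, 3495, 3967, 4342, 4448, 4479]) (.leaf [77, 128, 588, 657, 1880, 1942, 2136, 2309, 2600, 3405, 3645, 3788, 4000])))))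

def nbr292 : Janko.Tree (List ℕ) :=
  (.node (.node (.node (.node (.node (.leaf [152, 873, 892, 1036, 1296, 1756, 2050, 2116, 3700, 3872, 4261, 4307, 4439]) (.leaf [142, 299, 722, 1135, 3202, 3283, 3481, 3824, 3888, 4196, 4255, 4276, 4325])) (.leaf [332, 346, 746, 777, 834, 1341, 1399, 2031, 2235, 2506, 2576, 4007, 4091])) (.node (.leaf [519, 624, 676, 1032, 1375, 2510, 2559, 2758, 3108, 3571, 3768, 4210, 4424]) (.leaf [307, 626, 821, 1073, 1140, 1190, 1499, 1708, 1898, 2333, 2540, 2610, 3442]))) (.node (.node (.leaf [662, 759, 870, 1738, 2319, 2757, 3039, 3141, 3301, 3453, 4147, 4161, 4163]) (.leaf [971, 1032, 2167, 2218, 2546, 2759, 3355, 3831, 3923, 3942, 4150, 4158, 4241])) (.node (.leaf [28, 344, 493, 780, 793, 871, 1811, 2341, 2690, 3084, 3372, 4215, 4390]) (.leaf [218, 414, 635, 765, 965, 2627, 2703, 3258, 3328, 3686, 4207, 4359, 4429])))) (.node (.node (.node (.node (.leaf [456, 516, 1018, 2001, 2194, 2346, 2520, 2765, 2913, 3214, 3677, 3707, 4372]) (.leaf [532, 809, 867, 962, 1670, 2309, 2480, 2603, 2795, 3124, 3921, 3957, 4476])) (.leaf [64, 598, 607, 691, 921, 1028, 2505,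 3034, 3147, 3178, 3234, 3471, 3749])) (.node (.leaf [148, 239, 983, 1092, 1325, 1345, 1760, 2236, 2521, 2782, 3102, 3397, 4367]) (.leaf [122, 974, 1104, 2061, 2253, 2259, 2567, 3063, 3389, 3650, 3701, 3718, 4357]))) (.node (.node (.leaf [192, 323, 1286, 1573, 1975, 1998, 2273, 2342, 2561, 2655, 2942, 3058, 4380]) (.leaf [85, 136, 1382, 1388, 2299, 2327, 2897, 3241, 3253, 3356, 3522, 3547, 4175])) (.node (.leaf [131, 342, 744, 1014, 1077, 1338, 1464, 1622, 1933, 3524, 3579, 4024, 4400]) (.leaf [0, 392, 641, 977, 987, 1127, 1231, 1542, 2261, 2473, 3019, 3081, 4289])))))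

def nbr293 : Janko.Tree (List ℕ) :=
  (.node (.node (.node (.node (.node (.leaf [153, 872, 893, 1037, 1297, 1757, 2051, 2117, 3701, 3873, 4260, 4306, 4438]) (.leaf [143, 298, 723, 1134, 3203, 3282, 3480, 3825, 3889, 4197, 4254, 4277, 4324])) (.leaf [333, 347, 747, 776, 835, 1340, 1398, 2030, 2234, 2507, 2577, 4006, 4090])) (.node (.leaf [518, 625, 677, 1033, 1374, 2511, 2558, 2759, 3109, 3570, 3769, 4211, 4425]) (.leaf [306, 627, 820, 1072, 1141, 1191, 1498, 1709, 1899, 2332, 2541, 2611, 3443]))) (.node (.node (.leaf [663, 758, 871, 1739, 2318, 2756, 3038, 3140, 3300, 3452, 4146, 4160, 4162]) (.leaf [970, 1033, 2166, 2219, 2547, 2758, 3354, 3830, 3922, 3943, 4151, 4159, 4240])) (.node (.leaf [29, 345, 492, 781, 792, 870, 1810, 2340, 2691, 3085, 3373, 4214, 4391]) (.leaf [219, 415, 634, 764, 964, 2626, 2702, 3259, 3329, 3687, 4206, 4358, 4428])))) (.node (.node (.node (.node (.leaf [457, 517, 1019, 2000, 2195, 2347, 2521, 2764, 2912, 3215, 3676, 3706, 4373]) (.leaf [533, 808, 866, 963, 1671, 2308, 2481, 2602, 2794, 3125, 3920, 3956, 4477])) (.leaf [65, 599, 606, 690, 920, 1029, 2504,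 3035, 3146, 3179, 3235, 3470, 3748])) (.node (.leaf [149, 238, 982, 1093, 1324, 1344, 1761, 2237, 2520, 2783, 3103, 3396, 4366]) (.leaf [123, 975, 1105, 2060, 2252, 2258, 2566, 3062, 3388, 3651, 3700, 3719, 4356]))) (.node (.node (.leaf [193, 322, 1287, 1572, 1974, 1999, 2272, 2343, 2560, 2654, 2943, 3059, 4381]) (.leaf [84, 137, 1383, 1389, 2298, 2326, 2896, 3240, 3252, 3357, 3523, 3546, 4174])) (.node (.leaf [130, 343, 745, 1015, 1076, 1339, 1465, 1623, 1932, 3525, 3578, 4025, 4401]) (.leaf [1, 393, 640, 976, 986, 1126, 1230, 1543, 2260, 2472, 3018, 3080, 4288])))))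

def nbr294 : Janko.Tree (List ℕ) :=
  (.node (.node (.node (.node (.node (.leaf [154, 380, 947, 958, 1181, 1226, 2052, 2118, 2265, 2819, 3115, 3771, 4021]) (.leaf [85, 144, 536, 724, 1137, 1603, 3166, 3204, 3729, 3745, 3863, 3968, 4093])) (.leaf [80, 144, 176, 668, 1133, 1136, 1283, 2513, 2731, 2817, 3160, 3454, 3539])) (.node (.leaf [626, 678, 1146, 1377, 1466, 1560, 2022, 2443, 2512, 2561, 3454, 4121, 4226]) (.leaf [412, 546, 676, 823, 1192, 1469, 1667, 2370, 2988, 3002, 3263, 3446, 3947]))) (.node (.node (.leaf [476, 721, 872, 1578, 1594, 1997, 2131, 2187, 2515, 2691, 3575, 3778, 4319]) (.leaf [165, 542, 1069, 2020, 2322, 2360, 2390, 2899, 3076, 3097, 3100, 3194, 4387])) (.node (.leaf [497, 888, 1614, 1655, 1666, 1837, 1900, 1929, 1959, 2124, 2445, 2788, 2994]) (.leaf [207, 1006, 1043, 2317, 2990, 2992, 3339, 3413, 3536, 3584, 3664, 3817, 4186])))) (.node (.node (.node (.node (.leaf [70, 277, 458, 518, 2003, 2292, 2767, 2803, 2915, 3661, 3709, 4033, 4424]) (.leaf [305, 587, 624, 1138, 1204, 1275, 1456, 1497, 1775, 1896, 3270, 3499, 4344])) (.leaf [66, 1079, 1284, 1383, 1556, 1692,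 1804, 2109, 2486, 2583, 3253, 3395, 3673])) (.node (.leaf [296, 471, 755, 1437, 1831, 2322, 2444, 2784, 3170, 3325, 4011, 4331, 4460]) (.leaf [144, 497, 642, 674, 1374, 1592, 1795, 2800, 2954, 2980, 3009, 3753, 4210]))) (.node (.node (.leaf [396, 447, 560, 935, 1577, 1641, 1979, 2243, 2565, 3589, 3646, 4449, 4479]) (.leaf [346, 955, 1331, 2227, 2333, 2506, 2628, 3058, 3192, 3472, 3499, 3899, 4170])) (.node (.leaf [80, 177, 466, 531, 1178, 1624, 1650, 2602, 3275, 3738, 4013, 4059, 4403]) (.leaf [146, 878, 1160, 1258, 1439, 1473, 1630, 1825, 2851, 2894, 3086, 3645, 4371])))))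

def nbr295 : Janko.Tree (List ℕ) :=
  (.node (.node (.node (.node (.node (.leaf [155, 381, 946, 959, 1180, 1227, 2053, 2119, 2264, 2818, 3114, 3770, 4020]) (.leaf [84, 145, 537, 725, 1136, 1602, 3167, 3205, 3728, 3744, 3862, 3969, 4092])) (.leaf [81, 145, 177, 669, 1132, 1137, 1282, 2512, 2730, 2816, 3161, 3455, 3538])) (.node (.leaf [627, 679, 1147, 1376, 1467, 1561, 2023, 2442, 2513, 2560, 3455, 4120, 4227]) (.leaf [413, 547, 677, 822, 1193, 1468, 1666, 2371, 2989, 3003, 3262, 3447, 3946]))) (.node (.node (.leaf [477, 720, 873, 1579, 1595, 1996, 2130, 2186, 2514, 2690, 3574, 3779, 4318]) (.leaf [164, 543, 1068, 2021, 2323, 2361, 2391, 2898, 3077, 3096, 3101, 3195, 4386])) (.node (.leaf [496, 889, 1615, 1654, 1667, 1836, 1901, 1928, 1958, 2125, 2444, 2789, 2995]) (.leaf [206, 1007, 1042, 2316, 2991, 2993, 3338, 3412, 3537, 3585, 3665, 3816, 4187])))) (.node (.node (.node (.node (.leaf [71, 276, 459, 519, 2002, 2293, 2766, 2802, 2914, 3660, 3708, 4032, 4425]) (.leaf [304, 586, 625, 1139, 1205, 1274, 1457, 1496, 1774, 1897, 3271, 3498, 4345])) (.leaf [67, 1078, 1285, 1382, 1557, 1693,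 1805, 2108, 2487, 2582, 3252, 3394, 3672])) (.node (.leaf [297, 470, 754, 1436, 1830, 2323, 2445, 2785, 3171, 3324, 4010, 4330, 4461]) (.leaf [145, 496, 643, 675, 1375, 1593, 1794, 2801, 2955, 2981, 3008, 3752, 4211]))) (.node (.node (.leaf [397, 446, 561, 934, 1576, 1640, 1978, 2242, 2564, 3588, 3647, 4448, 4478]) (.leaf [347, 954, 1330, 2226, 2332, 2507, 2629, 3059, 3193, 3473, 3498, 3898, 4171])) (.node (.leaf [81, 176, 467, 530, 1179, 1625, 1651, 2603, 3274, 3739, 4012, 4058, 4402]) (.leaf [147, 879, 1161, 1259, 1438, 1472, 1631, 1824, 2850, 2895, 3087, 3644, 4370])))))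

def nbr296 : Janko.Tree (List ℕ) :=
  (.node (.node (.node (.node (.node (.leaf [48, 112, 403, 1298, 1313, 1817, 2262, 2630, 2821, 3070, 3532, 4133, 4228]) (.leaf [20, 881, 1334, 1594, 1707, 2251, 2276, 2700, 3084, 3332, 3408, 3779, 3916])) (.leaf [54, 517, 845, 1086, 1140, 1199, 1823, 2005, 2168, 2411, 2498, 2831, 3634])) (.node (.leaf [149, 522, 844, 1468, 1712, 2052, 2264, 2565, 3634, 3679, 3696, 3967, 4349]) (.leaf [47, 110, 553, 620, 678, 1194, 1849, 2990, 3239, 3265, 3448, 3816, 4467]))) (.node (.node (.leaf [780, 874, 1062, 1612, 1654, 2192, 2517, 2817, 2994, 3154, 3539, 3691, 3924]) (.leaf [51, 350, 1773, 2207, 2239, 2291, 2640, 2826, 2849, 3278, 3311, 3948, 4176])) (.node (.leaf [146, 216, 633, 963, 1208, 1670, 2069, 2180, 2654, 2663, 3233, 3682, 4153]) (.leaf [201, 385, 1283, 2192, 2808, 2851, 3538, 3644, 3666, 3801, 3906, 4135, 4158])))) (.node (.node (.node (.node (.leaf [356, 524, 822, 1129, 1459, 1859, 1973, 2665, 2990, 3065, 3264, 3536, 3587]) (.leaf [375, 498, 979, 1082, 1288, 1344, 1412, 2114, 2386, 3169, 3317, 3410, 4193])) (.leaf [68, 349, 1081, 1286, 1385, 1558,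 1694, 1770, 2204, 2288, 2639, 2846, 3483])) (.node (.leaf [135, 298, 757, 1387, 1439, 2296, 2324, 2446, 2786, 2894, 3172, 3521, 3780]) (.leaf [565, 1199, 1466, 2169, 2194, 2246, 2312, 2346, 3922, 4016, 4099, 4120, 4158]))) (.node (.node (.leaf [451, 642, 947, 1280, 1288, 1581, 1983, 2615, 3563, 3593, 3862, 4020, 4211]) (.leaf [949, 1657, 2086, 2133, 2144, 2475, 3038, 3083, 3565, 3874, 4044, 4146, 4457])) (.node (.leaf [179, 260, 866, 1143, 1162, 1446, 1457, 1588, 2463, 2741, 3741, 3920, 4475]) (.leaf [738, 765, 1221, 1260, 1372, 1509, 2062, 2081, 2099, 2250, 2853, 2896, 3252])))))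

def nbr297 : Janko.Tree (List ℕ) :=
  (.node (.node (.node (.node (.node (.leaf [49, 113, 402, 1299, 1312, 1816, 2263, 2631, 2820, 3071, 3533, 4132, 4229]) (.leaf [21, 880, 1335, 1595, 1706, 2250, 2277, 2701, 3085, 3333, 3409, 3778, 3917])) (.leaf [55, 516, 844, 1087, 1141, 1198, 1822, 2004, 2169, 2410, 2499, 2830, 3635])) (.node (.leaf [148, 523, 845, 1469, 1713, 2053, 2265, 2564, 3635, 3678, 3697, 3966, 4348]) (.leaf [46, 111, 552, 621, 679, 1195, 1848, 2991, 3238, 3264, 3449, 3817, 4466]))) (.node (.node (.leaf [781, 875, 1063, 1613, 1655, 2193, 2516, 2816, 2995, 3155, 3538, 3690, 3925]) (.leaf [50, 351, 1772, 2206, 2238, 2290, 2641, 2827, 2848, 3279, 3310, 3949, 4177])) (.node (.leaf [147, 217, 632, 962, 1209, 1671, 2068, 2181, 2655, 2662, 3232, 3683, 4152]) (.leaf [200, 384, 1282, 2193, 2809, 2850, 3539, 3645, 3667, 3800, 3907, 4134, 4159])))) (.node (.node (.node (.node (.leaf [357, 525, 823, 1128, 1458, 1858, 1972, 2664, 2991, 3064, 3265, 3537, 3586]) (.leaf [374, 499, 978, 1083, 1289, 1345, 1413, 2115, 2387, 3168, 3316, 3411, 4192])) (.leaf [69, 348, 1080, 1287, 1384, 1559,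 1695, 1771, 2205, 2289, 2638, 2847, 3482])) (.node (.leaf [134, 299, 756, 1386, 1438, 2297, 2325, 2447, 2787, 2895, 3173, 3520, 3781]) (.leaf [564, 1198, 1467, 2168, 2195, 2247, 2313, 2347, 3923, 4017, 4098, 4121, 4159]))) (.node (.node (.leaf [450, 643, 946, 1281, 1289, 1580, 1982, 2614, 3562, 3592, 3863, 4021, 4210]) (.leaf [948, 1656, 2087, 2132, 2145, 2474, 3039, 3082, 3564, 3875, 4045, 4147, 4456])) (.node (.leaf [178, 261, 867, 1142, 1163, 1447, 1456, 1589, 2462, 2740, 3740, 3921, 4474]) (.leaf [739, 764, 1220, 1261, 1373, 1508, 2063, 2080, 2098, 2251, 2852, 2897, 3253])))))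

def nbr298 : Janko.Tree (List ℕ) :=
  (.node (.node (.node (.node (.node (.leaf [156, 192, 823, 1300, 1315, 2329, 2467, 2823, 3340, 3587, 3808, 4135, 4433]) (.leaf [49, 725, 929, 1307, 1378, 2552, 2722, 2824, 2838, 2996, 3255, 3309, 3940])) (.leaf [100, 108, 345, 711, 871, 1363, 1813, 2756, 3383, 3508, 3883, 4077, 4244])) (.node (.leaf [33, 684, 810, 1026, 1112, 2366, 2450, 2464, 2575, 3027, 3164, 3429, 3666]) (.leaf [66, 949, 1275, 1334, 1562, 1687, 2216, 2372, 2457, 2790, 3064, 3727, 3764]))) (.node (.node (.leaf [140, 493, 784, 878, 1860, 2216, 2443, 2903, 3541, 3654, 4037, 4227, 4239]) (.leaf [661, 864, 1073, 1579, 1898, 2061, 2350, 3131, 3148, 3676, 3719, 3900, 4372])) (.node (.leaf [131, 554, 1442, 1450, 1674, 1752, 2430, 2476, 3377, 3760, 3908, 4046, 4323]) (.leaf [161, 252, 387, 2080, 2088, 2810, 2853, 3133, 3224, 3803, 4016, 4126, 4141])))) (.node (.node (.node (.node (.leaf [304, 366, 702, 894, 944, 1158, 1225, 2518, 2687, 3183, 3441, 3725, 4344]) (.leaf [334, 584, 928, 1203, 1412, 1665, 2377, 2553, 3717, 3738, 4043, 4426, 4464])) (.leaf [98, 134, 570, 609, 1689, 1724, 2083,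 2296, 3008, 3086, 3437, 3439, 3618])) (.node (.leaf [208, 275, 565, 742, 1895, 1944, 2290, 2313, 2801, 3032, 3073, 3359, 3869]) (.leaf [21, 544, 1304, 1335, 2315, 2372, 2736, 2767, 3050, 4032, 4109, 4182, 4241]))) (.node (.node (.leaf [17, 453, 886, 1290, 1313, 1583, 2573, 2636, 3260, 3312, 3533, 3595, 3617]) (.leaf [991, 1014, 1031, 2135, 2477, 2690, 2842, 3085, 3524, 3567, 3779, 3876, 4046])) (.node (.leaf [181, 746, 783, 872, 1626, 1711, 2604, 2925, 3221, 3674, 3793, 4061, 4307]) (.leaf [380, 1189, 1285, 1603, 1728, 1792, 2065, 2486, 2733, 3342, 3862, 4021, 4408])))))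

def nbr299 : Janko.Tree (List ℕ) :=
  (.node (.node (.node (.node (.node (.leaf [157, 193, 822, 1301, 1314, 2328, 2466, 2822, 3341, 3586, 3809, 4134, 4432]) (.leaf [48, 724, 928, 1306, 1379, 2553, 2723, 2825, 2839, 2997, 3254, 3308, 3941])) (.leaf [101, 109, 344, 710, 870, 1362, 1812, 2757, 3382, 3509, 3882, 4076, 4245])) (.node (.leaf [32, 685, 811, 1027, 1113, 2367, 2451, 2465, 2574, 3026, 3165, 3428, 3667]) (.leaf [67, 948, 1274, 1335, 1563, 1686, 2217, 2373, 2456, 2791, 3065, 3726, 3765]))) (.node (.node (.leaf [141, 492, 785, 879, 1861, 2217, 2442, 2902, 3540, 3655, 4036, 4226, 4238]) (.leaf [660, 865, 1072, 1578, 1899, 2060, 2351, 3130, 3149, 3677, 3718, 3901, 4373])) (.node (.leaf [130, 555, 1443, 1451, 1675, 1753, 2431, 2477, 3376, 3761, 3909, 4047, 4322]) (.leaf [160, 253, 386, 2081, 2089, 2811, 2852, 3132, 3225, 3802, 4017, 4127, 4140])))) (.node (.node (.node (.node (.leaf [305, 367, 703, 895, 945, 1159, 1224, 2519, 2686, 3182, 3440, 3724, 4345]) (.leaf [335, 585, 929, 1202, 1413, 1664, 2376, 2552, 3716, 3739, 4042, 4427, 4465])) (.leaf [99, 135, 571, 608, 1688, 1725, 2082,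 2297, 3009, 3087, 3436, 3438, 3619])) (.node (.leaf [209, 274, 564, 743, 1894, 1945, 2291, 2312, 2800, 3033, 3072, 3358, 3868]) (.leaf [20, 545, 1305, 1334, 2314, 2373, 2737, 2766, 3051, 4033, 4108, 4183, 4240]))) (.node (.node (.leaf [16, 452, 887, 1291, 1312, 1582, 2572, 2637, 3261, 3313, 3532, 3594, 3616]) (.leaf [990, 1015, 1030, 2134, 2476, 2691, 2843, 3084, 3525, 3566, 3778, 3877, 4047])) (.node (.leaf [180, 747, 782, 873, 1627, 1710, 2605, 2924, 3220, 3675, 3792, 4060, 4306]) (.leaf [381, 1188, 1284, 1602, 1729, 1793, 2064, 2487, 2732, 3343, 3863, 4020, 4409])))))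

def nbr2100 : Janko.Tree (List ℕ) :=
  (.node (.node (.node (.node (.node (.leaf [158, 296, 741, 1317, 1460, 1704, 1724, 2946, 3040, 3439, 3575, 3579, 4321]) (.leaf [483, 1084, 1144, 1367, 1476, 1554, 1863, 2020, 2485, 2615, 2727, 2999, 3073])) (.leaf [82, 185, 352, 843, 873, 1996, 2383, 3152, 3674, 3856, 3885, 3890, 4030])) (.node (.leaf [686, 925, 1028, 1060, 1114, 1470, 1653, 2088, 2318, 2577, 3431, 3486, 3495]) (.leaf [68, 681, 828, 1336, 1564, 1648, 2374, 2439, 2540, 2617, 2842, 3066, 4004]))) (.node (.node (.leaf [620, 884, 1326, 1747, 1895, 2187, 2635, 3463, 3676, 3756, 3813, 4120, 4161]) (.leaf [52, 1167, 1505, 1603, 1716, 1858, 1929, 2364, 2588, 2990, 3392, 3900, 4187])) (.node (.leaf [30, 342, 347, 614, 1731, 2139, 2339, 2364, 2585, 2675, 2735, 2854, 2979]) (.leaf [154, 177, 1147, 2179, 2226, 2941, 2966, 3094, 3540, 3933, 4001, 4227, 4414])))) (.node (.node (.node (.node (.leaf [306, 368, 664, 896, 1674, 1857, 2111, 2236, 2333, 2520, 2769, 3464, 4066]) (.leaf [454, 587, 1452, 2125, 2148, 2424, 2745, 3106, 3243, 3459, 3763, 4116, 4265])) (.leaf [106, 182, 295, 1361, 1635,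 1745, 1955, 2184, 2442, 3419, 3669, 4075, 4334])) (.node (.leaf [210, 567, 572, 744, 1123, 1533, 1946, 2315, 2428, 2753, 3013, 3361, 3535]) (.leaf [219, 861, 1583, 2092, 2100, 3002, 3133, 3225, 3703, 3715, 3848, 3947, 4076]))) (.node (.node (.leaf [455, 470, 968, 1150, 1279, 1315, 1585, 3142, 3256, 3314, 3325, 3341, 3597]) (.leaf [687, 941, 1707, 2088, 2253, 2258, 2536, 2748, 2844, 3039, 3520, 3902, 4295])) (.node (.leaf [104, 727, 756, 2010, 2186, 2245, 2608, 2673, 3248, 3580, 3722, 4067, 4161]) (.leaf [128, 589, 1184, 1303, 1435, 2018, 2380, 2628, 3126, 3188, 3298, 3367, 4050])))))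

def nbr2101 : Janko.Tree (List ℕ) :=
  (.node (.node (.node (.node (.node (.leaf [159, 297, 740, 1316, 1461, 1705, 1725, 2947, 3041, 3438, 3574, 3578, 4320]) (.leaf [482, 1085, 1145, 1366, 1477, 1555, 1862, 2021, 2484, 2614, 2726, 2998, 3072])) (.leaf [83, 184, 353, 842, 872, 1997, 2382, 3153, 3675, 3857, 3884, 3891, 4031])) (.node (.leaf [687, 924, 1029, 1061, 1115, 1471, 1652, 2089, 2319, 2576, 3430, 3487, 3494]) (.leaf [69, 680, 829, 1337, 1565, 1649, 2375, 2438, 2541, 2616, 2843, 3067, 4005]))) (.node (.node (.leaf [621, 885, 1327, 1746, 1894, 2186, 2634, 3462, 3677, 3757, 3812, 4121, 4160]) (.leaf [53, 1166, 1504, 1602, 1717, 1859, 1928, 2365, 2589, 2991, 3393, 3901, 4186])) (.node (.leaf [31, 343, 346, 615, 1730, 2138, 2338, 2365, 2584, 2674, 2734, 2855, 2978]) (.leaf [155, 176, 1146, 2178, 2227, 2940, 2967, 3095, 3541, 3932, 4000, 4226, 4415])))) (.node (.node (.node (.node (.leaf [307, 369, 665, 897, 1675, 1856, 2110, 2237, 2332, 2521, 2768, 3465, 4067]) (.leaf [455, 586, 1453, 2124, 2149, 2425, 2744, 3107, 3242, 3458, 3762, 4117, 4264])) (.leaf [107, 183, 294, 1360, 1634,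 1744, 1954, 2185, 2443, 3418, 3668, 4074, 4335])) (.node (.leaf [211, 566, 573, 745, 1122, 1532, 1947, 2314, 2429, 2752, 3012, 3360, 3534]) (.leaf [218, 860, 1582, 2093, 2101, 3003, 3132, 3224, 3702, 3714, 3849, 3946, 4077]))) (.node (.node (.leaf [454, 471, 969, 1151, 1278, 1314, 1584, 3143, 3257, 3315, 3324, 3340, 3596]) (.leaf [686, 940, 1706, 2089, 2252, 2259, 2537, 2749, 2845, 3038, 3521, 3903, 4294])) (.node (.leaf [105, 726, 757, 2011, 2187, 2244, 2609, 2672, 3249, 3581, 3723, 4066, 4160]) (.leaf [129, 588, 1185, 1302, 1434, 2019, 2381, 2629, 3127, 3189, 3299, 3366, 4051])))))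

def nbr2102 : Janko.Tree (List ℕ) :=
  (.node (.node (.node (.node (.node (.leaf [106, 300, 698, 1124, 1148, 1347, 1865, 2168, 2228, 2909, 3198, 3419, 3603]) (.leaf [626, 733, 1163, 1457, 1475, 1495, 1561, 1800, 3528, 4167, 4209, 4270, 4398])) (.leaf [154, 246, 674, 879, 1306, 1331, 1751, 1756, 1861, 1913, 2275, 3255, 3303])) (.node (.leaf [164, 366, 1472, 1855, 2083, 2527, 2863, 3087, 3094, 3097, 3098, 3168, 3483]) (.leaf [168, 782, 1018, 1470, 1524, 2319, 2376, 2461, 2521, 2992, 3576, 3792, 3936]))) (.node (.node (.leaf [324, 727, 886, 1101, 1328, 1594, 2189, 2637, 2753, 2802, 3461, 3564, 4136]) (.leaf [284, 325, 1218, 1804, 2188, 2355, 2501, 2977, 3398, 3717, 4106, 4354, 4367])) (.node (.leaf [32, 649, 786, 863, 980, 1082, 1401, 1716, 2575, 2589, 2689, 3540, 3795]) (.leaf [163, 254, 854, 1663, 2090, 2881, 3091, 3326, 3543, 3673, 3935, 4128, 4390])))) (.node (.node (.node (.node (.leaf [2, 370, 606, 856, 930, 946, 1213, 1227, 1742, 2363, 2436, 2504, 3456]) (.leaf [339, 664, 734, 872, 888, 2051, 2215, 2517, 2776, 3220, 3737, 4252, 4469])) (.leaf [118, 168, 179, 426, 1437, 1768, 1829,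 2160, 2394, 2444, 2935, 3740, 3971])) (.node (.leaf [489, 684, 761, 914, 940, 1485, 2024, 2321, 2749, 3026, 3365, 4308, 4362]) (.leaf [1431, 1585, 1633, 1663, 1936, 3239, 3705, 3712, 3742, 3891, 4040, 4391, 4467]))) (.node (.node (.leaf [816, 1122, 1292, 1421, 1904, 2333, 2423, 2507, 2651, 3013, 3591, 4079, 4413]) (.leaf [168, 801, 1836, 2090, 2255, 2260, 2445, 2691, 2784, 3372, 3522, 4230, 4258])) (.node (.leaf [687, 835, 915, 1341, 1485, 2012, 2164, 2332, 2610, 3387, 3416, 3465, 4213]) (.leaf [69, 750, 851, 1072, 1111, 1579, 1818, 2416, 2540, 3090, 3180, 3953, 4118])))))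

def nbr2103 : Janko.Tree (List ℕ) :=
  (.node (.node (.node (.node (.node (.leaf [107, 301, 699, 1125, 1149, 1346, 1864, 2169, 2229, 2908, 3199, 3418, 3602]) (.leaf [627, 732, 1162, 1456, 1474, 1494, 1560, 1801, 3529, 4166, 4208, 4271, 4399])) (.leaf [155, 247, 675, 878, 1307, 1330, 1750, 1757, 1860, 1912, 2274, 3254, 3302])) (.node (.leaf [165, 367, 1473, 1854, 2082, 2526, 2862, 3086, 3095, 3096, 3099, 3169, 3482]) (.leaf [169, 783, 1019, 1471, 1525, 2318, 2377, 2460, 2520, 2993, 3577, 3793, 3937]))) (.node (.node (.leaf [325, 726, 887, 1100, 1329, 1595, 2188, 2636, 2752, 2803, 3460, 3565, 4137]) (.leaf [285, 324, 1219, 1805, 2189, 2354, 2500, 2976, 3399, 3716, 4107, 4355, 4366])) (.node (.leaf [33, 648, 787, 862, 981, 1083, 1400, 1717, 2574, 2588, 2688, 3541, 3794]) (.leaf [162, 255, 855, 1662, 2091, 2880, 3090, 3327, 3542, 3672, 3934, 4129, 4391])))) (.node (.node (.node (.node (.leaf [3, 371, 607, 857, 931, 947, 1212, 1226, 1743, 2362, 2437, 2505, 3457]) (.leaf [338, 665, 735, 873, 889, 2050, 2214, 2516, 2777, 3221, 3736, 4253, 4468])) (.leaf [119, 169, 178, 427, 1436, 1769, 1828,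 2161, 2395, 2445, 2934, 3741, 3970])) (.node (.leaf [488, 685, 760, 915, 941, 1484, 2025, 2320, 2748, 3027, 3364, 4309, 4363]) (.leaf [1430, 1584, 1632, 1662, 1937, 3238, 3704, 3713, 3743, 3890, 4041, 4390, 4466]))) (.node (.node (.leaf [817, 1123, 1293, 1420, 1905, 2332, 2422, 2506, 2650, 3012, 3590, 4078, 4412]) (.leaf [169, 800, 1837, 2091, 2254, 2261, 2444, 2690, 2785, 3373, 3523, 4231, 4259])) (.node (.leaf [686, 834, 914, 1340, 1484, 2013, 2165, 2333, 2611, 3386, 3417, 3464, 4212]) (.leaf [68, 751, 850, 1073, 1110, 1578, 1819, 2417, 2541, 3091, 3181, 3952, 4119])))))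

def nbr2104 : Janko.Tree (List ℕ) :=
  (.node (.node (.node (.node (.node (.leaf [108, 122, 1009, 1013, 1349, 1624, 1807, 2546, 2758, 3383, 3605, 3711, 4178]) (.leaf [627, 957, 1484, 1694, 1768, 2216, 2332, 2443, 2555, 2769, 3307, 3530, 3892])) (.leaf [74, 131, 216, 364, 1674, 1879, 2438, 2452, 2538, 2613, 2813, 3628, 3685])) (.node (.leaf [696, 1476, 1642, 1863, 2120, 2936, 3382, 3539, 3600, 3883, 3918, 4142, 4201]) (.leaf [945, 1547, 1632, 1767, 2012, 2080, 2250, 2781, 2869, 3100, 3535, 4018, 4448]))) (.node (.node (.leaf [151, 540, 636, 733, 795, 860, 1164, 1502, 1728, 1792, 2915, 3312, 4476]) (.leaf [194, 243, 971, 1226, 1608, 1683, 1779, 2014, 2382, 3687, 3755, 4374, 4465])) (.node (.leaf [34, 114, 395, 1006, 1121, 1353, 1506, 1676, 1953, 2107, 2203, 2856, 3659]) (.leaf [590, 604, 749, 1513, 1596, 2189, 2652, 3139, 3257, 3476, 3593, 4035, 4420])))) (.node (.node (.node (.node (.leaf [4, 372, 743, 851, 932, 948, 1229, 1744, 2086, 2531, 3185, 3727, 4248]) (.leaf [212, 296, 1090, 1092, 1650, 2947, 2949, 3004, 3111, 3343, 3990, 4014, 4409])) (.leaf [120, 170, 243, 390, 632, 1439,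 2279, 2396, 2446, 2663, 3332, 3409, 3805])) (.node (.leaf [119, 686, 763, 800, 1270, 1427, 1487, 1886, 2323, 2444, 2977, 3494, 4366]) (.leaf [345, 503, 1015, 1688, 2056, 2627, 3085, 3128, 3135, 3284, 3527, 4024, 4076]))) (.node (.node (.leaf [818, 1124, 1130, 1294, 1953, 2107, 2335, 2425, 2653, 3362, 3593, 4180, 4350]) (.leaf [672, 1569, 1832, 2005, 2046, 2470, 2552, 2625, 3001, 3501, 3896, 3941, 4286])) (.node (.leaf [31, 202, 538, 1723, 1875, 2141, 2330, 2591, 2617, 2987, 3277, 3548, 3849]) (.leaf [146, 899, 1341, 1616, 1630, 1838, 2221, 2298, 2593, 2694, 3241, 3828, 4152])))))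

def nbr2105 : Janko.Tree (List ℕ) :=
  (.node (.node (.node (.node (.node (.leaf [109, 123, 1008, 1012, 1348, 1625, 1806, 2547, 2759, 3382, 3604, 3710, 4179]) (.leaf [626, 956, 1485, 1695, 1769, 2217, 2333, 2442, 2554, 2768, 3306, 3531, 3893])) (.leaf [75, 130, 217, 365, 1675, 1878, 2439, 2453, 2539, 2612, 2812, 3629, 3684])) (.node (.leaf [697, 1477, 1643, 1862, 2121, 2937, 3383, 3538, 3601, 3882, 3919, 4143, 4200]) (.leaf [944, 1546, 1633, 1766, 2013, 2081, 2251, 2780, 2868, 3101, 3534, 4019, 4449]))) (.node (.node (.leaf [150, 541, 637, 732, 794, 861, 1165, 1503, 1729, 1793, 2914, 3313, 4477]) (.leaf [195, 242, 970, 1227, 1609, 1682, 1778, 2015, 2383, 3686, 3754, 4375, 4464])) (.node (.leaf [35, 115, 394, 1007, 1120, 1352, 1507, 1677, 1952, 2106, 2202, 2857, 3658]) (.leaf [591, 605, 748, 1512, 1597, 2188, 2653, 3138, 3256, 3477, 3592, 4034, 4421])))) (.node (.node (.node (.node (.leaf [5, 373, 742, 850, 933, 949, 1228, 1745, 2087, 2530, 3184, 3726, 4249]) (.leaf [213, 297, 1091, 1093, 1651, 2946, 2948, 3005, 3110, 3342, 3991, 4015, 4408])) (.leaf [121, 171, 242, 391, 633, 1438,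 2278, 2397, 2447, 2662, 3333, 3408, 3804])) (.node (.leaf [118, 687, 762, 801, 1271, 1426, 1486, 1887, 2322, 2445, 2976, 3495, 4367]) (.leaf [344, 502, 1014, 1689, 2057, 2626, 3084, 3129, 3134, 3285, 3526, 4025, 4077]))) (.node (.node (.leaf [819, 1125, 1131, 1295, 1952, 2106, 2334, 2424, 2652, 3363, 3592, 4181, 4351]) (.leaf [673, 1568, 1833, 2004, 2047, 2471, 2553, 2624, 3000, 3500, 3897, 3940, 4287])) (.node (.leaf [30, 203, 539, 1722, 1874, 2140, 2331, 2590, 2616, 2986, 3276, 3549, 3848]) (.leaf [147, 898, 1340, 1617, 1631, 1839, 2220, 2299, 2592, 2695, 3240, 3829, 4153])))))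

def nbr2106 : Janko.Tree (List ℕ) :=
  (.node (.node (.node (.node (.node (.leaf [160, 264, 1491, 2165, 2416, 2629, 3192, 3322, 3441, 3724, 3952, 4246, 4318]) (.leaf [363, 579, 665, 724, 1301, 2236, 2414, 2722, 2822, 3625, 4196, 4265, 4412])) (.leaf [364, 860, 1080, 1211, 1284, 1662, 2538, 2776, 3003, 4041, 4216, 4272, 4468])) (.node (.leaf [2, 179, 1480, 1828, 1869, 2486, 2522, 2795, 2955, 3211, 3317, 3573, 3619]) (.leaf [46, 439, 1327, 1490, 1895, 1973, 2538, 2776, 2991, 2992, 3283, 3393, 4324]))) (.node (.node (.leaf [106, 428, 638, 912, 1166, 1430, 1794, 1865, 2271, 2595, 3314, 3518, 4087]) (.leaf [245, 598, 600, 1228, 1292, 1685, 1896, 2016, 2194, 2597, 3053, 3767, 4273])) (.node (.leaf [36, 67, 116, 336, 1235, 1312, 1678, 1692, 2033, 2141, 2858, 4263, 4337]) (.leaf [271, 1434, 2018, 2377, 2391, 2611, 2880, 3016, 3091, 3386, 3487, 4149, 4279])))) (.node (.node (.node (.node (.leaf [71, 122, 410, 584, 1587, 1905, 2353, 2809, 3605, 3739, 3837, 3842, 4389]) (.leaf [104, 107, 757, 1270, 1553, 1794, 2168, 2237, 2768, 3530, 4265, 4333, 4367])) (.leaf [16, 31, 181, 783, 839, 2078, 2584,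 2626, 3068, 3663, 3872, 3935, 4194])) (.node (.leaf [586, 769, 953, 1288, 1787, 1940, 1948, 2329, 3242, 3411, 4135, 4169, 4300]) (.leaf [139, 490, 505, 1017, 1690, 2058, 2483, 2578, 2604, 2927, 3286, 3674, 3891]))) (.node (.node (.leaf [1079, 1296, 1366, 1581, 1782, 2802, 3156, 3394, 3514, 3721, 3894, 3899, 4033]) (.leaf [230, 451, 628, 1378, 1550, 1749, 2918, 3043, 3227, 3975, 3994, 4022, 4393])) (.node (.leaf [33, 74, 1432, 1877, 2219, 2612, 3033, 3073, 3147, 3633, 3743, 4147, 4469]) (.leaf [400, 708, 1132, 1135, 1490, 1819, 2238, 3948, 3952, 4101, 4325, 4397, 4416])))))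

def nbr2107 : Janko.Tree (List ℕ) :=
  (.node (.node (.node (.node (.node (.leaf [161, 265, 1490, 2164, 2417, 2628, 3193, 3323, 3440, 3725, 3953, 4247, 4319]) (.leaf [362, 578, 664, 725, 1300, 2237, 2415, 2723, 2823, 3624, 4197, 4264, 4413])) (.leaf [365, 861, 1081, 1210, 1285, 1663, 2539, 2777, 3002, 4040, 4217, 4273, 4469])) (.node (.leaf [3, 178, 1481, 1829, 1868, 2487, 2523, 2794, 2954, 3210, 3316, 3572, 3618]) (.leaf [47, 438, 1326, 1491, 1894, 1972, 2539, 2777, 2990, 2993, 3282, 3392, 4325]))) (.node (.node (.leaf [107, 429, 639, 913, 1167, 1431, 1795, 1864, 2270, 2594, 3315, 3519, 4086]) (.leaf [244, 599, 601, 1229, 1293, 1684, 1897, 2017, 2195, 2596, 3052, 3766, 4272])) (.node (.leaf [37, 66, 117, 337, 1234, 1313, 1679, 1693, 2032, 2140, 2859, 4262, 4336]) (.leaf [270, 1435, 2019, 2376, 2390, 2610, 2881, 3017, 3090, 3387, 3486, 4148, 4278])))) (.node (.node (.node (.node (.leaf [70, 123, 411, 585, 1586, 1904, 2352, 2808, 3604, 3738, 3836, 3843, 4388]) (.leaf [105, 106, 756, 1271, 1552, 1795, 2169, 2236, 2769, 3531, 4264, 4332, 4366])) (.leaf [17, 30, 180, 782, 838, 2079, 2585,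 2627, 3069, 3662, 3873, 3934, 4195])) (.node (.leaf [587, 768, 952, 1289, 1786, 1941, 1949, 2328, 3243, 3410, 4134, 4168, 4301]) (.leaf [138, 491, 504, 1016, 1691, 2059, 2482, 2579, 2605, 2926, 3287, 3675, 3890]))) (.node (.node (.leaf [1078, 1297, 1367, 1580, 1783, 2803, 3157, 3395, 3515, 3720, 3895, 3898, 4032]) (.leaf [231, 450, 629, 1379, 1551, 1748, 2919, 3042, 3226, 3974, 3995, 4023, 4392])) (.node (.leaf [32, 75, 1433, 1876, 2218, 2613, 3032, 3072, 3146, 3632, 3742, 4146, 4468]) (.leaf [401, 709, 1133, 1134, 1491, 1818, 2239, 3949, 3953, 4100, 4324, 4396, 4417])))))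

def nbr2108 : Janko.Tree (List ℕ) :=
  (.node (.node (.node (.node (.node (.leaf [162, 266, 354, 1857, 2631, 2773, 2988, 3262, 3292, 4067, 4228, 4253, 4290]) (.leaf [365, 667, 1093, 1370, 1603, 2676, 2992, 3576, 3962, 4186, 4338, 4351, 4409])) (.leaf [346, 571, 649, 835, 878, 1082, 2332, 2442, 2540, 3168, 3219, 4043, 4328])) (.node (.leaf [4, 827, 877, 1482, 1770, 1871, 2278, 2458, 2519, 2685, 3621, 3805, 4090]) (.leaf [953, 973, 1034, 1334, 2053, 2075, 2250, 2283, 2897, 3386, 3523, 4241, 4258]))) (.node (.node (.leaf [170, 538, 542, 640, 1062, 1100, 1877, 2616, 2903, 3018, 3139, 3236, 4386]) (.leaf [48, 113, 325, 554, 796, 1810, 2406, 3400, 3760, 3957, 4232, 4284, 4371])) (.node (.leaf [48, 264, 324, 1108, 1301, 1753, 1758, 2641, 2723, 2849, 3305, 3445, 4080]) (.leaf [1059, 1276, 1557, 2417, 2901, 2932, 2972, 3155, 3271, 3833, 4075, 4294, 4395])))) (.node (.node (.node (.node (.leaf [73, 124, 412, 586, 1456, 1906, 2036, 2355, 2811, 3363, 4010, 4053, 4271]) (.leaf [100, 109, 384, 430, 450, 771, 1349, 1749, 2330, 2706, 2808, 3577, 3962])) (.leaf [18, 417, 705, 1025, 1028, 2288, 2310,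 2358, 2656, 3146, 3482, 4147, 4430])) (.node (.leaf [308, 771, 1072, 1303, 1942, 1950, 2331, 2606, 2761, 2882, 3247, 4126, 4302]) (.leaf [626, 1128, 1396, 1565, 1804, 2023, 2665, 3011, 3673, 3821, 3843, 4167, 4188]))) (.node (.node (.leaf [595, 942, 1083, 1298, 1433, 2918, 3125, 3160, 3317, 3466, 3743, 3782, 3921]) (.leaf [224, 1701, 1849, 1909, 2015, 2112, 2128, 2192, 2551, 2596, 3545, 3925, 4466])) (.node (.leaf [39, 206, 1281, 1366, 1518, 1735, 2317, 2614, 2648, 2806, 3177, 3348, 3608]) (.leaf [419, 660, 1221, 1556, 1790, 2573, 3207, 3253, 3357, 3475, 3588, 3646, 4130])))))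

def nbr2109 : Janko.Tree (List ℕ) :=
  (.node (.node (.node (.node (.node (.leaf [163, 267, 355, 1856, 2630, 2772, 2989, 3263, 3293, 4066, 4229, 4252, 4291]) (.leaf [364, 666, 1092, 1371, 1602, 2677, 2993, 3577, 3963, 4187, 4339, 4350, 4408])) (.leaf [347, 570, 648, 834, 879, 1083, 2333, 2443, 2541, 3169, 3218, 4042, 4329])) (.node (.leaf [5, 826, 876, 1483, 1771, 1870, 2279, 2459, 2518, 2684, 3620, 3804, 4091]) (.leaf [952, 972, 1035, 1335, 2052, 2074, 2251, 2282, 2896, 3387, 3522, 4240, 4259]))) (.node (.node (.leaf [171, 539, 543, 641, 1063, 1101, 1876, 2617, 2902, 3019, 3138, 3237, 4387]) (.leaf [49, 112, 324, 555, 797, 1811, 2407, 3401, 3761, 3956, 4233, 4285, 4370])) (.node (.leaf [49, 265, 325, 1109, 1300, 1752, 1759, 2640, 2722, 2848, 3304, 3444, 4081]) (.leaf [1058, 1277, 1556, 2416, 2900, 2933, 2973, 3154, 3270, 3832, 4074, 4295, 4394])))) (.node (.node (.node (.node (.leaf [72, 125, 413, 587, 1457, 1907, 2037, 2354, 2810, 3362, 4011, 4052, 4270]) (.leaf [101, 108, 385, 431, 451, 770, 1348, 1748, 2331, 2707, 2809, 3576, 3963])) (.leaf [19, 416, 704, 1024, 1029, 2289, 2311,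 2359, 2657, 3147, 3483, 4146, 4431])) (.node (.leaf [309, 770, 1073, 1302, 1943, 1951, 2330, 2607, 2760, 2883, 3246, 4127, 4303]) (.leaf [627, 1129, 1397, 1564, 1805, 2022, 2664, 3010, 3672, 3820, 3842, 4166, 4189]))) (.node (.node (.leaf [594, 943, 1082, 1299, 1432, 2919, 3124, 3161, 3316, 3467, 3742, 3783, 3920]) (.leaf [225, 1700, 1848, 1908, 2014, 2113, 2129, 2193, 2550, 2597, 3544, 3924, 4467])) (.node (.leaf [38, 207, 1280, 1367, 1519, 1734, 2316, 2615, 2649, 2807, 3176, 3349, 3609]) (.leaf [418, 661, 1220, 1557, 1791, 2572, 3206, 3252, 3356, 3474, 3589, 3647, 4131])))))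

def nbr2110 : Janko.Tree (List ℕ) :=
  (.node (.node (.node (.node (.node (.leaf [164, 358, 463, 1672, 1678, 1727, 1768, 2160, 3136, 3414, 3681, 4038, 4224]) (.leaf [286, 327, 625, 1338, 1777, 2639, 2692, 3022, 3119, 3489, 3738, 3842, 4188])) (.leaf [100, 651, 752, 837, 862, 1139, 1372, 2334, 2455, 2542, 2669, 3374, 3931])) (.node (.leaf [104, 1484, 1758, 1852, 2310, 2488, 2769, 2940, 3703, 4000, 4067, 4141, 4436]) (.leaf [140, 350, 1003, 1007, 1869, 1955, 2444, 2679, 2795, 2995, 3585, 4252, 4450]))) (.node (.node (.leaf [6, 642, 891, 1014, 1245, 1257, 1289, 1374, 1754, 2828, 3037, 3177, 4082]) (.leaf [329, 383, 464, 1286, 1390, 1604, 1771, 1795, 2170, 2183, 3519, 3865, 4333])) (.node (.leaf [54, 187, 845, 1181, 1293, 1680, 2422, 2621, 2724, 2893, 3451, 3813, 3902]) (.leaf [905, 1468, 1571, 1608, 1951, 2568, 3273, 3612, 3635, 3755, 3790, 4292, 4314])))) (.node (.node (.node (.node (.leaf [526, 804, 986, 1144, 1590, 1995, 2146, 2400, 2713, 3455, 3695, 3840, 4373]) (.leaf [392, 898, 1032, 1724, 1817, 2297, 2341, 2556, 2558, 3294, 3480, 3781, 3995])) (.leaf [20, 701, 785, 909, 982, 2290,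 2337, 2826, 2911, 3080, 3778, 4109, 4427])) (.node (.leaf [35, 773, 1416, 1675, 1904, 1952, 2286, 2333, 2430, 2887, 2921, 3298, 4171]) (.leaf [273, 559, 963, 1842, 2058, 2308, 2362, 2482, 2655, 2990, 3213, 4341, 4392]))) (.node (.node (.leaf [753, 944, 1300, 1323, 1343, 1758, 2143, 2311, 2519, 2780, 3162, 4309, 4443]) (.leaf [173, 528, 639, 1166, 1450, 1537, 2258, 2364, 3130, 3388, 3837, 3903, 4457])) (.node (.leaf [41, 158, 1020, 1368, 1549, 1737, 2432, 3200, 3428, 3610, 3647, 3785, 3955]) (.leaf [19, 1078, 1558, 1747, 2070, 2288, 2453, 2735, 2799, 3209, 3256, 3477, 4289])))))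

def nbr2111 : Janko.Tree (List ℕ) :=
  (.node (.node (.node (.node (.node (.leaf [165, 359, 462, 1673, 1679, 1726, 1769, 2161, 3137, 3415, 3680, 4039, 4225]) (.leaf [287, 326, 624, 1339, 1776, 2638, 2693, 3023, 3118, 3488, 3739, 3843, 4189])) (.leaf [101, 650, 753, 836, 863, 1138, 1373, 2335, 2454, 2543, 2668, 3375, 3930])) (.node (.leaf [105, 1485, 1759, 1853, 2311, 2489, 2768, 2941, 3702, 4001, 4066, 4140, 4437]) (.leaf [141, 351, 1002, 1006, 1868, 1954, 2445, 2678, 2794, 2994, 3584, 4253, 4451]))) (.node (.node (.leaf [7, 643, 890, 1015, 1244, 1256, 1288, 1375, 1755, 2829, 3036, 3176, 4083]) (.leaf [328, 382, 465, 1287, 1391, 1605, 1770, 1794, 2171, 2182, 3518, 3864, 4332])) (.node (.leaf [55, 186, 844, 1180, 1292, 1681, 2423, 2620, 2725, 2892, 3450, 3812, 3903]) (.leaf [904, 1469, 1570, 1609, 1950, 2569, 3272, 3613, 3634, 3754, 3791, 4293, 4315])))) (.node (.node (.node (.node (.leaf [527, 805, 987, 1145, 1591, 1994, 2147, 2401, 2712, 3454, 3694, 3841, 4372]) (.leaf [393, 899, 1033, 1725, 1816, 2296, 2340, 2557, 2559, 3295, 3481, 3780, 3994])) (.leaf [21, 700, 784, 908, 983, 2291,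 2336, 2827, 2910, 3081, 3779, 4108, 4426])) (.node (.leaf [34, 772, 1417, 1674, 1905, 1953, 2287, 2332, 2431, 2886, 2920, 3299, 4170]) (.leaf [272, 558, 962, 1843, 2059, 2309, 2363, 2483, 2654, 2991, 3212, 4340, 4393]))) (.node (.node (.leaf [752, 945, 1301, 1322, 1342, 1759, 2142, 2310, 2518, 2781, 3163, 4308, 4442]) (.leaf [172, 529, 638, 1167, 1451, 1536, 2259, 2365, 3131, 3389, 3836, 3902, 4456])) (.node (.leaf [40, 159, 1021, 1369, 1548, 1736, 2433, 3201, 3429, 3611, 3646, 3784, 3954]) (.leaf [18, 1079, 1559, 1746, 2071, 2289, 2452, 2734, 2798, 3208, 3257, 3476, 4288])))))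

def nbr2112 : Janko.Tree (List ℕ) :=
  (.node (.node (.node (.node (.node (.leaf [166, 360, 390, 400, 906, 938, 1116, 1405, 2420, 2663, 3416, 3683, 4419]) (.leaf [123, 454, 1261, 1372, 1625, 1948, 2425, 3259, 3289, 3341, 3657, 3992, 4428])) (.leaf [287, 620, 868, 1086, 1217, 2097, 2187, 2352, 2498, 3075, 3397, 4308, 4363])) (.node (.leaf [30, 982, 1480, 1486, 1760, 2233, 2771, 3210, 3479, 3536, 3705, 3935, 4438]) (.leaf [144, 391, 493, 533, 674, 2065, 2135, 2643, 3084, 3332, 3583, 3639, 3862]))) (.node (.node (.leaf [10, 270, 437, 522, 1223, 1371, 1480, 1869, 2825, 2880, 3327, 3911, 4439]) (.leaf [50, 331, 466, 1392, 1640, 1773, 2172, 2174, 2185, 2338, 4237, 4335, 4346])) (.node (.leaf [58, 190, 327, 1425, 1682, 1741, 2147, 2426, 2643, 3455, 3488, 3815, 3988]) (.leaf [932, 1139, 1328, 1497, 1772, 2469, 2787, 3017, 3054, 3184, 3616, 4041, 4334])))) (.node (.node (.node (.node (.leaf [196, 806, 988, 1474, 2148, 2503, 2657, 2903, 2968, 3019, 3982, 4032, 4328]) (.leaf [394, 537, 1466, 1686, 1720, 1852, 2299, 2329, 2544, 2560, 2924, 3547, 3997])) (.leaf [24, 231, 342, 789, 1308, 2339,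 2679, 2795, 3157, 3525, 3876, 3993, 4220])) (.node (.leaf [37, 569, 775, 1313, 1418, 1826, 2335, 2570, 3000, 3362, 3501, 3559, 4132]) (.leaf [593, 606, 617, 1515, 1908, 3023, 3141, 3300, 3424, 3806, 3914, 4096, 4422]))) (.node (.node (.leaf [690, 1302, 1432, 1723, 1796, 1812, 2331, 2386, 2707, 3777, 3798, 4184, 4436]) (.leaf [376, 501, 753, 1302, 1775, 1796, 2051, 2518, 2606, 2669, 2687, 2729, 3368])) (.node (.leaf [350, 477, 1519, 1648, 2121, 2581, 2616, 2691, 2944, 3078, 4176, 4201, 4399]) (.leaf [688, 700, 928, 942, 978, 1223, 1370, 1715, 1939, 2959, 3316, 3689, 4427])))))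

def nbr2113 : Janko.Tree (List ℕ) :=
  (.node (.node (.node (.node (.node (.leaf [167, 361, 391, 401, 907, 939, 1117, 1404, 2421, 2662, 3417, 3682, 4418]) (.leaf [122, 455, 1260, 1373, 1624, 1949, 2424, 3258, 3288, 3340, 3656, 3993, 4429])) (.leaf [286, 621, 869, 1087, 1216, 2096, 2186, 2353, 2499, 3074, 3396, 4309, 4362])) (.node (.leaf [31, 983, 1481, 1487, 1761, 2232, 2770, 3211, 3478, 3537, 3704, 3934, 4439]) (.leaf [145, 390, 492, 532, 675, 2064, 2134, 2642, 3085, 3333, 3582, 3638, 3863]))) (.node (.node (.leaf [11, 271, 436, 523, 1222, 1370, 1481, 1868, 2824, 2881, 3326, 3910, 4438]) (.leaf [51, 330, 467, 1393, 1641, 1772, 2173, 2175, 2184, 2339, 4236, 4334, 4347])) (.node (.leaf [59, 191, 326, 1424, 1683, 1740, 2146, 2427, 2642, 3454, 3489, 3814, 3989]) (.leaf [933, 1138, 1329, 1496, 1773, 2468, 2786, 3016, 3055, 3185, 3617, 4040, 4335])))) (.node (.node (.node (.node (.leaf [197, 807, 989, 1475, 2149, 2502, 2656, 2902, 2969, 3018, 3983, 4033, 4329]) (.leaf [395, 536, 1467, 1687, 1721, 1853, 2298, 2328, 2545, 2561, 2925, 3546, 3996])) (.leaf [25, 230, 343, 788, 1309, 2338,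 2678, 2794, 3156, 3524, 3877, 3992, 4221])) (.node (.leaf [36, 568, 774, 1312, 1419, 1827, 2334, 2571, 3001, 3363, 3500, 3558, 4133]) (.leaf [592, 607, 616, 1514, 1909, 3022, 3140, 3301, 3425, 3807, 3915, 4097, 4423]))) (.node (.node (.leaf [691, 1303, 1433, 1722, 1797, 1813, 2330, 2387, 2706, 3776, 3799, 4185, 4437]) (.leaf [377, 500, 752, 1303, 1774, 1797, 2050, 2519, 2607, 2668, 2686, 2728, 3369])) (.node (.leaf [351, 476, 1518, 1649, 2120, 2580, 2617, 2690, 2945, 3079, 4177, 4200, 4398]) (.leaf [689, 701, 929, 943, 979, 1222, 1371, 1714, 1938, 2958, 3317, 3688, 4426])))))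

def nbr2114 : Janko.Tree (List ℕ) :=
  (.node (.node (.node (.node (.node (.leaf [58, 168, 575, 856, 2091, 2463, 2708, 3050, 3457, 3740, 3937, 4128, 4183]) (.leaf [928, 1665, 1697, 1938, 2038, 2781, 3221, 3427, 3677, 3714, 3812, 3956, 4285])) (.leaf [110, 235, 884, 952, 1351, 1372, 1633, 1808, 1851, 1949, 2250, 3238, 4219])) (.node (.leaf [69, 1024, 1059, 1488, 1830, 2011, 2730, 2773, 3170, 3482, 3961, 4066, 4199]) (.leaf [186, 791, 1387, 1388, 2181, 2241, 2336, 2655, 2725, 2835, 2894, 3212, 3692]))) (.node (.node (.leaf [12, 646, 677, 895, 1058, 1207, 1225, 1276, 1482, 1871, 2265, 2524, 3860]) (.leaf [229, 333, 778, 1400, 1915, 2064, 2475, 3231, 3404, 3703, 3927, 3947, 4364])) (.node (.leaf [60, 88, 901, 1545, 1636, 1684, 1883, 2149, 2726, 2968, 3055, 3350, 3490]) (.leaf [310, 1305, 1948, 2567, 2608, 2889, 3051, 3058, 3550, 3632, 3898, 4128, 4381])))) (.node (.node (.node (.node (.leaf [532, 667, 714, 808, 995, 1030, 1265, 2250, 2659, 2868, 3084, 4214, 4220]) (.leaf [354, 402, 668, 717, 1038, 1137, 1728, 3222, 3797, 3950, 4093, 4229, 4377])) (.leaf [97, 98, 999, 1000, 1168, 2098,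 2101, 2755, 3086, 3427, 3712, 3715, 4041])) (.node (.leaf [373, 546, 563, 777, 804, 1144, 1532, 1985, 2930, 3214, 3534, 3631, 4009]) (.leaf [358, 866, 983, 1118, 2211, 2783, 2832, 2895, 3093, 3421, 3765, 4109, 4145]))) (.node (.node (.leaf [520, 842, 1304, 1798, 2050, 2142, 2563, 2737, 3632, 3965, 4399, 4438, 4469]) (.leaf [67, 586, 606, 828, 1109, 1275, 1348, 2019, 2811, 3300, 3370, 4116, 4180])) (.node (.leaf [177, 426, 579, 664, 1005, 2025, 2226, 2529, 2662, 2677, 2749, 2797, 4236]) (.leaf [30, 343, 608, 707, 1987, 2085, 2255, 2454, 3705, 3948, 4194, 4220, 4447])))))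

def nbr2115 : Janko.Tree (List ℕ) :=
  (.node (.node (.node (.node (.node (.leaf [59, 169, 574, 857, 2090, 2462, 2709, 3051, 3456, 3741, 3936, 4129, 4182]) (.leaf [929, 1664, 1696, 1939, 2039, 2780, 3220, 3426, 3676, 3715, 3813, 3957, 4284])) (.leaf [111, 234, 885, 953, 1350, 1373, 1632, 1809, 1850, 1948, 2251, 3239, 4218])) (.node (.leaf [68, 1025, 1058, 1489, 1831, 2010, 2731, 2772, 3171, 3483, 3960, 4067, 4198]) (.leaf [187, 790, 1386, 1389, 2180, 2240, 2337, 2654, 2724, 2834, 2895, 3213, 3693]))) (.node (.node (.leaf [13, 647, 676, 894, 1059, 1206, 1224, 1277, 1483, 1870, 2264, 2525, 3861]) (.leaf [228, 332, 779, 1401, 1914, 2065, 2474, 3230, 3405, 3702, 3926, 3946, 4365])) (.node (.leaf [61, 89, 900, 1544, 1637, 1685, 1882, 2148, 2727, 2969, 3054, 3351, 3491]) (.leaf [311, 1304, 1949, 2566, 2609, 2888, 3050, 3059, 3551, 3633, 3899, 4129, 4380])))) (.node (.node (.node (.node (.leaf [533, 666, 715, 809, 994, 1031, 1264, 2251, 2658, 2869, 3085, 4215, 4221]) (.leaf [355, 403, 669, 716, 1039, 1136, 1729, 3223, 3796, 3951, 4092, 4228, 4376])) (.leaf [96, 99, 998, 1001, 1169, 2099,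 2100, 2754, 3087, 3426, 3713, 3714, 4040])) (.node (.leaf [372, 547, 562, 776, 805, 1145, 1533, 1984, 2931, 3215, 3535, 3630, 4008]) (.leaf [359, 867, 982, 1119, 2210, 2782, 2833, 2894, 3092, 3420, 3764, 4108, 4144]))) (.node (.node (.leaf [521, 843, 1305, 1799, 2051, 2143, 2562, 2736, 3633, 3964, 4398, 4439, 4468]) (.leaf [66, 587, 607, 829, 1108, 1274, 1349, 2018, 2810, 3301, 3371, 4117, 4181])) (.node (.leaf [176, 427, 578, 665, 1004, 2024, 2227, 2528, 2663, 2676, 2748, 2796, 4237]) (.leaf [31, 342, 609, 706, 1986, 2084, 2254, 2455, 3704, 3949, 4195, 4221, 4446])))))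

def nbr2116 : Janko.Tree (List ℕ) :=
  (.node (.node (.node (.node (.node (.leaf [60, 170, 243, 930, 1440, 2162, 2530, 2710, 3232, 3272, 4029, 4248, 4292]) (.leaf [53, 1506, 2078, 2198, 2202, 2313, 2364, 3291, 3366, 3508, 3611, 4124, 4245])) (.leaf [112, 237, 695, 886, 1951, 2760, 3148, 3418, 3677, 3681, 3998, 4012, 4284])) (.node (.leaf [320, 503, 1386, 1490, 1973, 2239, 2336, 2732, 2826, 3129, 3172, 3537, 3787]) (.leaf [188, 877, 1018, 1359, 1567, 1833, 2241, 2279, 2337, 2402, 3694, 3773, 3840]))) (.node (.node (.leaf [0, 139, 597, 704, 976, 1025, 1576, 2464, 2823, 3165, 3827, 4233, 4407]) (.leaf [198, 981, 1197, 1209, 1242, 1340, 2176, 2235, 2496, 3041, 4228, 4387, 4417])) (.node (.leaf [6, 457, 1215, 1380, 1802, 2381, 2430, 2887, 3126, 3547, 3997, 4047, 4082]) (.leaf [414, 769, 792, 1050, 1388, 2074, 2242, 2284, 2529, 2897, 3699, 4048, 4359])))) (.node (.node (.node (.node (.leaf [212, 534, 810, 875, 997, 1032, 1317, 1704, 2605, 3295, 3998, 4057, 4061]) (.leaf [16, 59, 475, 488, 1182, 1992, 2079, 2398, 3105, 3457, 3617, 4198, 4210])) (.leaf [347, 693, 797, 975, 1170, 1450, 1530,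 2094, 2224, 2365, 3168, 3359, 4192])) (.node (.leaf [47, 277, 779, 806, 1089, 1534, 1780, 1987, 3404, 3706, 3850, 3942, 3982]) (.leaf [360, 680, 868, 985, 1174, 2213, 2496, 2897, 3095, 3837, 3978, 4112, 4414]))) (.node (.node (.leaf [604, 1094, 1249, 2516, 2557, 2900, 3111, 3125, 3154, 3481, 3516, 3796, 4079]) (.leaf [108, 723, 791, 1363, 1698, 1720, 1768, 2554, 2783, 2964, 3225, 3415, 3751])) (.node (.leaf [45, 1160, 1206, 1259, 1451, 1537, 1542, 1565, 2260, 2618, 3656, 3734, 4174]) (.leaf [357, 396, 671, 718, 1992, 2356, 2467, 2469, 3076, 3519, 3587, 4238, 4479])))))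

def nbr2117 : Janko.Tree (List ℕ) :=
  (.node (.node (.node (.node (.node (.leaf [61, 171, 242, 931, 1441, 2163, 2531, 2711, 3233, 3273, 4028, 4249, 4293]) (.leaf [52, 1507, 2079, 2199, 2203, 2312, 2365, 3290, 3367, 3509, 3610, 4125, 4244])) (.leaf [113, 236, 694, 887, 1950, 2761, 3149, 3419, 3676, 3680, 3999, 4013, 4285])) (.node (.leaf [321, 502, 1387, 1491, 1972, 2238, 2337, 2733, 2827, 3128, 3173, 3536, 3786]) (.leaf [189, 876, 1019, 1358, 1566, 1832, 2240, 2278, 2336, 2403, 3695, 3772, 3841]))) (.node (.node (.leaf [1, 138, 596, 705, 977, 1024, 1577, 2465, 2822, 3164, 3826, 4232, 4406]) (.leaf [199, 980, 1196, 1208, 1243, 1341, 2177, 2234, 2497, 3040, 4229, 4386, 4416])) (.node (.leaf [7, 456, 1214, 1381, 1803, 2380, 2431, 2886, 3127, 3546, 3996, 4046, 4083]) (.leaf [415, 768, 793, 1051, 1389, 2075, 2243, 2285, 2528, 2896, 3698, 4049, 4358])))) (.node (.node (.node (.node (.leaf [213, 535, 811, 874, 996, 1033, 1316, 1705, 2604, 3294, 3999, 4056, 4060]) (.leaf [17, 58, 474, 489, 1183, 1993, 2078, 2399, 3104, 3456, 3616, 4199, 4211])) (.leaf [346, 692, 796, 974, 1171, 1451, 1531,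 2095, 2225, 2364, 3169, 3358, 4193])) (.node (.leaf [46, 276, 778, 807, 1088, 1535, 1781, 1986, 3405, 3707, 3851, 3943, 3983]) (.leaf [361, 681, 869, 984, 1175, 2212, 2497, 2896, 3094, 3836, 3979, 4113, 4415]))) (.node (.node (.leaf [605, 1095, 1248, 2517, 2556, 2901, 3110, 3124, 3155, 3480, 3517, 3797, 4078]) (.leaf [109, 722, 790, 1362, 1699, 1721, 1769, 2555, 2782, 2965, 3224, 3414, 3750])) (.node (.leaf [44, 1161, 1207, 1258, 1450, 1536, 1543, 1564, 2261, 2619, 3657, 3735, 4175]) (.leaf [356, 397, 670, 719, 1993, 2357, 2466, 2468, 3077, 3518, 3586, 4239, 4478])))))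

def nbr2118 : Janko.Tree (List ℕ) :=
  (.node (.node (.node (.node (.node (.leaf [172, 475, 622, 1911, 2054, 2474, 2712, 3174, 3836, 3874, 3904, 4103, 4389]) (.leaf [545, 786, 1443, 1677, 2033, 2066, 2178, 2315, 2404, 3750, 3856, 4031, 4262])) (.leaf [338, 524, 734, 1415, 1664, 1845, 2305, 2823, 3337, 3512, 3717, 4275, 4433])) (.node (.leaf [222, 647, 876, 1492, 1604, 1770, 1854, 1985, 2718, 2784, 3216, 3993, 4330]) (.leaf [354, 598, 783, 790, 1292, 1525, 1883, 2241, 2536, 3160, 3880, 4283, 4299]))) (.node (.node (.leaf [141, 228, 700, 978, 1061, 1832, 2318, 2337, 3423, 3577, 3591, 4167, 4235]) (.leaf [63, 310, 366, 2272, 2493, 2613, 2657, 2775, 3059, 3193, 3383, 3483, 3961])) (.node (.leaf [8, 411, 459, 1552, 1568, 1587, 1874, 2282, 3501, 3549, 3559, 4084, 4267]) (.leaf [350, 404, 531, 579, 2260, 2341, 2621, 2691, 2904, 3264, 3353, 4139, 4402])))) (.node (.node (.node (.node (.leaf [534, 536, 815, 1040, 1542, 1817, 2446, 2459, 3295, 3336, 3728, 3809, 4433]) (.leaf [337, 870, 1158, 1444, 1510, 1723, 1911, 1930, 2158, 2387, 2515, 4319, 4390])) (.leaf [204, 555, 801, 1034, 1174, 2212,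 2906, 2977, 3191, 3195, 3523, 3846, 4475])) (.node (.leaf [183, 748, 1180, 1320, 1954, 2137, 2465, 3139, 3277, 3451, 3771, 3855, 4063]) (.leaf [353, 362, 391, 724, 792, 1379, 1723, 3153, 3344, 3416, 3752, 4113, 4390]))) (.node (.node (.leaf [396, 536, 576, 606, 994, 1096, 1184, 1485, 1853, 3113, 3235, 4180, 4309]) (.leaf [158, 341, 612, 1357, 1401, 1510, 2035, 2064, 2393, 2588, 3048, 3888, 4321])) (.node (.leaf [739, 892, 1154, 1208, 1221, 1539, 1757, 1841, 2177, 2268, 2793, 3606, 4014]) (.leaf [398, 409, 543, 1541, 1994, 2174, 2258, 2358, 2471, 3305, 3589, 3896, 4201])))))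

def nbr2119 : Janko.Tree (List ℕ) :=
  (.node (.node (.node (.node (.node (.leaf [173, 474, 623, 1910, 2055, 2475, 2713, 3175, 3837, 3875, 3905, 4102, 4388]) (.leaf [544, 787, 1442, 1676, 2032, 2067, 2179, 2314, 2405, 3751, 3857, 4030, 4263])) (.leaf [339, 525, 735, 1414, 1665, 1844, 2304, 2822, 3336, 3513, 3716, 4274, 4432])) (.node (.leaf [223, 646, 877, 1493, 1605, 1771, 1855, 1984, 2719, 2785, 3217, 3992, 4331]) (.leaf [355, 599, 782, 791, 1293, 1524, 1882, 2240, 2537, 3161, 3881, 4282, 4298]))) (.node (.node (.leaf [140, 229, 701, 979, 1060, 1833, 2319, 2336, 3422, 3576, 3590, 4166, 4234]) (.leaf [62, 311, 367, 2273, 2492, 2612, 2656, 2774, 3058, 3192, 3382, 3482, 3960])) (.node (.leaf [9, 410, 458, 1553, 1569, 1586, 1875, 2283, 3500, 3548, 3558, 4085, 4266]) (.leaf [351, 405, 530, 578, 2261, 2340, 2620, 2690, 2905, 3265, 3352, 4138, 4403])))) (.node (.node (.node (.node (.leaf [535, 537, 814, 1041, 1543, 1816, 2447, 2458, 3294, 3337, 3729, 3808, 4432]) (.leaf [336, 871, 1159, 1445, 1511, 1722, 1910, 1931, 2159, 2386, 2514, 4318, 4391])) (.leaf [205, 554, 800, 1035, 1175, 2213,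 2907, 2976, 3190, 3194, 3522, 3847, 4474])) (.node (.leaf [182, 749, 1181, 1321, 1955, 2136, 2464, 3138, 3276, 3450, 3770, 3854, 4062]) (.leaf [352, 363, 390, 725, 793, 1378, 1722, 3152, 3345, 3417, 3753, 4112, 4391]))) (.node (.node (.leaf [397, 537, 577, 607, 995, 1097, 1185, 1484, 1852, 3112, 3234, 4181, 4308]) (.leaf [159, 340, 613, 1356, 1400, 1511, 2034, 2065, 2392, 2589, 3049, 3889, 4320])) (.node (.leaf [738, 893, 1155, 1209, 1220, 1538, 1756, 1840, 2176, 2269, 2792, 3607, 4015]) (.leaf [399, 408, 542, 1540, 1995, 2175, 2259, 2359, 2470, 3304, 3588, 3897, 4200])))))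

def nbr2120 : Janko.Tree (List ℕ) :=
  (.node (.node (.node (.node (.node (.leaf [174, 528, 1475, 2093, 2476, 3021, 3389, 3737, 3876, 4052, 4123, 4271, 4323]) (.leaf [178, 1148, 1480, 1763, 2000, 2180, 2229, 2233, 3267, 3553, 3910, 4170, 4304])) (.leaf [588, 625, 736, 1497, 1727, 1748, 2047, 2307, 2601, 3339, 3577, 4275, 4435])) (.node (.leaf [878, 951, 1494, 1772, 1987, 2338, 2786, 2895, 3212, 3218, 3528, 4110, 4220]) (.leaf [356, 479, 792, 1294, 1361, 2243, 2465, 2699, 2742, 3082, 3162, 3372, 4448]))) (.node (.node (.leaf [143, 230, 342, 615, 706, 1358, 2182, 2777, 3167, 3579, 4023, 4297, 4325]) (.leaf [65, 368, 904, 908, 2383, 2495, 2827, 2931, 3129, 3136, 3413, 3755, 4291])) (.node (.leaf [10, 184, 461, 804, 1589, 2284, 2383, 2747, 3128, 3173, 3214, 3327, 3698]) (.leaf [406, 1626, 2201, 2463, 2623, 2793, 2906, 2924, 2992, 3107, 3392, 3400, 4474])))) (.node (.node (.node (.node (.leaf [538, 1042, 1289, 1634, 1721, 2115, 2329, 2461, 3240, 3338, 3606, 3627, 4435]) (.leaf [61, 468, 774, 841, 893, 1208, 1242, 1684, 1759, 1826, 2179, 2710, 4000])) (.leaf [62, 333, 803, 1036, 1176, 1338,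 2304, 2506, 3193, 3414, 4192, 4365, 4400])) (.node (.leaf [484, 1464, 1740, 1748, 1956, 2400, 2707, 2901, 3143, 3229, 3242, 3455, 4022]) (.leaf [293, 364, 1381, 1922, 2892, 3197, 3220, 3764, 3793, 3903, 4115, 4338, 4469]))) (.node (.node (.leaf [302, 755, 1154, 1205, 1274, 1672, 2232, 2418, 2543, 2811, 3462, 4203, 4205]) (.leaf [241, 261, 284, 438, 670, 882, 1409, 1596, 1972, 2532, 2639, 2693, 3945])) (.node (.leaf [254, 979, 1205, 1293, 1422, 1636, 1980, 2067, 2597, 2620, 3249, 3545, 3591]) (.leaf [317, 408, 783, 1425, 1898, 2481, 2599, 2648, 2795, 3284, 3560, 3873, 4306])))))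

def nbr2121 : Janko.Tree (List ℕ) :=
  (.node (.node (.node (.node (.node (.leaf [175, 529, 1474, 2092, 2477, 3020, 3388, 3736, 3877, 4053, 4122, 4270, 4322]) (.leaf [179, 1149, 1481, 1762, 2001, 2181, 2228, 2232, 3266, 3552, 3911, 4171, 4305])) (.leaf [589, 624, 737, 1496, 1726, 1749, 2046, 2306, 2600, 3338, 3576, 4274, 4434])) (.node (.leaf [879, 950, 1495, 1773, 1986, 2339, 2787, 2894, 3213, 3219, 3529, 4111, 4221]) (.leaf [357, 478, 793, 1295, 1360, 2242, 2464, 2698, 2743, 3083, 3163, 3373, 4449]))) (.node (.node (.leaf [142, 231, 343, 614, 707, 1359, 2183, 2776, 3166, 3578, 4022, 4296, 4324]) (.leaf [64, 369, 905, 909, 2382, 2494, 2826, 2930, 3128, 3137, 3412, 3754, 4290])) (.node (.leaf [11, 185, 460, 805, 1588, 2285, 2382, 2746, 3129, 3172, 3215, 3326, 3699]) (.leaf [407, 1627, 2200, 2462, 2622, 2792, 2907, 2925, 2993, 3106, 3393, 3401, 4475])))) (.node (.node (.node (.node (.leaf [539, 1043, 1288, 1635, 1720, 2114, 2328, 2460, 3241, 3339, 3607, 3626, 4434]) (.leaf [60, 469, 775, 840, 892, 1209, 1243, 1685, 1758, 1827, 2178, 2711, 4001])) (.leaf [63, 332, 802, 1037, 1177, 1339,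 2305, 2507, 3192, 3415, 4193, 4364, 4401])) (.node (.leaf [485, 1465, 1741, 1749, 1957, 2401, 2706, 2900, 3142, 3228, 3243, 3454, 4023]) (.leaf [292, 365, 1380, 1923, 2893, 3196, 3221, 3765, 3792, 3902, 4114, 4339, 4468]))) (.node (.node (.leaf [303, 754, 1155, 1204, 1275, 1673, 2233, 2419, 2542, 2810, 3463, 4202, 4204]) (.leaf [240, 260, 285, 439, 671, 883, 1408, 1597, 1973, 2533, 2638, 2692, 3944])) (.node (.leaf [255, 978, 1204, 1292, 1423, 1637, 1981, 2066, 2596, 2621, 3248, 3544, 3590]) (.leaf [316, 409, 782, 1424, 1899, 2480, 2598, 2649, 2794, 3285, 3561, 3872, 4307])))))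

def nbr2122 : Janko.Tree (List ℕ) :=
  (.node (.node (.node (.node (.node (.leaf [0, 812, 1034, 1368, 2245, 2942, 3300, 3429, 3528, 3732, 3871, 4014, 4407]) (.leaf [199, 1482, 1765, 2002, 2235, 2546, 3555, 3642, 3710, 3804, 3861, 4133, 4359])) (.leaf [196, 347, 693, 2338, 2503, 2917, 3046, 3122, 3493, 3525, 3566, 3967, 4110])) (.node (.leaf [304, 1496, 1699, 2040, 2137, 2754, 2783, 2803, 3182, 3460, 3958, 4041, 4462]) (.leaf [180, 322, 1697, 1742, 2039, 2279, 2457, 2715, 2864, 3239, 3927, 4267, 4383]))) (.node (.node (.leaf [145, 232, 708, 980, 1998, 2184, 2527, 2688, 2816, 3169, 3433, 4093, 4417]) (.leaf [67, 120, 1096, 1679, 1736, 2659, 3013, 3408, 3486, 3785, 3821, 3916, 4181])) (.node (.leaf [49, 597, 704, 1286, 1394, 1975, 2288, 2631, 2932, 3304, 3400, 4295, 4332]) (.leaf [60, 86, 317, 597, 603, 892, 1065, 2191, 2269, 3011, 3054, 4279, 4335])))) (.node (.node (.node (.node (.leaf [540, 644, 795, 1044, 1122, 1146, 1376, 1850, 2166, 2226, 3196, 4091, 4237]) (.leaf [618, 692, 1104, 1110, 1422, 1579, 1634, 1761, 2186, 2478, 2502, 3396, 3719])) (.leaf [227, 340, 612, 993, 1605, 1703,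 1852, 2040, 3078, 3670, 3986, 4130, 4242])) (.node (.leaf [899, 1314, 1392, 1396, 1527, 2329, 2558, 2899, 3257, 3570, 3840, 3997, 4377]) (.leaf [696, 904, 1021, 1071, 1643, 1884, 2343, 2975, 3058, 3346, 3365, 3610, 3839]))) (.node (.node (.leaf [262, 726, 757, 835, 1116, 1156, 2234, 2419, 2541, 2611, 3090, 4064, 4205]) (.leaf [286, 422, 1007, 1120, 1908, 1974, 2342, 2389, 2551, 2641, 2695, 3075, 3304])) (.node (.leaf [173, 1295, 1424, 1513, 1638, 1982, 2069, 2376, 2599, 2611, 2622, 2686, 3593]) (.leaf [211, 370, 1101, 1211, 1226, 1261, 1916, 2637, 2933, 3062, 3114, 3288, 3595])))))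

def nbr2123 : Janko.Tree (List ℕ) :=
  (.node (.node (.node (.node (.node (.leaf [1, 813, 1035, 1369, 2244, 2943, 3301, 3428, 3529, 3733, 3870, 4015, 4406]) (.leaf [198, 1483, 1764, 2003, 2234, 2547, 3554, 3643, 3711, 3805, 3860, 4132, 4358])) (.leaf [197, 346, 692, 2339, 2502, 2916, 3047, 3123, 3492, 3524, 3567, 3966, 4111])) (.node (.leaf [305, 1497, 1698, 2041, 2136, 2755, 2782, 2802, 3183, 3461, 3959, 4040, 4463]) (.leaf [181, 323, 1696, 1743, 2038, 2278, 2456, 2714, 2865, 3238, 3926, 4266, 4382]))) (.node (.node (.leaf [144, 233, 709, 981, 1999, 2185, 2526, 2689, 2817, 3168, 3432, 4092, 4416]) (.leaf [66, 121, 1097, 1678, 1737, 2658, 3012, 3409, 3487, 3784, 3820, 3917, 4180])) (.node (.leaf [48, 596, 705, 1287, 1395, 1974, 2289, 2630, 2933, 3305, 3401, 4294, 4333]) (.leaf [61, 87, 316, 596, 602, 893, 1064, 2190, 2268, 3010, 3055, 4278, 4334])))) (.node (.node (.node (.node (.leaf [541, 645, 794, 1045, 1123, 1147, 1377, 1851, 2167, 2227, 3197, 4090, 4236]) (.leaf [619, 693, 1105, 1111, 1423, 1578, 1635, 1760, 2187, 2479, 2503, 3397, 3718])) (.leaf [226, 341, 613, 992, 1604, 1702,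 1853, 2041, 3079, 3671, 3987, 4131, 4243])) (.node (.leaf [898, 1315, 1393, 1397, 1526, 2328, 2559, 2898, 3256, 3571, 3841, 3996, 4376]) (.leaf [697, 905, 1020, 1070, 1642, 1885, 2342, 2974, 3059, 3347, 3364, 3611, 3838]))) (.node (.node (.leaf [263, 727, 756, 834, 1117, 1157, 2235, 2418, 2540, 2610, 3091, 4065, 4204]) (.leaf [287, 423, 1006, 1121, 1909, 1975, 2343, 2388, 2550, 2640, 2694, 3074, 3305])) (.node (.leaf [172, 1294, 1425, 1512, 1639, 1983, 2068, 2377, 2598, 2610, 2623, 2687, 3592]) (.leaf [210, 371, 1100, 1210, 1227, 1260, 1917, 2636, 2932, 3063, 3115, 3289, 3594])))))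

def nbr2124 : Janko.Tree (List ℕ) :=
  (.node (.node (.node (.node (.node (.leaf [228, 449, 814, 966, 1036, 1579, 1981, 3431, 3561, 3591, 3873, 3984, 4277]) (.leaf [280, 592, 1400, 1971, 2647, 2702, 3180, 3259, 3318, 3595, 3795, 3803, 3806])) (.leaf [42, 863, 1563, 2557, 2588, 2778, 2836, 2919, 3048, 3124, 3569, 3995, 4477])) (.node (.leaf [306, 759, 1168, 1498, 1683, 2116, 2979, 3344, 3426, 3465, 3933, 4112, 4464]) (.leaf [118, 372, 562, 763, 1008, 1013, 1526, 1829, 3256, 3338, 3607, 3664, 4289]))) (.node (.node (.leaf [888, 1306, 1412, 1566, 1959, 2044, 2402, 2516, 2552, 2866, 4081, 4213, 4286]) (.leaf [79, 374, 509, 1396, 1941, 2248, 2509, 3119, 3410, 3446, 3452, 3842, 4038])) (.node (.leaf [467, 509, 708, 1134, 1392, 1609, 1998, 2294, 2511, 2559, 3481, 3652, 3757]) (.leaf [319, 380, 954, 1067, 1800, 1961, 2133, 2804, 3056, 3178, 4167, 4245, 4395])))) (.node (.node (.node (.node (.leaf [20, 398, 542, 880, 936, 1046, 1968, 2072, 2212, 2580, 2911, 3236, 3978]) (.leaf [112, 439, 455, 694, 1183, 2312, 2532, 3170, 3201, 3432, 3772, 4017, 4198])) (.leaf [344, 502, 759, 1121, 1246, 1802,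 2732, 2756, 2978, 3650, 3700, 4203, 4287])) (.node (.leaf [995, 1097, 1388, 1500, 1679, 1693, 1960, 2327, 2849, 3162, 3985, 4094, 4332]) (.leaf [119, 316, 1023, 1628, 1778, 2345, 2413, 2965, 3290, 3348, 3751, 3754, 4279]))) (.node (.node (.leaf [18, 376, 396, 719, 934, 1610, 1966, 2070, 2210, 2645, 3146, 3234, 3421]) (.leaf [146, 245, 292, 634, 2043, 2109, 2661, 2850, 3207, 3240, 3252, 3334, 4207])) (.node (.leaf [82, 583, 798, 1426, 1807, 2096, 2219, 2547, 2970, 2983, 3146, 3643, 4445]) (.leaf [663, 1469, 1517, 1691, 2393, 2424, 2547, 2565, 2744, 3118, 3287, 3453, 3980])))))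

def nbr2125 : Janko.Tree (List ℕ) :=
  (.node (.node (.node (.node (.node (.leaf [229, 448, 815, 967, 1037, 1578, 1980, 3430, 3560, 3590, 3872, 3985, 4276]) (.leaf [281, 593, 1401, 1970, 2646, 2703, 3181, 3258, 3319, 3594, 3794, 3802, 3807])) (.leaf [43, 862, 1562, 2556, 2589, 2779, 2837, 2918, 3049, 3125, 3568, 3994, 4476])) (.node (.leaf [307, 758, 1169, 1499, 1682, 2117, 2978, 3345, 3427, 3464, 3932, 4113, 4465]) (.leaf [119, 373, 563, 762, 1009, 1012, 1527, 1828, 3257, 3339, 3606, 3665, 4288]))) (.node (.node (.leaf [889, 1307, 1413, 1567, 1958, 2045, 2403, 2517, 2553, 2867, 4080, 4212, 4287]) (.leaf [78, 375, 508, 1397, 1940, 2249, 2508, 3118, 3411, 3447, 3453, 3843, 4039])) (.node (.leaf [466, 508, 709, 1135, 1393, 1608, 1999, 2295, 2510, 2558, 3480, 3653, 3756]) (.leaf [318, 381, 955, 1066, 1801, 1960, 2132, 2805, 3057, 3179, 4166, 4244, 4394])))) (.node (.node (.node (.node (.leaf [21, 399, 543, 881, 937, 1047, 1969, 2073, 2213, 2581, 2910, 3237, 3979]) (.leaf [113, 438, 454, 695, 1182, 2313, 2533, 3171, 3200, 3433, 3773, 4016, 4199])) (.leaf [345, 503, 758, 1120, 1247, 1803,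 2733, 2757, 2979, 3651, 3701, 4202, 4286])) (.node (.leaf [994, 1096, 1389, 1501, 1678, 1692, 1961, 2326, 2848, 3163, 3984, 4095, 4333]) (.leaf [118, 317, 1022, 1629, 1779, 2344, 2412, 2964, 3291, 3349, 3750, 3755, 4278]))) (.node (.node (.leaf [19, 377, 397, 718, 935, 1611, 1967, 2071, 2211, 2644, 3147, 3235, 3420]) (.leaf [147, 244, 293, 635, 2042, 2108, 2660, 2851, 3206, 3241, 3253, 3335, 4206])) (.node (.leaf [83, 582, 799, 1427, 1806, 2097, 2218, 2546, 2971, 2982, 3147, 3642, 4444]) (.leaf [662, 1468, 1516, 1690, 2392, 2425, 2546, 2564, 2745, 3119, 3286, 3452, 3981])))))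

def nbr2126 : Janko.Tree (List ℕ) :=
  (.node (.node (.node (.node (.node (.leaf [45, 230, 1564, 1802, 1852, 2311, 3011, 3371, 3996, 4087, 4297, 4309, 4392]) (.leaf [710, 1261, 1290, 1652, 1855, 1946, 2088, 2636, 2697, 2748, 2853, 3799, 3992])) (.leaf [682, 1655, 2737, 2956, 3126, 3144, 3663, 3673, 3823, 3934, 3952, 4012, 4396])) (.node (.leaf [71, 1266, 1316, 1428, 1530, 1870, 2225, 2446, 3334, 3604, 3711, 3805, 4385]) (.leaf [120, 235, 592, 885, 1010, 1088, 1355, 1781, 2279, 3319, 3776, 3927, 4184]))) (.node (.node (.leaf [890, 994, 1308, 1416, 1774, 2340, 2394, 2775, 2913, 3214, 3499, 4138, 4215]) (.leaf [55, 294, 1616, 2058, 2283, 2309, 2513, 2740, 3236, 3495, 3628, 3920, 4342])) (.node (.leaf [108, 469, 618, 710, 1625, 1732, 2179, 2379, 2830, 3569, 3750, 3993, 4331]) (.leaf [151, 214, 631, 961, 1966, 2073, 2549, 2580, 3312, 3406, 3467, 3511, 3931])))) (.node (.node (.node (.node (.leaf [392, 882, 1048, 1126, 1409, 1420, 1505, 1607, 2198, 2230, 2257, 2506, 4382]) (.leaf [21, 592, 1080, 1101, 1211, 1401, 2072, 2290, 2801, 3310, 3917, 3927, 4097])) (.leaf [504, 721, 958, 1248, 1552,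 1692, 1996, 3353, 3675, 3794, 4139, 4205, 4333])) (.node (.leaf [483, 939, 997, 1695, 1962, 2151, 2614, 2844, 3102, 3176, 3698, 3756, 4347]) (.leaf [567, 1428, 1537, 2961, 2974, 2991, 3012, 3346, 3515, 3657, 4281, 4341, 4412]))) (.node (.node (.leaf [100, 289, 1162, 1326, 1592, 1813, 1873, 2102, 2331, 2385, 2986, 4042, 4071]) (.leaf [634, 1051, 1122, 1690, 1831, 1851, 1946, 1953, 2424, 2857, 3334, 4359, 4447])) (.node (.leaf [658, 910, 1293, 1628, 2373, 2579, 2829, 3053, 3064, 3943, 4240, 4299, 4419]) (.leaf [110, 453, 477, 1350, 1519, 1847, 3120, 3251, 3355, 3506, 3575, 3578, 4159])))))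

def nbr2127 : Janko.Tree (List ℕ) :=
  (.node (.node (.node (.node (.node (.leaf [44, 231, 1565, 1803, 1853, 2310, 3010, 3370, 3997, 4086, 4296, 4308, 4393]) (.leaf [711, 1260, 1291, 1653, 1854, 1947, 2089, 2637, 2696, 2749, 2852, 3798, 3993])) (.leaf [683, 1654, 2736, 2957, 3127, 3145, 3662, 3672, 3822, 3935, 3953, 4013, 4397])) (.node (.leaf [70, 1267, 1317, 1429, 1531, 1871, 2224, 2447, 3335, 3605, 3710, 3804, 4384]) (.leaf [121, 234, 593, 884, 1011, 1089, 1354, 1780, 2278, 3318, 3777, 3926, 4185]))) (.node (.node (.leaf [891, 995, 1309, 1417, 1775, 2341, 2395, 2774, 2912, 3215, 3498, 4139, 4214]) (.leaf [54, 295, 1617, 2059, 2282, 2308, 2512, 2741, 3237, 3494, 3629, 3921, 4343])) (.node (.leaf [109, 468, 619, 711, 1624, 1733, 2178, 2378, 2831, 3568, 3751, 3992, 4330]) (.leaf [150, 215, 630, 960, 1967, 2072, 2548, 2581, 3313, 3407, 3466, 3510, 3930])))) (.node (.node (.node (.node (.leaf [393, 883, 1049, 1127, 1408, 1421, 1504, 1606, 2199, 2231, 2256, 2507, 4383]) (.leaf [20, 593, 1081, 1100, 1210, 1400, 2073, 2291, 2800, 3311, 3916, 3926, 4096])) (.leaf [505, 720, 959, 1249, 1553,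 1693, 1997, 3352, 3674, 3795, 4138, 4204, 4332])) (.node (.leaf [482, 938, 996, 1694, 1963, 2150, 2615, 2845, 3103, 3177, 3699, 3757, 4346]) (.leaf [566, 1429, 1536, 2960, 2975, 2990, 3013, 3347, 3514, 3656, 4280, 4340, 4413]))) (.node (.node (.leaf [101, 288, 1163, 1327, 1593, 1812, 1872, 2103, 2330, 2384, 2987, 4043, 4070]) (.leaf [635, 1050, 1123, 1691, 1830, 1850, 1947, 1952, 2425, 2856, 3335, 4358, 4446])) (.node (.leaf [659, 911, 1292, 1629, 2372, 2578, 2828, 3052, 3065, 3942, 4241, 4298, 4418]) (.leaf [111, 452, 476, 1351, 1518, 1846, 3121, 3250, 3354, 3507, 3574, 3579, 4158])))))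

def nbr2128 : Janko.Tree (List ℕ) :=
  (.node (.node (.node (.node (.node (.leaf [30, 232, 983, 1155, 1552, 1819, 1875, 2083, 2177, 2804, 4089, 4367, 4417]) (.leaf [383, 644, 1711, 1851, 1866, 1915, 2700, 3001, 3559, 3702, 3715, 3758, 3864])) (.leaf [365, 722, 1363, 1639, 1812, 1873, 2123, 2453, 2481, 2586, 2598, 3203, 3887])) (.node (.leaf [73, 1268, 1318, 1630, 1907, 1945, 2366, 2635, 2850, 3240, 3302, 3667, 3669]) (.leaf [44, 537, 975, 1040, 1239, 1450, 2174, 2259, 2548, 2839, 3186, 3406, 3969]))) (.node (.node (.leaf [354, 1310, 1568, 2204, 2934, 3297, 3459, 3679, 3740, 3775, 3936, 4311, 4376]) (.leaf [327, 551, 728, 969, 1102, 1597, 1683, 2004, 2116, 3022, 3325, 3567, 4444])) (.node (.leaf [184, 189, 352, 1214, 1589, 1803, 2181, 2832, 2869, 2894, 3528, 3752, 4209]) (.leaf [204, 318, 447, 815, 964, 1191, 2458, 2540, 2564, 2835, 3212, 3219, 3847])))) (.node (.node (.node (.leaf [212, 254, 544, 663, 997, 2066, 2124, 2231, 2642, 2767, 2825, 3582, 4264]) (.leaf [358, 855, 1734, 1768, 2236, 2782, 2928, 3130, 3530, 3677, 3706, 3999, 4057])) (.node (.leaf [864, 961, 1368, 1502, 1645,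 1964, 2021, 2322, 2792, 3107, 3313, 4256, 4397]) (.leaf [263, 842, 910, 1117, 1529, 1619, 2284, 2578, 3204, 3675, 3729, 3846, 4061]))) (.node (.node (.leaf [82, 291, 843, 1084, 1138, 1328, 1821, 2104, 2166, 2218, 2739, 3632, 3976]) (.leaf [604, 955, 1079, 1347, 1408, 1692, 3138, 3199, 3244, 3336, 3898, 4311, 4381])) (.node (.leaf [564, 660, 1295, 1891, 2009, 2347, 2375, 2699, 2920, 2948, 3066, 3299, 4155]) (.leaf [1380, 1551, 1643, 1745, 1754, 2025, 2075, 2531, 2677, 2798, 3026, 4083, 4240])))))

def nbr2129 : Janko.Tree (List ℕ) :=
  (.node (.node (.node (.node (.node (.leaf [31, 233, 982, 1154, 1553, 1818, 1874, 2082, 2176, 2805, 4088, 4366, 4416]) (.leaf [382, 645, 1710, 1850, 1867, 1914, 2701, 3000, 3558, 3703, 3714, 3759, 3865])) (.leaf [364, 723, 1362, 1638, 1813, 1872, 2122, 2452, 2480, 2587, 2599, 3202, 3886])) (.node (.leaf [72, 1269, 1319, 1631, 1906, 1944, 2367, 2634, 2851, 3241, 3303, 3666, 3668]) (.leaf [45, 536, 974, 1041, 1238, 1451, 2175, 2258, 2549, 2838, 3187, 3407, 3968]))) (.node (.node (.leaf [355, 1311, 1569, 2205, 2935, 3296, 3458, 3678, 3741, 3774, 3937, 4310,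 4377]) (.leaf [326, 550, 729, 968, 1103, 1596, 1682, 2005, 2117, 3023, 3324, 3566, 4445])) (.node (.leaf [185, 188, 353, 1215, 1588, 1802, 2180, 2833, 2868, 2895, 3529, 3753, 4208]) (.leaf [205, 319, 446, 814, 965, 1190, 2459, 2541, 2565, 2834, 3213, 3218, 3846])))) (.node (.node (.node (.leaf [213, 255, 545, 662, 996, 2067, 2125, 2230, 2643, 2766, 2824, 3583, 4265]) (.leaf [359, 854, 1735, 1769, 2237, 2783, 2929, 3131, 3531, 3676, 3707, 3998, 4056])) (.node (.leaf [865, 960, 1369, 1503, 1644, 1965, 2020, 2323, 2793, 3106, 3312, 4257, 4396]) (.leaf [262, 843, 911, 1116, 1528, 1618, 2285, 2579, 3205, 3674, 3728, 3847, 4060]))) (.node (.node (.leaf [83, 290, 842, 1085, 1139, 1329, 1820, 2105, 2167, 2219, 2738, 3633, 3977]) (.leaf [605, 954, 1078, 1346, 1409, 1693, 3139, 3198, 3245, 3337, 3899, 4310, 4380])) (.node (.leaf [565, 661, 1294, 1890, 2008, 2346, 2374, 2698, 2921, 2949, 3067, 3298, 4154]) (.leaf [1381, 1550, 1642, 1744, 1755, 2024, 2074, 2530, 2676, 2799, 3027, 4082, 4241])))))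

def nbr2130 : Janko.Tree (List ℕ) :=
  (.node (.node (.node (.node (.node (.leaf [234, 593, 805, 1687, 1874, 2054, 2331, 2442, 2560, 3875, 3892, 4239, 4328]) (.leaf [216, 563, 660, 1514, 1557, 1671, 2486, 2928, 3131, 3572, 3906, 3956, 3976])) (.leaf [965, 1236, 1599, 1641, 1764, 1842, 2173, 2483, 2514, 2691, 2842, 2944, 3218])) (.node (.leaf [315, 513, 1096, 1185, 1500, 1736, 1959, 2159, 2890, 3191, 3522, 3555, 3647]) (.leaf [15, 589, 933, 1208, 1496, 2136, 2206, 2763, 3031, 3188, 3232, 3270, 4248]))) (.node (.node (.leaf [872, 894, 904, 992, 1037, 1105, 1579, 1727, 1919, 3046, 3137, 3791, 3904]) (.leaf [61, 89, 1796, 1838, 1848, 1909, 2269, 2305, 2694, 2761, 3225, 3402, 3414])) (.node (.leaf [282, 445, 758, 1168, 1976, 2876, 2899, 2922, 3149, 3551, 3681, 3841, 3901]) (.leaf [62, 419, 768, 1026, 1289, 2460, 2490, 2492, 2542, 3354, 3931, 4049, 4193])))) (.node (.node (.node (.leaf [214, 477, 546, 677, 838, 1375, 1525, 1882, 2068, 2376, 3659, 3963, 4148]) (.leaf [420, 561, 1218, 1429, 1614, 1787, 1858, 1929, 2272, 2342, 2612, 2974, 4169])) (.node (.leaf [1096, 1146, 1859, 1966, 2273,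 2490, 2493, 2560, 2580, 3094, 3196, 3979, 4339]) (.leaf [101, 236, 258, 667, 1149, 1593, 2771, 2997, 3035, 3321, 3602, 3623, 3962]))) (.node (.node (.leaf [104, 304, 640, 1166, 1239, 1846, 1877, 2113, 2548, 2840, 2972, 3270, 4441]) (.leaf [606, 654, 957, 1006, 1008, 1081, 1349, 1694, 3140, 3338, 3613, 4315, 4450])) (.node (.leaf [272, 439, 680, 882, 1359, 1504, 1564, 1566, 2665, 2679, 2990, 3642, 4054]) (.leaf [163, 436, 699, 1838, 2745, 2786, 2821, 2880, 2937, 3016, 3304, 4061, 4201])))))

def nbr2131 : Janko.Tree (List ℕ) :=
  (.node (.node (.node (.node (.node (.leaf [235, 592, 804, 1686, 1875, 2055, 2330, 2443, 2561, 3874, 3893, 4238, 4329]) (.leaf [217, 562, 661, 1515, 1556, 1670, 2487, 2929, 3130, 3573, 3907, 3957, 3977])) (.leaf [964, 1237, 1598, 1640, 1765, 1843, 2172, 2482, 2515, 2690, 2843, 2945, 3219])) (.node (.leaf [314, 512, 1097, 1184, 1501, 1737, 1958, 2158, 2891, 3190, 3523, 3554, 3646]) (.leaf [14, 588, 932, 1209, 1497, 2137, 2207, 2762, 3030, 3189, 3233, 3271, 4249]))) (.node (.node (.leaf [873, 895, 905, 993, 1036, 1104, 1578, 1726, 1918, 3047, 3136, 3790, 3905])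 (.leaf [60, 88, 1797, 1839, 1849, 1908, 2268, 2304, 2695, 2760, 3224, 3403, 3415])) (.node (.leaf [283, 444, 759, 1169, 1977, 2877, 2898, 2923, 3148, 3550, 3680, 3840, 3900]) (.leaf [63, 418, 769, 1027, 1288, 2461, 2491, 2493, 2543, 3355, 3930, 4048, 4192])))) (.node (.node (.node (.leaf [215, 476, 547, 676, 839, 1374, 1524, 1883, 2069, 2377, 3658, 3962, 4149]) (.leaf [421, 560, 1219, 1428, 1615, 1786, 1859, 1928, 2273, 2343, 2613, 2975, 4168])) (.node (.leaf [1097, 1147, 1858, 1967, 2272, 2491, 2492, 2561, 2581, 3095, 3197, 3978, 4338]) (.leaf [100, 237, 259, 666, 1148, 1592, 2770, 2996, 3034, 3320, 3603, 3622, 3963]))) (.node (.node (.leaf [105, 305, 641, 1167, 1238, 1847, 1876, 2112, 2549, 2841, 2973, 3271, 4440]) (.leaf [607, 655, 956, 1007, 1009, 1080, 1348, 1695, 3141, 3339, 3612, 4314, 4451])) (.node (.leaf [273, 438, 681, 883, 1358, 1505, 1565, 1567, 2664, 2678, 2991, 3643, 4055]) (.leaf [162, 437, 698, 1839, 2744, 2787, 2820, 2881, 2936, 3017, 3305, 4060, 4200])))))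

def nbr2132 : Janko.Tree (List ℕ) :=
  (.node (.node (.node (.node (.node (.leaf [100, 236, 595, 807, 1876, 2590, 2617, 3374, 3469, 3632, 3877, 4200, 4323]) (.leaf [78, 714, 1229, 1264, 1610, 1921, 2249, 2352, 2809, 3049, 3217, 3858, 4368])) (.leaf [39, 126, 1262, 1626, 1643, 1966, 2485, 2491, 2516, 2946, 3111, 3539, 3930])) (.node (.leaf [483, 494, 735, 1187, 1671, 2150, 2300, 2305, 2775, 2798, 3174, 3193, 3906]) (.leaf [17, 445, 758, 1498, 1516, 1574, 2368, 2626, 2647, 2703, 3442, 3505, 4250]))) (.node (.node (.leaf [896, 946, 1107, 1180, 1405, 1581, 1628, 1921, 2855, 3021, 3048, 3834, 4418]) (.leaf [351, 452, 1553, 1847, 1955, 2138, 2168, 2177, 2394, 2855, 3418, 3855, 4139])) (.node (.leaf [198, 505, 1120, 2138, 2324, 2756, 2926, 3265, 3350, 3644, 3659, 3789, 4139]) (.leaf [129, 141, 268, 386, 520, 1004, 1060, 1990, 3540, 3624, 3802, 4000, 4437])))) (.node (.node (.node (.leaf [216, 548, 846, 1153, 2025, 2070, 2735, 3120, 3147, 3505, 3879, 4137, 4190]) (.leaf [340, 563, 1616, 1631, 1777, 1825, 2344, 2412, 2882, 2930, 3136, 3247, 4131])) (.node (.leaf [1148, 1408, 1505, 1968, 2150,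 2495, 2590, 2765, 3137, 3198, 3552, 3671, 4130]) (.leaf [5, 506, 1318, 1466, 1660, 2544, 2586, 3167, 3621, 3745, 3853, 3886, 4378]))) (.node (.node (.leaf [284, 374, 1083, 1140, 1320, 1382, 1471, 2411, 2603, 3124, 3371, 4063, 4107]) (.leaf [192, 960, 1083, 1265, 1351, 1373, 1382, 1763, 2062, 3142, 3340, 3467, 4026])) (.node (.leaf [208, 274, 423, 1120, 1155, 1416, 1506, 2667, 2681, 2817, 3644, 4203, 4370]) (.leaf [134, 571, 593, 806, 1493, 1781, 1985, 2567, 2660, 3409, 4129, 4285, 4329])))))

def nbr2133 : Janko.Tree (List ℕ) :=
  (.node (.node (.node (.node (.node (.leaf [101, 237, 594, 806, 1877, 2591, 2616, 3375, 3468, 3633, 3876, 4201, 4322]) (.leaf [79, 715, 1228, 1265, 1611, 1920, 2248, 2353, 2808, 3048, 3216, 3859, 4369])) (.leaf [38, 127, 1263, 1627, 1642, 1967, 2484, 2490, 2517, 2947, 3110, 3538, 3931])) (.node (.leaf [482, 495, 734, 1186, 1670, 2151, 2301, 2304, 2774, 2799, 3175, 3192, 3907]) (.leaf [16, 444, 759, 1499, 1517, 1575, 2369, 2627, 2646, 2702, 3443, 3504, 4251]))) (.node (.node (.leaf [897, 947, 1106, 1181, 1404, 1580, 1629, 1920, 2854, 3020, 3049, 3835, 4419])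 (.leaf [350, 453, 1552, 1846, 1954, 2139, 2169, 2176, 2395, 2854, 3419, 3854, 4138])) (.node (.leaf [199, 504, 1121, 2139, 2325, 2757, 2927, 3264, 3351, 3645, 3658, 3788, 4138]) (.leaf [128, 140, 269, 387, 521, 1005, 1061, 1991, 3541, 3625, 3803, 4001, 4436])))) (.node (.node (.node (.leaf [217, 549, 847, 1152, 2024, 2071, 2734, 3121, 3146, 3504, 3878, 4136, 4191]) (.leaf [341, 562, 1617, 1630, 1776, 1824, 2345, 2413, 2883, 2931, 3137, 3246, 4130])) (.node (.leaf [1149, 1409, 1504, 1969, 2151, 2494, 2591, 2764, 3136, 3199, 3553, 3670, 4131]) (.leaf [4, 507, 1319, 1467, 1661, 2545, 2587, 3166, 3620, 3744, 3852, 3887, 4379]))) (.node (.node (.leaf [285, 375, 1082, 1141, 1321, 1383, 1470, 2410, 2602, 3125, 3370, 4062, 4106]) (.leaf [193, 961, 1082, 1264, 1350, 1372, 1383, 1762, 2063, 3143, 3341, 3466, 4027])) (.node (.leaf [209, 275, 422, 1121, 1154, 1417, 1507, 2666, 2680, 2816, 3645, 4202, 4371]) (.leaf [135, 570, 592, 807, 1492, 1780, 1984, 2566, 2661, 3408, 4128, 4284, 4328])))))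

def nbr2134 : Janko.Tree (List ℕ) :=
  (.node (.node (.node (.node (.node (.leaf [175, 238, 476, 1356, 1441, 1883, 2035, 2111, 2227, 2528, 2537, 3396, 3498]) (.leaf [802, 847, 1313, 1391, 1395, 1573, 1816, 2573, 3503, 3638, 3994, 4256, 4396])) (.leaf [280, 573, 582, 770, 1117, 1156, 1427, 2420, 2518, 2606, 2780, 3332, 3535])) (.node (.leaf [908, 957, 993, 1502, 1644, 1690, 1702, 2546, 3688, 3775, 3828, 4358, 4378]) (.leaf [478, 520, 851, 922, 2373, 2911, 3037, 3237, 3629, 3727, 3746, 4082, 4108]))) (.node (.node (.leaf [131, 386, 898, 1314, 1585, 1630, 1945, 1991, 2080, 2453, 2466, 2587, 3376]) (.leaf [454, 648, 871, 1183, 1555, 1789, 2201, 2396, 2574, 2758, 3382, 3393, 4163])) (.node (.leaf [234, 319, 1020, 1033, 1147, 1271, 1592, 2140, 2330, 3563, 3776, 3923, 4211]) (.leaf [154, 1060, 1180, 1653, 1871, 1920, 2601, 2625, 2707, 3228, 3577, 3799, 4000])))) (.node (.node (.node (.leaf [220, 550, 739, 1016, 1600, 1907, 2096, 3158, 3303, 3532, 3734, 3972, 4444]) (.leaf [651, 1138, 1680, 1897, 1924, 2423, 2506, 2934, 3128, 3207, 3285, 4048, 4383])) (.node (.leaf [882, 1099, 1358, 1830,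 1970, 2198, 2515, 2582, 2731, 3180, 3731, 3866, 4461]) (.leaf [108, 433, 1244, 1537, 1732, 1799, 2142, 2261, 2364, 2555, 2589, 3081, 4245]))) (.node (.node (.leaf [79, 286, 376, 662, 753, 867, 1384, 1819, 3118, 3323, 3421, 4161, 4308]) (.leaf [194, 212, 695, 753, 1236, 1342, 1384, 1765, 2064, 2643, 3144, 3342, 4013])) (.node (.leaf [276, 441, 458, 557, 647, 1508, 1568, 1714, 1871, 2624, 2683, 2739, 3942]) (.leaf [136, 595, 817, 1410, 1495, 1987, 2043, 2455, 2569, 2814, 3273, 3375, 4462])))))

def nbr2135 : Janko.Tree (List ℕ) :=
  (.node (.node (.node (.node (.node (.leaf [174, 239, 477, 1357, 1440, 1882, 2034, 2110, 2226, 2529, 2536, 3397, 3499]) (.leaf [803, 846, 1312, 1390, 1394, 1572, 1817, 2572, 3502, 3639, 3995, 4257, 4397])) (.leaf [281, 572, 583, 771, 1116, 1157, 1426, 2421, 2519, 2607, 2781, 3333, 3534])) (.node (.leaf [909, 956, 992, 1503, 1645, 1691, 1703, 2547, 3689, 3774, 3829, 4359, 4379]) (.leaf [479, 521, 850, 923, 2372, 2910, 3036, 3236, 3628, 3726, 3747, 4083, 4109]))) (.node (.node (.leaf [130, 387, 899, 1315, 1584, 1631, 1944, 1990, 2081, 2452, 2467, 2586, 3377])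 (.leaf [455, 649, 870, 1182, 1554, 1788, 2200, 2397, 2575, 2759, 3383, 3392, 4162])) (.node (.leaf [235, 318, 1021, 1032, 1146, 1270, 1593, 2141, 2331, 3562, 3777, 3922, 4210]) (.leaf [155, 1061, 1181, 1652, 1870, 1921, 2600, 2624, 2706, 3229, 3576, 3798, 4001])))) (.node (.node (.node (.leaf [221, 551, 738, 1017, 1601, 1906, 2097, 3159, 3302, 3533, 3735, 3973, 4445]) (.leaf [650, 1139, 1681, 1896, 1925, 2422, 2507, 2935, 3129, 3206, 3284, 4049, 4382])) (.node (.leaf [883, 1098, 1359, 1831, 1971, 2199, 2514, 2583, 2730, 3181, 3730, 3867, 4460]) (.leaf [109, 432, 1245, 1536, 1733, 1798, 2143, 2260, 2365, 2554, 2588, 3080, 4244]))) (.node (.node (.leaf [78, 287, 377, 663, 752, 866, 1385, 1818, 3119, 3322, 3420, 4160, 4309]) (.leaf [195, 213, 694, 752, 1237, 1343, 1385, 1764, 2065, 2642, 3145, 3343, 4012])) (.node (.leaf [277, 440, 459, 556, 646, 1509, 1569, 1715, 1870, 2625, 2682, 2738, 3943]) (.leaf [137, 594, 816, 1411, 1494, 1986, 2042, 2454, 2568, 2815, 3272, 3374, 4463])))))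

def nbr2136 : Janko.Tree (List ℕ) :=
  (.node (.node (.node (.node (.node (.leaf [240, 251, 438, 1018, 1358, 1361, 1709, 2113, 2229, 2874, 3373, 3398, 4324]) (.leaf [4, 843, 932, 1138, 1275, 1611, 2000, 2563, 2694, 3234, 3792, 4114, 4171])) (.leaf [6, 282, 575, 1119, 1429, 1611, 1989, 2520, 2608, 2782, 3050, 3334, 3707])) (.node (.leaf [734, 1058, 1716, 2119, 2402, 2516, 2847, 2932, 3114, 3170, 3772, 4247, 4458]) (.leaf [220, 480, 522, 853, 1253, 1607, 2256, 2375, 3631, 3748, 4004, 4084, 4415]))) (.node (.node (.leaf [443, 698, 802, 900, 1221, 1636, 1838, 1889, 2029, 2572, 3248, 3723, 4002]) (.leaf [205, 308, 319, 688, 1959, 2140, 2270, 2400, 2760, 2859, 3191, 3395, 3419])) (.node (.leaf [517, 1030, 1066, 2124, 2168, 2194, 2824, 3106, 3308, 3430, 3638, 3716, 4256]) (.leaf [10, 1357, 1480, 1655, 1738, 1762, 1933, 2367, 2450, 2737, 3230, 4398, 4421])))) (.node (.node (.node (.leaf [224, 552, 743, 1628, 1848, 2210, 2855, 2940, 2952, 2976, 3065, 3726, 4202]) (.leaf [268, 633, 1140, 1899, 2106, 2425, 2578, 2856, 2958, 2960, 3209, 3287, 4372])) (.node (.leaf [684, 900, 966, 1014, 1172,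 1464, 1578, 1818, 2003, 2627, 2736, 3861, 4397]) (.leaf [336, 437, 870, 1004, 1459, 1870, 2447, 2459, 2680, 2821, 3393, 3640, 4446]))) (.node (.node (.leaf [26, 294, 491, 791, 1310, 1849, 1955, 2045, 2536, 3038, 3082, 3224, 4213]) (.leaf [33, 511, 708, 980, 1394, 1696, 2891, 3164, 3294, 3823, 3951, 4037, 4396])) (.node (.leaf [14, 383, 514, 961, 978, 1422, 1791, 1962, 2592, 3801, 4026, 4314, 4346]) (.leaf [251, 411, 1546, 1559, 2112, 2129, 2349, 2436, 2847, 3100, 3442, 3622, 4246])))))

def nbr2137 : Janko.Tree (List ℕ) :=
  (.node (.node (.node (.node (.node (.leaf [241, 250, 439, 1019, 1359, 1360, 1708, 2112, 2228, 2875, 3372, 3399, 4325]) (.leaf [5, 842, 933, 1139, 1274, 1610, 2001, 2562, 2695, 3235, 3793, 4115, 4170])) (.leaf [7, 283, 574, 1118, 1428, 1610, 1988, 2521, 2609, 2783, 3051, 3335, 3706])) (.node (.leaf [735, 1059, 1717, 2118, 2403, 2517, 2846, 2933, 3115, 3171, 3773, 4246, 4459]) (.leaf [221, 481, 523, 852, 1252, 1606, 2257, 2374, 3630, 3749, 4005, 4085, 4414]))) (.node (.node (.leaf [442, 699, 803, 901, 1220, 1637, 1839, 1888, 2028, 2573, 3249, 3722, 4003]) (.leaf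 [204, 309, 318, 689, 1958, 2141, 2271, 2401, 2761, 2858, 3190, 3394, 3418])) (.node (.leaf [516, 1031, 1067, 2125, 2169, 2195, 2825, 3107, 3309, 3431, 3639, 3717, 4257]) (.leaf [11, 1356, 1481, 1654, 1739, 1763, 1932, 2366, 2451, 2736, 3231, 4399, 4420])))) (.node (.node (.node (.leaf [225, 553, 742, 1629, 1849, 2211, 2854, 2941, 2953, 2977, 3064, 3727, 4203]) (.leaf [269, 632, 1141, 1898, 2107, 2424, 2579, 2857, 2959, 2961, 3208, 3286, 4373])) (.node (.leaf [685, 901, 967, 1015, 1173, 1465, 1579, 1819, 2002, 2626, 2737, 3860, 4396]) (.leaf [337, 436, 871, 1005, 1458, 1871, 2446, 2458, 2681, 2820, 3392, 3641, 4447]))) (.node (.node (.leaf [27, 295, 490, 790, 1311, 1848, 1954, 2044, 2537, 3039, 3083, 3225, 4212]) (.leaf [32, 510, 709, 981, 1395, 1697, 2890, 3165, 3295, 3822, 3950, 4036, 4397])) (.node (.leaf [15, 382, 515, 960, 979, 1423, 1790, 1963, 2593, 3800, 4027, 4315, 4347]) (.leaf [250, 410, 1547, 1558, 2113, 2128, 2348, 2437, 2846, 3101, 3443, 3623, 4247])))))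

def nbr2138 : Janko.Tree (List ℕ) :=
  (.node (.node (.node (.node (.node (.leaf [242, 372, 467, 1212, 1999, 2184, 2207, 2428, 2752, 3714, 3758, 4248, 4375]) (.leaf [570, 845, 1047, 1140, 1517, 2002, 2540, 2565, 3138, 3236, 3245, 4132, 4326])) (.leaf [191, 628, 1106, 1142, 1153, 1417, 1424, 1458, 2070, 2211, 2395, 2680, 2855])) (.node (.leaf [50, 563, 784, 1504, 1716, 2031, 2689, 3137, 3360, 3433, 3535, 3681, 4459]) (.leaf [124, 352, 885, 1011, 1588, 1809, 1906, 2383, 3667, 3952, 4121, 4143, 4158]))) (.node (.node (.leaf [898, 902, 1013, 1512, 1638, 2026, 2121, 2453, 2593, 3257, 3918, 4003, 4269]) (.leaf [158, 475, 973, 1126, 1298, 1354, 1432, 1737, 2632, 2890, 3013, 3347, 4185])) (.node (.leaf [580, 1036, 1645, 1721, 2760, 3031, 3324, 3415, 3447, 3774, 4039, 4223, 4444]) (.leaf [38, 1016, 1090, 1519, 1600, 1691, 2031, 2405, 2454, 3110, 3650, 3857, 4006])))) (.node (.node (.node (.leaf [226, 554, 745, 1339, 1810, 1891, 2212, 2233, 2574, 2954, 3067, 4005, 4204]) (.leaf [206, 259, 667, 714, 739, 1458, 1623, 2248, 2392, 2944, 3159, 3453, 3536])) (.node (.leaf [139, 642, 669, 686, 902,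 1016, 1282, 1580, 1706, 3678, 3801, 4213, 4377]) (.leaf [5, 96, 209, 930, 1296, 1424, 2681, 3220, 3715, 3720, 4114, 4248, 4306]))) (.node (.node (.leaf [731, 776, 1092, 1324, 1659, 1769, 2031, 2935, 2998, 3073, 3110, 3681, 4382]) (.leaf [513, 925, 1038, 1060, 1396, 1698, 1720, 2301, 2985, 3459, 4039, 4376, 4479])) (.node (.leaf [20, 185, 427, 672, 937, 2179, 2531, 2799, 2934, 3208, 3857, 4310, 4385]) (.leaf [125, 958, 1107, 1367, 2254, 2260, 2321, 2568, 3088, 3352, 3390, 3721, 4473])))))

def nbr2139 : Janko.Tree (List ℕ) :=
  (.node (.node (.node (.node (.node (.leaf [243, 373, 466, 1213, 1998, 2185, 2206, 2429, 2753, 3715, 3759, 4249, 4374]) (.leaf [571, 844, 1046, 1141, 1516, 2003, 2541, 2564, 3139, 3237, 3244, 4133, 4327])) (.leaf [190, 629, 1107, 1143, 1152, 1416, 1425, 1459, 2071, 2210, 2394, 2681, 2854])) (.node (.leaf [51, 562, 785, 1505, 1717, 2030, 2688, 3136, 3361, 3432, 3534, 3680, 4458]) (.leaf [125, 353, 884, 1010, 1589, 1808, 1907, 2382, 3666, 3953, 4120, 4142, 4159]))) (.node (.node (.leaf [899, 903, 1012, 1513, 1639, 2027, 2120, 2452, 2592, 3256, 3919, 4002, 4268])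 (.leaf [159, 474, 972, 1127, 1299, 1355, 1433, 1736, 2633, 2891, 3012, 3346, 4184])) (.node (.leaf [581, 1037, 1644, 1720, 2761, 3030, 3325, 3414, 3446, 3775, 4038, 4222, 4445]) (.leaf [39, 1017, 1091, 1518, 1601, 1690, 2030, 2404, 2455, 3111, 3651, 3856, 4007])))) (.node (.node (.node (.leaf [227, 555, 744, 1338, 1811, 1890, 2213, 2232, 2575, 2955, 3066, 4004, 4205]) (.leaf [207, 258, 666, 715, 738, 1459, 1622, 2249, 2393, 2945, 3158, 3452, 3537])) (.node (.leaf [138, 643, 668, 687, 903, 1017, 1283, 1581, 1707, 3679, 3800, 4212, 4376]) (.leaf [4, 97, 208, 931, 1297, 1425, 2680, 3221, 3714, 3721, 4115, 4249, 4307]))) (.node (.node (.leaf [730, 777, 1093, 1325, 1658, 1768, 2030, 2934, 2999, 3072, 3111, 3680, 4383]) (.leaf [512, 924, 1039, 1061, 1397, 1699, 1721, 2300, 2984, 3458, 4038, 4377, 4478])) (.node (.leaf [21, 184, 426, 673, 936, 2178, 2530, 2798, 2935, 3209, 3856, 4311, 4384]) (.leaf [124, 959, 1106, 1366, 2255, 2261, 2320, 2569, 3089, 3353, 3391, 3720, 4472])))))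

def nbr2140 : Janko.Tree (List ℕ) :=
  (.node (.node (.node (.node (.node (.leaf [244, 551, 1088, 1447, 1575, 1977, 2430, 3184, 3608, 3883, 4041, 4250, 4272]) (.leaf [1018, 1054, 1066, 1532, 1712, 1833, 2318, 3201, 3214, 3486, 3785, 4349, 4394])) (.leaf [630, 1144, 1419, 1460, 1544, 1645, 1918, 2072, 2213, 2397, 2574, 2727, 4222])) (.node (.leaf [660, 1221, 1508, 1539, 1720, 1782, 1867, 2300, 2965, 3299, 3712, 3907, 4411]) (.leaf [132, 804, 825, 855, 1210, 1223, 1261, 1541, 1687, 1946, 2039, 2457, 3326]))) (.node (.node (.leaf [904, 1642, 1940, 1951, 2491, 2509, 2880, 2909, 2927, 3602, 4006, 4142, 4168]) (.leaf [142, 495, 975, 1130, 1300, 1352, 2142, 2221, 2300, 3349, 3389, 3964, 4081])) (.node (.leaf [684, 736, 789, 1660, 2129, 2146, 2162, 2320, 2538, 3117, 3133, 3684, 4321]) (.leaf [256, 835, 854, 1522, 1610, 1695, 1921, 2035, 2065, 2537, 2845, 3405, 3706])))) (.node (.node (.node (.leaf [556, 988, 998, 1317, 1636, 1899, 2148, 2481, 2779, 3203, 3888, 4056, 4320]) (.leaf [154, 181, 747, 1393, 1730, 2007, 2118, 2408, 2476, 2585, 2697, 3303, 3570])) (.node (.leaf [538, 1183, 1241,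 1496, 1786, 1934, 1993, 3030, 3076, 3343, 3433, 3810, 4435]) (.leaf [411, 585, 1102, 1269, 1276, 2108, 2164, 2377, 2416, 2521, 2850, 3464, 4266]))) (.node (.node (.leaf [52, 1326, 1574, 2428, 2829, 3177, 3222, 3330, 3393, 3513, 3944, 3951, 4353]) (.leaf [206, 232, 421, 789, 1508, 2033, 2062, 2338, 2625, 2735, 3046, 3159, 3940])) (.node (.leaf [77, 218, 978, 1012, 1345, 1507, 2093, 2317, 2593, 2911, 3644, 3658, 3665]) (.leaf [243, 252, 451, 862, 868, 1982, 2382, 2498, 3328, 3368, 3931, 3995, 4291])))))

def nbr2141 : Janko.Tree (List ℕ) :=
  (.node (.node (.node (.node (.node (.leaf [245, 550, 1089, 1446, 1574, 1976, 2431, 3185, 3609, 3882, 4040, 4251, 4273]) (.leaf [1019, 1055, 1067, 1533, 1713, 1832, 2319, 3200, 3215, 3487, 3784, 4348, 4395])) (.leaf [631, 1145, 1418, 1461, 1545, 1644, 1919, 2073, 2212, 2396, 2575, 2726, 4223])) (.node (.leaf [661, 1220, 1509, 1538, 1721, 1783, 1866, 2301, 2964, 3298, 3713, 3906, 4410]) (.leaf [133, 805, 824, 854, 1211, 1222, 1260, 1540, 1686, 1947, 2038, 2456, 3327]))) (.node (.node (.leaf [905, 1643, 1941, 1950, 2490, 2508, 2881, 2908, 2926, 3603,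 4007, 4143, 4169]) (.leaf [143, 494, 974, 1131, 1301, 1353, 2143, 2220, 2301, 3348, 3388, 3965, 4080])) (.node (.leaf [685, 737, 788, 1661, 2128, 2147, 2163, 2321, 2539, 3116, 3132, 3685, 4320]) (.leaf [257, 834, 855, 1523, 1611, 1694, 1920, 2034, 2064, 2536, 2844, 3404, 3707])))) (.node (.node (.node (.leaf [557, 989, 999, 1316, 1637, 1898, 2149, 2480, 2778, 3202, 3889, 4057, 4321]) (.leaf [155, 180, 746, 1392, 1731, 2006, 2119, 2409, 2477, 2584, 2696, 3302, 3571])) (.node (.leaf [539, 1182, 1240, 1497, 1787, 1935, 1992, 3031, 3077, 3342, 3432, 3811, 4434]) (.leaf [410, 584, 1103, 1268, 1277, 2109, 2165, 2376, 2417, 2520, 2851, 3465, 4267]))) (.node (.node (.leaf [53, 1327, 1575, 2429, 2828, 3176, 3223, 3331, 3392, 3512, 3945, 3950, 4352]) (.leaf [207, 233, 420, 788, 1509, 2032, 2063, 2339, 2624, 2734, 3047, 3158, 3941])) (.node (.leaf [76, 219, 979, 1013, 1344, 1506, 2092, 2316, 2592, 2910, 3645, 3659, 3664]) (.leaf [242, 253, 450, 863, 869, 1983, 2383, 2499, 3329, 3369, 3930, 3994, 4290])))))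

def nbr2142 : Janko.Tree (List ℕ) :=
  (.node (.node (.node (.node (.node (.leaf [246, 530, 835, 1922, 1995, 2001, 2620, 3738, 3792, 4043, 4065, 4091, 4372]) (.leaf [624, 954, 1224, 1249, 1693, 1767, 1800, 2307, 2898, 3472, 3570, 4018, 4344])) (.leaf [293, 428, 535, 634, 638, 1109, 1464, 1535, 2401, 2859, 3687, 4117, 4264])) (.node (.leaf [362, 858, 1078, 1510, 1722, 1784, 2453, 2872, 3001, 3132, 3685, 3714, 4375]) (.leaf [136, 472, 511, 998, 1045, 1691, 2085, 2099, 2298, 2454, 2544, 3620, 4103]))) (.node (.node (.leaf [376, 463, 1107, 1180, 1219, 1293, 2070, 2188, 2624, 2960, 3208, 4079, 4136]) (.leaf [24, 1042, 1241, 1448, 1808, 1955, 2537, 3514, 3584, 3812, 3903, 4340, 4434])) (.node (.leaf [686, 1074, 1251, 1663, 2148, 2164, 2322, 2393, 2489, 2744, 2944, 4022, 4217]) (.leaf [352, 386, 1157, 1216, 1237, 1255, 1857, 1912, 2062, 2084, 2852, 2873, 3046])))) (.node (.node (.node (.leaf [558, 688, 1000, 1319, 1638, 1646, 2861, 3092, 3166, 3205, 3395, 4023, 4392]) (.leaf [183, 749, 1083, 1762, 2442, 2679, 2712, 2940, 3527, 3540, 3874, 3992, 4055])) (.node (.leaf [249, 406, 468, 741,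 1124, 1196, 1243, 1347, 1664, 1788, 2791, 2947, 3337]) (.leaf [14, 348, 413, 587, 2697, 2852, 3262, 3271, 3293, 3660, 4105, 4243, 4440]))) (.node (.node (.leaf [1328, 1442, 1576, 2430, 2432, 2468, 2550, 3045, 3127, 3299, 4274, 4342, 4479]) (.leaf [210, 425, 1157, 1418, 1693, 1919, 2033, 2063, 2080, 3534, 4008, 4095, 4205])) (.node (.leaf [884, 1549, 1607, 1632, 1872, 1937, 2032, 2080, 2687, 2729, 3318, 3594, 4336]) (.leaf [432, 449, 768, 953, 1372, 1383, 1395, 2588, 2897, 3295, 3330, 3930, 3995])))))

def nbr2143 : Janko.Tree (List ℕ) :=
  (.node (.node (.node (.node (.node (.leaf [247, 531, 834, 1923, 1994, 2000, 2621, 3739, 3793, 4042, 4064, 4090, 4373]) (.leaf [625, 955, 1225, 1248, 1692, 1766, 1801, 2306, 2899, 3473, 3571, 4019, 4345])) (.leaf [292, 429, 534, 635, 639, 1108, 1465, 1534, 2400, 2858, 3686, 4116, 4265])) (.node (.leaf [363, 859, 1079, 1511, 1723, 1785, 2452, 2873, 3000, 3133, 3684, 3715, 4374]) (.leaf [137, 473, 510, 999, 1044, 1690, 2084, 2098, 2299, 2455, 2545, 3621, 4102]))) (.node (.node (.leaf [377, 462, 1106, 1181, 1218, 1292, 2071, 2189, 2625, 2961, 3209, 4078,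 4137]) (.leaf [25, 1043, 1240, 1449, 1809, 1954, 2536, 3515, 3585, 3813, 3902, 4341, 4435])) (.node (.leaf [687, 1075, 1250, 1662, 2149, 2165, 2323, 2392, 2488, 2745, 2945, 4023, 4216]) (.leaf [353, 387, 1156, 1217, 1236, 1254, 1856, 1913, 2063, 2085, 2853, 2872, 3047])))) (.node (.node (.node (.leaf [559, 689, 1001, 1318, 1639, 1647, 2860, 3093, 3167, 3204, 3394, 4022, 4393]) (.leaf [182, 748, 1082, 1763, 2443, 2678, 2713, 2941, 3526, 3541, 3875, 3993, 4054])) (.node (.leaf [248, 407, 469, 740, 1125, 1197, 1242, 1346, 1665, 1789, 2790, 2946, 3336]) (.leaf [15, 349, 412, 586, 2696, 2853, 3263, 3270, 3292, 3661, 4104, 4242, 4441]))) (.node (.node (.leaf [1329, 1443, 1577, 2431, 2433, 2469, 2551, 3044, 3126, 3298, 4275, 4343, 4478]) (.leaf [211, 424, 1156, 1419, 1692, 1918, 2032, 2062, 2081, 3535, 4009, 4094, 4204])) (.node (.leaf [885, 1548, 1606, 1633, 1873, 1936, 2033, 2081, 2686, 2728, 3319, 3595, 4337]) (.leaf [433, 448, 769, 952, 1373, 1382, 1394, 2589, 2896, 3294, 3331, 3931, 3994])))))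

def nbr2144 : Janko.Tree (List ℕ) :=
  (.node (.node (.node (.node (.node (.leaf [248, 837, 1139, 1347, 1457, 1924, 2003, 2462, 2622, 3019, 3138, 4033, 4182]) (.leaf [289, 695, 722, 752, 925, 1156, 1470, 1812, 1927, 2756, 2781, 3825, 4161])) (.leaf [119, 165, 179, 556, 998, 1008, 1427, 1668, 2522, 2863, 2988, 4304, 4454])) (.node (.leaf [46, 110, 401, 566, 841, 1491, 1815, 1952, 2628, 2994, 3068, 3268, 4170]) (.leaf [117, 163, 202, 336, 436, 2049, 2172, 2666, 2750, 3244, 4199, 4304, 4391]))) (.node (.node (.leaf [880, 906, 1295, 1356, 1644, 1738, 1776, 2072, 2962, 3022, 3916, 4180, 4445]) (.leaf [871, 1034, 1450, 2386, 3148, 3187, 3373, 3460, 3640, 3734, 3870, 4259, 4437])) (.node (.leaf [110, 433, 916, 1090, 1108, 1518, 2156, 2641, 2762, 2807, 3948, 4031, 4219]) (.leaf [67, 125, 1170, 1220, 1556, 2098, 2456, 3301, 3667, 3806, 3907, 4014, 4282])))) (.node (.node (.node (.leaf [560, 698, 1640, 2384, 3003, 3418, 3608, 3684, 3704, 3855, 4034, 4040, 4334]) (.leaf [50, 440, 687, 1341, 1887, 2577, 2580, 2944, 3292, 3368, 3433, 3930, 4416])) (.node (.leaf [188, 829, 1178, 1245, 1349, 1497,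 1624, 1732, 1790, 3191, 3339, 3810, 4027]) (.leaf [125, 173, 280, 638, 2043, 2320, 3250, 3273, 3379, 3381, 3807, 3915, 4103]))) (.node (.node (.leaf [623, 728, 879, 1103, 1122, 1188, 1330, 1834, 2203, 2216, 2333, 2410, 2499]) (.leaf [592, 884, 1210, 1515, 1687, 2029, 2122, 2426, 3099, 3595, 3886, 4003, 4453])) (.node (.leaf [73, 1002, 1269, 2108, 2319, 2626, 2736, 3084, 3141, 3443, 3663, 3978, 4423]) (.leaf [284, 286, 1812, 2000, 2411, 2653, 2693, 2706, 2765, 2878, 3399, 3421, 3553])))))

def nbr2145 : Janko.Tree (List ℕ) :=
  (.node (.node (.node (.node (.node (.leaf [249, 836, 1138, 1346, 1456, 1925, 2002, 2463, 2623, 3018, 3139, 4032, 4183]) (.leaf [288, 694, 723, 753, 924, 1157, 1471, 1813, 1926, 2757, 2780, 3824, 4160])) (.leaf [118, 164, 178, 557, 999, 1009, 1426, 1669, 2523, 2862, 2989, 4305, 4455])) (.node (.leaf [47, 111, 400, 567, 840, 1490, 1814, 1953, 2629, 2995, 3069, 3269, 4171]) (.leaf [116, 162, 203, 337, 437, 2048, 2173, 2667, 2751, 3245, 4198, 4305, 4390]))) (.node (.node (.leaf [881, 907, 1294, 1357, 1645, 1739, 1777, 2073, 2963, 3023, 3917, 4181, 4444]) (.leaf [870,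 1035, 1451, 2387, 3149, 3186, 3372, 3461, 3641, 3735, 3871, 4258, 4436])) (.node (.leaf [111, 432, 917, 1091, 1109, 1519, 2157, 2640, 2763, 2806, 3949, 4030, 4218]) (.leaf [66, 124, 1171, 1221, 1557, 2099, 2457, 3300, 3666, 3807, 3906, 4015, 4283])))) (.node (.node (.node (.leaf [561, 699, 1641, 2385, 3002, 3419, 3609, 3685, 3705, 3854, 4035, 4041, 4335]) (.leaf [51, 441, 686, 1340, 1886, 2576, 2581, 2945, 3293, 3369, 3432, 3931, 4417])) (.node (.leaf [189, 828, 1179, 1244, 1348, 1496, 1625, 1733, 1791, 3190, 3338, 3811, 4026]) (.leaf [124, 172, 281, 639, 2042, 2321, 3251, 3272, 3378, 3380, 3806, 3914, 4102]))) (.node (.node (.leaf [622, 729, 878, 1102, 1123, 1189, 1331, 1835, 2202, 2217, 2332, 2411, 2498]) (.leaf [593, 885, 1211, 1514, 1686, 2028, 2123, 2427, 3098, 3594, 3887, 4002, 4452])) (.node (.leaf [72, 1003, 1268, 2109, 2318, 2627, 2737, 3085, 3140, 3442, 3662, 3979, 4422]) (.leaf [285, 287, 1813, 2001, 2410, 2652, 2692, 2707, 2764, 2879, 3398, 3420, 3552])))))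

def nbr2146 : Janko.Tree (List ℕ) :=
  (.node (.node (.node (.node (.node (.leaf [250, 530, 1477, 1937, 2049, 2448, 2905, 2999, 3391, 3973, 4055, 4362, 4430]) (.leaf [167, 360, 643, 686, 914, 941, 1250, 1838, 2920, 2937, 3913, 3918, 4003])) (.leaf [82, 183, 773, 976, 1651, 2245, 2420, 2524, 2867, 3642, 3860, 4013, 4015])) (.node (.leaf [58, 291, 475, 548, 550, 575, 1446, 1672, 1727, 1821, 3544, 3693, 3905]) (.leaf [74, 127, 338, 525, 654, 1879, 1941, 2525, 2982, 3221, 3642, 3787, 4009]))) (.node (.node (.leaf [42, 688, 908, 1410, 1476, 1488, 1646, 2836, 2864, 2970, 3374, 3689, 4360]) (.leaf [577, 944, 1096, 1716, 1959, 2369, 2789, 3054, 3442, 3491, 3724, 3979, 4246])) (.node (.leaf [93, 141, 387, 784, 1112, 1895, 1944, 2337, 2351, 2653, 2764, 3202, 3676]) (.leaf [534, 811, 867, 869, 964, 2102, 2458, 3093, 3328, 3959, 4087, 4308, 4443])))) (.node (.node (.node (.leaf [562, 616, 1013, 1642, 1696, 3238, 3382, 3427, 3610, 3977, 4163, 4217, 4244]) (.leaf [566, 776, 1078, 1399, 1815, 2011, 2293, 2571, 2582, 2701, 2950, 3001, 4157])) (.node (.leaf [38, 72, 214, 683, 684, 1185, 1484, 1737,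 2037, 2366, 2737, 2860, 3007]) (.leaf [52, 127, 640, 1446, 1642, 1885, 2588, 3331, 3603, 3875, 3882, 4045, 4245]))) (.node (.node (.leaf [78, 389, 464, 529, 1124, 1196, 1332, 1373, 1648, 2335, 2501, 4104, 4263]) (.leaf [594, 886, 1212, 1636, 2121, 2129, 2617, 2937, 3101, 3544, 3597, 4002, 4386])) (.node (.leaf [138, 348, 1004, 1409, 2131, 2605, 2697, 2749, 3445, 3678, 3924, 4311, 4319]) (.leaf [0, 554, 777, 1912, 2063, 2735, 3042, 3195, 3228, 3402, 3504, 4008, 4288])))))

def nbr2147 : Janko.Tree (List ℕ) :=
  (.node (.node (.node (.node (.node (.leaf [251, 531, 1476, 1936, 2048, 2449, 2904, 2998, 3390, 3972, 4054, 4363, 4431]) (.leaf [166, 361, 642, 687, 915, 940, 1251, 1839, 2921, 2936, 3912, 3919, 4002])) (.leaf [83, 182, 772, 977, 1650, 2244, 2421, 2525, 2866, 3643, 3861, 4012, 4014])) (.node (.leaf [59, 290, 474, 549, 551, 574, 1447, 1673, 1726, 1820, 3545, 3692, 3904]) (.leaf [75, 126, 339, 524, 655, 1878, 1940, 2524, 2983, 3220, 3643, 3786, 4008]))) (.node (.node (.leaf [43, 689, 909, 1411, 1477, 1489, 1647, 2837, 2865, 2971, 3375, 3688, 4361]) (.leaf [576, 945, 1097, 1717,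 1958, 2368, 2788, 3055, 3443, 3490, 3725, 3978, 4247])) (.node (.leaf [92, 140, 386, 785, 1113, 1894, 1945, 2336, 2350, 2652, 2765, 3203, 3677]) (.leaf [535, 810, 866, 868, 965, 2103, 2459, 3092, 3329, 3958, 4086, 4309, 4442])))) (.node (.node (.node (.leaf [563, 617, 1012, 1643, 1697, 3239, 3383, 3426, 3611, 3976, 4162, 4216, 4245]) (.leaf [567, 777, 1079, 1398, 1814, 2010, 2292, 2570, 2583, 2700, 2951, 3000, 4156])) (.node (.leaf [39, 73, 215, 682, 685, 1184, 1485, 1736, 2036, 2367, 2736, 2861, 3006]) (.leaf [53, 126, 641, 1447, 1643, 1884, 2589, 3330, 3602, 3874, 3883, 4044, 4244]))) (.node (.node (.leaf [79, 388, 465, 528, 1125, 1197, 1333, 1372, 1649, 2334, 2500, 4105, 4262]) (.leaf [595, 887, 1213, 1637, 2120, 2128, 2616, 2936, 3100, 3545, 3596, 4003, 4387])) (.node (.leaf [139, 349, 1005, 1408, 2130, 2604, 2696, 2748, 3444, 3679, 3925, 4310, 4318]) (.leaf [1, 555, 776, 1913, 2062, 2734, 3043, 3194, 3229, 3403, 3505, 4009, 4289])))))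

def nbr2148 : Janko.Tree (List ℕ) :=
  (.node (.node (.node (.node (.node (.leaf [160, 179, 252, 261, 541, 671, 1728, 2095, 2357, 2732, 2968, 3163, 4094]) (.leaf [207, 280, 650, 947, 1144, 1404, 1902, 1942, 2420, 2614, 3653, 3756, 4223])) (.leaf [203, 532, 729, 1031, 1557, 1814, 2126, 2456, 2615, 2750, 2790, 3474, 3638])) (.node (.leaf [60, 172, 280, 468, 1064, 1116, 1405, 1440, 1823, 2529, 2831, 3020, 3389]) (.leaf [104, 220, 308, 329, 726, 1167, 1794, 2375, 2540, 2941, 2952, 3246, 4118]))) (.node (.node (.leaf [44, 164, 366, 910, 1202, 1412, 1490, 1668, 2866, 3010, 3441, 3821, 3938]) (.leaf [267, 482, 656, 751, 1862, 2047, 2304, 2308, 2344, 3463, 3512, 3756, 4184])) (.node (.leaf [95, 437, 1114, 1946, 2152, 2284, 2753, 2766, 2802, 3204, 3326, 3425, 3515]) (.leaf [284, 869, 1471, 1634, 2104, 2460, 2490, 2651, 3095, 3397, 3932, 4089, 4366])))) (.node (.node (.node (.leaf [564, 1426, 1689, 2077, 2223, 2282, 2522, 2800, 3009, 3290, 3494, 3508, 4085]) (.leaf [206, 276, 505, 997, 1075, 2483, 2944, 2990, 3177, 3351, 3448, 3656, 4175])) (.node (.leaf [40, 495, 652, 686, 1187, 1444, 1486,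 1653, 1957, 2748, 2862, 3296, 3679]) (.leaf [129, 231, 317, 498, 1064, 1442, 3126, 3291, 3605, 3877, 3884, 4031, 4047]))) (.node (.node (.leaf [200, 398, 546, 579, 625, 1041, 1178, 1375, 1801, 2115, 2369, 3338, 4402]) (.leaf [301, 984, 1018, 1214, 2235, 2381, 2501, 2833, 2878, 3399, 3602, 4007, 4386])) (.node (.leaf [245, 932, 954, 1688, 2109, 2164, 2626, 2628, 2746, 2763, 2875, 3069, 4250]) (.leaf [591, 604, 765, 1390, 1794, 2168, 2434, 2495, 2722, 2950, 3199, 3309, 4428])))))

def nbr2149 : Janko.Tree (List ℕ) :=
  (.node (.node (.node (.node (.node (.leaf [161, 178, 253, 260, 540, 670, 1729, 2094, 2356, 2733, 2969, 3162, 4095]) (.leaf [206, 281, 651, 946, 1145, 1405, 1903, 1943, 2421, 2615, 3652, 3757, 4222])) (.leaf [202, 533, 728, 1030, 1556, 1815, 2127, 2457, 2614, 2751, 2791, 3475, 3639])) (.node (.leaf [61, 173, 281, 469, 1065, 1117, 1404, 1441, 1822, 2528, 2830, 3021, 3388]) (.leaf [105, 221, 309, 328, 727, 1166, 1795, 2374, 2541, 2940, 2953, 3247, 4119]))) (.node (.node (.leaf [45, 165, 367, 911, 1203, 1413, 1491, 1669, 2867, 3011, 3440, 3820, 3939]) (.leaf [266, 483, 657,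 750, 1863, 2046, 2305, 2309, 2345, 3462, 3513, 3757, 4185])) (.node (.leaf [94, 436, 1115, 1947, 2153, 2285, 2752, 2767, 2803, 3205, 3327, 3424, 3514]) (.leaf [285, 868, 1470, 1635, 2105, 2461, 2491, 2650, 3094, 3396, 3933, 4088, 4367])))) (.node (.node (.node (.leaf [565, 1427, 1688, 2076, 2222, 2283, 2523, 2801, 3008, 3291, 3495, 3509, 4084]) (.leaf [207, 277, 504, 996, 1074, 2482, 2945, 2991, 3176, 3350, 3449, 3657, 4174])) (.node (.leaf [41, 494, 653, 687, 1186, 1445, 1487, 1652, 1956, 2749, 2863, 3297, 3678]) (.leaf [128, 230, 316, 499, 1065, 1443, 3127, 3290, 3604, 3876, 3885, 4030, 4046]))) (.node (.node (.leaf [201, 399, 547, 578, 624, 1040, 1179, 1374, 1800, 2114, 2368, 3339, 4403]) (.leaf [300, 985, 1019, 1215, 2234, 2380, 2500, 2832, 2879, 3398, 3603, 4006, 4387])) (.node (.leaf [244, 933, 955, 1689, 2108, 2165, 2627, 2629, 2747, 2762, 2874, 3068, 4251]) (.leaf [590, 605, 764, 1391, 1795, 2169, 2435, 2494, 2723, 2951, 3198, 3308, 4429])))))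

def nbr2150 : Janko.Tree (List ℕ) :=
  (.node (.node (.node (.node (.node (.leaf [107, 162, 254, 2097, 2359, 2844, 2970, 3075, 3103, 3305, 3518, 3805, 4333]) (.leaf [406, 611, 691, 801, 1053, 1446, 1620, 2056, 2220, 3164, 3470, 3828, 4474])) (.leaf [735, 786, 1017, 1514, 1785, 1867, 2281, 2405, 2462, 3062, 3114, 3158, 3907])) (.node (.leaf [178, 267, 541, 1165, 1563, 1802, 2180, 2669, 2779, 2988, 3018, 3700, 4357]) (.leaf [133, 224, 312, 433, 676, 1058, 1934, 2011, 2157, 2303, 3187, 3248, 3461]))) (.node (.node (.leaf [656, 680, 749, 1648, 1742, 1863, 1892, 2121, 2136, 2363, 2998, 3053, 4054]) (.leaf [289, 484, 727, 1128, 1331, 1414, 2103, 2244, 2306, 3473, 3564, 3965, 4275])) (.node (.leaf [306, 498, 973, 1182, 1241, 1842, 2154, 2633, 2974, 3210, 3442, 3573, 3719]) (.leaf [374, 418, 515, 717, 1157, 1236, 1471, 1790, 2590, 2717, 2813, 3517, 3796])))) (.node (.node (.node (.leaf [566, 877, 1044, 1122, 1428, 1691, 2067, 2225, 3359, 3496, 3856, 4168, 4459]) (.leaf [210, 1021, 1159, 1225, 1527, 1532, 1794, 2950, 3113, 3571, 3592, 3664, 4211])) (.node (.leaf [50, 194, 415, 515, 1976, 2344,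 2591, 2898, 3137, 3195, 3561, 3754, 4314]) (.leaf [133, 226, 1405, 1612, 1706, 2047, 2309, 2441, 2512, 2603, 3039, 4212, 4286]))) (.node (.node (.leaf [47, 627, 1043, 1126, 1162, 1377, 1796, 2371, 2555, 2992, 3225, 4184, 4474]) (.leaf [356, 396, 607, 822, 1153, 1901, 2363, 3052, 3146, 3189, 4150, 4240, 4355])) (.node (.leaf [138, 349, 445, 597, 956, 1517, 1690, 2241, 2630, 2877, 3071, 3293, 3650]) (.leaf [3, 681, 856, 1168, 1422, 2091, 2679, 3148, 3372, 3713, 3718, 4112, 4390])))))

def nbr2151 : Janko.Tree (List ℕ) :=
  (.node (.node (.node (.node (.node (.leaf [106, 163, 255, 2096, 2358, 2845, 2971, 3074, 3102, 3304, 3519, 3804, 4332]) (.leaf [407, 610, 690, 800, 1052, 1447, 1621, 2057, 2221, 3165, 3471, 3829, 4475])) (.leaf [734, 787, 1016, 1515, 1784, 1866, 2280, 2404, 2463, 3063, 3115, 3159, 3906])) (.node (.leaf [179, 266, 540, 1164, 1562, 1803, 2181, 2668, 2778, 2989, 3019, 3701, 4356]) (.leaf [132, 225, 313, 432, 677, 1059, 1935, 2010, 2156, 2302, 3186, 3249, 3460]))) (.node (.node (.leaf [657, 681, 748, 1649, 1743, 1862, 1893, 2120, 2137, 2362, 2999, 3052, 4055]) (.leaf [288,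 485, 726, 1129, 1330, 1415, 2102, 2245, 2307, 3472, 3565, 3964, 4274])) (.node (.leaf [307, 499, 972, 1183, 1240, 1843, 2155, 2632, 2975, 3211, 3443, 3572, 3718]) (.leaf [375, 419, 514, 716, 1156, 1237, 1470, 1791, 2591, 2716, 2812, 3516, 3797])))) (.node (.node (.node (.leaf [567, 876, 1045, 1123, 1429, 1690, 2066, 2224, 3358, 3497, 3857, 4169, 4458]) (.leaf [211, 1020, 1158, 1224, 1526, 1533, 1795, 2951, 3112, 3570, 3593, 3665, 4210])) (.node (.leaf [51, 195, 414, 514, 1977, 2345, 2590, 2899, 3136, 3194, 3560, 3755, 4315]) (.leaf [132, 227, 1404, 1613, 1707, 2046, 2308, 2440, 2513, 2602, 3038, 4213, 4287]))) (.node (.node (.leaf [46, 626, 1042, 1127, 1163, 1376, 1797, 2370, 2554, 2993, 3224, 4185, 4475]) (.leaf [357, 397, 606, 823, 1152, 1900, 2362, 3053, 3147, 3188, 4151, 4241, 4354])) (.node (.leaf [139, 348, 444, 596, 957, 1516, 1691, 2240, 2631, 2876, 3070, 3292, 3651]) (.leaf [2, 680, 857, 1169, 1423, 2090, 2678, 3149, 3373, 3712, 3719, 4113, 4391])))))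

def nbr2152 : Janko.Tree (List ℕ) :=
  (.node (.node (.node (.node (.node (.leaf [67, 256, 337, 372, 763, 1805, 2976, 3261, 3727, 3818, 3906, 4134, 4268]) (.leaf [162, 267, 903, 987, 1195, 1760, 2358, 2479, 2713, 3918, 4201, 4302, 4357])) (.leaf [532, 813, 1540, 1815, 2262, 2444, 2788, 2794, 3071, 3481, 3490, 3825, 4220])) (.node (.leaf [107, 958, 1128, 1167, 1537, 1552, 1565, 2990, 3688, 3804, 4359, 4392, 4472]) (.leaf [36, 65, 335, 378, 1235, 1281, 2407, 2870, 3035, 3341, 3784, 3858, 4369]))) (.node (.node (.leaf [384, 452, 910, 912, 1099, 1583, 1893, 2584, 2854, 3440, 3599, 3830, 4158]) (.leaf [37, 378, 486, 721, 1248, 1734, 2130, 2236, 3182, 3445, 3475, 4115, 4433])) (.node (.leaf [24, 248, 1243, 1796, 1827, 2011, 2156, 2496, 2570, 2635, 3369, 3453, 4160]) (.leaf [380, 723, 741, 1156, 1789, 2132, 2453, 2703, 2813, 2818, 2872, 3777, 4277])))) (.node (.node (.node (.leaf [568, 658, 666, 692, 1859, 2113, 2144, 2335, 2771, 3537, 3661, 4186, 4440]) (.leaf [649, 937, 1922, 1996, 2212, 2396, 2834, 2956, 3794, 3857, 3960, 4042, 4464])) (.node (.leaf [78, 142, 388, 519, 1131, 1134, 1359,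 1764, 1819, 2002, 2511, 2962, 3180]) (.leaf [153, 347, 648, 848, 1576, 1718, 1781, 2102, 2576, 3044, 3472, 3958, 4070]))) (.node (.node (.leaf [239, 629, 880, 1190, 1304, 1334, 1537, 1798, 2053, 2111, 2520, 2608, 3227]) (.leaf [1130, 1538, 1631, 2413, 2962, 3349, 3532, 3734, 3870, 4014, 4282, 4350, 4370])) (.node (.leaf [91, 821, 2325, 2532, 2638, 2683, 2750, 2791, 3244, 3336, 3512, 3521, 4313]) (.leaf [94, 288, 1087, 1126, 1355, 1697, 1879, 1927, 2072, 3221, 3833, 3926, 4217])))))

def nbr2153 : Janko.Tree (List ℕ) :=
  (.node (.node (.node (.node (.node (.leaf [66, 257, 336, 373, 762, 1804, 2977, 3260, 3726, 3819, 3907, 4135, 4269]) (.leaf [163, 266, 902, 986, 1194, 1761, 2359, 2478, 2712, 3919, 4200, 4303, 4356])) (.leaf [533, 812, 1541, 1814, 2263, 2445, 2789, 2795, 3070, 3480, 3491, 3824, 4221])) (.node (.leaf [106, 959, 1129, 1166, 1536, 1553, 1564, 2991, 3689, 3805, 4358, 4393, 4473]) (.leaf [37, 64, 334, 379, 1234, 1280, 2406, 2871, 3034, 3340, 3785, 3859, 4368]))) (.node (.node (.leaf [385, 453, 911, 913, 1098, 1582, 1892, 2585, 2855, 3441, 3598, 3831, 4159]) (.leaf [36, 379,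 487, 720, 1249, 1735, 2131, 2237, 3183, 3444, 3474, 4114, 4432])) (.node (.leaf [25, 249, 1242, 1797, 1826, 2010, 2157, 2497, 2571, 2634, 3368, 3452, 4161]) (.leaf [381, 722, 740, 1157, 1788, 2133, 2452, 2702, 2812, 2819, 2873, 3776, 4276])))) (.node (.node (.node (.leaf [569, 659, 667, 693, 1858, 2112, 2145, 2334, 2770, 3536, 3660, 4187, 4441]) (.leaf [648, 936, 1923, 1997, 2213, 2397, 2835, 2957, 3795, 3856, 3961, 4043, 4465])) (.node (.leaf [79, 143, 389, 518, 1130, 1135, 1358, 1765, 1818, 2003, 2510, 2963, 3181]) (.leaf [152, 346, 649, 849, 1577, 1719, 1780, 2103, 2577, 3045, 3473, 3959, 4071]))) (.node (.node (.leaf [238, 628, 881, 1191, 1305, 1335, 1536, 1799, 2052, 2110, 2521, 2609, 3226]) (.leaf [1131, 1539, 1630, 2412, 2963, 3348, 3533, 3735, 3871, 4015, 4283, 4351, 4371])) (.node (.leaf [90, 820, 2324, 2533, 2639, 2682, 2751, 2790, 3245, 3337, 3513, 3520, 4312]) (.leaf [95, 289, 1086, 1127, 1354, 1696, 1878, 1926, 2073, 3220, 3832, 3927, 4216])))))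

def nbr2154 : Janko.Tree (List ℕ) :=
  (.node (.node (.node (.node (.node (.leaf [69, 258, 339, 471, 1088, 1339, 1355, 2638, 3133, 3150, 4004, 4127, 4453]) (.leaf [524, 976, 989, 1128, 1474, 1845, 2427, 2481, 3080, 3886, 4232, 4381, 4472])) (.leaf [747, 777, 928, 1497, 1625, 1650, 1658, 1710, 2700, 3182, 3425, 3980, 4178])) (.node (.leaf [275, 416, 561, 614, 745, 1286, 2077, 2273, 2581, 2675, 3358, 3579, 4219]) (.leaf [38, 513, 713, 1169, 1621, 1626, 1737, 3086, 3106, 3200, 3438, 3458, 3486]))) (.node (.node (.leaf [386, 454, 914, 1095, 1585, 1856, 2575, 2920, 3027, 3541, 3601, 4016, 4098]) (.leaf [416, 490, 753, 935, 1075, 1236, 1470, 2310, 2482, 2488, 2651, 3371, 4341])) (.node (.leaf [320, 1034, 1245, 1335, 1595, 1798, 1829, 1917, 2158, 2572, 2637, 3190, 3575]) (.leaf [324, 495, 686, 1017, 1328, 1785, 2253, 2432, 3617, 3641, 3734, 3913, 4371])))) (.node (.node (.node (.leaf [10, 717, 792, 898, 1992, 2844, 3356, 3481, 3517, 3519, 3698, 3996, 4268]) (.leaf [215, 1098, 1470, 1924, 1926, 2037, 2355, 2376, 2622, 3487, 3832, 3895, 3986])) (.node (.leaf [106, 200, 875, 1070, 1361, 1696,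 1766, 1800, 1841, 2781, 2907, 3294, 3610]) (.leaf [149, 575, 927, 1200, 1535, 1566, 1606, 1714, 1873, 2782, 3942, 4080, 4151]))) (.node (.node (.leaf [241, 418, 631, 882, 1336, 1468, 1539, 1570, 2113, 2549, 2839, 3661, 3696]) (.leaf [892, 1132, 1261, 2063, 2415, 2731, 2743, 2873, 3340, 3784, 3872, 4196, 4277])) (.node (.leaf [265, 654, 829, 1501, 1860, 2327, 2342, 2640, 2982, 3338, 3523, 3859, 4275]) (.leaf [422, 697, 927, 1201, 1218, 1618, 1739, 2018, 2425, 2960, 2975, 3409, 4181])))))

def nbr2155 : Janko.Tree (List ℕ) :=
  (.node (.node (.node (.node (.node (.leaf [68, 259, 338, 470, 1089, 1338, 1354, 2639, 3132, 3151, 4005, 4126, 4452]) (.leaf [525, 977, 988, 1129, 1475, 1844, 2426, 2480, 3081, 3887, 4233, 4380, 4473])) (.leaf [746, 776, 929, 1496, 1624, 1651, 1659, 1711, 2701, 3183, 3424, 3981, 4179])) (.node (.leaf [274, 417, 560, 615, 744, 1287, 2076, 2272, 2580, 2674, 3359, 3578, 4218]) (.leaf [39, 512, 712, 1168, 1620, 1627, 1736, 3087, 3107, 3201, 3439, 3459, 3487]))) (.node (.node (.leaf [387, 455, 915, 1094, 1584, 1857, 2574, 2921, 3026, 3540, 3600, 4017, 4099]) (.leaf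 [417, 491, 752, 934, 1074, 1237, 1471, 2311, 2483, 2489, 2650, 3370, 4340])) (.node (.leaf [321, 1035, 1244, 1334, 1594, 1799, 1828, 1916, 2159, 2573, 2636, 3191, 3574]) (.leaf [325, 494, 687, 1016, 1329, 1784, 2252, 2433, 3616, 3640, 3735, 3912, 4370])))) (.node (.node (.node (.leaf [11, 716, 793, 899, 1993, 2845, 3357, 3480, 3516, 3518, 3699, 3997, 4269]) (.leaf [214, 1099, 1471, 1925, 1927, 2036, 2354, 2377, 2623, 3486, 3833, 3894, 3987])) (.node (.leaf [107, 201, 874, 1071, 1360, 1697, 1767, 1801, 1840, 2780, 2906, 3295, 3611]) (.leaf [148, 574, 926, 1201, 1534, 1567, 1607, 1715, 1872, 2783, 3943, 4081, 4150]))) (.node (.node (.leaf [240, 419, 630, 883, 1337, 1469, 1538, 1571, 2112, 2548, 2838, 3660, 3697]) (.leaf [893, 1133, 1260, 2062, 2414, 2730, 2742, 2872, 3341, 3785, 3873, 4197, 4276])) (.node (.leaf [264, 655, 828, 1500, 1861, 2326, 2343, 2641, 2983, 3339, 3522, 3858, 4274]) (.leaf [423, 696, 926, 1200, 1219, 1619, 1738, 2019, 2424, 2961, 2974, 3408, 4180])))))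

def nbr2156 : Janko.Tree (List ℕ) :=
  (.node (.node (.node (.node (.node (.leaf [260, 1471, 2462, 2967, 2978, 3062, 3125, 3516, 3650, 3933, 3936, 4268, 4340]) (.leaf [885, 988, 1256, 1374, 1848, 1937, 2427, 2965, 3008, 3239, 3290, 3727, 3926])) (.leaf [197, 466, 831, 1023, 1178, 1272, 2003, 2511, 2566, 3018, 4237, 4357, 4425])) (.node (.leaf [67, 1132, 1134, 1312, 1624, 2583, 3180, 3250, 3260, 3425, 3806, 4059, 4196]) (.leaf [122, 218, 369, 585, 591, 749, 1806, 2014, 2834, 3098, 3465, 4428, 4465]))) (.node (.node (.leaf [388, 817, 916, 922, 988, 1123, 1352, 2067, 2161, 2314, 2856, 4057, 4109]) (.leaf [239, 492, 784, 937, 982, 1077, 1819, 1966, 2484, 2653, 3420, 3479, 3871])) (.node (.leaf [110, 150, 647, 963, 1715, 2156, 2363, 2549, 2995, 3354, 3691, 4151, 4476]) (.leaf [638, 1748, 1905, 2270, 2389, 2400, 2694, 3227, 3662, 3843, 4115, 4317, 4456])))) (.node (.node (.node (.leaf [12, 168, 536, 719, 1686, 1746, 1875, 1994, 2174, 3234, 3695, 3793, 4453]) (.leaf [653, 942, 1094, 1957, 2675, 2958, 3155, 3189, 3270, 3420, 3489, 3814, 4050])) (.node (.leaf [200, 506, 648, 1693, 1766, 1996,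 2080, 2201, 2326, 3401, 4025, 4337, 4379]) (.leaf [104, 237, 772, 1070, 2172, 2289, 2619, 2667, 2928, 2973, 3627, 3999, 4295]))) (.node (.node (.leaf [267, 624, 1076, 1205, 1338, 2297, 2372, 2670, 3463, 3563, 3732, 3760, 4364]) (.leaf [447, 633, 1136, 1190, 1438, 1898, 2054, 2399, 2560, 2655, 2917, 2925, 3380])) (.node (.leaf [272, 918, 1203, 1638, 1921, 2440, 2644, 2844, 2861, 3038, 3216, 3364, 3885]) (.leaf [22, 424, 1777, 1779, 1931, 2043, 2197, 2413, 2417, 2514, 2962, 3181, 3250])))))

def nbr2157 : Janko.Tree (List ℕ) :=
  (.node (.node (.node (.node (.node (.leaf [261, 1470, 2463, 2966, 2979, 3063, 3124, 3517, 3651, 3932, 3937, 4269, 4341]) (.leaf [884, 989, 1257, 1375, 1849, 1936, 2426, 2964, 3009, 3238, 3291, 3726, 3927])) (.leaf [196, 467, 830, 1022, 1179, 1273, 2002, 2510, 2567, 3019, 4236, 4356, 4424])) (.node (.leaf [66, 1133, 1135, 1313, 1625, 2582, 3181, 3251, 3261, 3424, 3807, 4058, 4197]) (.leaf [123, 219, 368, 584, 590, 748, 1807, 2015, 2835, 3099, 3464, 4429, 4464]))) (.node (.node (.leaf [389, 816, 917, 923, 989, 1122, 1353, 2066, 2160, 2315, 2857, 4056, 4108]) (.leaf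 [238, 493, 785, 936, 983, 1076, 1818, 1967, 2485, 2652, 3421, 3478, 3870])) (.node (.leaf [111, 151, 646, 962, 1714, 2157, 2362, 2548, 2994, 3355, 3690, 4150, 4477]) (.leaf [639, 1749, 1904, 2271, 2388, 2401, 2695, 3226, 3663, 3842, 4114, 4316, 4457])))) (.node (.node (.node (.leaf [13, 169, 537, 718, 1687, 1747, 1874, 1995, 2175, 3235, 3694, 3792, 4452]) (.leaf [652, 943, 1095, 1956, 2674, 2959, 3154, 3188, 3271, 3421, 3488, 3815, 4051])) (.node (.leaf [201, 507, 649, 1692, 1767, 1997, 2081, 2200, 2327, 3400, 4024, 4336, 4378]) (.leaf [105, 236, 773, 1071, 2173, 2288, 2618, 2666, 2929, 2972, 3626, 3998, 4294]))) (.node (.node (.leaf [266, 625, 1077, 1204, 1339, 2296, 2373, 2671, 3462, 3562, 3733, 3761, 4365]) (.leaf [446, 632, 1137, 1191, 1439, 1899, 2055, 2398, 2561, 2654, 2916, 2924, 3381])) (.node (.leaf [273, 919, 1202, 1639, 1920, 2441, 2645, 2845, 2860, 3039, 3217, 3365, 3884]) (.leaf [23, 425, 1776, 1778, 1930, 2042, 2196, 2412, 2416, 2515, 2963, 3180, 3251])))))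

def nbr2158 : Janko.Tree (List ℕ) :=
  (.node (.node (.node (.node (.node (.leaf [262, 528, 793, 1993, 2440, 2501, 2542, 2954, 3344, 3884, 3933, 4048, 4205]) (.leaf [4, 358, 443, 1139, 1505, 1730, 1821, 2347, 3184, 3676, 3680, 3853, 3901])) (.leaf [43, 833, 1162, 1282, 1446, 1561, 1593, 2513, 2568, 3603, 3688, 3829, 4472])) (.node (.leaf [286, 410, 545, 596, 1295, 1337, 1818, 1875, 2377, 2652, 3067, 3738, 4279]) (.leaf [124, 587, 659, 1632, 1808, 1896, 2016, 2348, 3100, 3300, 3915, 4048, 4441]))) (.node (.node (.leaf [176, 688, 819, 918, 1125, 1234, 1253, 2069, 2662, 2858, 2860, 4225, 4414]) (.leaf [32, 477, 648, 835, 872, 1350, 1523, 1554, 2219, 2577, 3386, 3856, 3962])) (.node (.leaf [112, 743, 965, 1158, 1843, 2158, 2247, 2270, 2313, 2820, 3212, 3693, 4087]) (.leaf [646, 761, 1059, 1758, 1826, 1962, 2156, 2682, 2838, 3362, 3697, 3703, 4030])))) (.node (.node (.node (.leaf [167, 392, 704, 1071, 1243, 1255, 2258, 2296, 3131, 3892, 4295, 4364, 4389]) (.leaf [218, 674, 879, 951, 1013, 1468, 1472, 1527, 1807, 2744, 2882, 3002, 4216])) (.node (.leaf [375, 491, 508, 650, 854, 1582, 1680,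 1695, 1768, 3225, 3403, 3757, 4073]) (.leaf [320, 605, 778, 1080, 1817, 2295, 2573, 2847, 3003, 3378, 3481, 3532, 4035]))) (.node (.node (.leaf [626, 727, 1128, 1340, 1657, 1658, 2299, 2374, 2611, 2672, 3376, 3636, 3984]) (.leaf [415, 418, 635, 1026, 2356, 2361, 2401, 2590, 2919, 3253, 3277, 3394, 4323])) (.node (.leaf [118, 168, 274, 1205, 2451, 2581, 2621, 2690, 2835, 2863, 3098, 3218, 4043]) (.leaf [763, 823, 1084, 1329, 2418, 2628, 3189, 3262, 3264, 3817, 4104, 4263, 4290])))))

def nbr2159 : Janko.Tree (List ℕ) :=
  (.node (.node (.node (.node (.node (.leaf [263, 529, 792, 1992, 2441, 2500, 2543, 2955, 3345, 3885, 3932, 4049, 4204]) (.leaf [5, 359, 442, 1138, 1504, 1731, 1820, 2346, 3185, 3677, 3681, 3852, 3900])) (.leaf [42, 832, 1163, 1283, 1447, 1560, 1592, 2512, 2569, 3602, 3689, 3828, 4473])) (.node (.leaf [287, 411, 544, 597, 1294, 1336, 1819, 1874, 2376, 2653, 3066, 3739, 4278]) (.leaf [125, 586, 658, 1633, 1809, 1897, 2017, 2349, 3101, 3301, 3914, 4049, 4440]))) (.node (.node (.leaf [177, 689, 818, 919, 1124, 1235, 1252, 2068, 2663, 2859, 2861, 4224, 4415]) (.leaf [33,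 476, 649, 834, 873, 1351, 1522, 1555, 2218, 2576, 3387, 3857, 3963])) (.node (.leaf [113, 742, 964, 1159, 1842, 2159, 2246, 2271, 2312, 2821, 3213, 3692, 4086]) (.leaf [647, 760, 1058, 1759, 1827, 1963, 2157, 2683, 2839, 3363, 3696, 3702, 4031])))) (.node (.node (.node (.leaf [166, 393, 705, 1070, 1242, 1254, 2259, 2297, 3130, 3893, 4294, 4365, 4388]) (.leaf [219, 675, 878, 950, 1012, 1469, 1473, 1526, 1806, 2745, 2883, 3003, 4217])) (.node (.leaf [374, 490, 509, 651, 855, 1583, 1681, 1694, 1769, 3224, 3402, 3756, 4072]) (.leaf [321, 604, 779, 1081, 1816, 2294, 2572, 2846, 3002, 3379, 3480, 3533, 4034]))) (.node (.node (.leaf [627, 726, 1129, 1341, 1656, 1659, 2298, 2375, 2610, 2673, 3377, 3637, 3985]) (.leaf [414, 419, 634, 1027, 2357, 2360, 2400, 2591, 2918, 3252, 3276, 3395, 4322])) (.node (.leaf [119, 169, 275, 1204, 2450, 2580, 2620, 2691, 2834, 2862, 3099, 3219, 4042]) (.leaf [762, 822, 1085, 1328, 2419, 2629, 3188, 3263, 3265, 3816, 4105, 4262, 4291])))))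

def nbr2160 : Janko.Tree (List ℕ) :=
  (.node (.node (.node (.node (.node (.leaf [224, 368, 560, 630, 1166, 1858, 2113, 2212, 2564, 2580, 2835, 2930, 2952]) (.leaf [220, 302, 446, 1232, 1385, 1517, 2054, 2472, 2508, 2541, 2638, 3119, 4005])) (.leaf [199, 843, 872, 1595, 1928, 2219, 2789, 3085, 3793, 3978, 4220, 4272, 4468])) (.node (.leaf [549, 591, 1440, 1571, 1806, 1820, 1940, 2776, 3221, 3273, 3426, 3500, 4216]) (.leaf [741, 766, 854, 1189, 1510, 1520, 2065, 2100, 2288, 2452, 3672, 3999, 4013]))) (.node (.node (.leaf [360, 390, 857, 920, 1736, 1783, 2803, 2860, 3517, 3708, 4113, 4186, 4411]) (.leaf [42, 341, 727, 1116, 1489, 2940, 2966, 2977, 3049, 3204, 3327, 4066, 4269])) (.node (.leaf [375, 1266, 1320, 1732, 2162, 2813, 3044, 3109, 3276, 3402, 3414, 4051, 4401]) (.leaf [360, 570, 1083, 1141, 1507, 1823, 2293, 2802, 3157, 3410, 3682, 3918, 4124])))) (.node (.node (.node (.leaf [394, 700, 1161, 1245, 1257, 1782, 2260, 2298, 2965, 3376, 3469, 4230, 4271]) (.leaf [237, 326, 650, 816, 1777, 1903, 1951, 2248, 2775, 2912, 2996, 3374, 4234])) (.node (.leaf [155, 512, 652, 1094, 1237,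 1393, 2084, 2275, 3296, 3796, 3868, 3991, 4376]) (.leaf [292, 813, 1096, 1541, 1742, 1960, 2038, 2437, 2511, 3428, 3666, 3771, 4338]))) (.node (.node (.leaf [53, 416, 599, 935, 1979, 3053, 3146, 3472, 3562, 3878, 3892, 4364, 4419]) (.leaf [651, 846, 1555, 1694, 1950, 2024, 2126, 2349, 2614, 2908, 3198, 3306, 3612])) (.node (.leaf [329, 1104, 1432, 1498, 1613, 1995, 2258, 2646, 3187, 3246, 3435, 3758, 4436]) (.leaf [190, 1168, 1445, 1452, 1834, 2147, 2622, 2869, 3106, 3752, 3768, 3840, 4164])))))

def nbr2161 : Janko.Tree (List ℕ) :=
  (.node (.node (.node (.node (.node (.leaf [225, 369, 561, 631, 1167, 1859, 2112, 2213, 2565, 2581, 2834, 2931, 2953]) (.leaf [221, 303, 447, 1233, 1384, 1516, 2055, 2473, 2509, 2540, 2639, 3118, 4004])) (.leaf [198, 842, 873, 1594, 1929, 2218, 2788, 3084, 3792, 3979, 4221, 4273, 4469])) (.node (.leaf [548, 590, 1441, 1570, 1807, 1821, 1941, 2777, 3220, 3272, 3427, 3501, 4217]) (.leaf [740, 767, 855, 1188, 1511, 1521, 2064, 2101, 2289, 2453, 3673, 3998, 4012]))) (.node (.node (.leaf [361, 391, 856, 921, 1737, 1782, 2802, 2861, 3516, 3709, 4112, 4187, 4410])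 (.leaf [43, 340, 726, 1117, 1488, 2941, 2967, 2976, 3048, 3205, 3326, 4067, 4268])) (.node (.leaf [374, 1267, 1321, 1733, 2163, 2812, 3045, 3108, 3277, 3403, 3415, 4050, 4400]) (.leaf [361, 571, 1082, 1140, 1506, 1822, 2292, 2803, 3156, 3411, 3683, 3919, 4125])))) (.node (.node (.node (.leaf [395, 701, 1160, 1244, 1256, 1783, 2261, 2299, 2964, 3377, 3468, 4231, 4270]) (.leaf [236, 327, 651, 817, 1776, 1902, 1950, 2249, 2774, 2913, 2997, 3375, 4235])) (.node (.leaf [154, 513, 653, 1095, 1236, 1392, 2085, 2274, 3297, 3797, 3869, 3990, 4377]) (.leaf [293, 812, 1097, 1540, 1743, 1961, 2039, 2436, 2510, 3429, 3667, 3770, 4339]))) (.node (.node (.leaf [52, 417, 598, 934, 1978, 3052, 3147, 3473, 3563, 3879, 3893, 4365, 4418]) (.leaf [650, 847, 1554, 1695, 1951, 2025, 2127, 2348, 2615, 2909, 3199, 3307, 3613])) (.node (.leaf [328, 1105, 1433, 1499, 1612, 1994, 2259, 2647, 3186, 3247, 3434, 3759, 4437]) (.leaf [191, 1169, 1444, 1453, 1835, 2146, 2623, 2868, 3107, 3753, 3769, 3841, 4165])))))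

def nbr2162 : Janko.Tree (List ℕ) :=
  (.node (.node (.node (.node (.node (.leaf [226, 562, 658, 848, 1505, 2154, 2506, 2954, 3354, 3573, 3942, 4049, 4131]) (.leaf [366, 376, 811, 830, 874, 904, 1113, 2353, 2519, 3610, 3954, 4007, 4309])) (.leaf [180, 240, 669, 985, 1658, 1969, 2153, 3424, 3581, 3872, 3912, 3978, 4382])) (.node (.leaf [281, 1573, 1808, 1822, 1942, 1999, 2137, 2755, 2762, 2875, 3502, 3915, 4218]) (.leaf [622, 879, 2191, 2193, 2508, 2540, 2616, 2817, 3213, 3645, 3710, 4132, 4385]))) (.node (.node (.leaf [292, 494, 922, 1364, 1683, 1785, 2862, 3234, 3281, 4115, 4249, 4317, 4375]) (.leaf [44, 343, 729, 1118, 1207, 1338, 1491, 2233, 3096, 3266, 3537, 4297, 4452])) (.node (.leaf [377, 662, 1268, 2164, 2474, 2624, 2645, 3416, 3493, 4146, 4209, 4227, 4247]) (.leaf [49, 422, 1250, 1267, 1328, 1974, 1998, 2752, 3044, 3969, 4093, 4228, 4370])))) (.node (.node (.node (.leaf [339, 567, 706, 788, 841, 1259, 1606, 2035, 3133, 3320, 4017, 4157, 4337]) (.leaf [618, 885, 1698, 1781, 2187, 2382, 2499, 2754, 3291, 3751, 4030, 4219, 4284])) (.node (.leaf [56, 127, 524, 837, 1289, 1982,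 2623, 2829, 2901, 3330, 3832, 3930, 4028]) (.leaf [294, 815, 1543, 1744, 1962, 2040, 2087, 2088, 2150, 2513, 3039, 3430, 3670]))) (.node (.node (.leaf [46, 213, 939, 1043, 1130, 1342, 2035, 2230, 3227, 3407, 3706, 4337, 4419]) (.leaf [81, 236, 760, 773, 1326, 2248, 2384, 2677, 2748, 3283, 3463, 3722, 4012])) (.node (.leaf [21, 984, 1780, 2213, 2382, 2577, 2800, 3328, 3857, 3869, 4344, 4404, 4407]) (.leaf [600, 603, 1609, 1949, 1950, 2882, 2888, 3179, 3747, 3748, 4083, 4084, 4168])))))

def nbr2163 : Janko.Tree (List ℕ) :=
  (.node (.node (.node (.node (.node (.leaf [227, 563, 659, 849, 1504, 2155, 2507, 2955, 3355, 3572, 3943, 4048, 4130]) (.leaf [367, 377, 810, 831, 875, 905, 1112, 2352, 2518, 3611, 3955, 4006, 4308])) (.leaf [181, 241, 668, 984, 1659, 1968, 2152, 3425, 3580, 3873, 3913, 3979, 4383])) (.node (.leaf [280, 1572, 1809, 1823, 1943, 1998, 2136, 2754, 2763, 2874, 3503, 3914, 4219]) (.leaf [623, 878, 2190, 2192, 2509, 2541, 2617, 2816, 3212, 3644, 3711, 4133, 4384]))) (.node (.node (.leaf [293, 495, 923, 1365, 1682, 1784, 2863, 3235, 3280, 4114, 4248, 4316, 4374]) (.leaf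 [45, 342, 728, 1119, 1206, 1339, 1490, 2232, 3097, 3267, 3536, 4296, 4453])) (.node (.leaf [376, 663, 1269, 2165, 2475, 2625, 2644, 3417, 3492, 4147, 4208, 4226, 4246]) (.leaf [48, 423, 1251, 1266, 1329, 1975, 1999, 2753, 3045, 3968, 4092, 4229, 4371])))) (.node (.node (.node (.leaf [338, 566, 707, 789, 840, 1258, 1607, 2034, 3132, 3321, 4016, 4156, 4336]) (.leaf [619, 884, 1699, 1780, 2186, 2383, 2498, 2755, 3290, 3750, 4031, 4218, 4285])) (.node (.leaf [57, 126, 525, 836, 1288, 1983, 2622, 2828, 2900, 3331, 3833, 3931, 4029]) (.leaf [295, 814, 1542, 1745, 1963, 2041, 2086, 2089, 2151, 2512, 3038, 3431, 3671]))) (.node (.node (.leaf [47, 212, 938, 1042, 1131, 1343, 2034, 2231, 3226, 3406, 3707, 4336, 4418]) (.leaf [80, 237, 761, 772, 1327, 2249, 2385, 2676, 2749, 3282, 3462, 3723, 4013])) (.node (.leaf [20, 985, 1781, 2212, 2383, 2576, 2801, 3329, 3856, 3868, 4345, 4405, 4406]) (.leaf [601, 602, 1608, 1948, 1951, 2883, 2889, 3178, 3746, 3749, 4082, 4085, 4169])))))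

def nbr2164 : Janko.Tree (List ℕ) :=
  (.node (.node (.node (.node (.node (.leaf [56, 268, 1050, 1295, 1739, 2074, 2156, 2424, 2623, 3453, 3461, 3986, 4258]) (.leaf [368, 585, 790, 832, 880, 1115, 1471, 1628, 2355, 2521, 2953, 3751, 4367])) (.leaf [182, 532, 671, 773, 1409, 1740, 1905, 2231, 2388, 2857, 3583, 3782, 4021])) (.node (.leaf [557, 780, 1042, 1377, 1509, 1810, 1865, 2027, 2823, 3135, 3241, 3413, 3826]) (.leaf [528, 769, 1112, 1373, 1945, 1961, 2081, 2542, 3032, 3666, 4095, 4134, 4140]))) (.node (.node (.leaf [396, 614, 670, 924, 1217, 1610, 1791, 1905, 2352, 2633, 2694, 2890, 3647]) (.leaf [143, 1022, 1927, 1991, 2842, 2963, 3123, 3349, 3422, 3566, 3791, 4069, 4360])) (.node (.leaf [116, 388, 519, 815, 922, 926, 965, 1993, 2172, 2200, 2501, 4211, 4337]) (.leaf [157, 405, 424, 440, 551, 1269, 1976, 2005, 2063, 2624, 3077, 3194, 3587])))) (.node (.node (.node (.leaf [169, 710, 718, 782, 1711, 1854, 2379, 3068, 3098, 3422, 3938, 4283, 4375]) (.leaf [226, 314, 320, 435, 502, 678, 1512, 1613, 2117, 2159, 3079, 3649, 3700])) (.node (.leaf [334, 430, 1111, 1203, 1565, 2419, 2541,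 2809, 2941, 3821, 3858, 4054, 4203]) (.leaf [262, 843, 1545, 1587, 1644, 1748, 1964, 3010, 3015, 3023, 3092, 3843, 4393]))) (.node (.node (.leaf [48, 215, 527, 1132, 1344, 2387, 2839, 3406, 3658, 3708, 4073, 4155, 4324]) (.leaf [407, 498, 959, 972, 1262, 1433, 1788, 2386, 2792, 2819, 3187, 3312, 3406])) (.node (.leaf [500, 692, 1119, 1344, 1423, 1906, 2355, 2593, 3987, 4110, 4155, 4192, 4297]) (.leaf [1219, 1256, 1284, 1611, 1858, 1915, 1966, 2065, 2890, 2892, 3049, 3326, 3673])))))

def nbr2165 : Janko.Tree (List ℕ) :=
  (.node (.node (.node (.node (.node (.leaf [57, 269, 1051, 1294, 1738, 2075, 2157, 2425, 2622, 3452, 3460, 3987, 4259]) (.leaf [369, 584, 791, 833, 881, 1114, 1470, 1629, 2354, 2520, 2952, 3750, 4366])) (.leaf [183, 533, 670, 772, 1408, 1741, 1904, 2230, 2389, 2856, 3582, 3783, 4020])) (.node (.leaf [556, 781, 1043, 1376, 1508, 1811, 1864, 2026, 2822, 3134, 3240, 3412, 3827]) (.leaf [529, 768, 1113, 1372, 1944, 1960, 2080, 2543, 3033, 3667, 4094, 4135, 4141]))) (.node (.node (.leaf [397, 615, 671, 925, 1216, 1611, 1790, 1904, 2353, 2632, 2695, 2891, 3646]) (.leaf [142,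 1023, 1926, 1990, 2843, 2962, 3122, 3348, 3423, 3567, 3790, 4068, 4361])) (.node (.leaf [117, 389, 518, 814, 923, 927, 964, 1992, 2173, 2201, 2500, 4210, 4336]) (.leaf [156, 404, 425, 441, 550, 1268, 1977, 2004, 2062, 2625, 3076, 3195, 3586])))) (.node (.node (.node (.leaf [168, 711, 719, 783, 1710, 1855, 2378, 3069, 3099, 3423, 3939, 4282, 4374]) (.leaf [227, 315, 321, 434, 503, 679, 1513, 1612, 2116, 2158, 3078, 3648, 3701])) (.node (.leaf [335, 431, 1110, 1202, 1564, 2418, 2540, 2808, 2940, 3820, 3859, 4055, 4202]) (.leaf [263, 842, 1544, 1586, 1645, 1749, 1965, 3011, 3014, 3022, 3093, 3842, 4392]))) (.node (.node (.leaf [49, 214, 526, 1133, 1345, 2386, 2838, 3407, 3659, 3709, 4072, 4154, 4325]) (.leaf [406, 499, 958, 973, 1263, 1432, 1789, 2387, 2793, 2818, 3186, 3313, 3407])) (.node (.leaf [501, 693, 1118, 1345, 1422, 1907, 2354, 2592, 3986, 4111, 4154, 4193, 4296]) (.leaf [1218, 1257, 1285, 1610, 1859, 1914, 1967, 2064, 2891, 2893, 3048, 3327, 3672])))))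

def nbr2166 : Janko.Tree (List ℕ) :=
  (.node (.node (.node (.node (.node (.leaf [270, 1052, 1434, 2076, 2117, 2158, 2514, 2582, 2675, 3251, 3575, 4051, 4260]) (.leaf [304, 532, 749, 779, 1499, 1589, 1847, 3465, 3783, 3854, 3920, 4034, 4143])) (.leaf [186, 632, 675, 1421, 1688, 1944, 2180, 2422, 2800, 3332, 3917, 4382, 4450])) (.node (.leaf [337, 565, 786, 839, 1010, 1400, 2033, 2910, 3318, 3659, 3906, 4155, 4159]) (.leaf [718, 801, 1620, 1657, 1854, 2042, 2145, 2320, 2374, 2569, 2636, 2719, 4155]))) (.node (.node (.leaf [398, 926, 1046, 1219, 2071, 2300, 2354, 2689, 2798, 3245, 3304, 3363, 4080]) (.leaf [258, 507, 510, 1390, 1395, 1596, 2004, 2123, 2587, 2830, 3401, 3437, 4453])) (.node (.leaf [127, 176, 374, 1147, 1253, 1289, 1940, 1995, 2196, 2491, 3454, 3738, 4073]) (.leaf [8, 645, 1097, 1521, 1540, 1916, 2286, 2570, 2726, 3196, 3491, 3558, 3587])))) (.node (.node (.node (.leaf [173, 256, 712, 835, 1404, 1581, 1983, 2031, 3378, 3496, 3857, 4213, 4442]) (.leaf [322, 346, 504, 735, 797, 808, 958, 1514, 1670, 1730, 2119, 2654, 2917])) (.node (.leaf [102, 509, 1808, 1998, 2052, 2123,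 2250, 2318, 2701, 3301, 3928, 4348, 4423]) (.leaf [323, 826, 1197, 1514, 1572, 1596, 1746, 1983, 3022, 3040, 3477, 4148, 4453]))) (.node (.node (.leaf [439, 679, 1199, 1346, 1350, 1584, 1664, 1865, 2366, 2822, 3239, 3340, 4016]) (.leaf [16, 504, 769, 796, 965, 1480, 1652, 2145, 2702, 2771, 3316, 3802, 4141])) (.node (.leaf [628, 1290, 1425, 2497, 2674, 2728, 2779, 3368, 3489, 3594, 3995, 4157, 4417]) (.leaf [1047, 1206, 1286, 1479, 1776, 1968, 2182, 2204, 2300, 2384, 3987, 4131, 4297])))))

def nbr2167 : Janko.Tree (List ℕ) :=
  (.node (.node (.node (.node (.node (.leaf [271, 1053, 1435, 2077, 2116, 2159, 2515, 2583, 2674, 3250, 3574, 4050, 4261]) (.leaf [305, 533, 748, 778, 1498, 1588, 1846, 3464, 3782, 3855, 3921, 4035, 4142])) (.leaf [187, 633, 674, 1420, 1689, 1945, 2181, 2423, 2801, 3333, 3916, 4383, 4451])) (.node (.leaf [336, 564, 787, 838, 1011, 1401, 2032, 2911, 3319, 3658, 3907, 4154, 4158]) (.leaf [719, 800, 1621, 1656, 1855, 2043, 2144, 2321, 2375, 2568, 2637, 2718, 4154]))) (.node (.node (.leaf [399, 927, 1047, 1218, 2070, 2301, 2355, 2688, 2799, 3244, 3305, 3362, 4081])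 (.leaf [259, 506, 511, 1391, 1394, 1597, 2005, 2122, 2586, 2831, 3400, 3436, 4452])) (.node (.leaf [126, 177, 375, 1146, 1252, 1288, 1941, 1994, 2197, 2490, 3455, 3739, 4072]) (.leaf [9, 644, 1096, 1520, 1541, 1917, 2287, 2571, 2727, 3197, 3490, 3559, 3586])))) (.node (.node (.node (.leaf [172, 257, 713, 834, 1405, 1580, 1982, 2030, 3379, 3497, 3856, 4212, 4443]) (.leaf [323, 347, 505, 734, 796, 809, 959, 1515, 1671, 1731, 2118, 2655, 2916])) (.node (.leaf [103, 508, 1809, 1999, 2053, 2122, 2251, 2319, 2700, 3300, 3929, 4349, 4422]) (.leaf [322, 827, 1196, 1515, 1573, 1597, 1747, 1982, 3023, 3041, 3476, 4149, 4452]))) (.node (.node (.leaf [438, 678, 1198, 1347, 1351, 1585, 1665, 1864, 2367, 2823, 3238, 3341, 4017]) (.leaf [17, 505, 768, 797, 964, 1481, 1653, 2144, 2703, 2770, 3317, 3803, 4140])) (.node (.leaf [629, 1291, 1424, 2496, 2675, 2729, 2778, 3369, 3488, 3595, 3994, 4156, 4416]) (.leaf [1046, 1207, 1287, 1478, 1777, 1969, 2183, 2205, 2301, 2385, 3986, 4130, 4296])))))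

def nbr2168 : Janko.Tree (List ℕ) :=
  (.node (.node (.node (.node (.node (.leaf [105, 216, 236, 272, 918, 963, 1051, 1063, 1877, 2613, 3691, 3957, 4097]) (.leaf [208, 1297, 1434, 1521, 1630, 1746, 2452, 2496, 2593, 2634, 3061, 3360, 4261])) (.leaf [188, 325, 518, 1115, 1423, 2354, 2405, 2802, 3772, 3894, 3913, 3919, 4026])) (.node (.leaf [332, 569, 790, 1155, 1634, 2090, 2440, 2782, 3531, 3607, 3958, 4108, 4366]) (.leaf [100, 753, 1475, 1764, 2233, 2483, 2681, 2757, 3300, 3529, 3876, 3911, 4202]))) (.node (.node (.leaf [404, 928, 1042, 1223, 2620, 2824, 3007, 3627, 3716, 3728, 3744, 3813, 4432]) (.leaf [258, 511, 721, 1001, 1518, 1598, 1735, 2450, 2691, 2755, 3151, 3352, 3822])) (.node (.leaf [354, 605, 1086, 1151, 2495, 2590, 2631, 3297, 3634, 3697, 3754, 3796, 3832]) (.leaf [371, 561, 699, 760, 846, 1542, 1826, 2151, 2572, 3198, 3337, 3365, 3589])))) (.node (.node (.node (.leaf [175, 258, 714, 837, 1406, 2380, 2423, 3014, 3035, 3396, 4153, 4215, 4368]) (.leaf [415, 515, 736, 798, 811, 863, 961, 1082, 2129, 2918, 3329, 3527, 4025])) (.node (.leaf [2000, 2162, 2320, 3075, 3232, 3234,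 3266, 3352, 3420, 3795, 3871, 4308, 4452]) (.leaf [456, 515, 1100, 1179, 1908, 2128, 2380, 2899, 3042, 3866, 4074, 4097, 4386]))) (.node (.node (.leaf [423, 694, 796, 1201, 1348, 1497, 1653, 2039, 3342, 3543, 3576, 4178, 4285]) (.leaf [351, 690, 1003, 1052, 1445, 1722, 1772, 1785, 2140, 2188, 2862, 3211, 3476])) (.node (.leaf [295, 430, 1024, 1111, 1306, 1635, 2656, 2996, 3767, 3961, 3963, 4119, 4213]) (.leaf [478, 596, 603, 1295, 1598, 1899, 2060, 2598, 2949, 3005, 3202, 4357, 4425])))))

def nbr2169 : Janko.Tree (List ℕ) :=
  (.node (.node (.node (.node (.node (.leaf [104, 217, 237, 273, 919, 962, 1050, 1062, 1876, 2612, 3690, 3956, 4096]) (.leaf [209, 1296, 1435, 1520, 1631, 1747, 2453, 2497, 2592, 2635, 3060, 3361, 4260])) (.leaf [189, 324, 519, 1114, 1422, 2355, 2404, 2803, 3773, 3895, 3912, 3918, 4027])) (.node (.leaf [333, 568, 791, 1154, 1635, 2091, 2441, 2783, 3530, 3606, 3959, 4109, 4367]) (.leaf [101, 752, 1474, 1765, 2232, 2482, 2680, 2756, 3301, 3528, 3877, 3910, 4203]))) (.node (.node (.leaf [405, 929, 1043, 1222, 2621, 2825, 3006, 3626, 3717, 3729, 3745, 3812, 4433])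 (.leaf [259, 510, 720, 1000, 1519, 1599, 1734, 2451, 2690, 2754, 3150, 3353, 3823])) (.node (.leaf [355, 604, 1087, 1150, 2494, 2591, 2630, 3296, 3635, 3696, 3755, 3797, 3833]) (.leaf [370, 560, 698, 761, 847, 1543, 1827, 2150, 2573, 3199, 3336, 3364, 3588])))) (.node (.node (.node (.leaf [174, 259, 715, 836, 1407, 2381, 2422, 3015, 3034, 3397, 4152, 4214, 4369]) (.leaf [414, 514, 737, 799, 810, 862, 960, 1083, 2128, 2919, 3328, 3526, 4024])) (.node (.leaf [2001, 2163, 2321, 3074, 3233, 3235, 3267, 3353, 3421, 3794, 3870, 4309, 4453]) (.leaf [457, 514, 1101, 1178, 1909, 2129, 2381, 2898, 3043, 3867, 4075, 4096, 4387]))) (.node (.node (.leaf [422, 695, 797, 1200, 1349, 1496, 1652, 2038, 3343, 3542, 3577, 4179, 4284]) (.leaf [350, 691, 1002, 1053, 1444, 1723, 1773, 1784, 2141, 2189, 2863, 3210, 3477])) (.node (.leaf [294, 431, 1025, 1110, 1307, 1634, 2657, 2997, 3766, 3960, 3962, 4118, 4212]) (.leaf [479, 597, 602, 1294, 1599, 1898, 2061, 2599, 2948, 3004, 3203, 4356, 4424])))))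

def nbr2170 : Janko.Tree (List ℕ) :=
  (.node (.node (.node (.node (.node (.leaf [218, 274, 610, 965, 1053, 2633, 2835, 2931, 3211, 3317, 3693, 3959, 4071]) (.leaf [164, 359, 442, 685, 911, 913, 966, 1837, 2538, 3478, 3556, 3887, 4003])) (.leaf [92, 323, 1191, 1743, 1960, 2160, 2394, 2520, 2660, 2804, 2849, 3215, 3335])) (.node (.leaf [3, 334, 792, 931, 1157, 1812, 2693, 3516, 3776, 3933, 4043, 4113, 4415]) (.leaf [438, 503, 995, 1184, 1501, 1768, 2366, 2998, 3082, 3231, 3267, 3372, 3971]))) (.node (.node (.leaf [0, 932, 1229, 1544, 1716, 2017, 2847, 3010, 3031, 3055, 3732, 3811, 4223]) (.leaf [173, 969, 1323, 1639, 2122, 2488, 2938, 3032, 3131, 3185, 3436, 4002, 4389])) (.node (.leaf [174, 188, 282, 954, 1019, 1066, 1118, 1407, 2449, 2833, 2875, 2922, 3391]) (.leaf [111, 152, 567, 876, 1660, 1842, 2784, 2945, 2990, 3078, 3314, 3621, 3701])))) (.node (.node (.node (.leaf [77, 124, 460, 859, 2092, 2099, 2780, 2906, 2917, 3145, 3381, 3391, 3714]) (.leaf [614, 925, 1068, 1337, 1712, 1926, 2619, 2842, 2972, 3487, 3678, 4278, 4404])) (.node (.leaf [198, 2002, 2164, 2322, 2626, 3106, 3236,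 3284, 3716, 3873, 3979, 4366, 4387]) (.leaf [77, 429, 465, 506, 656, 750, 1112, 1894, 2121, 3032, 3437, 3485, 4349]))) (.node (.node (.leaf [441, 1076, 1350, 1646, 1665, 1837, 2296, 2526, 2946, 3293, 3478, 3578, 4219]) (.leaf [321, 1056, 1774, 2135, 2190, 2278, 2403, 2518, 2704, 2847, 2866, 3011, 3333])) (.node (.leaf [302, 345, 909, 1308, 1672, 1813, 2336, 2797, 3129, 3203, 3825, 3844, 4215]) (.leaf [344, 766, 795, 1045, 1479, 1513, 1784, 1983, 2452, 3477, 3496, 4260, 4477])))))

def nbr2171 : Janko.Tree (List ℕ) :=
  (.node (.node (.node (.node (.node (.leaf [219, 275, 611, 964, 1052, 2632, 2834, 2930, 3210, 3316, 3692, 3958, 4070]) (.leaf [165, 358, 443, 684, 910, 912, 967, 1836, 2539, 3479, 3557, 3886, 4002])) (.leaf [93, 322, 1190, 1742, 1961, 2161, 2395, 2521, 2661, 2805, 2848, 3214, 3334])) (.node (.leaf [2, 335, 793, 930, 1156, 1813, 2692, 3517, 3777, 3932, 4042, 4112, 4414]) (.leaf [439, 502, 994, 1185, 1500, 1769, 2367, 2999, 3083, 3230, 3266, 3373, 3970]))) (.node (.node (.leaf [1, 933, 1228, 1545, 1717, 2016, 2846, 3011, 3030, 3054, 3733, 3810, 4222]) (.leaf [172, 968,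 1322, 1638, 2123, 2489, 2939, 3033, 3130, 3184, 3437, 4003, 4388])) (.node (.leaf [175, 189, 283, 955, 1018, 1067, 1119, 1406, 2448, 2832, 2874, 2923, 3390]) (.leaf [110, 153, 566, 877, 1661, 1843, 2785, 2944, 2991, 3079, 3315, 3620, 3700])))) (.node (.node (.node (.leaf [76, 125, 461, 858, 2093, 2098, 2781, 2907, 2916, 3144, 3380, 3390, 3715]) (.leaf [615, 924, 1069, 1336, 1713, 1927, 2618, 2843, 2973, 3486, 3679, 4279, 4405])) (.node (.leaf [199, 2003, 2165, 2323, 2627, 3107, 3237, 3285, 3717, 3872, 3978, 4367, 4386]) (.leaf [76, 428, 464, 507, 657, 751, 1113, 1895, 2120, 3033, 3436, 3484, 4348]))) (.node (.node (.leaf [440, 1077, 1351, 1647, 1664, 1836, 2297, 2527, 2947, 3292, 3479, 3579, 4218]) (.leaf [320, 1057, 1775, 2134, 2191, 2279, 2402, 2519, 2705, 2846, 2867, 3010, 3332])) (.node (.leaf [303, 344, 908, 1309, 1673, 1812, 2337, 2796, 3128, 3202, 3824, 3845, 4214]) (.leaf [345, 767, 794, 1044, 1478, 1512, 1785, 1982, 2453, 3476, 3497, 4261, 4476])))))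

def nbr2172 : Janko.Tree (List ℕ) :=
  (.node (.node (.node (.node (.node (.leaf [276, 1055, 1056, 1771, 1780, 2010, 2187, 2279, 2635, 2700, 3408, 3695, 4194]) (.leaf [40, 453, 584, 1660, 2147, 2209, 2423, 2870, 3112, 3201, 3353, 3822, 4368])) (.leaf [36, 856, 1189, 1226, 1527, 2214, 2410, 2532, 2615, 2933, 3029, 3474, 4020])) (.node (.leaf [273, 414, 612, 743, 1284, 2075, 2271, 2283, 2392, 2644, 3558, 3986, 4217]) (.leaf [374, 461, 651, 872, 1105, 1217, 1790, 2186, 2383, 2577, 3044, 3206, 4120]))) (.node (.node (.leaf [934, 1136, 1214, 1568, 1989, 2394, 2683, 2925, 2934, 3334, 3547, 4206, 4384]) (.leaf [175, 473, 572, 1325, 1782, 2015, 3099, 3248, 3479, 3544, 4003, 4125, 4271])) (.node (.leaf [289, 430, 466, 473, 509, 573, 1115, 1415, 1873, 2122, 2535, 2753, 3691]) (.leaf [22, 57, 314, 357, 1119, 1206, 2994, 3069, 3832, 3925, 3986, 4150, 4394])))) (.node (.node (.node (.leaf [38, 126, 261, 611, 1446, 1592, 2567, 2648, 3472, 3562, 3651, 3760, 4071]) (.leaf [927, 942, 1070, 1714, 1840, 2689, 2974, 2995, 3111, 3155, 3269, 4394, 4413])) (.node (.leaf [201, 845, 1041, 1180, 1198, 1409,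 1597, 1713, 1824, 2604, 3005, 3139, 3295]) (.leaf [712, 834, 961, 1485, 1555, 1681, 1695, 2200, 3106, 3284, 3451, 4025, 4347]))) (.node (.node (.leaf [252, 861, 978, 1352, 1729, 1938, 2386, 2728, 3319, 3422, 3659, 3975, 3994]) (.leaf [521, 730, 803, 971, 1060, 1064, 1622, 1732, 2058, 2403, 3629, 3830, 4401])) (.node (.leaf [12, 1310, 1359, 1482, 1652, 1764, 1935, 2515, 2658, 3486, 3679, 4348, 4423]) (.leaf [150, 241, 636, 985, 1845, 2398, 2692, 2729, 3104, 3399, 3660, 4113, 4186])))))

def nbr2173 : Janko.Tree (List ℕ) :=
  (.node (.node (.node (.node (.node (.leaf [277, 1054, 1057, 1770, 1781, 2011, 2186, 2278, 2634, 2701, 3409, 3694, 4195]) (.leaf [41, 452, 585, 1661, 2146, 2208, 2422, 2871, 3113, 3200, 3352, 3823, 4369])) (.leaf [37, 857, 1188, 1227, 1526, 2215, 2411, 2533, 2614, 2932, 3028, 3475, 4021])) (.node (.leaf [272, 415, 613, 742, 1285, 2074, 2270, 2282, 2393, 2645, 3559, 3987, 4216]) (.leaf [375, 460, 650, 873, 1104, 1216, 1791, 2187, 2382, 2576, 3045, 3207, 4121]))) (.node (.node (.leaf [935, 1137, 1215, 1569, 1988, 2395, 2682, 2924, 2935, 3335, 3546, 4207, 4385]) (.leaf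 [174, 472, 573, 1324, 1783, 2014, 3098, 3249, 3478, 3545, 4002, 4124, 4270])) (.node (.leaf [288, 431, 467, 472, 508, 572, 1114, 1414, 1872, 2123, 2534, 2752, 3690]) (.leaf [23, 56, 315, 356, 1118, 1207, 2995, 3068, 3833, 3924, 3987, 4151, 4395])))) (.node (.node (.node (.leaf [39, 127, 260, 610, 1447, 1593, 2566, 2649, 3473, 3563, 3650, 3761, 4070]) (.leaf [926, 943, 1071, 1715, 1841, 2688, 2975, 2994, 3110, 3154, 3268, 4395, 4412])) (.node (.leaf [200, 844, 1040, 1181, 1199, 1408, 1596, 1712, 1825, 2605, 3004, 3138, 3294]) (.leaf [713, 835, 960, 1484, 1554, 1680, 1694, 2201, 3107, 3285, 3450, 4024, 4346]))) (.node (.node (.leaf [253, 860, 979, 1353, 1728, 1939, 2387, 2729, 3318, 3423, 3658, 3974, 3995]) (.leaf [520, 731, 802, 970, 1061, 1065, 1623, 1733, 2059, 2402, 3628, 3831, 4400])) (.node (.leaf [13, 1311, 1358, 1483, 1653, 1765, 1934, 2514, 2659, 3487, 3678, 4349, 4422]) (.leaf [151, 240, 637, 984, 1844, 2399, 2693, 2728, 3105, 3398, 3661, 4112, 4187])))))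

def nbr2174 : Janko.Tree (List ℕ) :=
  (.node (.node (.node (.node (.node (.leaf [278, 321, 816, 1057, 1773, 2042, 2160, 2189, 2637, 2661, 2903, 4034, 4036]) (.leaf [167, 696, 705, 904, 906, 1618, 2229, 2908, 3173, 3613, 3728, 4305, 4455])) (.leaf [200, 1179, 1244, 1788, 1917, 2702, 2790, 2808, 2984, 3043, 3587, 3796, 4389])) (.node (.leaf [95, 277, 418, 514, 1744, 1963, 2397, 2662, 2807, 2815, 3177, 3660, 3669]) (.leaf [284, 333, 670, 779, 1176, 1987, 2090, 2095, 2785, 3222, 3272, 3379, 3497]))) (.node (.node (.leaf [633, 936, 1192, 1501, 1586, 1944, 1991, 2356, 2396, 3277, 3549, 3669, 4385]) (.leaf [482, 518, 1460, 1462, 1845, 2036, 2398, 2461, 2870, 3016, 3616, 3912, 4321])) (.node (.leaf [551, 640, 1102, 1268, 1847, 1907, 2176, 2473, 2902, 3141, 4143, 4146, 4456]) (.leaf [401, 469, 581, 908, 1024, 1116, 1368, 1488, 1645, 2352, 3080, 3611, 4330])))) (.node (.node (.node (.leaf [40, 128, 971, 1064, 1656, 2166, 2569, 2739, 3075, 3306, 3352, 3428, 3636]) (.leaf [118, 373, 1010, 1218, 1716, 1928, 1959, 2403, 2976, 3011, 3327, 3535, 4278])) (.node (.leaf [1007, 1043, 1200, 1508, 1715,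 1721, 1738, 1909, 1954, 2156, 3007, 3141, 3224]) (.leaf [269, 374, 491, 714, 836, 1216, 1237, 1487, 3108, 3278, 3286, 3453, 4044]))) (.node (.node (.leaf [278, 443, 517, 559, 682, 1159, 1192, 1356, 1501, 1510, 2346, 2367, 3212]) (.leaf [10, 523, 732, 899, 1066, 1725, 2194, 2267, 3215, 3493, 3631, 4098, 4209])) (.node (.leaf [277, 772, 1088, 1206, 1491, 2278, 2663, 2749, 2864, 2867, 3068, 3657, 4319]) (.leaf [421, 457, 1100, 1219, 1618, 2058, 2893, 3237, 3244, 3605, 3830, 4046, 4136])))))

def nbr2175 : Janko.Tree (List ℕ) :=
  (.node (.node (.node (.node (.node (.leaf [279, 320, 817, 1056, 1772, 2043, 2161, 2188, 2636, 2660, 2902, 4035, 4037]) (.leaf [166, 697, 704, 905, 907, 1619, 2228, 2909, 3172, 3612, 3729, 4304, 4454])) (.leaf [201, 1178, 1245, 1789, 1916, 2703, 2791, 2809, 2985, 3042, 3586, 3797, 4388])) (.node (.leaf [94, 276, 419, 515, 1745, 1962, 2396, 2663, 2806, 2814, 3176, 3661, 3668]) (.leaf [285, 332, 671, 778, 1177, 1986, 2091, 2094, 2784, 3223, 3273, 3378, 3496]))) (.node (.node (.leaf [632, 937, 1193, 1500, 1587, 1945, 1990, 2357, 2397, 3276, 3548, 3668, 4384]) (.leaf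 [483, 519, 1461, 1463, 1844, 2037, 2399, 2460, 2871, 3017, 3617, 3913, 4320])) (.node (.leaf [550, 641, 1103, 1269, 1846, 1906, 2177, 2472, 2903, 3140, 4142, 4147, 4457]) (.leaf [400, 468, 580, 909, 1025, 1117, 1369, 1489, 1644, 2353, 3081, 3610, 4331])))) (.node (.node (.node (.leaf [41, 129, 970, 1065, 1657, 2167, 2568, 2738, 3074, 3307, 3353, 3429, 3637]) (.leaf [119, 372, 1011, 1219, 1717, 1929, 1958, 2402, 2977, 3010, 3326, 3534, 4279])) (.node (.leaf [1006, 1042, 1201, 1509, 1714, 1720, 1739, 1908, 1955, 2157, 3006, 3140, 3225]) (.leaf [268, 375, 490, 715, 837, 1217, 1236, 1486, 3109, 3279, 3287, 3452, 4045]))) (.node (.node (.leaf [279, 442, 516, 558, 683, 1158, 1193, 1357, 1500, 1511, 2347, 2366, 3213]) (.leaf [11, 522, 733, 898, 1067, 1724, 2195, 2266, 3214, 3492, 3630, 4099, 4208])) (.node (.leaf [276, 773, 1089, 1207, 1490, 2279, 2662, 2748, 2865, 2866, 3069, 3656, 4318]) (.leaf [420, 456, 1101, 1218, 1619, 2059, 2892, 3236, 3245, 3604, 3831, 4047, 4137])))))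

def nbr2176 : Janko.Tree (List ℕ) :=
  (.node (.node (.node (.node (.node (.leaf [218, 280, 1401, 1426, 1527, 2072, 2532, 2910, 3881, 3947, 4222, 4312, 4444]) (.leaf [332, 552, 731, 776, 1144, 2418, 2475, 2712, 2941, 3403, 3816, 4188, 4401])) (.leaf [396, 761, 828, 1163, 1790, 1866, 2704, 2810, 3225, 3589, 3653, 3703, 4271])) (.node (.leaf [18, 279, 711, 935, 2079, 2432, 2956, 3206, 3456, 3509, 3646, 3662, 4206]) (.leaf [337, 424, 1231, 1693, 1804, 1910, 2344, 2391, 2553, 3194, 3244, 3513, 3716]))) (.node (.node (.leaf [518, 938, 1142, 1315, 1588, 1993, 2006, 2398, 2404, 3502, 3698, 3896, 4049]) (.leaf [579, 1041, 1408, 1718, 2150, 2236, 2371, 2775, 2988, 3056, 3337, 3444, 4067])) (.node (.leaf [60, 1104, 1147, 1270, 1279, 1995, 2178, 2401, 2531, 3143, 3388, 3787, 4456]) (.leaf [294, 591, 680, 1713, 1925, 2137, 2282, 3138, 3198, 3671, 3986, 4258, 4326])))) (.node (.node (.node (.leaf [241, 716, 1571, 1639, 1973, 2148, 3062, 3202, 3458, 4022, 4268, 4325, 4357]) (.leaf [120, 1089, 1207, 1259, 1339, 1718, 1777, 1824, 2775, 2804, 3215, 3707, 4394])) (.node (.leaf [152, 327, 496, 673,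 893, 1660, 1740, 1836, 2004, 2063, 2254, 2538, 3143]) (.leaf [68, 706, 819, 1080, 1130, 1349, 1488, 2034, 2255, 2294, 3371, 4224, 4296]))) (.node (.node (.leaf [426, 482, 519, 665, 768, 1194, 1358, 1473, 1652, 2292, 2776, 3297, 3918]) (.leaf [223, 263, 331, 542, 672, 936, 1323, 1586, 1600, 2143, 3635, 3896, 4464])) (.node (.leaf [279, 774, 1090, 1208, 2395, 2444, 2660, 2866, 3070, 4015, 4207, 4228, 4252]) (.leaf [97, 715, 998, 1282, 2481, 2483, 2958, 3286, 3395, 3721, 3818, 4392, 4473])))))

def nbr2177 : Janko.Tree (List ℕ) :=
  (.node (.node (.node (.node (.node (.leaf [219, 281, 1400, 1427, 1526, 2073, 2533, 2911, 3880, 3946, 4223, 4313, 4445]) (.leaf [333, 553, 730, 777, 1145, 2419, 2474, 2713, 2940, 3402, 3817, 4189, 4400])) (.leaf [397, 760, 829, 1162, 1791, 1867, 2705, 2811, 3224, 3588, 3652, 3702, 4270])) (.node (.leaf [19, 278, 710, 934, 2078, 2433, 2957, 3207, 3457, 3508, 3647, 3663, 4207]) (.leaf [336, 425, 1230, 1692, 1805, 1911, 2345, 2390, 2552, 3195, 3245, 3512, 3717]))) (.node (.node (.leaf [519, 939, 1143, 1314, 1589, 1992, 2007, 2399, 2405, 3503, 3699, 3897, 4048])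 (.leaf [578, 1040, 1409, 1719, 2151, 2237, 2370, 2774, 2989, 3057, 3336, 3445, 4066])) (.node (.leaf [61, 1105, 1146, 1271, 1278, 1994, 2179, 2400, 2530, 3142, 3389, 3786, 4457]) (.leaf [295, 590, 681, 1712, 1924, 2136, 2283, 3139, 3199, 3670, 3987, 4259, 4327])))) (.node (.node (.node (.leaf [240, 717, 1570, 1638, 1972, 2149, 3063, 3203, 3459, 4023, 4269, 4324, 4356]) (.leaf [121, 1088, 1206, 1258, 1338, 1719, 1776, 1825, 2774, 2805, 3214, 3706, 4395])) (.node (.leaf [153, 326, 497, 672, 892, 1661, 1741, 1837, 2005, 2062, 2255, 2539, 3142]) (.leaf [69, 707, 818, 1081, 1131, 1348, 1489, 2035, 2254, 2295, 3370, 4225, 4297]))) (.node (.node (.leaf [427, 483, 518, 664, 769, 1195, 1359, 1472, 1653, 2293, 2777, 3296, 3919]) (.leaf [222, 262, 330, 543, 673, 937, 1322, 1587, 1601, 2142, 3634, 3897, 4465])) (.node (.leaf [278, 775, 1091, 1209, 2394, 2445, 2661, 2867, 3071, 4014, 4206, 4229, 4253]) (.leaf [96, 714, 999, 1283, 2480, 2482, 2959, 3287, 3394, 3720, 3819, 4393, 4472])))))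

def nbr2178 : Janko.Tree (List ℕ) :=
  (.node (.node (.node (.node (.node (.leaf [234, 282, 707, 1428, 1606, 1632, 2198, 2342, 3346, 3730, 3858, 4449, 4467]) (.leaf [418, 643, 912, 1795, 1963, 2310, 2492, 2657, 2838, 2997, 3506, 3592, 3801])) (.leaf [500, 961, 974, 1264, 1733, 1790, 2050, 2143, 2812, 3216, 3314, 3407, 3700])) (.node (.leaf [152, 420, 497, 1272, 1615, 1704, 1868, 2566, 3150, 3211, 3718, 4070, 4439]) (.leaf [65, 334, 898, 946, 1341, 2107, 2307, 2505, 3369, 3376, 3417, 3493, 4290]))) (.node (.node (.leaf [166, 940, 1421, 1974, 2025, 2181, 2662, 2667, 3788, 4038, 4224, 4295, 4304]) (.leaf [615, 630, 679, 1150, 1194, 2022, 2077, 2139, 2495, 3167, 3385, 4050, 4428])) (.node (.leaf [954, 990, 1106, 1149, 1272, 1689, 1701, 2180, 2656, 3019, 3145, 3390, 3789]) (.leaf [404, 538, 641, 1043, 1240, 1757, 1843, 2177, 2260, 2840, 3089, 3406, 3700])))) (.node (.node (.node (.leaf [718, 1573, 1646, 1975, 2321, 2389, 2526, 3099, 3204, 3380, 4093, 4453, 4472]) (.leaf [434, 531, 697, 1200, 1512, 1539, 1570, 1720, 2041, 2449, 2782, 3458, 3775])) (.node (.leaf [362, 688, 887, 916, 1045,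 1376, 1479, 1637, 1810, 1939, 2067, 4004, 4285]) (.leaf [86, 597, 624, 731, 1179, 1493, 1732, 2712, 3738, 3799, 3993, 4388, 4425]))) (.node (.node (.leaf [77, 428, 1360, 1376, 1503, 1534, 1647, 2442, 2555, 2907, 3769, 4361, 4471]) (.leaf [158, 337, 1267, 1548, 2386, 2407, 3041, 3318, 3641, 4184, 4298, 4316, 4371])) (.node (.leaf [391, 533, 632, 636, 733, 778, 1462, 1533, 2399, 2857, 3112, 3683, 4368]) (.leaf [332, 463, 521, 803, 1755, 2160, 2624, 2980, 3405, 3497, 4000, 4108, 4226])))))

def nbr2179 : Janko.Tree (List ℕ) :=
  (.node (.node (.node (.node (.node (.leaf [235, 283, 706, 1429, 1607, 1633, 2199, 2343, 3347, 3731, 3859, 4448, 4466]) (.leaf [419, 642, 913, 1794, 1962, 2311, 2493, 2656, 2839, 2996, 3507, 3593, 3800])) (.leaf [501, 960, 975, 1265, 1732, 1791, 2051, 2142, 2813, 3217, 3315, 3406, 3701])) (.node (.leaf [153, 421, 496, 1273, 1614, 1705, 1869, 2567, 3151, 3210, 3719, 4071, 4438]) (.leaf [64, 335, 899, 947, 1340, 2106, 2306, 2504, 3368, 3377, 3416, 3492, 4291]))) (.node (.node (.leaf [167, 941, 1420, 1975, 2024, 2180, 2663, 2666, 3789, 4039, 4225, 4294, 4305]) (.leaf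 [614, 631, 678, 1151, 1195, 2023, 2076, 2138, 2494, 3166, 3384, 4051, 4429])) (.node (.leaf [955, 991, 1107, 1148, 1273, 1688, 1700, 2181, 2657, 3018, 3144, 3391, 3788]) (.leaf [405, 539, 640, 1042, 1241, 1756, 1842, 2176, 2261, 2841, 3088, 3407, 3701])))) (.node (.node (.node (.leaf [719, 1572, 1647, 1974, 2320, 2388, 2527, 3098, 3205, 3381, 4092, 4452, 4473]) (.leaf [435, 530, 696, 1201, 1513, 1538, 1571, 1721, 2040, 2448, 2783, 3459, 3774])) (.node (.leaf [363, 689, 886, 917, 1044, 1377, 1478, 1636, 1811, 1938, 2066, 4005, 4284]) (.leaf [87, 596, 625, 730, 1178, 1492, 1733, 2713, 3739, 3798, 3992, 4389, 4424]))) (.node (.node (.leaf [76, 429, 1361, 1377, 1502, 1535, 1646, 2443, 2554, 2906, 3768, 4360, 4470]) (.leaf [159, 336, 1266, 1549, 2387, 2406, 3040, 3319, 3640, 4185, 4299, 4317, 4370])) (.node (.leaf [390, 532, 633, 637, 732, 779, 1463, 1532, 2398, 2856, 3113, 3682, 4369]) (.leaf [333, 462, 520, 802, 1754, 2161, 2625, 2981, 3404, 3496, 4001, 4109, 4227])))))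

def nbr2180 : Janko.Tree (List ℕ) :=
  (.node (.node (.node (.node (.node (.leaf [284, 658, 1244, 1288, 1520, 1635, 2090, 2503, 3065, 3587, 3863, 4134, 4255]) (.leaf [23, 340, 458, 655, 1103, 1777, 1907, 2257, 2266, 3987, 4099, 4267, 4444])) (.leaf [148, 213, 628, 958, 1237, 2052, 2070, 2644, 3089, 3218, 3406, 3990, 4208])) (.node (.leaf [154, 340, 795, 827, 1617, 1620, 1870, 2265, 2568, 2738, 2966, 3720, 3829]) (.leaf [269, 376, 391, 492, 857, 1238, 1585, 2474, 2960, 3279, 3564, 3905, 4390]))) (.node (.node (.leaf [35, 772, 812, 1032, 2438, 2510, 2856, 2929, 3378, 3481, 3628, 3888, 4057]) (.leaf [395, 1050, 1952, 2335, 2886, 2896, 3293, 3468, 3510, 3547, 3931, 4105, 4290])) (.node (.leaf [334, 707, 916, 1108, 1280, 2182, 2385, 2476, 2587, 2658, 3377, 3704, 4466]) (.leaf [129, 1041, 1430, 1991, 2262, 3004, 3074, 3808, 3824, 3885, 3891, 3969, 4255])))) (.node (.node (.node (.leaf [469, 596, 1065, 1090, 1577, 1979, 3005, 3426, 3501, 3610, 3650, 3885, 4124]) (.leaf [1247, 1514, 1572, 1722, 1779, 1930, 2463, 2655, 2872, 2978, 3380, 3599, 4113])) (.node (.leaf [217, 301, 364, 366, 746,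 918, 969, 1639, 2069, 2909, 3183, 4006, 4462]) (.leaf [22, 247, 823, 1307, 1973, 2717, 3557, 3614, 4011, 4052, 4122, 4150, 4263]))) (.node (.node (.leaf [100, 165, 430, 913, 1362, 1379, 1872, 2023, 2909, 2997, 3415, 3820, 4455]) (.leaf [224, 369, 896, 1201, 1629, 2015, 2038, 2372, 2606, 2671, 2922, 3249, 3484])) (.node (.leaf [491, 935, 1582, 1827, 2011, 2132, 2471, 3000, 3588, 3695, 3703, 4045, 4365]) (.leaf [227, 307, 526, 1407, 1590, 1604, 2145, 2154, 2718, 3564, 3649, 3965, 4401])))))

def nbr2181 : Janko.Tree (List ℕ) :=
  (.node (.node (.node (.node (.node (.leaf [285, 659, 1245, 1289, 1521, 1634, 2091, 2502, 3064, 3586, 3862, 4135, 4254]) (.leaf [22, 341, 459, 654, 1102, 1776, 1906, 2256, 2267, 3986, 4098, 4266, 4445])) (.leaf [149, 212, 629, 959, 1236, 2053, 2071, 2645, 3088, 3219, 3407, 3991, 4209])) (.node (.leaf [155, 341, 794, 826, 1616, 1621, 1871, 2264, 2569, 2739, 2967, 3721, 3828]) (.leaf [268, 377, 390, 493, 856, 1239, 1584, 2475, 2961, 3278, 3565, 3904, 4391]))) (.node (.node (.leaf [34, 773, 813, 1033, 2439, 2511, 2857, 2928, 3379, 3480, 3629, 3889, 4056]) (.leaf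 [394, 1051, 1953, 2334, 2887, 2897, 3292, 3469, 3511, 3546, 3930, 4104, 4291])) (.node (.leaf [335, 706, 917, 1109, 1281, 2183, 2384, 2477, 2586, 2659, 3376, 3705, 4467]) (.leaf [128, 1040, 1431, 1990, 2263, 3005, 3075, 3809, 3825, 3884, 3890, 3968, 4254])))) (.node (.node (.node (.leaf [468, 597, 1064, 1091, 1576, 1978, 3004, 3427, 3500, 3611, 3651, 3884, 4125]) (.leaf [1246, 1515, 1573, 1723, 1778, 1931, 2462, 2654, 2873, 2979, 3381, 3598, 4112])) (.node (.leaf [216, 300, 365, 367, 747, 919, 968, 1638, 2068, 2908, 3182, 4007, 4463]) (.leaf [23, 246, 822, 1306, 1972, 2716, 3556, 3615, 4010, 4053, 4123, 4151, 4262]))) (.node (.node (.leaf [101, 164, 431, 912, 1363, 1378, 1873, 2022, 2908, 2996, 3414, 3821, 4454]) (.leaf [225, 368, 897, 1200, 1628, 2014, 2039, 2373, 2607, 2670, 2923, 3248, 3485])) (.node (.leaf [490, 934, 1583, 1826, 2010, 2133, 2470, 3001, 3589, 3694, 3702, 4044, 4364]) (.leaf [226, 306, 527, 1406, 1591, 1605, 2144, 2155, 2719, 3565, 3648, 3964, 4400])))))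

def nbr2182 : Janko.Tree (List ℕ) :=
  (.node (.node (.node (.node (.node (.leaf [286, 370, 660, 931, 1303, 1813, 1866, 2836, 3067, 3589, 3745, 3865, 4127]) (.leaf [384, 430, 526, 714, 1365, 2155, 2406, 2959, 3766, 3859, 4052, 4317, 4372])) (.leaf [427, 1458, 2209, 2394, 2397, 2446, 2703, 2814, 3587, 3808, 4254, 4276, 4384])) (.node (.leaf [48, 422, 797, 1363, 1619, 2262, 2349, 2789, 2909, 3085, 3443, 4072, 4077]) (.leaf [1079, 1489, 1510, 1542, 2011, 2708, 2836, 3049, 3080, 3672, 3734, 4128, 4380]))) (.node (.node (.leaf [719, 942, 1067, 1432, 1995, 2096, 2358, 2379, 2449, 3147, 3178, 3568, 3972]) (.leaf [117, 163, 734, 1415, 1620, 1972, 2314, 3458, 3762, 4129, 4182, 4253, 4263])) (.node (.leaf [709, 824, 874, 918, 1110, 1274, 1696, 2184, 2457, 3954, 3957, 3976, 4055]) (.leaf [525, 856, 931, 1206, 1277, 1665, 2204, 2376, 3029, 3220, 3272, 3833, 3937])))) (.node (.node (.node (.leaf [210, 720, 745, 1464, 1579, 1726, 1981, 2950, 3494, 3509, 3545, 3920, 4205]) (.leaf [524, 737, 1458, 1623, 1726, 1940, 1975, 2980, 3272, 3381, 4029, 4224, 4402])) (.node (.leaf [93, 1047, 1213, 1286, 1641,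 1742, 2071, 2565, 2580, 3219, 3758, 3864, 4339]) (.leaf [125, 460, 1189, 1589, 1950, 2248, 2348, 2509, 3250, 3343, 3529, 4012, 4015]))) (.node (.node (.leaf [972, 1288, 1708, 2387, 2437, 2493, 2623, 3443, 3592, 4073, 4164, 4230, 4259]) (.leaf [382, 725, 1211, 1284, 1611, 1791, 2134, 2563, 2645, 2705, 3217, 3810, 3862])) (.node (.leaf [320, 493, 937, 1584, 1829, 2134, 2472, 2903, 3002, 3377, 3705, 4047, 4289]) (.leaf [751, 1177, 1364, 1548, 1651, 1862, 1915, 2406, 2700, 2917, 3784, 3966, 4349])))))

def nbr2183 : Janko.Tree (List ℕ) :=
  (.node (.node (.node (.node (.node (.leaf [287, 371, 661, 930, 1302, 1812, 1867, 2837, 3066, 3588, 3744, 3864, 4126]) (.leaf [385, 431, 527, 715, 1364, 2154, 2407, 2958, 3767, 3858, 4053, 4316, 4373])) (.leaf [426, 1459, 2208, 2395, 2396, 2447, 2702, 2815, 3586, 3809, 4255, 4277, 4385])) (.node (.leaf [49, 423, 796, 1362, 1618, 2263, 2348, 2788, 2908, 3084, 3442, 4073, 4076]) (.leaf [1078, 1488, 1511, 1543, 2010, 2709, 2837, 3048, 3081, 3673, 3735, 4129, 4381]))) (.node (.node (.leaf [718, 943, 1066, 1433, 1994, 2097, 2359, 2378, 2448, 3146, 3179, 3569,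 3973]) (.leaf [116, 162, 735, 1414, 1621, 1973, 2315, 3459, 3763, 4128, 4183, 4252, 4262])) (.node (.leaf [708, 825, 875, 919, 1111, 1275, 1697, 2185, 2456, 3955, 3956, 3977, 4054]) (.leaf [524, 857, 930, 1207, 1276, 1664, 2205, 2377, 3028, 3221, 3273, 3832, 3936])))) (.node (.node (.node (.leaf [211, 721, 744, 1465, 1578, 1727, 1980, 2951, 3495, 3508, 3544, 3921, 4204]) (.leaf [525, 736, 1459, 1622, 1727, 1941, 1974, 2981, 3273, 3380, 4028, 4225, 4403])) (.node (.leaf [92, 1046, 1212, 1287, 1640, 1743, 2070, 2564, 2581, 3218, 3759, 3865, 4338]) (.leaf [124, 461, 1188, 1588, 1951, 2249, 2349, 2508, 3251, 3342, 3528, 4013, 4014]))) (.node (.node (.leaf [973, 1289, 1709, 2386, 2436, 2492, 2622, 3442, 3593, 4072, 4165, 4231, 4258]) (.leaf [383, 724, 1210, 1285, 1610, 1790, 2135, 2562, 2644, 2704, 3216, 3811, 3863])) (.node (.leaf [321, 492, 936, 1585, 1828, 2135, 2473, 2902, 3003, 3376, 3704, 4046, 4288]) (.leaf [750, 1176, 1365, 1549, 1650, 1863, 1914, 2407, 2701, 2916, 3785, 3967, 4348])))))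

def nbr2184 : Janko.Tree (List ℕ) :=
  (.node (.node (.node (.node (.node (.leaf [96, 208, 307, 1675, 1889, 1905, 1960, 3056, 3060, 3426, 3591, 3818, 4440]) (.leaf [654, 1048, 1282, 1518, 2157, 2256, 2455, 2543, 3141, 3322, 3354, 3819, 4135])) (.leaf [295, 348, 596, 764, 1025, 2044, 2288, 2814, 2853, 3208, 3668, 3799, 4385])) (.node (.leaf [23, 156, 424, 799, 1041, 1238, 1807, 2351, 2604, 3152, 3445, 3890, 4433]) (.leaf [177, 374, 688, 1170, 1475, 2602, 2716, 2817, 3169, 3419, 4232, 4284, 4329]))) (.node (.node (.leaf [542, 944, 1247, 1802, 2142, 2869, 2910, 3019, 3080, 3747, 3769, 3974, 4106]) (.leaf [536, 601, 1038, 1136, 1447, 1976, 2513, 2561, 3565, 3875, 3905, 4101, 4172])) (.node (.leaf [93, 709, 1112, 1276, 1323, 1960, 3163, 3287, 3428, 3436, 3618, 3981, 4068]) (.leaf [175, 619, 826, 1004, 1226, 1262, 1544, 2379, 2449, 2458, 2529, 3015, 4374])))) (.node (.node (.node (.leaf [17, 108, 722, 1402, 1583, 2144, 2589, 3105, 3441, 3908, 4045, 4187, 4350]) (.leaf [130, 225, 1173, 1332, 1464, 1726, 1934, 2438, 2511, 2982, 3770, 4274, 4343])) (.node (.leaf [50, 95, 1049, 1505, 1643,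 1744, 2073, 3185, 3355, 3608, 3671, 3931, 4334]) (.leaf [319, 966, 1191, 1503, 1535, 1792, 1960, 2401, 2918, 3227, 3286, 3591, 3860]))) (.node (.node (.leaf [974, 1170, 1239, 1303, 1403, 1752, 2051, 2087, 2495, 3445, 3807, 4051, 4261]) (.leaf [65, 894, 1317, 1530, 2274, 3060, 3137, 3246, 3556, 3560, 3819, 3971, 4101])) (.node (.leaf [455, 495, 648, 923, 939, 1278, 2252, 3389, 3540, 3903, 3961, 4336, 4429]) (.leaf [481, 689, 1488, 1625, 1658, 2152, 2602, 3191, 3205, 3656, 3711, 4331, 4415])))))

def nbr2185 : Janko.Tree (List ℕ) :=
  (.node (.node (.node (.node (.node (.leaf [97, 209, 306, 1674, 1888, 1904, 1961, 3057, 3061, 3427, 3590, 3819, 4441]) (.leaf [655, 1049, 1283, 1519, 2156, 2257, 2454, 2542, 3140, 3323, 3355, 3818, 4134])) (.leaf [294, 349, 597, 765, 1024, 2045, 2289, 2815, 2852, 3209, 3669, 3798, 4384])) (.node (.leaf [22, 157, 425, 798, 1040, 1239, 1806, 2350, 2605, 3153, 3444, 3891, 4432]) (.leaf [176, 375, 689, 1171, 1474, 2603, 2717, 2816, 3168, 3418, 4233, 4285, 4328]))) (.node (.node (.leaf [543, 945, 1246, 1803, 2143, 2868, 2911, 3018, 3081, 3746, 3768, 3975, 4107])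 (.leaf [537, 600, 1039, 1137, 1446, 1977, 2512, 2560, 3564, 3874, 3904, 4100, 4173])) (.node (.leaf [92, 708, 1113, 1277, 1322, 1961, 3162, 3286, 3429, 3437, 3619, 3980, 4069]) (.leaf [174, 618, 827, 1005, 1227, 1263, 1545, 2378, 2448, 2459, 2528, 3014, 4375])))) (.node (.node (.node (.leaf [16, 109, 723, 1403, 1582, 2145, 2588, 3104, 3440, 3909, 4044, 4186, 4351]) (.leaf [131, 224, 1172, 1333, 1465, 1727, 1935, 2439, 2510, 2983, 3771, 4275, 4342])) (.node (.leaf [51, 94, 1048, 1504, 1642, 1745, 2072, 3184, 3354, 3609, 3670, 3930, 4335]) (.leaf [318, 967, 1190, 1502, 1534, 1793, 1961, 2400, 2919, 3226, 3287, 3590, 3861]))) (.node (.node (.leaf [975, 1171, 1238, 1302, 1402, 1753, 2050, 2086, 2494, 3444, 3806, 4050, 4260]) (.leaf [64, 895, 1316, 1531, 2275, 3061, 3136, 3247, 3557, 3561, 3818, 3970, 4100])) (.node (.leaf [454, 494, 649, 922, 938, 1279, 2253, 3388, 3541, 3902, 3960, 4337, 4428]) (.leaf [480, 688, 1489, 1624, 1659, 2153, 2603, 3190, 3204, 3657, 3710, 4330, 4414])))))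

def nbr2186 : Janko.Tree (List ℕ) :=
  (.node (.node (.node (.node (.node (.leaf [98, 210, 569, 693, 1962, 2317, 2593, 2755, 3062, 3150, 3363, 3593, 3718]) (.leaf [114, 160, 656, 2159, 2202, 2313, 2773, 3151, 3200, 3823, 4064, 4126, 4319])) (.leaf [345, 350, 710, 766, 1945, 2290, 2337, 2340, 2957, 3673, 3916, 4166, 4398])) (.node (.leaf [158, 278, 1077, 1525, 1767, 2269, 2432, 2485, 2946, 3761, 4014, 4025, 4370]) (.leaf [412, 682, 936, 1085, 1500, 2739, 3469, 3479, 3704, 3736, 3891, 4105, 4270]))) (.node (.node (.leaf [948, 1407, 1644, 1738, 1891, 2144, 2448, 2451, 2574, 3014, 4019, 4154, 4296]) (.leaf [26, 291, 729, 1333, 1726, 1980, 2047, 2105, 2126, 2216, 3307, 3566, 3967])) (.node (.leaf [14, 95, 473, 486, 1039, 1114, 1325, 1846, 1962, 3103, 3430, 3506, 3620]) (.leaf [198, 324, 687, 951, 1114, 1187, 1595, 2904, 3173, 3264, 3520, 3728, 4367])))) (.node (.node (.node (.leaf [130, 230, 352, 724, 1279, 1585, 1857, 3255, 3524, 4047, 4196, 4316, 4457]) (.leaf [179, 966, 1173, 1503, 1728, 1938, 2487, 2740, 3556, 3895, 3971, 4069, 4360])) (.node (.leaf [427, 1053, 1054, 1412, 1828, 1970,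 2010, 2133, 2582, 2702, 2837, 2864, 3316]) (.leaf [323, 811, 960, 1155, 1190, 1788, 2200, 2560, 2715, 2793, 3530, 4101, 4417]))) (.node (.node (.leaf [360, 378, 1861, 2482, 2578, 2936, 2958, 3411, 3820, 3854, 3859, 3938, 4061]) (.leaf [717, 896, 940, 1319, 2276, 2373, 2566, 2635, 3062, 3151, 3409, 3562, 4418])) (.node (.leaf [461, 497, 527, 650, 1252, 1700, 2254, 2349, 3129, 3391, 3911, 4072, 4259]) (.leaf [336, 656, 851, 1010, 1893, 3279, 3615, 3878, 3949, 3952, 4184, 4318, 4447])))))

def nbr2187 : Janko.Tree (List ℕ) :=
  (.node (.node (.node (.node (.node (.leaf [99, 211, 568, 692, 1963, 2316, 2592, 2754, 3063, 3151, 3362, 3592, 3719]) (.leaf [115, 161, 657, 2158, 2203, 2312, 2772, 3150, 3201, 3822, 4065, 4127, 4318])) (.leaf [344, 351, 711, 767, 1944, 2291, 2336, 2341, 2956, 3672, 3917, 4167, 4399])) (.node (.leaf [159, 279, 1076, 1524, 1766, 2268, 2433, 2484, 2947, 3760, 4015, 4024, 4371]) (.leaf [413, 683, 937, 1084, 1501, 2738, 3468, 3478, 3705, 3737, 3890, 4104, 4271]))) (.node (.node (.leaf [949, 1406, 1645, 1739, 1890, 2145, 2449, 2450, 2575, 3015, 4018, 4155, 4297]) (.leaf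 [27, 290, 728, 1332, 1727, 1981, 2046, 2104, 2127, 2217, 3306, 3567, 3966])) (.node (.leaf [15, 94, 472, 487, 1038, 1115, 1324, 1847, 1963, 3102, 3431, 3507, 3621]) (.leaf [199, 325, 686, 950, 1115, 1186, 1594, 2905, 3172, 3265, 3521, 3729, 4366])))) (.node (.node (.node (.leaf [131, 231, 353, 725, 1278, 1584, 1856, 3254, 3525, 4046, 4197, 4317, 4456]) (.leaf [178, 967, 1172, 1502, 1729, 1939, 2486, 2741, 3557, 3894, 3970, 4068, 4361])) (.node (.leaf [426, 1052, 1055, 1413, 1829, 1971, 2011, 2132, 2583, 2703, 2836, 2865, 3317]) (.leaf [322, 810, 961, 1154, 1191, 1789, 2201, 2561, 2714, 2792, 3531, 4100, 4416]))) (.node (.node (.leaf [361, 379, 1860, 2483, 2579, 2937, 2959, 3410, 3821, 3855, 3858, 3939, 4060]) (.leaf [716, 897, 941, 1318, 2277, 2372, 2567, 2634, 3063, 3150, 3408, 3563, 4419])) (.node (.leaf [460, 496, 526, 651, 1253, 1701, 2255, 2348, 3128, 3390, 3910, 4073, 4258]) (.leaf [337, 657, 850, 1011, 1892, 3278, 3614, 3879, 3948, 3953, 4185, 4319, 4446])))))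

def nbr2188 : Janko.Tree (List ℕ) :=
  (.node (.node (.node (.node (.node (.leaf [210, 288, 1327, 1964, 1985, 2029, 2414, 3135, 3263, 3595, 3722, 4008, 4161]) (.leaf [543, 803, 1031, 1622, 1814, 2044, 2322, 3325, 3525, 4111, 4157, 4220, 4256])) (.leaf [484, 667, 770, 1654, 1901, 1999, 2250, 2294, 2427, 2816, 3332, 3454, 4233])) (.node (.leaf [142, 426, 491, 672, 1659, 1769, 2063, 2133, 3082, 3581, 3637, 4026, 4277]) (.leaf [423, 572, 978, 1082, 1320, 1506, 2551, 3044, 3545, 3690, 3762, 3920, 4026]))) (.node (.node (.leaf [24, 950, 1104, 1150, 1434, 2635, 2905, 3143, 3543, 4121, 4195, 4220, 4424]) (.leaf [153, 493, 1268, 1390, 1702, 1810, 2004, 2117, 2225, 2407, 2475, 3078, 3638])) (.node (.leaf [690, 982, 1118, 1344, 1681, 1813, 1970, 2114, 2188, 2337, 2652, 3537, 3864]) (.leaf [146, 365, 1398, 1792, 2068, 2166, 2493, 2599, 2720, 2948, 3197, 3307, 4409])))) (.node (.node (.node (.leaf [484, 569, 726, 1030, 2251, 2826, 2931, 2953, 3461, 3581, 3636, 3779, 3958]) (.leaf [30, 181, 535, 809, 828, 1564, 1730, 2618, 2744, 3652, 3849, 4060, 4116])) (.node (.leaf [431, 460, 1057, 1414, 1647,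 1677, 1767, 2012, 2273, 2314, 2907, 4037, 4218]) (.leaf [647, 824, 876, 1274, 1358, 1482, 1687, 1970, 2228, 3259, 3642, 4170, 4207]))) (.node (.node (.leaf [102, 754, 1364, 1863, 2008, 2484, 2606, 2671, 2938, 3463, 3724, 4063, 4162]) (.leaf [335, 555, 732, 779, 1474, 2233, 2406, 2418, 2474, 2476, 3492, 3983, 4191])) (.node (.leaf [361, 706, 941, 1130, 1359, 1831, 2293, 2659, 2718, 3821, 3835, 4418, 4447]) (.leaf [104, 1463, 1485, 2871, 2929, 3007, 3112, 3179, 3530, 3581, 3628, 3746, 3974])))))

def nbr2189 : Janko.Tree (List ℕ) :=
  (.node (.node (.node (.node (.node (.leaf [211, 289, 1326, 1965, 1984, 2028, 2415, 3134, 3262, 3594, 3723, 4009, 4160]) (.leaf [542, 802, 1030, 1623, 1815, 2045, 2323, 3324, 3524, 4110, 4156, 4221, 4257])) (.leaf [485, 666, 771, 1655, 1900, 1998, 2251, 2295, 2426, 2817, 3333, 3455, 4232])) (.node (.leaf [143, 427, 490, 673, 1658, 1768, 2062, 2132, 3083, 3580, 3636, 4027, 4276]) (.leaf [422, 573, 979, 1083, 1321, 1507, 2550, 3045, 3544, 3691, 3763, 3921, 4027]))) (.node (.node (.leaf [25, 951, 1105, 1151, 1435, 2634, 2904, 3142, 3542, 4120, 4194, 4221, 4425])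 (.leaf [152, 492, 1269, 1391, 1703, 1811, 2005, 2116, 2224, 2406, 2474, 3079, 3639])) (.node (.leaf [691, 983, 1119, 1345, 1680, 1812, 1971, 2115, 2189, 2336, 2653, 3536, 3865]) (.leaf [147, 364, 1399, 1793, 2069, 2167, 2492, 2598, 2721, 2949, 3196, 3306, 4408])))) (.node (.node (.node (.leaf [485, 568, 727, 1031, 2250, 2827, 2930, 2952, 3460, 3580, 3637, 3778, 3959]) (.leaf [31, 180, 534, 808, 829, 1565, 1731, 2619, 2745, 3653, 3848, 4061, 4117])) (.node (.leaf [430, 461, 1056, 1415, 1646, 1676, 1766, 2013, 2272, 2315, 2906, 4036, 4219]) (.leaf [646, 825, 877, 1275, 1359, 1483, 1686, 1971, 2229, 3258, 3643, 4171, 4206]))) (.node (.node (.leaf [103, 755, 1365, 1862, 2009, 2485, 2607, 2670, 2939, 3462, 3725, 4062, 4163]) (.leaf [334, 554, 733, 778, 1475, 2232, 2407, 2419, 2475, 2477, 3493, 3982, 4190])) (.node (.leaf [360, 707, 940, 1131, 1358, 1830, 2292, 2658, 2719, 3820, 3834, 4419, 4446]) (.leaf [105, 1462, 1484, 2870, 2928, 3006, 3113, 3178, 3531, 3580, 3629, 3747, 3975])))))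

def nbr2190 : Janko.Tree (List ℕ) :=
  (.node (.node (.node (.node (.node (.leaf [256, 290, 608, 1329, 1594, 1987, 2121, 2927, 3265, 3405, 3597, 4268, 4409]) (.leaf [73, 214, 402, 479, 839, 1076, 1318, 2354, 2373, 4117, 4155, 4292, 4422])) (.leaf [131, 137, 270, 844, 1241, 1495, 1750, 1932, 2009, 2824, 2938, 3254, 3813])) (.node (.leaf [108, 430, 914, 929, 1306, 2154, 2175, 2273, 2275, 3990, 4089, 4178, 4236]) (.leaf [233, 980, 1034, 2393, 2458, 2557, 2589, 2681, 3159, 3295, 3528, 3847, 3973]))) (.node (.node (.leaf [952, 1034, 1106, 1152, 1560, 2637, 2907, 2932, 3029, 3145, 3295, 4037, 4137]) (.leaf [14, 502, 679, 897, 963, 1062, 1209, 2192, 2367, 2769, 3213, 3800, 4000])) (.node (.leaf [1095, 1120, 1386, 1677, 2190, 2325, 2517, 2682, 2733, 2816, 2847, 3160, 3733]) (.leaf [632, 779, 980, 2106, 2177, 2346, 2920, 3231, 3450, 3493, 3855, 4088, 4098])))) (.node (.node (.node (.leaf [3, 26, 728, 1032, 1567, 2117, 2828, 2955, 3583, 3638, 3933, 3943, 3999]) (.leaf [32, 183, 750, 811, 1083, 1155, 1350, 1635, 1841, 3743, 4062, 4118, 4172])) (.node (.leaf [300, 475, 972, 1183, 1684, 2016,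 2685, 3061, 3077, 3186, 3247, 4250, 4440]) (.leaf [459, 1348, 1373, 1652, 2255, 2454, 2706, 2814, 2852, 3143, 3330, 3660, 4141]))) (.node (.node (.leaf [385, 416, 771, 1019, 1052, 1054, 1520, 2076, 2286, 3694, 3698, 3793, 4372]) (.leaf [333, 429, 1108, 1275, 1476, 1562, 2235, 2408, 2419, 2476, 4055, 4313, 4361])) (.node (.leaf [708, 755, 801, 875, 1132, 1365, 1387, 2295, 2817, 3165, 4018, 4110, 4154]) (.leaf [159, 282, 949, 1020, 1406, 1989, 2961, 3347, 3550, 3564, 3826, 3982, 4173])))))

def nbr2191 : Janko.Tree (List ℕ) :=
  (.node (.node (.node (.node (.node (.leaf [257, 291, 609, 1328, 1595, 1986, 2120, 2926, 3264, 3404, 3596, 4269, 4408]) (.leaf [72, 215, 403, 478, 838, 1077, 1319, 2355, 2372, 4116, 4154, 4293, 4423])) (.leaf [130, 136, 271, 845, 1240, 1494, 1751, 1933, 2008, 2825, 2939, 3255, 3812])) (.node (.leaf [109, 431, 915, 928, 1307, 2155, 2174, 2272, 2274, 3991, 4088, 4179, 4237]) (.leaf [232, 981, 1035, 2392, 2459, 2556, 2588, 2680, 3158, 3294, 3529, 3846, 3972]))) (.node (.node (.leaf [953, 1035, 1107, 1153, 1561, 2636, 2906, 2933, 3028, 3144, 3294, 4036, 4136]) (.leaf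 [15, 503, 678, 896, 962, 1063, 1208, 2193, 2366, 2768, 3212, 3801, 4001])) (.node (.leaf [1094, 1121, 1387, 1676, 2191, 2324, 2516, 2683, 2732, 2817, 2846, 3161, 3732]) (.leaf [633, 778, 981, 2107, 2176, 2347, 2921, 3230, 3451, 3492, 3854, 4089, 4099])))) (.node (.node (.node (.leaf [2, 27, 729, 1033, 1566, 2116, 2829, 2954, 3582, 3639, 3932, 3942, 3998]) (.leaf [33, 182, 751, 810, 1082, 1154, 1351, 1634, 1840, 3742, 4063, 4119, 4173])) (.node (.leaf [301, 474, 973, 1182, 1685, 2017, 2684, 3060, 3076, 3187, 3246, 4251, 4441]) (.leaf [458, 1349, 1372, 1653, 2254, 2455, 2707, 2815, 2853, 3142, 3331, 3661, 4140]))) (.node (.node (.leaf [384, 417, 770, 1018, 1053, 1055, 1521, 2077, 2287, 3695, 3699, 3792, 4373]) (.leaf [332, 428, 1109, 1274, 1477, 1563, 2234, 2409, 2418, 2477, 4054, 4312, 4360])) (.node (.leaf [709, 754, 800, 874, 1133, 1364, 1386, 2294, 2816, 3164, 4019, 4111, 4155]) (.leaf [158, 283, 948, 1021, 1407, 1988, 2960, 3346, 3551, 3565, 3827, 3983, 4172])))))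

def nbr2192 : Janko.Tree (List ℕ) :=
  (.node (.node (.node (.node (.node (.leaf [292, 402, 526, 1118, 1160, 1364, 1407, 1970, 1989, 3687, 3764, 4155, 4207]) (.leaf [40, 85, 653, 728, 2202, 3074, 3155, 3266, 3367, 3490, 3796, 3825, 3832])) (.leaf [29, 1196, 1330, 1405, 1649, 1912, 1983, 2411, 2602, 2830, 3308, 3568, 4476])) (.node (.leaf [145, 646, 731, 1759, 1814, 2179, 2795, 2940, 2954, 2994, 3111, 3639, 3992]) (.leaf [230, 449, 613, 1036, 1721, 1853, 1919, 2460, 2985, 3578, 3975, 4193, 4321]))) (.node (.node (.leaf [22, 56, 223, 1183, 1290, 1530, 1854, 2194, 2266, 2758, 3616, 4016, 4123]) (.leaf [359, 837, 1487, 1556, 1836, 1887, 2334, 2791, 2973, 3293, 3764, 4215, 4441])) (.node (.leaf [457, 570, 879, 1346, 1772, 2192, 2253, 2367, 2460, 2521, 2660, 2850, 3616]) (.leaf [821, 999, 1008, 1136, 1899, 1956, 2016, 2349, 2682, 2847, 2958, 3766, 4459])))) (.node (.node (.node (.leaf [730, 759, 918, 945, 1234, 1677, 2013, 2178, 2368, 2830, 3344, 3681, 4188]) (.leaf [101, 580, 797, 1148, 2024, 2095, 2591, 2750, 2908, 2969, 2986, 4137, 4304])) (.node (.leaf [1048, 1100, 1179, 1916, 2018,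 2368, 2417, 2419, 2629, 3091, 3191, 3310, 4182]) (.leaf [217, 301, 1210, 1515, 1865, 1894, 2380, 2538, 3114, 3675, 4086, 4097, 4153]))) (.node (.node (.leaf [71, 370, 387, 784, 1056, 1826, 2402, 2902, 3051, 3139, 3695, 4033, 4458]) (.leaf [91, 355, 598, 796, 1200, 1619, 1810, 2017, 2224, 3030, 3774, 4136, 4458])) (.node (.leaf [272, 1052, 1313, 1521, 2141, 2664, 3065, 3274, 3367, 3470, 3549, 3558, 4059]) (.leaf [742, 759, 1166, 1450, 1565, 2102, 2549, 2678, 2940, 3148, 3358, 4086, 4189])))))

def nbr2193 : Janko.Tree (List ℕ) :=
  (.node (.node (.node (.node (.node (.leaf [293, 403, 527, 1119, 1161, 1365, 1406, 1971, 1988, 3686, 3765, 4154, 4206]) (.leaf [41, 84, 652, 729, 2203, 3075, 3154, 3267, 3366, 3491, 3797, 3824, 3833])) (.leaf [28, 1197, 1331, 1404, 1648, 1913, 1982, 2410, 2603, 2831, 3309, 3569, 4477])) (.node (.leaf [144, 647, 730, 1758, 1815, 2178, 2794, 2941, 2955, 2995, 3110, 3638, 3993]) (.leaf [231, 448, 612, 1037, 1720, 1852, 1918, 2461, 2984, 3579, 3974, 4192, 4320]))) (.node (.node (.leaf [23, 57, 222, 1182, 1291, 1531, 1855, 2195, 2267, 2759, 3617, 4017, 4122]) (.leaf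 [358, 836, 1486, 1557, 1837, 1886, 2335, 2790, 2972, 3292, 3765, 4214, 4440])) (.node (.leaf [456, 571, 878, 1347, 1773, 2193, 2252, 2366, 2461, 2520, 2661, 2851, 3617]) (.leaf [820, 998, 1009, 1137, 1898, 1957, 2017, 2348, 2683, 2846, 2959, 3767, 4458])))) (.node (.node (.node (.leaf [731, 758, 919, 944, 1235, 1676, 2012, 2179, 2369, 2831, 3345, 3680, 4189]) (.leaf [100, 581, 796, 1149, 2025, 2094, 2590, 2751, 2909, 2968, 2987, 4136, 4305])) (.node (.leaf [1049, 1101, 1178, 1917, 2019, 2369, 2416, 2418, 2628, 3090, 3190, 3311, 4183]) (.leaf [216, 300, 1211, 1514, 1864, 1895, 2381, 2539, 3115, 3674, 4087, 4096, 4152]))) (.node (.node (.leaf [70, 371, 386, 785, 1057, 1827, 2403, 2903, 3050, 3138, 3694, 4032, 4459]) (.leaf [90, 354, 599, 797, 1201, 1618, 1811, 2016, 2225, 3031, 3775, 4137, 4459])) (.node (.leaf [273, 1053, 1312, 1520, 2140, 2665, 3064, 3275, 3366, 3471, 3548, 3559, 4058]) (.leaf [743, 758, 1167, 1451, 1564, 2103, 2548, 2679, 2941, 3149, 3359, 4087, 4188])))))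

def nbr2194 : Janko.Tree (List ℕ) :=
  (.node (.node (.node (.node (.node (.leaf [196, 294, 681, 1221, 1991, 2190, 2466, 2496, 3122, 3722, 3767, 4157, 4384]) (.leaf [408, 481, 1055, 1363, 2319, 2487, 2583, 2701, 2929, 3084, 3102, 3793, 4306])) (.leaf [79, 866, 1178, 1332, 1407, 1651, 1711, 1802, 1914, 2380, 2510, 2832, 4087])) (.node (.leaf [541, 733, 1761, 1816, 2181, 2233, 2458, 2821, 3113, 3213, 3529, 3570, 4091]) (.leaf [398, 408, 552, 564, 743, 850, 1903, 2246, 2369, 2911, 2949, 4189, 4222]))) (.node (.node (.leaf [26, 308, 900, 1185, 1750, 1958, 2526, 2657, 2737, 2968, 3145, 3231, 4213]) (.leaf [547, 564, 839, 1336, 1420, 1469, 1489, 2375, 3679, 4029, 4225, 4293, 4415])) (.node (.leaf [55, 572, 971, 978, 1324, 1412, 1437, 2910, 3629, 3975, 4080, 4151, 4426]) (.leaf [250, 748, 863, 1366, 1708, 2253, 2436, 2460, 2998, 3541, 3912, 3933, 3936])))) (.node (.node (.node (.leaf [358, 721, 732, 1164, 1679, 1922, 2180, 2237, 2370, 2832, 2835, 3683, 4190]) (.leaf [413, 1734, 2086, 2281, 2351, 2489, 2849, 2988, 3131, 3311, 3444, 3572, 3619])) (.node (.leaf [103, 489, 712, 1003, 1485, 1737,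 1786, 3464, 3476, 3584, 4187, 4326, 4434]) (.leaf [123, 219, 410, 1212, 1251, 2129, 2752, 3116, 3258, 3450, 4071, 4088, 4178]))) (.node (.node (.leaf [125, 280, 389, 1130, 1144, 1366, 1418, 1709, 2092, 2334, 2875, 3388, 4283]) (.leaf [338, 896, 1115, 1269, 2123, 2318, 2367, 2520, 3027, 3102, 3200, 4017, 4127])) (.node (.leaf [274, 371, 544, 561, 1142, 1315, 2402, 2612, 2666, 2741, 3067, 3072, 3629]) (.leaf [144, 149, 497, 731, 858, 1092, 1132, 1234, 2913, 3088, 3391, 3784, 3966])))))

def nbr2195 : Janko.Tree (List ℕ) :=
  (.node (.node (.node (.node (.node (.leaf [197, 295, 680, 1220, 1990, 2191, 2467, 2497, 3123, 3723, 3766, 4156, 4385]) (.leaf [409, 480, 1054, 1362, 2318, 2486, 2582, 2700, 2928, 3085, 3103, 3792, 4307])) (.leaf [78, 867, 1179, 1333, 1406, 1650, 1710, 1803, 1915, 2381, 2511, 2833, 4086])) (.node (.leaf [540, 732, 1760, 1817, 2180, 2232, 2459, 2820, 3112, 3212, 3528, 3571, 4090]) (.leaf [399, 409, 553, 565, 742, 851, 1902, 2247, 2368, 2910, 2948, 4188, 4223]))) (.node (.node (.leaf [27, 309, 901, 1184, 1751, 1959, 2527, 2656, 2736, 2969, 3144, 3230, 4212]) (.leaf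 [546, 565, 838, 1337, 1421, 1468, 1488, 2374, 3678, 4028, 4224, 4292, 4414])) (.node (.leaf [54, 573, 970, 979, 1325, 1413, 1436, 2911, 3628, 3974, 4081, 4150, 4427]) (.leaf [251, 749, 862, 1367, 1709, 2252, 2437, 2461, 2999, 3540, 3913, 3932, 3937])))) (.node (.node (.node (.leaf [359, 720, 733, 1165, 1678, 1923, 2181, 2236, 2371, 2833, 2834, 3682, 4191]) (.leaf [412, 1735, 2087, 2280, 2350, 2488, 2848, 2989, 3130, 3310, 3445, 3573, 3618])) (.node (.leaf [102, 488, 713, 1002, 1484, 1736, 1787, 3465, 3477, 3585, 4186, 4327, 4435]) (.leaf [122, 218, 411, 1213, 1250, 2128, 2753, 3117, 3259, 3451, 4070, 4089, 4179]))) (.node (.node (.leaf [124, 281, 388, 1131, 1145, 1367, 1419, 1708, 2093, 2335, 2874, 3389, 4282]) (.leaf [339, 897, 1114, 1268, 2122, 2319, 2366, 2521, 3026, 3103, 3201, 4016, 4126])) (.node (.leaf [275, 370, 545, 560, 1143, 1314, 2403, 2613, 2667, 2740, 3066, 3073, 3628]) (.leaf [145, 148, 496, 730, 859, 1093, 1133, 1235, 2912, 3089, 3390, 3785, 3967])))))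

def nbr2196 : Janko.Tree (List ℕ) :=
  (.node (.node (.node (.node (.node (.leaf [166, 202, 532, 696, 1070, 1498, 1740, 2027, 2643, 2666, 3434, 3683, 3918]) (.leaf [575, 752, 1138, 1447, 1774, 2056, 2241, 2404, 2462, 2562, 2705, 3285, 3651])) (.leaf [359, 1357, 1400, 2276, 2347, 3013, 3137, 3231, 3557, 3790, 3917, 4360, 4450])) (.node (.leaf [503, 737, 995, 1719, 2848, 2988, 3117, 3173, 3215, 3446, 3527, 3654, 3989]) (.leaf [185, 873, 1214, 1300, 1315, 1385, 1523, 1694, 2925, 3698, 3736, 3997, 4272]))) (.node (.node (.leaf [28, 310, 312, 902, 908, 1068, 1187, 2659, 2774, 2970, 3679, 3774, 4215]) (.leaf [372, 777, 843, 933, 1078, 1305, 1493, 1804, 3010, 3684, 4129, 4288, 4335])) (.node (.leaf [300, 453, 879, 1124, 1630, 2069, 2422, 2883, 3302, 3361, 3532, 3654, 4153]) (.leaf [202, 488, 516, 644, 671, 925, 1030, 1601, 1741, 3470, 3634, 4198, 4478])))) (.node (.node (.node (.leaf [322, 734, 761, 1036, 1337, 1597, 1867, 2279, 3192, 3257, 3324, 3696, 3772]) (.leaf [621, 685, 1014, 1327, 1736, 1782, 2684, 2990, 3176, 3478, 3515, 3584, 3621])) (.node (.leaf [105, 495, 714, 1005, 1270, 1487,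 3246, 3640, 3818, 4096, 4316, 4437, 4440]) (.leaf [56, 79, 519, 1201, 2007, 2156, 2500, 2758, 2833, 2922, 3323, 4150, 4355]))) (.node (.node (.leaf [177, 282, 865, 1132, 1171, 1368, 1522, 1936, 2742, 2877, 3390, 3982, 4058]) (.leaf [104, 176, 569, 1005, 1062, 1755, 1827, 2112, 2742, 2952, 3623, 3925, 4001])) (.node (.leaf [786, 798, 862, 1173, 1757, 2097, 2634, 2668, 2779, 3089, 3302, 3360, 3369]) (.leaf [157, 225, 305, 676, 1309, 1380, 2511, 2676, 2797, 2840, 3499, 3888, 4339])))))

def nbr2197 : Janko.Tree (List ℕ) :=
  (.node (.node (.node (.node (.node (.leaf [167, 203, 533, 697, 1071, 1499, 1741, 2026, 2642, 2667, 3435, 3682, 3919]) (.leaf [574, 753, 1139, 1446, 1775, 2057, 2240, 2405, 2463, 2563, 2704, 3284, 3650])) (.leaf [358, 1356, 1401, 2277, 2346, 3012, 3136, 3230, 3556, 3791, 3916, 4361, 4451])) (.node (.leaf [502, 736, 994, 1718, 2849, 2989, 3116, 3172, 3214, 3447, 3526, 3655, 3988]) (.leaf [184, 872, 1215, 1301, 1314, 1384, 1522, 1695, 2924, 3699, 3737, 3996, 4273]))) (.node (.node (.leaf [29, 311, 313, 903, 909, 1069, 1186, 2658, 2775, 2971, 3678, 3775, 4214]) (.leaf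 [373, 776, 842, 932, 1079, 1304, 1492, 1805, 3011, 3685, 4128, 4289, 4334])) (.node (.leaf [301, 452, 878, 1125, 1631, 2068, 2423, 2882, 3303, 3360, 3533, 3655, 4152]) (.leaf [203, 489, 517, 645, 670, 924, 1031, 1600, 1740, 3471, 3635, 4199, 4479])))) (.node (.node (.node (.leaf [323, 735, 760, 1037, 1336, 1596, 1866, 2278, 3193, 3256, 3325, 3697, 3773]) (.leaf [620, 684, 1015, 1326, 1737, 1783, 2685, 2991, 3177, 3479, 3514, 3585, 3620])) (.node (.leaf [104, 494, 715, 1004, 1271, 1486, 3247, 3641, 3819, 4097, 4317, 4436, 4441]) (.leaf [57, 78, 518, 1200, 2006, 2157, 2501, 2759, 2832, 2923, 3322, 4151, 4354]))) (.node (.node (.leaf [176, 283, 864, 1133, 1170, 1369, 1523, 1937, 2743, 2876, 3391, 3983, 4059]) (.leaf [105, 177, 568, 1004, 1063, 1754, 1826, 2113, 2743, 2953, 3622, 3924, 4000])) (.node (.leaf [787, 799, 863, 1172, 1756, 2096, 2635, 2669, 2778, 3088, 3303, 3361, 3368]) (.leaf [156, 224, 304, 677, 1308, 1381, 2510, 2677, 2796, 2841, 3498, 3889, 4338])))))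

def nbr2198 : Janko.Tree (List ℕ) :=
  (.node (.node (.node (.node (.node (.leaf [0, 204, 554, 566, 745, 852, 1126, 1607, 2371, 2951, 3346, 3827, 4191]) (.leaf [8, 801, 1570, 1815, 1953, 1986, 2255, 2568, 2570, 3500, 3637, 4110, 4409])) (.leaf [571, 593, 1044, 1080, 1088, 1772, 1875, 3437, 3464, 3477, 4034, 4040, 4452])) (.node (.leaf [1336, 1539, 1818, 2082, 2249, 2393, 2785, 3119, 3216, 3314, 3324, 3529, 3871]) (.leaf [1028, 1116, 1471, 2013, 2311, 2480, 2602, 2716, 2781, 2830, 3417, 3614, 4330]))) (.node (.node (.leaf [305, 680, 703, 985, 1168, 1887, 2190, 2922, 3054, 3464, 4041, 4326, 4407]) (.leaf [627, 1074, 1331, 1405, 1499, 1750, 1933, 2047, 2217, 3504, 4185, 4421, 4436])) (.node (.leaf [273, 291, 356, 1086, 1360, 2198, 2478, 2503, 3064, 3365, 3610, 3966, 4216]) (.leaf [204, 567, 1201, 2292, 2314, 2759, 2986, 3485, 3543, 3923, 4016, 4136, 4424])))) (.node (.node (.node (.leaf [514, 593, 736, 763, 947, 1909, 2362, 2661, 3269, 3685, 3781, 3988, 4290]) (.leaf [783, 956, 1007, 1371, 1517, 1868, 2028, 2508, 2546, 2992, 3161, 3317, 4133])) (.node (.leaf [94, 387, 1054, 1255, 1495,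 1643, 1750, 2815, 3026, 3364, 4140, 4216, 4437]) (.leaf [432, 529, 695, 1198, 1537, 2039, 2608, 2780, 3020, 3144, 3248, 3294, 3822]))) (.node (.node (.leaf [310, 508, 870, 990, 1035, 1182, 1370, 1415, 2154, 2273, 2681, 3300, 3550]) (.leaf [74, 201, 1244, 1374, 1825, 2257, 2290, 2965, 3032, 3411, 3713, 4098, 4135])) (.node (.leaf [788, 1335, 1536, 1707, 2636, 2818, 3289, 3313, 3371, 3993, 4107, 4340, 4392]) (.leaf [227, 307, 678, 973, 1448, 1528, 1708, 2222, 2282, 2513, 3166, 3671, 3846])))))

def nbr2199 : Janko.Tree (List ℕ) :=
  (.node (.node (.node (.node (.node (.leaf [1, 205, 555, 567, 744, 853, 1127, 1606, 2370, 2950, 3347, 3826, 4190]) (.leaf [9, 800, 1571, 1814, 1952, 1987, 2254, 2569, 2571, 3501, 3636, 4111, 4408])) (.leaf [570, 592, 1045, 1081, 1089, 1773, 1874, 3436, 3465, 3476, 4035, 4041, 4453])) (.node (.leaf [1337, 1538, 1819, 2083, 2248, 2392, 2784, 3118, 3217, 3315, 3325, 3528, 3870]) (.leaf [1029, 1117, 1470, 2012, 2310, 2481, 2603, 2717, 2780, 2831, 3416, 3615, 4331]))) (.node (.node (.leaf [304, 681, 702, 984, 1169, 1886, 2191, 2923, 3055, 3465, 4040, 4327, 4406])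 (.leaf [626, 1075, 1330, 1404, 1498, 1751, 1932, 2046, 2216, 3505, 4184, 4420, 4437])) (.node (.leaf [272, 290, 357, 1087, 1361, 2199, 2479, 2502, 3065, 3364, 3611, 3967, 4217]) (.leaf [205, 566, 1200, 2293, 2315, 2758, 2987, 3484, 3542, 3922, 4017, 4137, 4425])))) (.node (.node (.node (.leaf [515, 592, 737, 762, 946, 1908, 2363, 2660, 3268, 3684, 3780, 3989, 4291]) (.leaf [782, 957, 1006, 1370, 1516, 1869, 2029, 2509, 2547, 2993, 3160, 3316, 4132])) (.node (.leaf [95, 386, 1055, 1254, 1494, 1642, 1751, 2814, 3027, 3365, 4141, 4217, 4436]) (.leaf [433, 528, 694, 1199, 1536, 2038, 2609, 2781, 3021, 3145, 3249, 3295, 3823]))) (.node (.node (.leaf [311, 509, 871, 991, 1034, 1183, 1371, 1414, 2155, 2272, 2680, 3301, 3551]) (.leaf [75, 200, 1245, 1375, 1824, 2256, 2291, 2964, 3033, 3410, 3712, 4099, 4134])) (.node (.leaf [789, 1334, 1537, 1706, 2637, 2819, 3288, 3312, 3370, 3992, 4106, 4341, 4393]) (.leaf [226, 306, 679, 972, 1449, 1529, 1709, 2223, 2283, 2512, 3167, 3670, 3847])))))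

def nbr2200 : Janko.Tree (List ℕ) :=
  (.node (.node (.node (.node (.node (.leaf [35, 62, 228, 332, 1352, 1601, 2031, 3348, 3379, 3423, 3532, 3817, 4313]) (.leaf [52, 305, 443, 1158, 1169, 1444, 1499, 1979, 3682, 3901, 4125, 4463, 4478])) (.leaf [84, 330, 1531, 1541, 2174, 2242, 2503, 2727, 3556, 3825, 3968, 4123, 4328])) (.node (.leaf [297, 448, 669, 2084, 2787, 2872, 3121, 3218, 3268, 3578, 3781, 3873, 3990]) (.leaf [559, 702, 1281, 1500, 2141, 2482, 3277, 3395, 3448, 3563, 3859, 3891, 4466]))) (.node (.node (.leaf [319, 458, 1162, 1349, 1797, 1891, 1907, 2331, 2558, 2761, 2811, 4028, 4297]) (.leaf [131, 1015, 1172, 1241, 1305, 1754, 2053, 3089, 3115, 3585, 3623, 4240, 4247])) (.node (.leaf [119, 275, 408, 1362, 1677, 2480, 2831, 2836, 3066, 3751, 4218, 4355, 4476]) (.leaf [451, 466, 780, 932, 1050, 1721, 1918, 2207, 2747, 3240, 3547, 3690, 4222])))) (.node (.node (.node (.leaf [356, 738, 969, 1150, 1295, 1297, 1422, 2091, 2503, 3543, 3894, 3986, 4444]) (.leaf [109, 385, 960, 1154, 1539, 1554, 2021, 2083, 2126, 2155, 2851, 3440, 4370])) (.node (.leaf [96, 389, 889, 1454, 1752, 2022,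 2149, 2726, 3108, 3197, 4050, 4056, 4328]) (.leaf [291, 917, 942, 1353, 1698, 1880, 2079, 2136, 2199, 2221, 3189, 4218, 4355]))) (.node (.node (.leaf [31, 398, 538, 578, 851, 996, 1186, 1487, 2150, 3180, 3237, 4265, 4367]) (.leaf [76, 115, 362, 572, 1376, 1509, 1866, 2428, 2606, 3224, 3484, 3715, 4126])) (.node (.leaf [790, 1629, 1671, 1849, 2670, 2820, 2921, 2937, 2965, 3601, 3855, 4063, 4299]) (.leaf [18, 65, 771, 1029, 1303, 2312, 2495, 2707, 2764, 3366, 3368, 4064, 4372])))))

def nbr2201 : Janko.Tree (List ℕ) :=
  (.node (.node (.node (.node (.node (.leaf [34, 63, 229, 333, 1353, 1600, 2030, 3349, 3378, 3422, 3533, 3816, 4312]) (.leaf [53, 304, 442, 1159, 1168, 1445, 1498, 1978, 3683, 3900, 4124, 4462, 4479])) (.leaf [85, 331, 1530, 1540, 2175, 2243, 2502, 2726, 3557, 3824, 3969, 4122, 4329])) (.node (.leaf [296, 449, 668, 2085, 2786, 2873, 3120, 3219, 3269, 3579, 3780, 3872, 3991]) (.leaf [558, 703, 1280, 1501, 2140, 2483, 3276, 3394, 3449, 3562, 3858, 3890, 4467]))) (.node (.node (.leaf [318, 459, 1163, 1348, 1796, 1890, 1906, 2330, 2559, 2760, 2810, 4029, 4296]) (.leaf [130,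 1014, 1173, 1240, 1304, 1755, 2052, 3088, 3114, 3584, 3622, 4241, 4246])) (.node (.leaf [118, 274, 409, 1363, 1676, 2481, 2830, 2837, 3067, 3750, 4219, 4354, 4477]) (.leaf [450, 467, 781, 933, 1051, 1720, 1919, 2206, 2746, 3241, 3546, 3691, 4223])))) (.node (.node (.node (.leaf [357, 739, 968, 1151, 1294, 1296, 1423, 2090, 2502, 3542, 3895, 3987, 4445]) (.leaf [108, 384, 961, 1155, 1538, 1555, 2020, 2082, 2127, 2154, 2850, 3441, 4371])) (.node (.leaf [97, 388, 888, 1455, 1753, 2023, 2148, 2727, 3109, 3196, 4051, 4057, 4329]) (.leaf [290, 916, 943, 1352, 1699, 1881, 2078, 2137, 2198, 2220, 3188, 4219, 4354]))) (.node (.node (.leaf [30, 399, 539, 579, 850, 997, 1187, 1486, 2151, 3181, 3236, 4264, 4366]) (.leaf [77, 114, 363, 573, 1377, 1508, 1867, 2429, 2607, 3225, 3485, 3714, 4127])) (.node (.leaf [791, 1628, 1670, 1848, 2671, 2821, 2920, 2936, 2964, 3600, 3854, 4062, 4298]) (.leaf [19, 64, 770, 1028, 1302, 2313, 2494, 2706, 2765, 3367, 3369, 4065, 4373])))))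

def nbr2202 : Janko.Tree (List ℕ) :=
  (.node (.node (.node (.node (.node (.leaf [296, 470, 590, 1430, 1729, 1925, 2223, 2653, 2915, 3314, 3894, 4350, 4408]) (.leaf [206, 398, 473, 538, 762, 1735, 1876, 2085, 2840, 3268, 3339, 3869, 4223])) (.leaf [761, 1103, 1162, 1327, 2203, 2371, 2416, 2419, 2630, 3192, 3262, 3832, 4029])) (.node (.leaf [1090, 1381, 1651, 1745, 1803, 1820, 2311, 2553, 2866, 2997, 3274, 3501, 3693]) (.leaf [220, 523, 1318, 1602, 1707, 2276, 2486, 2523, 2741, 2819, 3302, 3744, 4454]))) (.node (.node (.leaf [682, 1084, 1291, 1399, 1799, 2493, 2560, 2629, 3058, 3090, 3632, 3952, 4417]) (.leaf [482, 1472, 1656, 1675, 2485, 2613, 3462, 3482, 3760, 3813, 3954, 3956, 4146])) (.node (.leaf [69, 470, 1136, 1314, 1588, 1603, 1728, 2741, 2846, 3160, 3171, 3622, 3783]) (.leaf [428, 433, 449, 581, 820, 1085, 1477, 2048, 2554, 2750, 3511, 4164, 4348])))) (.node (.node (.node (.leaf [408, 740, 930, 1152, 1227, 1424, 2015, 2582, 2675, 2836, 3029, 3730, 3815]) (.leaf [534, 775, 900, 1007, 1758, 2171, 2390, 2756, 2859, 3305, 3363, 3659, 4149])) (.node (.leaf [98, 177, 891, 1647,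 1754, 2024, 2861, 3199, 3365, 3374, 4226, 4246, 4470]) (.leaf [335, 522, 898, 907, 1357, 1481, 2227, 2522, 2586, 2662, 4153, 4305, 4414]))) (.node (.node (.leaf [101, 180, 436, 1372, 1648, 1862, 2152, 2864, 3656, 3910, 4039, 4200, 4305]) (.leaf [364, 747, 1398, 1594, 2187, 2572, 2650, 2701, 3249, 3474, 3576, 3591, 3793])) (.node (.leaf [362, 792, 1811, 1890, 2570, 2672, 2699, 2822, 2939, 3329, 4161, 4163, 4407]) (.leaf [67, 271, 634, 2009, 2859, 2963, 3251, 3322, 3394, 3507, 3725, 3916, 4032])))))

def nbr2203 : Janko.Tree (List ℕ) :=
  (.node (.node (.node (.node (.node (.leaf [297, 471, 591, 1431, 1728, 1924, 2222, 2652, 2914, 3315, 3895, 4351, 4409]) (.leaf [207, 399, 472, 539, 763, 1734, 1877, 2084, 2841, 3269, 3338, 3868, 4222])) (.leaf [760, 1102, 1163, 1326, 2202, 2370, 2417, 2418, 2631, 3193, 3263, 3833, 4028])) (.node (.leaf [1091, 1380, 1650, 1744, 1802, 1821, 2310, 2552, 2867, 2996, 3275, 3500, 3692]) (.leaf [221, 522, 1319, 1603, 1706, 2277, 2487, 2522, 2740, 2818, 3303, 3745, 4455]))) (.node (.node (.leaf [683, 1085, 1290, 1398, 1798, 2492, 2561, 2628, 3059, 3091, 3633,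 3953, 4416]) (.leaf [483, 1473, 1657, 1674, 2484, 2612, 3463, 3483, 3761, 3812, 3955, 3957, 4147])) (.node (.leaf [68, 471, 1137, 1315, 1589, 1602, 1729, 2740, 2847, 3161, 3170, 3623, 3782]) (.leaf [429, 432, 448, 580, 821, 1084, 1476, 2049, 2555, 2751, 3510, 4165, 4349])))) (.node (.node (.node (.leaf [409, 741, 931, 1153, 1226, 1425, 2014, 2583, 2674, 2837, 3028, 3731, 3814]) (.leaf [535, 774, 901, 1006, 1759, 2170, 2391, 2757, 2858, 3304, 3362, 3658, 4148])) (.node (.leaf [99, 176, 890, 1646, 1755, 2025, 2860, 3198, 3364, 3375, 4227, 4247, 4471]) (.leaf [334, 523, 899, 906, 1356, 1480, 2226, 2523, 2587, 2663, 4152, 4304, 4415]))) (.node (.node (.leaf [100, 181, 437, 1373, 1649, 1863, 2153, 2865, 3657, 3911, 4038, 4201, 4304]) (.leaf [365, 746, 1399, 1595, 2186, 2573, 2651, 2700, 3248, 3475, 3577, 3590, 3792])) (.node (.leaf [363, 793, 1810, 1891, 2571, 2673, 2698, 2823, 2938, 3328, 4160, 4162, 4406]) (.leaf [66, 270, 635, 2008, 2858, 2962, 3250, 3323, 3395, 3506, 3724, 3917, 4033])))))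

def nbr2204 : Janko.Tree (List ℕ) :=
  (.node (.node (.node (.node (.node (.leaf [300, 472, 595, 616, 1090, 1877, 2455, 3330, 3427, 3948, 4097, 4387, 4440]) (.leaf [50, 195, 212, 1092, 1131, 1952, 2030, 2255, 3089, 3278, 3469, 4231, 4447])) (.leaf [81, 296, 376, 1113, 1943, 2054, 2420, 2607, 3121, 3448, 3574, 3905, 4010])) (.node (.leaf [983, 1142, 1553, 1822, 2209, 2283, 2394, 2529, 2796, 3498, 3503, 3508, 3921]) (.leaf [173, 226, 1703, 1811, 1911, 2017, 2488, 2553, 2598, 2794, 3572, 3957, 4141]))) (.node (.node (.leaf [228, 309, 1174, 1184, 1233, 1798, 2473, 2475, 2628, 3191, 3816, 3836, 4457]) (.leaf [486, 643, 912, 941, 1706, 1770, 1985, 3183, 3408, 3519, 3804, 3815, 3820])) (.node (.leaf [811, 862, 869, 1138, 1333, 1626, 1730, 2097, 2104, 2200, 2787, 3122, 4061]) (.leaf [264, 273, 430, 435, 451, 583, 1087, 1203, 1378, 1752, 1878, 2982, 3691])))) (.node (.node (.node (.leaf [595, 742, 935, 949, 1074, 1299, 1355, 1911, 2815, 3065, 3350, 3547, 4216]) (.leaf [483, 517, 620, 1087, 1696, 2048, 2998, 3274, 3297, 3471, 3812, 3913, 4382])) (.node (.leaf [399, 547, 751, 1841, 2026, 2032,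 2426, 2643, 3180, 3268, 3594, 3941, 4008]) (.leaf [268, 1049, 1408, 1796, 1908, 2157, 2237, 2388, 2597, 2833, 3625, 3670, 4114]))) (.node (.node (.leaf [477, 579, 704, 794, 998, 1374, 1936, 2227, 2545, 2905, 2966, 3712, 4305]) (.leaf [684, 914, 1251, 1287, 1338, 2164, 2574, 2644, 3116, 3219, 3578, 4193, 4297])) (.node (.leaf [779, 845, 1080, 1088, 1469, 1495, 1516, 2639, 2805, 3273, 3926, 4217, 4245]) (.leaf [251, 684, 900, 1250, 1366, 1782, 1880, 2129, 2148, 2656, 2875, 3390, 4003])))))

def nbr2205 : Janko.Tree (List ℕ) :=
  (.node (.node (.node (.node (.node (.leaf [301, 473, 594, 617, 1091, 1876, 2454, 3331, 3426, 3949, 4096, 4386, 4441]) (.leaf [51, 194, 213, 1093, 1130, 1953, 2031, 2254, 3088, 3279, 3468, 4230, 4446])) (.leaf [80, 297, 377, 1112, 1942, 2055, 2421, 2606, 3120, 3449, 3575, 3904, 4011])) (.node (.leaf [982, 1143, 1552, 1823, 2208, 2282, 2395, 2528, 2797, 3499, 3502, 3509, 3920]) (.leaf [172, 227, 1702, 1810, 1910, 2016, 2489, 2552, 2599, 2795, 3573, 3956, 4140]))) (.node (.node (.leaf [229, 308, 1175, 1185, 1232, 1799, 2472, 2474, 2629, 3190, 3817, 3837, 4456])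 (.leaf [487, 642, 913, 940, 1707, 1771, 1984, 3182, 3409, 3518, 3805, 3814, 3821])) (.node (.leaf [810, 863, 868, 1139, 1332, 1627, 1731, 2096, 2105, 2201, 2786, 3123, 4060]) (.leaf [265, 272, 431, 434, 450, 582, 1086, 1202, 1379, 1753, 1879, 2983, 3690])))) (.node (.node (.node (.leaf [594, 743, 934, 948, 1075, 1298, 1354, 1910, 2814, 3064, 3351, 3546, 4217]) (.leaf [482, 516, 621, 1086, 1697, 2049, 2999, 3275, 3296, 3470, 3813, 3912, 4383])) (.node (.leaf [398, 546, 750, 1840, 2027, 2033, 2427, 2642, 3181, 3269, 3595, 3940, 4009]) (.leaf [269, 1048, 1409, 1797, 1909, 2156, 2236, 2389, 2596, 2832, 3624, 3671, 4115]))) (.node (.node (.leaf [476, 578, 705, 795, 999, 1375, 1937, 2226, 2544, 2904, 2967, 3713, 4304]) (.leaf [685, 915, 1250, 1286, 1339, 2165, 2575, 2645, 3117, 3218, 3579, 4192, 4296])) (.node (.leaf [778, 844, 1081, 1089, 1468, 1494, 1517, 2638, 2804, 3272, 3927, 4216, 4244]) (.leaf [250, 685, 901, 1251, 1367, 1783, 1881, 2128, 2149, 2657, 2874, 3391, 4002])))))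

def nbr2206 : Janko.Tree (List ℕ) :=
  (.node (.node (.node (.node (.node (.leaf [302, 622, 791, 1038, 1699, 2438, 2499, 2540, 2834, 2952, 3882, 3958, 4203]) (.leaf [52, 214, 599, 636, 1133, 1313, 1402, 3165, 3313, 3471, 4352, 4369, 4397])) (.leaf [261, 298, 880, 1115, 1989, 2533, 2609, 3020, 3520, 3551, 3761, 3773, 4323])) (.node (.leaf [369, 402, 832, 1136, 1167, 1588, 1928, 2348, 3129, 3805, 4048, 4133, 4384]) (.leaf [193, 204, 665, 735, 744, 769, 1262, 2273, 2314, 2490, 2528, 2823, 4088]))) (.node (.node (.leaf [311, 991, 1176, 1186, 1280, 2407, 2477, 2630, 2714, 3193, 3696, 3908, 4052]) (.leaf [488, 645, 754, 801, 914, 1772, 1987, 2042, 2174, 2785, 2851, 3055, 3464])) (.node (.leaf [302, 636, 1048, 2473, 2629, 2832, 2875, 3323, 3398, 3439, 3633, 3845, 3898]) (.leaf [437, 455, 552, 941, 1027, 1054, 2667, 3027, 3106, 3200, 3392, 3626, 4165])))) (.node (.node (.node (.leaf [744, 937, 1076, 1301, 1323, 1766, 2220, 2842, 2956, 3067, 3549, 3737, 4218]) (.leaf [221, 446, 487, 700, 2281, 2298, 2907, 2924, 3158, 3620, 3814, 3847, 4175])) (.node (.leaf [46, 289, 723, 1127, 1298, 1636,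 1883, 2028, 2034, 3160, 3405, 3596, 3889]) (.leaf [58, 84, 245, 601, 1447, 1885, 1971, 2837, 3734, 3814, 3839, 3865, 4175]))) (.node (.node (.leaf [439, 700, 1000, 1376, 1864, 1938, 2229, 2907, 2992, 3266, 3643, 3714, 3849]) (.leaf [848, 1098, 1523, 1546, 1920, 2198, 2507, 2576, 3206, 3229, 3346, 3364, 3982])) (.node (.leaf [16, 453, 475, 921, 1679, 1737, 2069, 2138, 2585, 2684, 2859, 3153, 3658]) (.leaf [440, 686, 902, 909, 1368, 1503, 1646, 1784, 2012, 2281, 2489, 2877, 4002])))))

def nbr2207 : Janko.Tree (List ℕ) :=
  (.node (.node (.node (.node (.node (.leaf [303, 623, 790, 1039, 1698, 2439, 2498, 2541, 2835, 2953, 3883, 3959, 4202]) (.leaf [53, 215, 598, 637, 1132, 1312, 1403, 3164, 3312, 3470, 4353, 4368, 4396])) (.leaf [260, 299, 881, 1114, 1988, 2532, 2608, 3021, 3521, 3550, 3760, 3772, 4322])) (.node (.leaf [368, 403, 833, 1137, 1166, 1589, 1929, 2349, 3128, 3804, 4049, 4132, 4385]) (.leaf [192, 205, 664, 734, 745, 768, 1263, 2272, 2315, 2491, 2529, 2822, 4089]))) (.node (.node (.leaf [310, 990, 1177, 1187, 1281, 2406, 2476, 2631, 2715, 3192, 3697, 3909, 4053]) (.leaf [489,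 644, 755, 800, 915, 1773, 1986, 2043, 2175, 2784, 2850, 3054, 3465])) (.node (.leaf [303, 637, 1049, 2472, 2628, 2833, 2874, 3322, 3399, 3438, 3632, 3844, 3899]) (.leaf [436, 454, 553, 940, 1026, 1055, 2666, 3026, 3107, 3201, 3393, 3627, 4164])))) (.node (.node (.node (.leaf [745, 936, 1077, 1300, 1322, 1767, 2221, 2843, 2957, 3066, 3548, 3736, 4219]) (.leaf [220, 447, 486, 701, 2280, 2299, 2906, 2925, 3159, 3621, 3815, 3846, 4174])) (.node (.leaf [47, 288, 722, 1126, 1299, 1637, 1882, 2029, 2035, 3161, 3404, 3597, 3888]) (.leaf [59, 85, 244, 600, 1446, 1884, 1970, 2836, 3735, 3815, 3838, 3864, 4174]))) (.node (.node (.leaf [438, 701, 1001, 1377, 1865, 1939, 2228, 2906, 2993, 3267, 3642, 3715, 3848]) (.leaf [849, 1099, 1522, 1547, 1921, 2199, 2506, 2577, 3207, 3228, 3347, 3365, 3983])) (.node (.leaf [17, 452, 474, 920, 1678, 1736, 2068, 2139, 2584, 2685, 2858, 3152, 3659]) (.leaf [441, 687, 903, 908, 1369, 1502, 1647, 1785, 2013, 2280, 2488, 2876, 4003])))))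

def nbr2208 : Janko.Tree (List ℕ) :=
  (.node (.node (.node (.node (.node (.leaf [304, 406, 624, 676, 690, 1225, 1444, 1492, 2115, 2386, 2622, 3461, 4434]) (.leaf [218, 920, 1078, 1559, 1770, 1780, 1782, 2128, 2498, 2684, 3133, 3329, 3958])) (.leaf [531, 573, 770, 854, 1115, 1946, 1962, 2089, 2844, 3935, 4012, 4064, 4126])) (.node (.leaf [659, 1590, 1824, 1944, 2155, 2350, 2356, 2466, 2579, 2850, 4135, 4301, 4372]) (.leaf [383, 957, 1962, 2134, 2316, 2492, 2555, 2720, 2807, 3746, 3768, 4030, 4165]))) (.node (.node (.leaf [317, 456, 953, 1178, 1347, 1628, 2114, 2329, 2809, 3049, 3604, 4182, 4257]) (.leaf [299, 450, 671, 1284, 1298, 1382, 2533, 2891, 3432, 3466, 3547, 3930, 4020])) (.node (.leaf [262, 638, 1619, 2202, 2631, 2714, 2772, 2877, 3613, 3635, 3837, 3842, 4103]) (.leaf [381, 510, 643, 1250, 1598, 2829, 2900, 3056, 3950, 4022, 4144, 4229, 4356])))) (.node (.node (.node (.leaf [559, 746, 782, 1511, 2029, 2386, 2908, 2927, 3422, 3577, 3799, 4178, 4299]) (.leaf [202, 223, 489, 685, 702, 1027, 2269, 3054, 3276, 3415, 3617, 4193, 4320])) (.node (.leaf [721, 744, 1154, 1296, 1756,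 1843, 2104, 2154, 2233, 2680, 3360, 4088, 4191]) (.leaf [171, 824, 1048, 2019, 2184, 3281, 3409, 3438, 3487, 4092, 4248, 4307, 4352]))) (.node (.node (.leaf [100, 391, 1378, 1487, 1649, 1892, 2335, 2750, 2770, 3278, 3308, 3468, 3516]) (.leaf [274, 370, 387, 1009, 1052, 1217, 1956, 2674, 2836, 2862, 3365, 3839, 4362])) (.node (.leaf [228, 394, 499, 979, 989, 1233, 1353, 2714, 2792, 2884, 3606, 3689, 3927]) (.leaf [156, 1087, 1235, 1269, 1380, 1807, 2050, 2407, 2982, 3220, 3492, 3697, 3966])))))

def nbr2209 : Janko.Tree (List ℕ) :=
  (.node (.node (.node (.node (.node (.leaf [305, 407, 625, 677, 691, 1224, 1445, 1493, 2114, 2387, 2623, 3460, 4435]) (.leaf [219, 921, 1079, 1558, 1771, 1781, 1783, 2129, 2499, 2685, 3132, 3328, 3959])) (.leaf [530, 572, 771, 855, 1114, 1947, 1963, 2088, 2845, 3934, 4013, 4065, 4127])) (.node (.leaf [658, 1591, 1825, 1945, 2154, 2351, 2357, 2467, 2578, 2851, 4134, 4300, 4373]) (.leaf [382, 956, 1963, 2135, 2317, 2493, 2554, 2721, 2806, 3747, 3769, 4031, 4164]))) (.node (.node (.leaf [316, 457, 952, 1179, 1346, 1629, 2115, 2328, 2808, 3048, 3605, 4183, 4256])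 (.leaf [298, 451, 670, 1285, 1299, 1383, 2532, 2890, 3433, 3467, 3546, 3931, 4021])) (.node (.leaf [263, 639, 1618, 2203, 2630, 2715, 2773, 2876, 3612, 3634, 3836, 3843, 4102]) (.leaf [380, 511, 642, 1251, 1599, 2828, 2901, 3057, 3951, 4023, 4145, 4228, 4357])))) (.node (.node (.node (.leaf [558, 747, 783, 1510, 2028, 2387, 2909, 2926, 3423, 3576, 3798, 4179, 4298]) (.leaf [203, 222, 488, 684, 703, 1026, 2268, 3055, 3277, 3414, 3616, 4192, 4321])) (.node (.leaf [720, 745, 1155, 1297, 1757, 1842, 2105, 2155, 2232, 2681, 3361, 4089, 4190]) (.leaf [170, 825, 1049, 2018, 2185, 3280, 3408, 3439, 3486, 4093, 4249, 4306, 4353]))) (.node (.node (.leaf [101, 390, 1379, 1486, 1648, 1893, 2334, 2751, 2771, 3279, 3309, 3469, 3517]) (.leaf [275, 371, 386, 1008, 1053, 1216, 1957, 2675, 2837, 2863, 3364, 3838, 4363])) (.node (.leaf [229, 395, 498, 978, 988, 1232, 1352, 2715, 2793, 2885, 3607, 3688, 3926]) (.leaf [157, 1086, 1234, 1268, 1381, 1806, 2051, 2406, 2983, 3221, 3493, 3696, 3967])))))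

def nbr2210 : Janko.Tree (List ℕ) :=
  (.node (.node (.node (.node (.node (.leaf [306, 520, 626, 678, 888, 1494, 1732, 1796, 2050, 2117, 2769, 4050, 4437]) (.leaf [222, 620, 685, 1112, 1185, 3171, 3262, 3266, 3825, 4010, 4122, 4160, 4309])) (.leaf [64, 604, 920, 1095, 2106, 2135, 2290, 2312, 2846, 3747, 3755, 3810, 4099])) (.node (.leaf [658, 1071, 1160, 1245, 1537, 1824, 2100, 2829, 2890, 3131, 3294, 3554, 3999]) (.leaf [1379, 1548, 1640, 1742, 1753, 1893, 2022, 2494, 2722, 2724, 3457, 3646, 3748]))) (.node (.node (.leaf [183, 321, 460, 493, 872, 1351, 2116, 2524, 3575, 3583, 3787, 3905, 4036]) (.leaf [85, 1286, 1300, 1343, 1384, 2170, 2301, 2343, 3305, 3366, 3434, 3549, 3839])) (.node (.leaf [157, 1158, 2152, 2208, 2723, 2912, 2950, 3498, 3808, 4166, 4235, 4344, 4405]) (.leaf [261, 296, 610, 727, 762, 775, 1328, 2223, 2445, 3740, 3968, 3977, 4268])))) (.node (.node (.node (.leaf [378, 507, 748, 1473, 1806, 2050, 2121, 2464, 2699, 2777, 4143, 4398, 4421]) (.leaf [135, 804, 1591, 1604, 1758, 1984, 2238, 2357, 2849, 3163, 3172, 3519, 3618])) (.node (.leaf [713, 1156, 1226, 1263, 1918,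 2030, 2235, 2411, 2819, 2879, 3046, 3289, 4313]) (.leaf [587, 733, 828, 1452, 1497, 1724, 1935, 2302, 2468, 2763, 4123, 4271, 4274]))) (.node (.node (.leaf [82, 293, 1380, 1615, 1651, 2057, 2510, 2982, 3026, 3235, 3470, 4059, 4352]) (.leaf [321, 729, 1512, 1570, 1594, 1981, 2188, 3210, 3356, 3475, 3536, 3582, 4268])) (.node (.leaf [501, 689, 917, 1235, 1280, 2140, 2686, 2716, 2812, 2886, 3441, 3777, 3908]) (.leaf [237, 404, 466, 941, 1051, 1273, 1355, 2771, 3150, 3468, 3626, 4402, 4446])))))

def nbr2211 : Janko.Tree (List ℕ) :=
  (.node (.node (.node (.node (.node (.leaf [307, 521, 627, 679, 889, 1495, 1733, 1797, 2051, 2116, 2768, 4051, 4436]) (.leaf [223, 621, 684, 1113, 1184, 3170, 3263, 3267, 3824, 4011, 4123, 4161, 4308])) (.leaf [65, 605, 921, 1094, 2107, 2134, 2291, 2313, 2847, 3746, 3754, 3811, 4098])) (.node (.leaf [659, 1070, 1161, 1244, 1536, 1825, 2101, 2828, 2891, 3130, 3295, 3555, 3998]) (.leaf [1378, 1549, 1641, 1743, 1752, 1892, 2023, 2495, 2723, 2725, 3456, 3647, 3749]))) (.node (.node (.leaf [182, 320, 461, 492, 873, 1350, 2117, 2525, 3574, 3582, 3786, 3904, 4037])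 (.leaf [84, 1287, 1301, 1342, 1385, 2171, 2300, 2342, 3304, 3367, 3435, 3548, 3838])) (.node (.leaf [156, 1159, 2153, 2209, 2722, 2913, 2951, 3499, 3809, 4167, 4234, 4345, 4404]) (.leaf [260, 297, 611, 726, 763, 774, 1329, 2222, 2444, 3741, 3969, 3976, 4269])))) (.node (.node (.node (.leaf [379, 506, 749, 1472, 1807, 2051, 2120, 2465, 2698, 2776, 4142, 4399, 4420]) (.leaf [134, 805, 1590, 1605, 1759, 1985, 2239, 2356, 2848, 3162, 3173, 3518, 3619])) (.node (.leaf [712, 1157, 1227, 1262, 1919, 2031, 2234, 2410, 2818, 2878, 3047, 3288, 4312]) (.leaf [586, 732, 829, 1453, 1496, 1725, 1934, 2303, 2469, 2762, 4122, 4270, 4275]))) (.node (.node (.leaf [83, 292, 1381, 1614, 1650, 2056, 2511, 2983, 3027, 3234, 3471, 4058, 4353]) (.leaf [320, 728, 1513, 1571, 1595, 1980, 2189, 3211, 3357, 3474, 3537, 3583, 4269])) (.node (.leaf [500, 688, 916, 1234, 1281, 2141, 2687, 2717, 2813, 2887, 3440, 3776, 3909]) (.leaf [236, 405, 467, 940, 1050, 1272, 1354, 2770, 3151, 3469, 3627, 4403, 4447])))))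

def nbr2212 : Janko.Tree (List ℕ) :=
  (.node (.node (.node (.node (.node (.leaf [114, 308, 383, 963, 1374, 1616, 1794, 1864, 2883, 3727, 3800, 4083, 4152]) (.leaf [28, 42, 674, 991, 1593, 1689, 2108, 2865, 3085, 3321, 3568, 4267, 4342])) (.leaf [66, 606, 922, 1097, 1743, 2314, 2372, 2428, 2848, 3053, 3485, 3749, 3758])) (.node (.leaf [73, 372, 1489, 1828, 2152, 2160, 2865, 2903, 3141, 3214, 3326, 3655, 4293]) (.leaf [242, 299, 405, 728, 971, 1355, 2004, 2224, 2446, 2498, 3074, 4254, 4452]))) (.node (.node (.leaf [180, 323, 462, 695, 1180, 2118, 2757, 3020, 3772, 3789, 4000, 4038, 4149]) (.leaf [514, 2009, 2268, 2287, 2469, 3043, 3195, 3298, 3586, 3698, 4025, 4346, 4379])) (.node (.leaf [6, 283, 329, 719, 1931, 2374, 2467, 2647, 2649, 3561, 3731, 3923, 3985]) (.leaf [98, 667, 692, 891, 986, 1897, 2146, 2426, 2479, 2869, 3158, 3767, 3940])))) (.node (.node (.node (.leaf [208, 750, 1364, 1616, 2027, 2412, 2417, 2592, 2667, 2741, 3311, 3720, 4063]) (.leaf [137, 806, 1760, 1986, 2174, 2338, 2359, 2502, 3103, 3176, 3222, 3620, 4174])) (.node (.leaf [753, 1364, 1682, 2032, 2295, 2404, 2427,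 2454, 2607, 2922, 3159, 3322, 3686]) (.leaf [821, 832, 881, 1240, 1305, 1370, 2546, 2767, 2824, 2970, 3551, 3688, 3805]))) (.node (.node (.leaf [104, 348, 395, 1051, 1721, 1771, 1782, 2130, 2187, 2861, 3007, 3475, 3626]) (.leaf [163, 608, 998, 1254, 1621, 2084, 2826, 2966, 3086, 3095, 3580, 4066, 4198])) (.node (.leaf [282, 840, 943, 1545, 1606, 1937, 2136, 2449, 2465, 2670, 2783, 3270, 3827]) (.leaf [7, 266, 1072, 1120, 1374, 1802, 2068, 2138, 2344, 2883, 3732, 3752, 3769])))))

def nbr2213 : Janko.Tree (List ℕ) :=
  (.node (.node (.node (.node (.node (.leaf [115, 309, 382, 962, 1375, 1617, 1795, 1865, 2882, 3726, 3801, 4082, 4153]) (.leaf [29, 43, 675, 990, 1592, 1688, 2109, 2864, 3084, 3320, 3569, 4266, 4343])) (.leaf [67, 607, 923, 1096, 1742, 2315, 2373, 2429, 2849, 3052, 3484, 3748, 3759])) (.node (.leaf [72, 373, 1488, 1829, 2153, 2161, 2864, 2902, 3140, 3215, 3327, 3654, 4292]) (.leaf [243, 298, 404, 729, 970, 1354, 2005, 2225, 2447, 2499, 3075, 4255, 4453]))) (.node (.node (.leaf [181, 322, 463, 694, 1181, 2119, 2756, 3021, 3773, 3788, 4001, 4039, 4148]) (.leaf [515, 2008,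 2269, 2286, 2468, 3042, 3194, 3299, 3587, 3699, 4024, 4347, 4378])) (.node (.leaf [7, 282, 328, 718, 1930, 2375, 2466, 2646, 2648, 3560, 3730, 3922, 3984]) (.leaf [99, 666, 693, 890, 987, 1896, 2147, 2427, 2478, 2868, 3159, 3766, 3941])))) (.node (.node (.node (.leaf [209, 751, 1365, 1617, 2026, 2413, 2416, 2593, 2666, 2740, 3310, 3721, 4062]) (.leaf [136, 807, 1761, 1987, 2175, 2339, 2358, 2503, 3102, 3177, 3223, 3621, 4175])) (.node (.leaf [752, 1365, 1683, 2033, 2294, 2405, 2426, 2455, 2606, 2923, 3158, 3323, 3687]) (.leaf [820, 833, 880, 1241, 1304, 1371, 2547, 2766, 2825, 2971, 3550, 3689, 3804]))) (.node (.node (.leaf [105, 349, 394, 1050, 1720, 1770, 1783, 2131, 2186, 2860, 3006, 3474, 3627]) (.leaf [162, 609, 999, 1255, 1620, 2085, 2827, 2967, 3087, 3094, 3581, 4067, 4199])) (.node (.leaf [283, 841, 942, 1544, 1607, 1936, 2137, 2448, 2464, 2671, 2782, 3271, 3826]) (.leaf [6, 267, 1073, 1121, 1375, 1803, 2069, 2139, 2345, 2882, 3733, 3753, 3768])))))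

def nbr2214 : Janko.Tree (List ℕ) :=
  (.node (.node (.node (.node (.node (.leaf [116, 310, 965, 1376, 1640, 1949, 3135, 3259, 3802, 4004, 4085, 4179, 4236]) (.leaf [254, 333, 1411, 1430, 1476, 1662, 2441, 2500, 2550, 3075, 4007, 4430, 4463])) (.leaf [500, 884, 1384, 1548, 1569, 1687, 1746, 2055, 2204, 2592, 2925, 3720, 3828])) (.node (.leaf [432, 523, 634, 710, 916, 1830, 2079, 2659, 2710, 3917, 4245, 4349, 4455]) (.leaf [85, 244, 407, 1196, 2006, 2194, 2220, 2500, 3240, 3303, 3717, 3744, 4387]))) (.node (.node (.leaf [149, 230, 352, 435, 786, 1379, 1539, 1866, 2792, 2884, 3697, 4031, 4209]) (.leaf [630, 1150, 1334, 1545, 1717, 1916, 3226, 3481, 3491, 3596, 3796, 3997, 4392])) (.node (.leaf [8, 331, 542, 1541, 1814, 2214, 2614, 2649, 3429, 3563, 3733, 3922, 4068]) (.leaf [82, 239, 448, 1477, 1579, 1919, 1997, 2235, 2485, 3539, 3860, 3973, 4204])))) (.node (.node (.node (.leaf [173, 425, 574, 662, 752, 2033, 2553, 2624, 2643, 2687, 2981, 3692, 4442]) (.leaf [1176, 1313, 1382, 1395, 1762, 1915, 2005, 2410, 2631, 2891, 3000, 3553, 4364])) (.node (.leaf [239, 1637, 1684, 2034, 2146,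 2609, 2773, 3060, 3722, 3766, 3822, 4100, 4321]) (.leaf [98, 161, 1001, 1704, 1964, 2021, 2082, 2484, 3093, 3151, 3482, 3506, 3725]))) (.node (.node (.leaf [130, 898, 932, 1321, 1382, 2027, 2108, 2306, 2812, 3115, 3240, 3771, 4376]) (.leaf [510, 525, 1000, 1256, 1623, 2099, 2828, 2891, 3266, 3537, 3553, 3582, 3786])) (.node (.leaf [34, 758, 945, 1247, 1547, 1939, 2263, 2319, 2672, 3423, 3442, 4069, 4112]) (.leaf [576, 723, 945, 1158, 1298, 2196, 2413, 2721, 2821, 2965, 3112, 4351, 4404])))))

def nbr2215 : Janko.Tree (List ℕ) :=
  (.node (.node (.node (.node (.node (.leaf [117, 311, 964, 1377, 1641, 1948, 3134, 3258, 3803, 4005, 4084, 4178, 4237]) (.leaf [255, 332, 1410, 1431, 1477, 1663, 2440, 2501, 2551, 3074, 4006, 4431, 4462])) (.leaf [501, 885, 1385, 1549, 1568, 1686, 1747, 2054, 2205, 2593, 2924, 3721, 3829])) (.node (.leaf [433, 522, 635, 711, 917, 1831, 2078, 2658, 2711, 3916, 4244, 4348, 4454]) (.leaf [84, 245, 406, 1197, 2007, 2195, 2221, 2501, 3241, 3302, 3716, 3745, 4386]))) (.node (.node (.leaf [148, 231, 353, 434, 787, 1378, 1538, 1867, 2793, 2885, 3696, 4030, 4208])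 (.leaf [631, 1151, 1335, 1544, 1716, 1917, 3227, 3480, 3490, 3597, 3797, 3996, 4393])) (.node (.leaf [9, 330, 543, 1540, 1815, 2215, 2615, 2648, 3428, 3562, 3732, 3923, 4069]) (.leaf [83, 238, 449, 1476, 1578, 1918, 1996, 2234, 2484, 3538, 3861, 3972, 4205])))) (.node (.node (.node (.leaf [172, 424, 575, 663, 753, 2032, 2552, 2625, 2642, 2686, 2980, 3693, 4443]) (.leaf [1177, 1312, 1383, 1394, 1763, 1914, 2004, 2411, 2630, 2890, 3001, 3552, 4365])) (.node (.leaf [238, 1636, 1685, 2035, 2147, 2608, 2772, 3061, 3723, 3767, 3823, 4101, 4320]) (.leaf [99, 160, 1000, 1705, 1965, 2020, 2083, 2485, 3092, 3150, 3483, 3507, 3724]))) (.node (.node (.leaf [131, 899, 933, 1320, 1383, 2026, 2109, 2307, 2813, 3114, 3241, 3770, 4377]) (.leaf [511, 524, 1001, 1257, 1622, 2098, 2829, 2890, 3267, 3536, 3552, 3583, 3787])) (.node (.leaf [35, 759, 944, 1246, 1546, 1938, 2262, 2318, 2673, 3422, 3443, 4068, 4113]) (.leaf [577, 722, 944, 1159, 1299, 2197, 2412, 2720, 2820, 2964, 3113, 4350, 4405])))))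

def nbr2216 : Janko.Tree (List ℕ) :=
  (.node (.node (.node (.node (.node (.leaf [118, 312, 433, 1056, 1257, 2078, 2956, 3290, 3326, 3494, 3934, 4218, 4439]) (.leaf [87, 404, 538, 540, 1493, 1605, 2114, 2357, 3077, 3096, 3168, 3865, 4338])) (.leaf [123, 474, 548, 1142, 1416, 1440, 1834, 2061, 2332, 3013, 3175, 3498, 4281])) (.node (.leaf [184, 434, 647, 875, 918, 1024, 1386, 1831, 2179, 2746, 3690, 4031, 4331]) (.leaf [190, 299, 329, 1528, 1591, 2241, 2466, 2876, 3282, 3518, 3841, 4102, 4118]))) (.node (.node (.leaf [151, 232, 788, 1381, 2363, 2654, 2725, 2812, 2872, 2886, 2893, 3511, 3684]) (.leaf [15, 472, 1363, 1676, 1690, 1702, 1734, 2066, 2231, 2856, 2928, 3573, 4242])) (.node (.leaf [10, 132, 1335, 1405, 1724, 2216, 2303, 2573, 2651, 3313, 3481, 3653, 4078]) (.leaf [112, 797, 959, 1128, 1692, 1858, 2144, 2263, 2673, 3543, 3672, 4018, 4380])))) (.node (.node (.node (.leaf [754, 1155, 2024, 2055, 2127, 2205, 2638, 2666, 2751, 2805, 4010, 4165, 4191]) (.leaf [78, 822, 1315, 1384, 1397, 1764, 2007, 2301, 2384, 2504, 3002, 3376, 3555])) (.node (.leaf [187, 190, 448, 1552, 1587, 1590,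 2892, 2897, 3196, 3510, 3836, 4057, 4359]) (.leaf [563, 1054, 1530, 1829, 2008, 2243, 2267, 2487, 2698, 3215, 3698, 3970, 4163]))) (.node (.node (.leaf [132, 348, 663, 1384, 1517, 1686, 2029, 2216, 2644, 3039, 3117, 3798, 4238]) (.leaf [456, 628, 1107, 1264, 1965, 2253, 2414, 2779, 2912, 3048, 3088, 3584, 3700])) (.node (.leaf [1030, 1280, 1735, 2086, 2131, 2172, 2495, 2690, 2706, 2826, 3552, 4199, 4210]) (.leaf [45, 914, 1970, 2011, 2730, 3117, 3186, 3541, 3735, 3802, 4178, 4238, 4301])))))

def nbr2217 : Janko.Tree (List ℕ) :=
  (.node (.node (.node (.node (.node (.leaf [119, 313, 432, 1057, 1256, 2079, 2957, 3291, 3327, 3495, 3935, 4219, 4438]) (.leaf [86, 405, 539, 541, 1492, 1604, 2115, 2356, 3076, 3097, 3169, 3864, 4339])) (.leaf [122, 475, 549, 1143, 1417, 1441, 1835, 2060, 2333, 3012, 3174, 3499, 4280])) (.node (.leaf [185, 435, 646, 874, 919, 1025, 1387, 1830, 2178, 2747, 3691, 4030, 4330]) (.leaf [191, 298, 328, 1529, 1590, 2240, 2467, 2877, 3283, 3519, 3840, 4103, 4119]))) (.node (.node (.leaf [150, 233, 789, 1380, 2362, 2655, 2724, 2813, 2873, 2887, 2892, 3510, 3685]) (.leaf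 [14, 473, 1362, 1677, 1691, 1703, 1735, 2067, 2230, 2857, 2929, 3572, 4243])) (.node (.leaf [11, 133, 1334, 1404, 1725, 2217, 2302, 2572, 2650, 3312, 3480, 3652, 4079]) (.leaf [113, 796, 958, 1129, 1693, 1859, 2145, 2262, 2672, 3542, 3673, 4019, 4381])))) (.node (.node (.node (.leaf [755, 1154, 2025, 2054, 2126, 2204, 2639, 2667, 2750, 2804, 4011, 4164, 4190]) (.leaf [79, 823, 1314, 1385, 1396, 1765, 2006, 2300, 2385, 2505, 3003, 3377, 3554])) (.node (.leaf [186, 191, 449, 1553, 1586, 1591, 2893, 2896, 3197, 3511, 3837, 4056, 4358]) (.leaf [562, 1055, 1531, 1828, 2009, 2242, 2266, 2486, 2699, 3214, 3699, 3971, 4162]))) (.node (.node (.leaf [133, 349, 662, 1385, 1516, 1687, 2028, 2217, 2645, 3038, 3116, 3799, 4239]) (.leaf [457, 629, 1106, 1265, 1964, 2252, 2415, 2778, 2913, 3049, 3089, 3585, 3701])) (.node (.leaf [1031, 1281, 1734, 2087, 2130, 2173, 2494, 2691, 2707, 2827, 3553, 4198, 4211]) (.leaf [44, 915, 1971, 2010, 2731, 3116, 3187, 3540, 3734, 3803, 4179, 4239, 4300])))))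

def nbr2218 : Janko.Tree (List ℕ) :=
  (.node (.node (.node (.node (.node (.leaf [120, 314, 435, 1206, 1478, 2067, 2160, 2178, 2265, 2934, 3496, 3680, 3936]) (.leaf [10, 133, 481, 805, 1307, 2789, 3518, 3631, 3940, 3990, 4119, 4238, 4286])) (.leaf [46, 129, 638, 722, 1431, 1442, 1534, 2551, 2555, 2721, 3227, 3306, 3909])) (.node (.leaf [93, 140, 712, 1026, 1701, 1832, 2479, 3200, 3353, 3429, 3584, 3816, 4467]) (.leaf [68, 339, 939, 1164, 1315, 1695, 1787, 1941, 2034, 2613, 3961, 4072, 4402]))) (.node (.node (.leaf [78, 234, 465, 1021, 1228, 1786, 2170, 2342, 2942, 3031, 3446, 3476, 4248]) (.leaf [36, 537, 775, 815, 920, 1467, 2441, 2513, 2859, 2861, 3034, 3167, 3631])) (.node (.leaf [12, 536, 1337, 1407, 1648, 2544, 2653, 3078, 3256, 3315, 3649, 4173, 4181]) (.leaf [192, 799, 961, 1694, 2126, 2205, 3029, 3475, 3524, 3531, 4131, 4314, 4432])))) (.node (.node (.node (.leaf [756, 1157, 1427, 1753, 1912, 2207, 2640, 2807, 2983, 3520, 4009, 4313, 4322]) (.leaf [538, 592, 1062, 1650, 1731, 1927, 2917, 3122, 3181, 3269, 3425, 3848, 3991])) (.node (.leaf [272, 385, 450, 1050, 1520, 1554,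 2036, 2503, 2726, 2860, 3198, 3987, 4052]) (.leaf [74, 518, 698, 901, 927, 1032, 1271, 2871, 3305, 3629, 3786, 3897, 4150]))) (.node (.node (.leaf [708, 918, 1124, 1323, 1329, 1386, 1676, 1952, 2431, 2738, 3184, 3951, 4105]) (.leaf [240, 243, 253, 331, 478, 653, 1360, 1778, 1969, 2184, 2729, 3598, 3944])) (.node (.leaf [127, 1003, 1014, 1032, 1146, 1627, 1737, 2736, 2828, 3554, 3787, 3954, 4240]) (.leaf [187, 393, 1102, 1420, 2164, 2333, 2884, 2894, 3192, 3219, 3781, 3893, 4208])))))

def nbr2219 : Janko.Tree (List ℕ) :=
  (.node (.node (.node (.node (.node (.leaf [121, 315, 434, 1207, 1479, 2066, 2161, 2179, 2264, 2935, 3497, 3681, 3937]) (.leaf [11, 132, 480, 804, 1306, 2788, 3519, 3630, 3941, 3991, 4118, 4239, 4287])) (.leaf [47, 128, 639, 723, 1430, 1443, 1535, 2550, 2554, 2720, 3226, 3307, 3908])) (.node (.leaf [92, 141, 713, 1027, 1700, 1833, 2478, 3201, 3352, 3428, 3585, 3817, 4466]) (.leaf [69, 338, 938, 1165, 1314, 1694, 1786, 1940, 2035, 2612, 3960, 4073, 4403]))) (.node (.node (.leaf [79, 235, 464, 1020, 1229, 1787, 2171, 2343, 2943, 3030, 3447, 3477, 4249]) (.leaf [37,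 536, 774, 814, 921, 1466, 2440, 2512, 2858, 2860, 3035, 3166, 3630])) (.node (.leaf [13, 537, 1336, 1406, 1649, 2545, 2652, 3079, 3257, 3314, 3648, 4172, 4180]) (.leaf [193, 798, 960, 1695, 2127, 2204, 3028, 3474, 3525, 3530, 4130, 4315, 4433])))) (.node (.node (.node (.leaf [757, 1156, 1426, 1752, 1913, 2206, 2641, 2806, 2982, 3521, 4008, 4312, 4323]) (.leaf [539, 593, 1063, 1651, 1730, 1926, 2916, 3123, 3180, 3268, 3424, 3849, 3990])) (.node (.leaf [273, 384, 451, 1051, 1521, 1555, 2037, 2502, 2727, 2861, 3199, 3986, 4053]) (.leaf [75, 519, 699, 900, 926, 1033, 1270, 2870, 3304, 3628, 3787, 3896, 4151]))) (.node (.node (.leaf [709, 919, 1125, 1322, 1328, 1387, 1677, 1953, 2430, 2739, 3185, 3950, 4104]) (.leaf [241, 242, 252, 330, 479, 652, 1361, 1779, 1968, 2185, 2728, 3599, 3945])) (.node (.leaf [126, 1002, 1015, 1033, 1147, 1626, 1736, 2737, 2829, 3555, 3786, 3955, 4241]) (.leaf [186, 392, 1103, 1421, 2165, 2332, 2885, 2895, 3193, 3218, 3780, 3892, 4209])))))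

def nbr2220 : Janko.Tree (List ℕ) :=
  (.node (.node (.node (.node (.node (.leaf [316, 596, 813, 1040, 2376, 2391, 2553, 2599, 2838, 3152, 3658, 3884, 4407]) (.leaf [29, 716, 780, 1318, 1638, 1978, 2845, 2970, 3668, 3826, 4281, 4293, 4411])) (.leaf [211, 288, 573, 584, 778, 1157, 1298, 1816, 3113, 3222, 3920, 4042, 4065])) (.node (.leaf [95, 436, 714, 1028, 1703, 1834, 2407, 2481, 3107, 3431, 3640, 3763, 3956]) (.leaf [193, 610, 696, 969, 1297, 2802, 2889, 3058, 3383, 3682, 3741, 4411, 4462]))) (.node (.node (.leaf [80, 236, 467, 1023, 1599, 2172, 2344, 2647, 3246, 3448, 3561, 4096, 4250]) (.leaf [502, 762, 1501, 1761, 1829, 2159, 2362, 2725, 2841, 3212, 3261, 3456, 3704])) (.node (.leaf [138, 200, 624, 1283, 1408, 2257, 2296, 2693, 3108, 3286, 3293, 4020, 4389]) (.leaf [34, 236, 709, 1630, 1677, 2344, 2928, 3348, 3462, 3676, 3732, 3956, 4069])))) (.node (.node (.node (.leaf [208, 743, 758, 1414, 1462, 1650, 1744, 2123, 2245, 2948, 3026, 3300, 4203]) (.leaf [188, 1066, 1832, 2208, 2379, 2405, 2620, 2754, 3006, 3352, 3502, 3750, 4167])) (.node (.leaf [69, 146, 494, 755, 875, 939, 1130,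 1793, 1830, 2042, 2150, 3154, 3181]) (.leaf [76, 903, 987, 1013, 1230, 1273, 1466, 2197, 2246, 3243, 3455, 3631, 3788]))) (.node (.node (.leaf [516, 1038, 1313, 1325, 1388, 1624, 1678, 2004, 2835, 3274, 3500, 4124, 4479]) (.leaf [245, 255, 480, 1362, 1885, 2231, 2388, 2550, 2596, 2789, 3227, 3600, 3883])) (.node (.leaf [569, 605, 855, 1036, 1177, 1210, 1296, 1521, 1962, 2090, 2135, 2435, 3696]) (.leaf [546, 789, 1678, 2034, 2069, 2147, 2181, 2423, 2724, 3753, 3941, 4225, 4403])))))

def nbr2221 : Janko.Tree (List ℕ) :=
  (.node (.node (.node (.node (.node (.leaf [317, 597, 812, 1041, 2377, 2390, 2552, 2598, 2839, 3153, 3659, 3885, 4406]) (.leaf [28, 717, 781, 1319, 1639, 1979, 2844, 2971, 3669, 3827, 4280, 4292, 4410])) (.leaf [210, 289, 572, 585, 779, 1156, 1299, 1817, 3112, 3223, 3921, 4043, 4064])) (.node (.leaf [94, 437, 715, 1029, 1702, 1835, 2406, 2480, 3106, 3430, 3641, 3762, 3957]) (.leaf [192, 611, 697, 968, 1296, 2803, 2888, 3059, 3382, 3683, 3740, 4410, 4463]))) (.node (.node (.leaf [81, 237, 466, 1022, 1598, 2173, 2345, 2646, 3247, 3449, 3560, 4097, 4251]) (.leaf [503,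 763, 1500, 1760, 1828, 2158, 2363, 2724, 2840, 3213, 3260, 3457, 3705])) (.node (.leaf [139, 201, 625, 1282, 1409, 2256, 2297, 2692, 3109, 3287, 3292, 4021, 4388]) (.leaf [35, 237, 708, 1631, 1676, 2345, 2929, 3349, 3463, 3677, 3733, 3957, 4068])))) (.node (.node (.node (.leaf [209, 742, 759, 1415, 1463, 1651, 1745, 2122, 2244, 2949, 3027, 3301, 4202]) (.leaf [189, 1067, 1833, 2209, 2378, 2404, 2621, 2755, 3007, 3353, 3503, 3751, 4166])) (.node (.leaf [68, 147, 495, 754, 874, 938, 1131, 1792, 1831, 2043, 2151, 3155, 3180]) (.leaf [77, 902, 986, 1012, 1231, 1272, 1467, 2196, 2247, 3242, 3454, 3630, 3789]))) (.node (.node (.leaf [517, 1039, 1312, 1324, 1389, 1625, 1679, 2005, 2834, 3275, 3501, 4125, 4478]) (.leaf [244, 254, 481, 1363, 1884, 2230, 2389, 2551, 2597, 2788, 3226, 3601, 3882])) (.node (.leaf [568, 604, 854, 1037, 1176, 1211, 1297, 1520, 1963, 2091, 2134, 2434, 3697]) (.leaf [547, 788, 1679, 2035, 2068, 2146, 2180, 2422, 2725, 3752, 3940, 4224, 4402])))))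

def nbr2222 : Janko.Tree (List ℕ) :=
  (.node (.node (.node (.node (.node (.leaf [318, 815, 1042, 2434, 2620, 2840, 3270, 3498, 3591, 3902, 4166, 4294, 4336]) (.leaf [987, 1012, 1070, 1255, 1551, 1642, 1667, 2092, 2124, 2505, 3003, 3919, 4289])) (.leaf [109, 168, 524, 1230, 2175, 2376, 2850, 3081, 3105, 3716, 3938, 4107, 4346])) (.node (.leaf [52, 442, 1334, 1505, 1836, 1889, 2665, 2791, 2946, 3366, 3435, 3797, 4079]) (.leaf [283, 595, 707, 2190, 2508, 2648, 2705, 2880, 3161, 3285, 3321, 3596, 3623]))) (.node (.node (.leaf [82, 238, 1141, 1537, 1668, 2019, 2960, 3367, 3371, 3823, 4012, 4058, 4065]) (.leaf [471, 482, 504, 735, 742, 768, 972, 1354, 1696, 1844, 2075, 2279, 2531])) (.node (.leaf [62, 1560, 1931, 2218, 2294, 2534, 3029, 3533, 3543, 3922, 4120, 4225, 4445]) (.leaf [248, 543, 945, 1046, 1323, 1677, 1766, 1826, 2471, 2682, 3139, 3336, 4068])))) (.node (.node (.node (.leaf [45, 210, 537, 760, 1210, 1225, 1543, 1947, 1963, 3204, 3674, 4309, 4452]) (.leaf [289, 1550, 1792, 2244, 2384, 2408, 2505, 2919, 3690, 3722, 3921, 4034, 4476])) (.node (.leaf [726, 824, 877, 1049, 1101,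 1260, 1832, 2046, 2105, 2306, 2800, 3977, 4344]) (.leaf [140, 351, 447, 452, 823, 1519, 1892, 2243, 2664, 3353, 3556, 3809, 4167]))) (.node (.node (.leaf [214, 298, 329, 636, 1390, 2209, 2951, 3006, 3113, 3466, 3920, 4027, 4277]) (.leaf [59, 200, 326, 953, 1597, 1666, 1836, 2115, 2692, 2906, 3400, 3522, 4175])) (.node (.leaf [33, 853, 1126, 1432, 1524, 1615, 1667, 2256, 2692, 2993, 3160, 3664, 3962]) (.leaf [47, 401, 938, 2074, 2149, 2393, 2425, 3196, 3889, 4325, 4358, 4429, 4475])))))

def nbr2223 : Janko.Tree (List ℕ) :=
  (.node (.node (.node (.node (.node (.leaf [319, 814, 1043, 2435, 2621, 2841, 3271, 3499, 3590, 3903, 4167, 4295, 4337]) (.leaf [986, 1013, 1071, 1254, 1550, 1643, 1666, 2093, 2125, 2504, 3002, 3918, 4288])) (.leaf [108, 169, 525, 1231, 2174, 2377, 2851, 3080, 3104, 3717, 3939, 4106, 4347])) (.node (.leaf [53, 443, 1335, 1504, 1837, 1888, 2664, 2790, 2947, 3367, 3434, 3796, 4078]) (.leaf [282, 594, 706, 2191, 2509, 2649, 2704, 2881, 3160, 3284, 3320, 3597, 3622]))) (.node (.node (.leaf [83, 239, 1140, 1536, 1669, 2018, 2961, 3366, 3370, 3822, 4013, 4059, 4064])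 (.leaf [470, 483, 505, 734, 743, 769, 973, 1355, 1697, 1845, 2074, 2278, 2530])) (.node (.leaf [63, 1561, 1930, 2219, 2295, 2535, 3028, 3532, 3542, 3923, 4121, 4224, 4444]) (.leaf [249, 542, 944, 1047, 1322, 1676, 1767, 1827, 2470, 2683, 3138, 3337, 4069])))) (.node (.node (.node (.leaf [44, 211, 536, 761, 1211, 1224, 1542, 1946, 1962, 3205, 3675, 4308, 4453]) (.leaf [288, 1551, 1793, 2245, 2385, 2409, 2504, 2918, 3691, 3723, 3920, 4035, 4477])) (.node (.leaf [727, 825, 876, 1048, 1100, 1261, 1833, 2047, 2104, 2307, 2801, 3976, 4345]) (.leaf [141, 350, 446, 453, 822, 1518, 1893, 2242, 2665, 3352, 3557, 3808, 4166]))) (.node (.node (.leaf [215, 299, 328, 637, 1391, 2208, 2950, 3007, 3112, 3467, 3921, 4026, 4276]) (.leaf [58, 201, 327, 952, 1596, 1667, 1837, 2114, 2693, 2907, 3401, 3523, 4174])) (.node (.leaf [32, 852, 1127, 1433, 1525, 1614, 1666, 2257, 2693, 2992, 3161, 3665, 3963]) (.leaf [46, 400, 939, 2075, 2148, 2392, 2424, 3197, 3888, 4324, 4359, 4428, 4474])))))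

def nbr2224 : Janko.Tree (List ℕ) :=
  (.node (.node (.node (.node (.node (.leaf [320, 892, 1081, 1491, 2205, 2710, 2776, 2885, 3010, 3272, 3606, 4297, 4314]) (.leaf [361, 828, 1174, 1648, 1861, 1912, 2317, 2699, 3348, 3648, 3816, 3965, 4398])) (.leaf [170, 353, 588, 624, 641, 1232, 2671, 2852, 2884, 3118, 3270, 4045, 4457])) (.node (.leaf [397, 545, 829, 1336, 1442, 1507, 1838, 2593, 2618, 2667, 3919, 4026, 4180]) (.leaf [229, 1516, 1547, 1599, 1719, 2061, 2646, 2804, 2848, 3056, 3346, 3758, 3985]))) (.node (.node (.leaf [54, 240, 544, 1436, 1539, 1819, 2416, 2740, 2962, 3322, 3459, 3740, 4182]) (.leaf [70, 191, 251, 957, 1246, 1503, 2497, 2876, 3061, 3123, 3769, 3837, 4068])) (.node (.leaf [64, 401, 549, 580, 1199, 2214, 3029, 3031, 3341, 3731, 3923, 4101, 4136]) (.leaf [18, 1056, 1647, 2078, 2312, 2389, 2773, 2876, 3109, 3293, 3768, 4195, 4199])))) (.node (.node (.node (.leaf [256, 539, 762, 1212, 2177, 2709, 2769, 3096, 3451, 3456, 3607, 4367, 4387]) (.leaf [14, 503, 577, 1185, 1559, 2721, 2974, 3188, 3263, 3443, 3447, 4077, 4231])) (.node (.leaf [1540, 1851, 1948, 2331, 2425,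 2471, 3036, 3197, 3243, 3981, 4069, 4303, 4328]) (.leaf [142, 427, 766, 828, 1453, 2327, 2677, 2698, 2705, 2777, 2799, 3283, 3811]))) (.node (.node (.leaf [84, 331, 638, 652, 1343, 1392, 1445, 1453, 2642, 3379, 3862, 4265, 4442]) (.leaf [623, 2043, 2108, 2202, 2416, 3076, 3155, 3283, 3771, 3883, 4102, 4250, 4343])) (.node (.leaf [114, 925, 1267, 1352, 1600, 1617, 1849, 2142, 2694, 3083, 3162, 3319, 3845]) (.leaf [379, 601, 603, 853, 1246, 2482, 2842, 3468, 3736, 3835, 3876, 3881, 4273])))))

def nbr2225 : Janko.Tree (List ℕ) :=
  (.node (.node (.node (.node (.node (.leaf [321, 893, 1080, 1490, 2204, 2711, 2777, 2884, 3011, 3273, 3607, 4296, 4315]) (.leaf [360, 829, 1175, 1649, 1860, 1913, 2316, 2698, 3349, 3649, 3817, 3964, 4399])) (.leaf [171, 352, 589, 625, 640, 1233, 2670, 2853, 2885, 3119, 3271, 4044, 4456])) (.node (.leaf [396, 544, 828, 1337, 1443, 1506, 1839, 2592, 2619, 2666, 3918, 4027, 4181]) (.leaf [228, 1517, 1546, 1598, 1718, 2060, 2647, 2805, 2849, 3057, 3347, 3759, 3984]))) (.node (.node (.leaf [55, 241, 545, 1437, 1538, 1818, 2417, 2741, 2963, 3323, 3458, 3741, 4183])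 (.leaf [71, 190, 250, 956, 1247, 1502, 2496, 2877, 3060, 3122, 3768, 3836, 4069])) (.node (.leaf [65, 400, 548, 581, 1198, 2215, 3028, 3030, 3340, 3730, 3922, 4100, 4137]) (.leaf [19, 1057, 1646, 2079, 2313, 2388, 2772, 2877, 3108, 3292, 3769, 4194, 4198])))) (.node (.node (.node (.leaf [257, 538, 763, 1213, 2176, 2708, 2768, 3097, 3450, 3457, 3606, 4366, 4386]) (.leaf [15, 502, 576, 1184, 1558, 2720, 2975, 3189, 3262, 3442, 3446, 4076, 4230])) (.node (.leaf [1541, 1850, 1949, 2330, 2424, 2470, 3037, 3196, 3242, 3980, 4068, 4302, 4329]) (.leaf [143, 426, 767, 829, 1452, 2326, 2676, 2699, 2704, 2776, 2798, 3282, 3810]))) (.node (.node (.leaf [85, 330, 639, 653, 1342, 1393, 1444, 1452, 2643, 3378, 3863, 4264, 4443]) (.leaf [622, 2042, 2109, 2203, 2417, 3077, 3154, 3282, 3770, 3882, 4103, 4251, 4342])) (.node (.leaf [115, 924, 1266, 1353, 1601, 1616, 1848, 2143, 2695, 3082, 3163, 3318, 3844]) (.leaf [378, 600, 602, 852, 1247, 2483, 2843, 3469, 3737, 3834, 3877, 3880, 4272])))))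

def nbr2226 : Janko.Tree (List ℕ) :=
  (.node (.node (.node (.node (.node (.leaf [322, 380, 1999, 2207, 2746, 2763, 2805, 2887, 3777, 3879, 3949, 4228, 4417]) (.leaf [156, 426, 819, 824, 1111, 1396, 1413, 2209, 2293, 2797, 3280, 3410, 3820])) (.leaf [1321, 1417, 1467, 1660, 1745, 1802, 1852, 1954, 2854, 3113, 3975, 4203, 4243])) (.node (.leaf [15, 106, 896, 1233, 1840, 2237, 2339, 3103, 3689, 4231, 4346, 4378, 4413]) (.leaf [63, 667, 1370, 1522, 1528, 1786, 2273, 2294, 2594, 2877, 2922, 2943, 4327]))) (.node (.node (.leaf [429, 1137, 1182, 1455, 1895, 2017, 2194, 2313, 2399, 2934, 3810, 4048, 4086]) (.leaf [72, 486, 913, 1248, 1893, 1916, 2023, 2281, 2727, 3063, 3125, 3557, 4053])) (.node (.leaf [135, 1090, 1341, 1620, 1663, 2220, 2239, 2600, 2640, 3438, 4006, 4129, 4386]) (.leaf [551, 634, 1106, 1366, 1561, 1672, 2358, 2657, 2878, 3609, 4032, 4225, 4454])))) (.node (.node (.node (.leaf [497, 526, 577, 756, 764, 790, 1133, 1387, 1794, 2045, 2238, 3160, 3665]) (.leaf [22, 246, 845, 1118, 1530, 2009, 2115, 2287, 2921, 3097, 3451, 4062, 4193])) (.node (.leaf [221, 309, 487, 1542, 1846,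 1950, 2472, 3199, 3250, 3374, 3418, 3632, 4380]) (.leaf [93, 144, 750, 1455, 1894, 1998, 2223, 2700, 2801, 3333, 3756, 3759, 3968]))) (.node (.node (.leaf [640, 1394, 1410, 1845, 2268, 2303, 2433, 2468, 2588, 2837, 3081, 3105, 3617]) (.leaf [348, 529, 577, 2045, 2258, 3039, 3262, 3650, 3885, 3968, 4122, 4262, 4287])) (.node (.leaf [23, 341, 786, 1307, 1604, 1855, 2144, 2589, 2696, 3303, 3875, 3900, 3925]) (.leaf [168, 259, 836, 857, 1047, 2183, 2450, 2586, 3279, 3372, 3709, 3970, 4325])))))

def nbr2227 : Janko.Tree (List ℕ) :=
  (.node (.node (.node (.node (.node (.leaf [323, 381, 1998, 2206, 2747, 2762, 2804, 2886, 3776, 3878, 3948, 4229, 4416]) (.leaf [157, 427, 818, 825, 1110, 1397, 1412, 2208, 2292, 2796, 3281, 3411, 3821])) (.leaf [1320, 1416, 1466, 1661, 1744, 1803, 1853, 1955, 2855, 3112, 3974, 4202, 4242])) (.node (.leaf [14, 107, 897, 1232, 1841, 2236, 2338, 3102, 3688, 4230, 4347, 4379, 4412]) (.leaf [62, 666, 1371, 1523, 1529, 1787, 2272, 2295, 2595, 2876, 2923, 2942, 4326]))) (.node (.node (.leaf [428, 1136, 1183, 1454, 1894, 2016, 2195, 2312, 2398, 2935, 3811, 4049, 4087])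 (.leaf [73, 487, 912, 1249, 1892, 1917, 2022, 2280, 2726, 3062, 3124, 3556, 4052])) (.node (.leaf [134, 1091, 1340, 1621, 1662, 2221, 2238, 2601, 2641, 3439, 4007, 4128, 4387]) (.leaf [550, 635, 1107, 1367, 1560, 1673, 2359, 2656, 2879, 3608, 4033, 4224, 4455])))) (.node (.node (.node (.leaf [496, 527, 576, 757, 765, 791, 1132, 1386, 1795, 2044, 2239, 3161, 3664]) (.leaf [23, 247, 844, 1119, 1531, 2008, 2114, 2286, 2920, 3096, 3450, 4063, 4192])) (.node (.leaf [220, 308, 486, 1543, 1847, 1951, 2473, 3198, 3251, 3375, 3419, 3633, 4381]) (.leaf [92, 145, 751, 1454, 1895, 1999, 2222, 2701, 2800, 3332, 3757, 3758, 3969]))) (.node (.node (.leaf [641, 1395, 1411, 1844, 2269, 2302, 2432, 2469, 2589, 2836, 3080, 3104, 3616]) (.leaf [349, 528, 576, 2044, 2259, 3038, 3263, 3651, 3884, 3969, 4123, 4263, 4286])) (.node (.leaf [22, 340, 787, 1306, 1605, 1854, 2145, 2588, 2697, 3302, 3874, 3901, 3924]) (.leaf [169, 258, 837, 856, 1046, 2182, 2451, 2587, 3278, 3373, 3708, 3971, 4324])))))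

def nbr2228 : Janko.Tree (List ℕ) :=
  (.node (.node (.node (.node (.node (.leaf [4, 421, 1078, 1318, 2058, 2556, 2685, 2735, 2741, 3043, 3720, 4311, 4392]) (.leaf [601, 952, 1107, 1259, 1272, 1292, 1438, 1629, 2210, 2246, 2563, 3881, 4175])) (.leaf [30, 663, 870, 1419, 1552, 2138, 2575, 2744, 2987, 3384, 3508, 4205, 4265])) (.node (.leaf [19, 110, 848, 1121, 1573, 1842, 2363, 2388, 2840, 2873, 3269, 3572, 3662]) (.leaf [39, 898, 1273, 1438, 2296, 2527, 2860, 2967, 3086, 3204, 3517, 3631, 4415]))) (.node (.node (.leaf [431, 633, 1105, 2060, 2315, 2357, 2401, 2753, 3758, 4088, 4372, 4424, 4471]) (.leaf [507, 584, 1113, 1276, 1628, 1807, 1942, 2764, 2883, 2888, 3291, 3604, 3929])) (.node (.leaf [137, 584, 730, 1622, 1665, 1932, 2209, 2791, 3223, 3273, 3512, 4102, 4388]) (.leaf [3, 903, 1016, 1032, 1316, 1724, 2926, 3404, 3619, 3788, 3851, 3889, 4255])))) (.node (.node (.node (.leaf [196, 579, 766, 792, 795, 1389, 1729, 2341, 3162, 3222, 3318, 3356, 4236]) (.leaf [256, 362, 1044, 1301, 1523, 2120, 2454, 2922, 3053, 3485, 3856, 4135, 4407])) (.node (.leaf [937, 1278, 1544, 1642, 1883,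 1967, 2073, 2111, 2530, 2881, 3597, 3881, 4047]) (.leaf [859, 976, 1042, 1126, 1133, 1344, 1936, 2231, 3538, 3664, 3826, 3973, 4111]))) (.node (.node (.leaf [231, 498, 673, 1396, 1412, 1748, 2132, 2470, 2884, 3011, 3142, 3649, 4457]) (.leaf [160, 427, 580, 840, 1491, 1685, 2275, 2748, 2968, 3282, 3297, 4101, 4311])) (.node (.leaf [189, 380, 954, 1245, 1481, 1760, 1829, 2180, 2263, 2702, 2747, 4255, 4356]) (.leaf [622, 678, 683, 832, 1390, 1495, 1561, 3006, 3078, 3212, 3503, 3671, 3914])))))

def nbr2229 : Janko.Tree (List ℕ) :=
  (.node (.node (.node (.node (.node (.leaf [5, 420, 1079, 1319, 2059, 2557, 2684, 2734, 2740, 3042, 3721, 4310, 4393]) (.leaf [600, 953, 1106, 1258, 1273, 1293, 1439, 1628, 2211, 2247, 2562, 3880, 4174])) (.leaf [31, 662, 871, 1418, 1553, 2139, 2574, 2745, 2986, 3385, 3509, 4204, 4264])) (.node (.leaf [18, 111, 849, 1120, 1572, 1843, 2362, 2389, 2841, 2872, 3268, 3573, 3663]) (.leaf [38, 899, 1272, 1439, 2297, 2526, 2861, 2966, 3087, 3205, 3516, 3630, 4414]))) (.node (.node (.leaf [430, 632, 1104, 2061, 2314, 2356, 2400, 2752, 3759, 4089, 4373, 4425, 4470])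 (.leaf [506, 585, 1112, 1277, 1629, 1806, 1943, 2765, 2882, 2889, 3290, 3605, 3928])) (.node (.leaf [136, 585, 731, 1623, 1664, 1933, 2208, 2790, 3222, 3272, 3513, 4103, 4389]) (.leaf [2, 902, 1017, 1033, 1317, 1725, 2927, 3405, 3618, 3789, 3850, 3888, 4254])))) (.node (.node (.node (.leaf [197, 578, 767, 793, 794, 1388, 1728, 2340, 3163, 3223, 3319, 3357, 4237]) (.leaf [257, 363, 1045, 1300, 1522, 2121, 2455, 2923, 3052, 3484, 3857, 4134, 4406])) (.node (.leaf [936, 1279, 1545, 1643, 1882, 1966, 2072, 2110, 2531, 2880, 3596, 3880, 4046]) (.leaf [858, 977, 1043, 1127, 1132, 1345, 1937, 2230, 3539, 3665, 3827, 3972, 4110]))) (.node (.node (.leaf [230, 499, 672, 1397, 1413, 1749, 2133, 2471, 2885, 3010, 3143, 3648, 4456]) (.leaf [161, 426, 581, 841, 1490, 1684, 2274, 2749, 2969, 3283, 3296, 4100, 4310])) (.node (.leaf [188, 381, 955, 1244, 1480, 1761, 1828, 2181, 2262, 2703, 2746, 4254, 4357]) (.leaf [623, 679, 682, 833, 1391, 1494, 1560, 3007, 3079, 3213, 3502, 3670, 3915])))))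

def nbr2230 : Janko.Tree (List ℕ) :=
  (.node (.node (.node (.node (.node (.leaf [218, 410, 699, 757, 765, 1528, 1558, 2169, 2325, 3855, 4061, 4077, 4313]) (.leaf [29, 312, 452, 493, 732, 1076, 1922, 2302, 2957, 3312, 3655, 4293, 4368])) (.leaf [50, 350, 1165, 1856, 2237, 2338, 2580, 2675, 2862, 2988, 3670, 3915, 4196])) (.node (.leaf [190, 383, 957, 1482, 1844, 1866, 2241, 2278, 2705, 3744, 4358, 4433, 4472]) (.leaf [93, 399, 751, 762, 1084, 2048, 2071, 3090, 3685, 3704, 4172, 4289, 4390]))) (.node (.node (.leaf [1184, 1384, 1519, 2007, 2317, 2404, 2472, 2755, 3025, 3127, 3145, 3322, 4030]) (.leaf [237, 600, 1175, 1259, 1593, 1630, 1776, 2385, 2513, 2730, 3149, 3734, 4343])) (.node (.leaf [564, 851, 1010, 1895, 2086, 2222, 2350, 2513, 3035, 3602, 3875, 3900, 4121]) (.leaf [411, 699, 1022, 1030, 1148, 1304, 2173, 2843, 2952, 3017, 3623, 4279, 4335])))) (.node (.node (.node (.leaf [433, 528, 581, 768, 797, 1392, 1445, 1731, 2365, 3296, 3841, 3901, 4301]) (.leaf [126, 610, 691, 775, 921, 1841, 2290, 2965, 2974, 3211, 4009, 4231, 4410])) (.node (.leaf [1277, 1361, 1546, 1688, 1700, 1969,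 2113, 2199, 3291, 3437, 4267, 4383, 4449]) (.leaf [135, 437, 508, 1370, 1671, 1699, 1900, 2766, 2936, 2959, 3189, 3233, 4039]))) (.node (.node (.leaf [194, 553, 804, 1092, 1449, 1541, 2331, 3342, 3577, 3589, 3626, 4126, 4435]) (.leaf [590, 1213, 1251, 1286, 1430, 1664, 1713, 1999, 3005, 3238, 3426, 3948, 4218])) (.node (.leaf [251, 456, 1019, 1215, 1228, 1247, 1264, 1546, 1869, 2460, 2869, 3017, 4273]) (.leaf [613, 628, 677, 1192, 1290, 2068, 2075, 2493, 2622, 3768, 3889, 3974, 4242])))))

def nbr2231 : Janko.Tree (List ℕ) :=
  (.node (.node (.node (.node (.node (.leaf [219, 411, 698, 756, 764, 1529, 1559, 2168, 2324, 3854, 4060, 4076, 4312]) (.leaf [28, 313, 453, 492, 733, 1077, 1923, 2303, 2956, 3313, 3654, 4292, 4369])) (.leaf [51, 351, 1164, 1857, 2236, 2339, 2581, 2674, 2863, 2989, 3671, 3914, 4197])) (.node (.leaf [191, 382, 956, 1483, 1845, 1867, 2240, 2279, 2704, 3745, 4359, 4432, 4473]) (.leaf [92, 398, 750, 763, 1085, 2049, 2070, 3091, 3684, 3705, 4173, 4288, 4391]))) (.node (.node (.leaf [1185, 1385, 1518, 2006, 2316, 2405, 2473, 2754, 3024, 3126, 3144, 3323, 4031]) (.leaf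 [236, 601, 1174, 1258, 1592, 1631, 1777, 2384, 2512, 2731, 3148, 3735, 4342])) (.node (.leaf [565, 850, 1011, 1894, 2087, 2223, 2351, 2512, 3034, 3603, 3874, 3901, 4120]) (.leaf [410, 698, 1023, 1031, 1149, 1305, 2172, 2842, 2953, 3016, 3622, 4278, 4334])))) (.node (.node (.node (.leaf [432, 529, 580, 769, 796, 1393, 1444, 1730, 2364, 3297, 3840, 3900, 4300]) (.leaf [127, 611, 690, 774, 920, 1840, 2291, 2964, 2975, 3210, 4008, 4230, 4411])) (.node (.leaf [1276, 1360, 1547, 1689, 1701, 1968, 2112, 2198, 3290, 3436, 4266, 4382, 4448]) (.leaf [134, 436, 509, 1371, 1670, 1698, 1901, 2767, 2937, 2958, 3188, 3232, 4038]))) (.node (.node (.leaf [195, 552, 805, 1093, 1448, 1540, 2330, 3343, 3576, 3588, 3627, 4127, 4434]) (.leaf [591, 1212, 1250, 1287, 1431, 1665, 1712, 1998, 3004, 3239, 3427, 3949, 4219])) (.node (.leaf [250, 457, 1018, 1214, 1229, 1246, 1265, 1547, 1868, 2461, 2868, 3016, 4272]) (.leaf [612, 629, 676, 1193, 1291, 2069, 2074, 2492, 2623, 3769, 3888, 3975, 4243])))))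

def nbr2232 : Janko.Tree (List ℕ) :=
  (.node (.node (.node (.node (.node (.leaf [412, 767, 1012, 1530, 1632, 2327, 2759, 3310, 3357, 3859, 3890, 4063, 4163]) (.leaf [180, 880, 1059, 1617, 1777, 1969, 2417, 2966, 3772, 4199, 4266, 4304, 4343])) (.leaf [515, 618, 1134, 2340, 2420, 2662, 2866, 2956, 3126, 3332, 3781, 3867, 4207])) (.node (.leaf [93, 384, 1492, 1640, 1749, 1893, 2021, 2192, 2243, 2660, 2726, 3684, 4435]) (.leaf [178, 366, 401, 831, 1135, 1164, 1625, 2835, 2862, 3960, 4171, 4206, 4429]))) (.node (.node (.leaf [1169, 1186, 1549, 1569, 2146, 2478, 2712, 2715, 2724, 2773, 3201, 3774, 4176]) (.leaf [69, 850, 1252, 1744, 2150, 2375, 2431, 2535, 2949, 3176, 3609, 4082, 4224])) (.node (.leaf [566, 853, 1014, 1259, 2094, 2224, 2753, 3037, 3156, 3514, 3604, 3877, 4137]) (.leaf [176, 279, 1057, 1523, 1668, 1767, 1826, 2748, 2845, 2867, 2956, 3365, 4013])))) (.node (.node (.node (.leaf [435, 530, 583, 770, 787, 799, 889, 1082, 1900, 3157, 3875, 4303, 4329]) (.leaf [251, 410, 1704, 2019, 2425, 3016, 3037, 3123, 3258, 3398, 3438, 4060, 4117])) (.node (.leaf [339, 624, 654, 1233, 1695,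 2536, 2639, 3473, 3498, 3736, 4274, 4294, 4364]) (.leaf [384, 453, 1025, 1052, 1125, 1313, 1386, 2709, 2858, 3164, 3250, 3419, 3668]))) (.node (.node (.leaf [328, 555, 598, 636, 691, 806, 1451, 1543, 3632, 4128, 4288, 4421, 4436]) (.leaf [50, 441, 929, 1497, 1715, 1977, 2755, 3007, 3185, 3680, 3914, 3950, 4284])) (.node (.leaf [71, 213, 458, 1249, 1587, 1599, 1734, 1871, 2281, 2706, 2900, 3004, 4056]) (.leaf [95, 521, 632, 1494, 2708, 3209, 3231, 3668, 3916, 3926, 4335, 4399, 4471])))))

def nbr2233 : Janko.Tree (List ℕ) :=
  (.node (.node (.node (.node (.node (.leaf [413, 766, 1013, 1531, 1633, 2326, 2758, 3311, 3356, 3858, 3891, 4062, 4162]) (.leaf [181, 881, 1058, 1616, 1776, 1968, 2416, 2967, 3773, 4198, 4267, 4305, 4342])) (.leaf [514, 619, 1135, 2341, 2421, 2663, 2867, 2957, 3127, 3333, 3780, 3866, 4206])) (.node (.leaf [92, 385, 1493, 1641, 1748, 1892, 2020, 2193, 2242, 2661, 2727, 3685, 4434]) (.leaf [179, 367, 400, 830, 1134, 1165, 1624, 2834, 2863, 3961, 4170, 4207, 4428]))) (.node (.node (.leaf [1168, 1187, 1548, 1568, 2147, 2479, 2713, 2714, 2725, 2772, 3200, 3775, 4177])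 (.leaf [68, 851, 1253, 1745, 2151, 2374, 2430, 2534, 2948, 3177, 3608, 4083, 4225])) (.node (.leaf [567, 852, 1015, 1258, 2095, 2225, 2752, 3036, 3157, 3515, 3605, 3876, 4136]) (.leaf [177, 278, 1056, 1522, 1669, 1766, 1827, 2749, 2844, 2866, 2957, 3364, 4012])))) (.node (.node (.node (.leaf [434, 531, 582, 771, 786, 798, 888, 1083, 1901, 3156, 3874, 4302, 4328]) (.leaf [250, 411, 1705, 2018, 2424, 3017, 3036, 3122, 3259, 3399, 3439, 4061, 4116])) (.node (.leaf [338, 625, 655, 1232, 1694, 2537, 2638, 3472, 3499, 3737, 4275, 4295, 4365]) (.leaf [385, 452, 1024, 1053, 1124, 1312, 1387, 2708, 2859, 3165, 3251, 3418, 3669]))) (.node (.node (.leaf [329, 554, 599, 637, 690, 807, 1450, 1542, 3633, 4129, 4289, 4420, 4437]) (.leaf [51, 440, 928, 1496, 1714, 1976, 2754, 3006, 3184, 3681, 3915, 3951, 4285])) (.node (.leaf [70, 212, 459, 1248, 1586, 1598, 1735, 1870, 2280, 2707, 2901, 3005, 4057]) (.leaf [94, 520, 633, 1495, 2709, 3208, 3230, 3669, 3917, 3927, 4334, 4398, 4470])))))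

def nbr2234 : Janko.Tree (List ℕ) :=
  (.node (.node (.node (.node (.node (.leaf [89, 414, 1702, 2077, 2266, 2304, 2523, 2626, 3107, 3638, 3698, 4025, 4397]) (.leaf [666, 736, 890, 995, 1180, 1458, 1712, 1999, 2053, 2136, 2600, 2943, 2999])) (.leaf [256, 550, 574, 1125, 1130, 1535, 2030, 2430, 2708, 3288, 3533, 3707, 4224])) (.node (.leaf [732, 741, 767, 971, 1135, 1324, 1453, 1846, 2015, 2834, 2956, 3354, 4477]) (.leaf [175, 282, 865, 1306, 2045, 2322, 2360, 2762, 3034, 3171, 3623, 3900, 4123]))) (.node (.node (.leaf [489, 714, 801, 998, 1028, 1229, 1669, 2321, 2869, 3471, 3767, 4018, 4321]) (.leaf [212, 255, 811, 864, 1587, 1644, 1923, 2352, 2450, 2621, 2892, 3091, 4173])) (.node (.leaf [400, 588, 1075, 1404, 1460, 1724, 1942, 2226, 2360, 2628, 2763, 3195, 4474]) (.leaf [180, 314, 429, 454, 1658, 1711, 1924, 2935, 3068, 3314, 3648, 3657, 4117])))) (.node (.node (.node (.leaf [367, 532, 772, 813, 866, 1490, 1589, 2894, 3097, 3193, 3667, 4014, 4170]) (.leaf [541, 895, 944, 1230, 1276, 1604, 2618, 3018, 3162, 3789, 4295, 4332, 4405])) (.node (.leaf [626, 656, 1709, 2046, 2600, 2641,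 2998, 3278, 3307, 3372, 3376, 3908, 4231]) (.leaf [386, 455, 710, 1060, 1315, 1388, 1625, 2337, 2402, 2711, 3171, 3383, 3960]))) (.node (.node (.leaf [84, 379, 600, 1136, 1438, 1530, 1860, 2194, 2274, 2326, 2699, 2730, 2742]) (.leaf [467, 530, 573, 1082, 1412, 2703, 2746, 2771, 3776, 3794, 4042, 4124, 4251])) (.node (.leaf [27, 186, 1535, 1567, 1958, 2336, 2708, 2711, 2769, 2858, 2884, 3916, 4234]) (.leaf [52, 703, 1158, 1615, 2153, 2436, 2664, 3151, 3471, 3506, 3562, 3593, 3913])))))

def nbr2235 : Janko.Tree (List ℕ) :=
  (.node (.node (.node (.node (.node (.leaf [88, 415, 1703, 2076, 2267, 2305, 2522, 2627, 3106, 3639, 3699, 4024, 4396]) (.leaf [667, 737, 891, 994, 1181, 1459, 1713, 1998, 2052, 2137, 2601, 2942, 2998])) (.leaf [257, 551, 575, 1124, 1131, 1534, 2031, 2431, 2709, 3289, 3532, 3706, 4225])) (.node (.leaf [733, 740, 766, 970, 1134, 1325, 1452, 1847, 2014, 2835, 2957, 3355, 4476]) (.leaf [174, 283, 864, 1307, 2044, 2323, 2361, 2763, 3035, 3170, 3622, 3901, 4122]))) (.node (.node (.leaf [488, 715, 800, 999, 1029, 1228, 1668, 2320, 2868, 3470, 3766, 4019, 4320]) (.leaf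 [213, 254, 810, 865, 1586, 1645, 1922, 2353, 2451, 2620, 2893, 3090, 4172])) (.node (.leaf [401, 589, 1074, 1405, 1461, 1725, 1943, 2227, 2361, 2629, 2762, 3194, 4475]) (.leaf [181, 315, 428, 455, 1659, 1710, 1925, 2934, 3069, 3315, 3649, 3656, 4116])))) (.node (.node (.node (.leaf [366, 533, 773, 812, 867, 1491, 1588, 2895, 3096, 3192, 3666, 4015, 4171]) (.leaf [540, 894, 945, 1231, 1277, 1605, 2619, 3019, 3163, 3788, 4294, 4333, 4404])) (.node (.leaf [627, 657, 1708, 2047, 2601, 2640, 2999, 3279, 3306, 3373, 3377, 3909, 4230]) (.leaf [387, 454, 711, 1061, 1314, 1389, 1624, 2336, 2403, 2710, 3170, 3382, 3961]))) (.node (.node (.leaf [85, 378, 601, 1137, 1439, 1531, 1861, 2195, 2275, 2327, 2698, 2731, 2743]) (.leaf [466, 531, 572, 1083, 1413, 2702, 2747, 2770, 3777, 3795, 4043, 4125, 4250])) (.node (.leaf [26, 187, 1534, 1566, 1959, 2337, 2709, 2710, 2768, 2859, 2885, 3917, 4235]) (.leaf [53, 702, 1159, 1614, 2152, 2437, 2665, 3150, 3470, 3507, 3563, 3592, 3912])))))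

def nbr2236 : Janko.Tree (List ℕ) :=
  (.node (.node (.node (.node (.node (.leaf [91, 138, 416, 491, 876, 2306, 2584, 3109, 3571, 3695, 4195, 4377, 4459]) (.leaf [173, 250, 474, 575, 1513, 1785, 2016, 2048, 2399, 2404, 3100, 3912, 4003])) (.leaf [108, 169, 399, 1539, 1840, 1994, 2260, 2378, 2620, 2688, 2964, 4173, 4351])) (.node (.leaf [795, 890, 1040, 1310, 1375, 1616, 1825, 1839, 1848, 1902, 2447, 2775, 2821]) (.leaf [251, 444, 704, 1308, 2296, 2341, 2905, 3036, 3156, 3173, 3618, 3895, 4069]))) (.node (.node (.leaf [803, 1000, 1270, 1437, 1598, 1704, 2323, 3203, 3531, 3628, 4022, 4056, 4109]) (.leaf [227, 658, 1512, 1891, 1930, 2016, 2041, 2145, 2375, 2534, 2609, 2672, 3061])) (.node (.leaf [402, 445, 704, 1077, 1406, 2228, 2544, 2630, 3229, 3504, 3550, 4365, 4401]) (.leaf [232, 371, 544, 1568, 1722, 1875, 2054, 2654, 3051, 3059, 3741, 3839, 4176])))) (.node (.node (.node (.leaf [369, 534, 774, 815, 868, 1243, 1591, 2089, 2896, 4133, 4229, 4277, 4291]) (.leaf [607, 946, 1392, 1608, 1909, 2118, 2888, 2899, 3020, 3550, 3826, 4315, 4411])) (.node (.leaf [157, 196, 652, 1238, 1729,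 2050, 2729, 2840, 3280, 3406, 4093, 4156, 4337]) (.leaf [24, 409, 1208, 1435, 1670, 2246, 2497, 2675, 2720, 2794, 2821, 3071, 3189]))) (.node (.node (.leaf [86, 103, 602, 1862, 2276, 2356, 2487, 2635, 2701, 2732, 3253, 3757, 4424]) (.leaf [113, 154, 878, 959, 1262, 1731, 2744, 2786, 2947, 3533, 3616, 3990, 4370])) (.node (.leaf [29, 1051, 1417, 1830, 2285, 2710, 2747, 2771, 2774, 2886, 2996, 3960, 4281]) (.leaf [664, 773, 1442, 1617, 1621, 1656, 1675, 1741, 2086, 2666, 3628, 3806, 4198])))))

def nbr2237 : Janko.Tree (List ℕ) :=
  (.node (.node (.node (.node (.node (.leaf [90, 139, 417, 490, 877, 2307, 2585, 3108, 3570, 3694, 4194, 4376, 4458]) (.leaf [172, 251, 475, 574, 1512, 1784, 2017, 2049, 2398, 2405, 3101, 3913, 4002])) (.leaf [109, 168, 398, 1538, 1841, 1995, 2261, 2379, 2621, 2689, 2965, 4172, 4350])) (.node (.leaf [794, 891, 1041, 1311, 1374, 1617, 1824, 1838, 1849, 1903, 2446, 2774, 2820]) (.leaf [250, 445, 705, 1309, 2297, 2340, 2904, 3037, 3157, 3172, 3619, 3894, 4068]))) (.node (.node (.leaf [802, 1001, 1271, 1436, 1599, 1705, 2322, 3202, 3530, 3629, 4023, 4057, 4108])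 (.leaf [226, 659, 1513, 1890, 1931, 2017, 2040, 2144, 2374, 2535, 2608, 2673, 3060])) (.node (.leaf [403, 444, 705, 1076, 1407, 2229, 2545, 2631, 3228, 3505, 3551, 4364, 4400]) (.leaf [233, 370, 545, 1569, 1723, 1874, 2055, 2655, 3050, 3058, 3740, 3838, 4177])))) (.node (.node (.node (.leaf [368, 535, 775, 814, 869, 1242, 1590, 2088, 2897, 4132, 4228, 4276, 4290]) (.leaf [606, 947, 1393, 1609, 1908, 2119, 2889, 2898, 3021, 3551, 3827, 4314, 4410])) (.node (.leaf [156, 197, 653, 1239, 1728, 2051, 2728, 2841, 3281, 3407, 4092, 4157, 4336]) (.leaf [25, 408, 1209, 1434, 1671, 2247, 2496, 2674, 2721, 2795, 2820, 3070, 3188]))) (.node (.node (.leaf [87, 102, 603, 1863, 2277, 2357, 2486, 2634, 2700, 2733, 3252, 3756, 4425]) (.leaf [112, 155, 879, 958, 1263, 1730, 2745, 2787, 2946, 3532, 3617, 3991, 4371])) (.node (.leaf [28, 1050, 1416, 1831, 2284, 2711, 2746, 2770, 2775, 2887, 2997, 3961, 4280]) (.leaf [665, 772, 1443, 1616, 1620, 1657, 1674, 1740, 2087, 2667, 3629, 3807, 4199])))))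

def nbr2238 : Janko.Tree (List ℕ) :=
  (.node (.node (.node (.node (.node (.leaf [37, 62, 418, 1561, 2112, 2288, 2335, 2595, 2657, 2875, 2932, 2973, 3853]) (.leaf [548, 648, 1036, 1142, 1152, 1718, 1726, 1900, 1940, 2327, 2984, 3985, 4038])) (.leaf [171, 352, 363, 722, 1127, 1927, 2622, 2793, 2868, 2872, 3018, 4197, 4404])) (.node (.leaf [40, 497, 892, 1177, 1487, 2871, 3236, 3494, 3746, 3785, 3910, 4084, 4438]) (.leaf [253, 508, 512, 1310, 2534, 2590, 2764, 2968, 3225, 3296, 3652, 3849, 3928]))) (.node (.node (.leaf [380, 741, 971, 1188, 1227, 2096, 2169, 2325, 2498, 2505, 3179, 4139, 4333]) (.leaf [250, 445, 780, 957, 993, 1613, 1853, 1868, 1918, 2229, 2647, 3258, 4451])) (.node (.leaf [1006, 1009, 1507, 2230, 2365, 2546, 2735, 2767, 3146, 3554, 3664, 4240, 4418]) (.leaf [234, 256, 665, 1023, 1147, 1534, 2443, 2769, 3319, 3378, 3807, 4236, 4265])))) (.node (.node (.node (.leaf [0, 121, 776, 1679, 2833, 3010, 3093, 3153, 3535, 3680, 3753, 4087, 4189]) (.leaf [600, 850, 948, 1608, 1911, 2449, 3422, 3527, 3791, 3875, 3878, 3892, 4375])) (.node (.leaf [42, 973, 1240, 1448, 2052, 2788,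 3077, 3227, 3282, 3407, 3480, 3519, 4073]) (.leaf [1, 204, 1034, 1716, 1916, 2369, 2459, 2703, 2722, 2823, 2933, 3328, 3809]))) (.node (.node (.leaf [608, 912, 966, 1098, 1237, 1254, 2296, 2559, 2812, 3109, 3315, 3894, 4377]) (.leaf [126, 413, 1012, 1032, 1468, 1592, 2546, 2900, 2954, 3110, 3618, 4245, 4395])) (.node (.leaf [97, 1193, 1475, 1551, 1667, 1973, 2074, 2148, 2480, 2717, 3598, 3762, 3945]) (.leaf [23, 223, 558, 1378, 2386, 2493, 2839, 3153, 3974, 4010, 4030, 4193, 4331])))))

def nbr2239 : Janko.Tree (List ℕ) :=
  (.node (.node (.node (.node (.node (.leaf [36, 63, 419, 1560, 2113, 2289, 2334, 2594, 2656, 2874, 2933, 2972, 3852]) (.leaf [549, 649, 1037, 1143, 1153, 1719, 1727, 1901, 1941, 2326, 2985, 3984, 4039])) (.leaf [170, 353, 362, 723, 1126, 1926, 2623, 2792, 2869, 2873, 3019, 4196, 4405])) (.node (.leaf [41, 496, 893, 1176, 1486, 2870, 3237, 3495, 3747, 3784, 3911, 4085, 4439]) (.leaf [252, 509, 513, 1311, 2535, 2591, 2765, 2969, 3224, 3297, 3653, 3848, 3929]))) (.node (.node (.leaf [381, 740, 970, 1189, 1226, 2097, 2168, 2324, 2499, 2504, 3178, 4138, 4332]) (.leaf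 [251, 444, 781, 956, 992, 1612, 1852, 1869, 1919, 2228, 2646, 3259, 4450])) (.node (.leaf [1007, 1008, 1506, 2231, 2364, 2547, 2734, 2766, 3147, 3555, 3665, 4241, 4419]) (.leaf [235, 257, 664, 1022, 1146, 1535, 2442, 2768, 3318, 3379, 3806, 4237, 4264])))) (.node (.node (.node (.leaf [1, 120, 777, 1678, 2832, 3011, 3092, 3152, 3534, 3681, 3752, 4086, 4188]) (.leaf [601, 851, 949, 1609, 1910, 2448, 3423, 3526, 3790, 3874, 3879, 3893, 4374])) (.node (.leaf [43, 972, 1241, 1449, 2053, 2789, 3076, 3226, 3283, 3406, 3481, 3518, 4072]) (.leaf [0, 205, 1035, 1717, 1917, 2368, 2458, 2702, 2723, 2822, 2932, 3329, 3808]))) (.node (.node (.leaf [609, 913, 967, 1099, 1236, 1255, 2297, 2558, 2813, 3108, 3314, 3895, 4376]) (.leaf [127, 412, 1013, 1033, 1469, 1593, 2547, 2901, 2955, 3111, 3619, 4244, 4394])) (.node (.leaf [96, 1192, 1474, 1550, 1666, 1972, 2075, 2149, 2481, 2716, 3599, 3763, 3944]) (.leaf [22, 222, 559, 1379, 2387, 2492, 2838, 3152, 3975, 4011, 4031, 4192, 4330])))))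

def nbr2240 : Janko.Tree (List ℕ) :=
  (.node (.node (.node (.node (.node (.leaf [18, 64, 581, 908, 1787, 2275, 2290, 2877, 2975, 3410, 3447, 3572, 4059]) (.leaf [93, 691, 1455, 1492, 1946, 2935, 3207, 3208, 3229, 3335, 3798, 3865, 4288])) (.leaf [180, 270, 292, 881, 1241, 2039, 2477, 2963, 3021, 3221, 3567, 4248, 4352])) (.node (.leaf [380, 795, 1615, 1793, 2124, 2257, 2264, 2505, 3243, 3496, 3748, 3861, 4169]) (.leaf [201, 424, 1269, 1675, 1806, 2080, 2099, 2781, 3416, 3427, 3464, 3667, 4143]))) (.node (.node (.leaf [35, 204, 1190, 1434, 1440, 2110, 2333, 2400, 2915, 3253, 3387, 3851, 4425]) (.leaf [31, 447, 782, 808, 1870, 1893, 1920, 2280, 2508, 2649, 2854, 3710, 4446])) (.node (.leaf [106, 429, 449, 768, 1346, 1845, 2234, 2329, 2443, 2461, 2822, 4264, 4359]) (.leaf [122, 749, 1160, 1709, 2106, 2611, 3086, 3377, 3555, 3592, 3657, 3710, 4281])))) (.node (.node (.node (.leaf [147, 228, 778, 939, 2805, 3095, 3196, 3682, 3707, 3836, 3903, 4089, 4191]) (.leaf [269, 520, 843, 984, 1797, 2190, 2284, 2496, 2728, 3022, 3041, 3424, 4334])) (.node (.leaf [665, 712, 1263, 1473, 1613, 1656,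 1658, 1854, 2378, 2517, 3082, 3231, 4212]) (.leaf [63, 228, 761, 1037, 1719, 2370, 2460, 2650, 2677, 2704, 3447, 3576, 3626]))) (.node (.node (.leaf [147, 236, 595, 816, 886, 916, 1091, 1258, 2221, 2563, 2660, 3320, 3964]) (.leaf [111, 128, 621, 884, 1184, 1466, 2166, 2721, 3112, 3620, 4031, 4091, 4158])) (.node (.leaf [222, 310, 488, 1009, 1183, 1669, 2714, 2888, 3170, 3383, 3607, 3635, 4315]) (.leaf [896, 947, 1393, 1524, 2269, 2436, 3105, 3276, 3403, 3563, 3757, 3770, 4347])))))

def nbr2241 : Janko.Tree (List ℕ) :=
  (.node (.node (.node (.node (.node (.leaf [19, 65, 580, 909, 1786, 2274, 2291, 2876, 2974, 3411, 3446, 3573, 4058]) (.leaf [92, 690, 1454, 1493, 1947, 2934, 3206, 3209, 3228, 3334, 3799, 3864, 4289])) (.leaf [181, 271, 293, 880, 1240, 2038, 2476, 2962, 3020, 3220, 3566, 4249, 4353])) (.node (.leaf [381, 794, 1614, 1792, 2125, 2256, 2265, 2504, 3242, 3497, 3749, 3860, 4168]) (.leaf [200, 425, 1268, 1674, 1807, 2081, 2098, 2780, 3417, 3426, 3465, 3666, 4142]))) (.node (.node (.leaf [34, 205, 1191, 1435, 1441, 2111, 2332, 2401, 2914, 3252, 3386, 3850, 4424]) (.leaf [30,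 446, 783, 809, 1871, 1892, 1921, 2281, 2509, 2648, 2855, 3711, 4447])) (.node (.leaf [107, 428, 448, 769, 1347, 1844, 2235, 2328, 2442, 2460, 2823, 4265, 4358]) (.leaf [123, 748, 1161, 1708, 2107, 2610, 3087, 3376, 3554, 3593, 3656, 3711, 4280])))) (.node (.node (.node (.leaf [146, 229, 779, 938, 2804, 3094, 3197, 3683, 3706, 3837, 3902, 4088, 4190]) (.leaf [268, 521, 842, 985, 1796, 2191, 2285, 2497, 2729, 3023, 3040, 3425, 4335])) (.node (.leaf [664, 713, 1262, 1472, 1612, 1657, 1659, 1855, 2379, 2516, 3083, 3230, 4213]) (.leaf [62, 229, 760, 1036, 1718, 2371, 2461, 2651, 2676, 2705, 3446, 3577, 3627]))) (.node (.node (.leaf [146, 237, 594, 817, 887, 917, 1090, 1259, 2220, 2562, 2661, 3321, 3965]) (.leaf [110, 129, 620, 885, 1185, 1467, 2167, 2720, 3113, 3621, 4030, 4090, 4159])) (.node (.leaf [223, 311, 489, 1008, 1182, 1668, 2715, 2889, 3171, 3382, 3606, 3634, 4314]) (.leaf [897, 946, 1392, 1525, 2268, 2437, 3104, 3277, 3402, 3562, 3756, 3771, 4346])))))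

def nbr2242 : Janko.Tree (List ℕ) :=
  (.node (.node (.node (.node (.node (.leaf [420, 991, 1307, 1751, 2273, 2390, 2656, 2838, 3244, 3362, 4010, 4311, 4326]) (.leaf [182, 515, 697, 907, 1480, 1738, 1997, 2420, 2449, 3527, 3988, 4075, 4379])) (.leaf [182, 294, 883, 1058, 2041, 2137, 2448, 2730, 3187, 3568, 4054, 4250, 4343])) (.node (.leaf [148, 247, 392, 674, 950, 986, 1325, 1885, 1897, 2037, 2870, 4151, 4382]) (.leaf [569, 854, 1808, 2089, 2101, 2536, 2697, 2754, 2783, 3224, 3764, 3928, 4440]))) (.node (.node (.leaf [242, 373, 414, 546, 612, 1192, 1877, 3755, 3945, 4279, 4293, 4323, 4468]) (.leaf [139, 385, 416, 767, 1025, 1632, 2349, 2491, 2508, 2651, 2705, 3766, 4384])) (.node (.leaf [149, 392, 1249, 1552, 1606, 2023, 2236, 2885, 3119, 3385, 3689, 3749, 4056]) (.leaf [142, 495, 672, 966, 1022, 1551, 1793, 2125, 2798, 2952, 3430, 3751, 3763])))) (.node (.node (.node (.leaf [243, 356, 633, 780, 1192, 1901, 2206, 2994, 3233, 3381, 3599, 4238, 4450]) (.leaf [96, 692, 721, 1685, 1897, 1922, 2001, 2118, 2755, 3024, 3795, 4114, 4441])) (.node (.leaf [141, 160, 644, 671, 1660, 1837, 2785,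 2995, 3015, 3803, 3887, 4215, 4239]) (.leaf [257, 665, 712, 788, 1259, 1621, 1719, 3117, 3157, 3289, 3451, 4067, 4252]))) (.node (.node (.leaf [610, 731, 738, 764, 818, 918, 968, 1323, 2208, 2565, 2814, 3966, 3980]) (.leaf [132, 565, 1016, 1468, 1707, 2523, 2548, 2988, 3116, 3186, 3312, 3619, 3640])) (.node (.leaf [904, 951, 1011, 1104, 1271, 1437, 1608, 2383, 2716, 3172, 3776, 3878, 4151]) (.leaf [407, 442, 469, 1356, 1448, 1978, 2007, 2065, 2259, 2536, 2697, 3589, 4364])))))

def nbr2243 : Janko.Tree (List ℕ) :=
  (.node (.node (.node (.node (.node (.leaf [421, 990, 1306, 1750, 2272, 2391, 2657, 2839, 3245, 3363, 4011, 4310, 4327]) (.leaf [183, 514, 696, 906, 1481, 1739, 1996, 2421, 2448, 3526, 3989, 4074, 4378])) (.leaf [183, 295, 882, 1059, 2040, 2136, 2449, 2731, 3186, 3569, 4055, 4251, 4342])) (.node (.leaf [149, 246, 393, 675, 951, 987, 1324, 1884, 1896, 2036, 2871, 4150, 4383]) (.leaf [568, 855, 1809, 2088, 2100, 2537, 2696, 2755, 2782, 3225, 3765, 3929, 4441]))) (.node (.node (.leaf [243, 372, 415, 547, 613, 1193, 1876, 3754, 3944, 4278, 4292, 4322, 4469]) (.leaf [138, 384,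 417, 766, 1024, 1633, 2348, 2490, 2509, 2650, 2704, 3767, 4385])) (.node (.leaf [148, 393, 1248, 1553, 1607, 2022, 2237, 2884, 3118, 3384, 3688, 3748, 4057]) (.leaf [143, 494, 673, 967, 1023, 1550, 1792, 2124, 2799, 2953, 3431, 3750, 3762])))) (.node (.node (.node (.leaf [242, 357, 632, 781, 1193, 1900, 2207, 2995, 3232, 3380, 3598, 4239, 4451]) (.leaf [97, 693, 720, 1684, 1896, 1923, 2000, 2119, 2754, 3025, 3794, 4115, 4440])) (.node (.leaf [140, 161, 645, 670, 1661, 1836, 2784, 2994, 3014, 3802, 3886, 4214, 4238]) (.leaf [256, 664, 713, 789, 1258, 1620, 1718, 3116, 3156, 3288, 3450, 4066, 4253]))) (.node (.node (.leaf [611, 730, 739, 765, 819, 919, 969, 1322, 2209, 2564, 2815, 3967, 3981]) (.leaf [133, 564, 1017, 1469, 1706, 2522, 2549, 2989, 3117, 3187, 3313, 3618, 3641])) (.node (.leaf [905, 950, 1010, 1105, 1270, 1436, 1609, 2382, 2717, 3173, 3777, 3879, 4150]) (.leaf [406, 443, 468, 1357, 1449, 1979, 2006, 2064, 2258, 2537, 2696, 3588, 4365])))))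

def nbr2244 : Janko.Tree (List ℕ) :=
  (.node (.node (.node (.node (.node (.leaf [313, 340, 654, 909, 993, 1309, 2840, 3137, 3260, 3520, 3818, 4295, 4450]) (.leaf [134, 1125, 1235, 1370, 1414, 1431, 1677, 2324, 2595, 3337, 3909, 4263, 4350])) (.leaf [262, 290, 357, 671, 1600, 3014, 3162, 3189, 3223, 3264, 3613, 3729, 4065])) (.node (.leaf [150, 249, 317, 394, 952, 988, 1850, 1899, 1957, 2247, 2398, 2857, 3242]) (.leaf [154, 1174, 1328, 1913, 1952, 1987, 2084, 2105, 2629, 2787, 3095, 3194, 3298]))) (.node (.node (.leaf [47, 244, 416, 614, 1089, 1194, 1713, 2551, 2633, 3053, 3068, 4395, 4430]) (.leaf [59, 1653, 2131, 2145, 2600, 2696, 3105, 3494, 3543, 3544, 3660, 3762, 4128])) (.node (.leaf [141, 1480, 1512, 1924, 1990, 2144, 2262, 2448, 2652, 3422, 3537, 3649, 3817]) (.leaf [240, 416, 558, 847, 1437, 2165, 3069, 3422, 3578, 3873, 3879, 3974, 4022])))) (.node (.node (.node (.leaf [245, 408, 635, 782, 1194, 1574, 1903, 2360, 2627, 2821, 3601, 4201, 4447]) (.leaf [602, 852, 1249, 1598, 1737, 1892, 2584, 3346, 3514, 3517, 3748, 4144, 4435])) (.node (.leaf [233, 500, 675, 991, 1750, 1774,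 2054, 2134, 2473, 2804, 2886, 2917, 3144]) (.leaf [117, 507, 1394, 2200, 2411, 2933, 3259, 3289, 3398, 3450, 3853, 4036, 4106]))) (.node (.node (.leaf [1098, 1247, 1398, 2514, 2577, 2842, 3017, 3123, 3486, 3525, 3531, 4157, 4417]) (.leaf [232, 630, 1380, 1751, 2082, 2311, 2526, 2839, 3008, 3384, 3703, 3838, 3996])) (.node (.leaf [306, 498, 1117, 1342, 1889, 2353, 2718, 2892, 3049, 3605, 3846, 3929, 4419]) (.leaf [189, 1358, 1450, 1733, 2182, 2261, 2379, 2679, 2712, 3372, 3376, 3919, 4288])))))

def nbr2245 : Janko.Tree (List ℕ) :=
  (.node (.node (.node (.node (.node (.leaf [312, 341, 655, 908, 992, 1308, 2841, 3136, 3261, 3521, 3819, 4294, 4451]) (.leaf [135, 1124, 1234, 1371, 1415, 1430, 1676, 2325, 2594, 3336, 3908, 4262, 4351])) (.leaf [263, 291, 356, 670, 1601, 3015, 3163, 3188, 3222, 3265, 3612, 3728, 4064])) (.node (.leaf [151, 248, 316, 395, 953, 989, 1851, 1898, 1956, 2246, 2399, 2856, 3243]) (.leaf [155, 1175, 1329, 1912, 1953, 1986, 2085, 2104, 2628, 2786, 3094, 3195, 3299]))) (.node (.node (.leaf [46, 245, 417, 615, 1088, 1195, 1712, 2550, 2632, 3052, 3069, 4394, 4431])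 (.leaf [58, 1652, 2130, 2144, 2601, 2697, 3104, 3495, 3542, 3545, 3661, 3763, 4129])) (.node (.leaf [140, 1481, 1513, 1925, 1991, 2145, 2263, 2449, 2653, 3423, 3536, 3648, 3816]) (.leaf [241, 417, 559, 846, 1436, 2164, 3068, 3423, 3579, 3872, 3878, 3975, 4023])))) (.node (.node (.node (.leaf [244, 409, 634, 783, 1195, 1575, 1902, 2361, 2626, 2820, 3600, 4200, 4446]) (.leaf [603, 853, 1248, 1599, 1736, 1893, 2585, 3347, 3515, 3516, 3749, 4145, 4434])) (.node (.leaf [232, 501, 674, 990, 1751, 1775, 2055, 2135, 2472, 2805, 2887, 2916, 3145]) (.leaf [116, 506, 1395, 2201, 2410, 2932, 3258, 3288, 3399, 3451, 3852, 4037, 4107]))) (.node (.node (.leaf [1099, 1246, 1399, 2515, 2576, 2843, 3016, 3122, 3487, 3524, 3530, 4156, 4416]) (.leaf [233, 631, 1381, 1750, 2083, 2310, 2527, 2838, 3009, 3385, 3702, 3839, 3997])) (.node (.leaf [307, 499, 1116, 1343, 1888, 2352, 2719, 2893, 3048, 3604, 3847, 3928, 4418]) (.leaf [188, 1359, 1451, 1732, 2183, 2260, 2378, 2678, 2713, 3373, 3377, 3918, 4289])))))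

def nbr2246 : Janko.Tree (List ℕ) :=
  (.node (.node (.node (.node (.node (.leaf [192, 422, 995, 1311, 1349, 2658, 2710, 2775, 3382, 4026, 4180, 4234, 4315]) (.leaf [65, 71, 212, 400, 598, 1074, 1316, 2352, 2766, 3050, 4368, 4419, 4420])) (.leaf [246, 409, 2114, 2369, 2469, 2830, 2870, 3016, 3102, 3305, 3400, 3615, 4182])) (.node (.leaf [6, 753, 788, 890, 1903, 2463, 2655, 3051, 3158, 3374, 3876, 4340, 4381]) (.leaf [226, 314, 1765, 2244, 2385, 2602, 2718, 3191, 3217, 3418, 3528, 3846, 4012]))) (.node (.node (.leaf [826, 904, 951, 1196, 1817, 1885, 2234, 2568, 3047, 3602, 3729, 4065, 4091]) (.leaf [61, 172, 1003, 1655, 1932, 2678, 2981, 3029, 3272, 3496, 3525, 3662, 4457])) (.node (.leaf [143, 614, 671, 1926, 1992, 2388, 2731, 3180, 3433, 3624, 3802, 4197, 4199]) (.leaf [378, 784, 1439, 1472, 1526, 2388, 2526, 3071, 3292, 3385, 3432, 3881, 4020])))) (.node (.node (.node (.leaf [247, 416, 598, 987, 1029, 1074, 1123, 1330, 2226, 3767, 4373, 4459, 4471]) (.leaf [202, 731, 765, 1260, 1687, 2026, 2791, 3135, 3245, 3259, 3594, 3799, 3830])) (.node (.leaf [327, 504, 1389, 1701, 1754, 2058,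 2074, 2254, 2655, 3233, 3352, 3522, 3637]) (.leaf [121, 318, 362, 1593, 1891, 2067, 2415, 2596, 3052, 3472, 3753, 3785, 4395]))) (.node (.node (.leaf [816, 980, 1189, 1400, 1511, 1950, 2324, 2346, 2569, 2927, 3307, 4155, 4409]) (.leaf [313, 612, 848, 983, 1045, 1068, 1875, 2084, 2282, 2841, 3386, 3705, 4278])) (.node (.leaf [71, 361, 784, 879, 1526, 1559, 1912, 2410, 2496, 2720, 3361, 3709, 4312]) (.leaf [193, 422, 460, 697, 1105, 2315, 2343, 3173, 3435, 3543, 3763, 3787, 3989])))))

def nbr2247 : Janko.Tree (List ℕ) :=
  (.node (.node (.node (.node (.node (.leaf [193, 423, 994, 1310, 1348, 2659, 2711, 2774, 3383, 4027, 4181, 4235, 4314]) (.leaf [64, 70, 213, 401, 599, 1075, 1317, 2353, 2767, 3051, 4369, 4418, 4421])) (.leaf [247, 408, 2115, 2368, 2468, 2831, 2871, 3017, 3103, 3304, 3401, 3614, 4183])) (.node (.leaf [7, 752, 789, 891, 1902, 2462, 2654, 3050, 3159, 3375, 3877, 4341, 4380]) (.leaf [227, 315, 1764, 2245, 2384, 2603, 2719, 3190, 3216, 3419, 3529, 3847, 4013]))) (.node (.node (.leaf [827, 905, 950, 1197, 1816, 1884, 2235, 2569, 3046, 3603, 3728, 4064, 4090]) (.leaf [60,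 173, 1002, 1654, 1933, 2679, 2980, 3028, 3273, 3497, 3524, 3663, 4456])) (.node (.leaf [142, 615, 670, 1927, 1993, 2389, 2730, 3181, 3432, 3625, 3803, 4196, 4198]) (.leaf [379, 785, 1438, 1473, 1527, 2389, 2527, 3070, 3293, 3384, 3433, 3880, 4021])))) (.node (.node (.node (.leaf [246, 417, 599, 986, 1028, 1075, 1122, 1331, 2227, 3766, 4372, 4458, 4470]) (.leaf [203, 730, 764, 1261, 1686, 2027, 2790, 3134, 3244, 3258, 3595, 3798, 3831])) (.node (.leaf [326, 505, 1388, 1700, 1755, 2059, 2075, 2255, 2654, 3232, 3353, 3523, 3636]) (.leaf [120, 319, 363, 1592, 1890, 2066, 2414, 2597, 3053, 3473, 3752, 3784, 4394]))) (.node (.node (.leaf [817, 981, 1188, 1401, 1510, 1951, 2325, 2347, 2568, 2926, 3306, 4154, 4408]) (.leaf [312, 613, 849, 982, 1044, 1069, 1874, 2085, 2283, 2840, 3387, 3704, 4279])) (.node (.leaf [70, 360, 785, 878, 1527, 1558, 1913, 2411, 2497, 2721, 3360, 3708, 4313]) (.leaf [192, 423, 461, 696, 1104, 2314, 2342, 3172, 3434, 3542, 3762, 3786, 3988])))))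

def nbr2248 : Janko.Tree (List ℕ) :=
  (.node (.node (.node (.node (.node (.leaf [194, 424, 781, 874, 997, 2382, 2643, 2746, 3180, 3413, 3878, 3952, 4281]) (.leaf [247, 404, 419, 530, 717, 1570, 1756, 2356, 2634, 3357, 3668, 4431, 4470])) (.leaf [124, 362, 858, 1131, 2413, 2723, 3088, 3289, 3328, 3345, 3362, 4081, 4404])) (.node (.leaf [8, 239, 415, 557, 1668, 2162, 2392, 3827, 3870, 3973, 4293, 4315, 4320]) (.leaf [346, 449, 866, 1670, 1980, 3193, 3219, 3382, 3538, 3740, 3976, 4110, 4192]))) (.node (.node (.leaf [7, 54, 1198, 1428, 1809, 2309, 2911, 3645, 3731, 3938, 4106, 4159, 4340]) (.leaf [185, 1831, 1895, 1946, 2205, 2285, 2429, 2924, 2934, 3393, 3675, 4164, 4349])) (.node (.leaf [145, 942, 1371, 1602, 1994, 2390, 2689, 2733, 2880, 3160, 3305, 3435, 3787]) (.leaf [469, 1024, 1053, 1356, 1576, 1828, 2523, 2529, 2747, 3503, 3575, 3698, 3778])))) (.node (.node (.node (.leaf [249, 479, 784, 989, 1076, 1125, 1332, 2228, 3203, 3654, 4032, 4108, 4455]) (.leaf [74, 655, 733, 767, 829, 1188, 2028, 2509, 2617, 2927, 3596, 4098, 4398])) (.node (.leaf [346, 548, 661, 1398, 1515, 1570, 1814,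 2060, 2214, 2979, 3062, 3475, 3524]) (.leaf [343, 541, 1044, 1762, 1846, 1933, 2182, 2233, 2549, 2678, 3704, 4035, 4476]))) (.node (.node (.leaf [465, 507, 706, 818, 1390, 2292, 2326, 2777, 2889, 2985, 3309, 4157, 4256]) (.leaf [1, 812, 920, 1056, 1770, 2130, 2604, 2847, 3105, 3138, 3153, 3771, 4034])) (.node (.leaf [73, 78, 235, 1365, 1373, 1914, 1917, 2152, 2722, 3280, 3288, 3311, 3858]) (.leaf [195, 424, 462, 1107, 1779, 2345, 2618, 2980, 3029, 3351, 3789, 4175, 4224])))))

def nbr2249 : Janko.Tree (List ℕ) :=
  (.node (.node (.node (.node (.node (.leaf [195, 425, 780, 875, 996, 2383, 2642, 2747, 3181, 3412, 3879, 3953, 4280]) (.leaf [246, 405, 418, 531, 716, 1571, 1757, 2357, 2635, 3356, 3669, 4430, 4471])) (.leaf [125, 363, 859, 1130, 2412, 2722, 3089, 3288, 3329, 3344, 3363, 4080, 4405])) (.node (.leaf [9, 238, 414, 556, 1669, 2163, 2393, 3826, 3871, 3972, 4292, 4314, 4321]) (.leaf [347, 448, 867, 1671, 1981, 3192, 3218, 3383, 3539, 3741, 3977, 4111, 4193]))) (.node (.node (.leaf [6, 55, 1199, 1429, 1808, 2308, 2910, 3644, 3730, 3939, 4107, 4158, 4341]) (.leaf [184, 1830, 1894,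 1947, 2204, 2284, 2428, 2925, 2935, 3392, 3674, 4165, 4348])) (.node (.leaf [144, 943, 1370, 1603, 1995, 2391, 2688, 2732, 2881, 3161, 3304, 3434, 3786]) (.leaf [468, 1025, 1052, 1357, 1577, 1829, 2522, 2528, 2746, 3502, 3574, 3699, 3779])))) (.node (.node (.node (.leaf [248, 478, 785, 988, 1077, 1124, 1333, 2229, 3202, 3655, 4033, 4109, 4454]) (.leaf [75, 654, 732, 766, 828, 1189, 2029, 2508, 2616, 2926, 3597, 4099, 4399])) (.node (.leaf [347, 549, 660, 1399, 1514, 1571, 1815, 2061, 2215, 2978, 3063, 3474, 3525]) (.leaf [342, 540, 1045, 1763, 1847, 1932, 2183, 2232, 2548, 2679, 3705, 4034, 4477]))) (.node (.node (.leaf [464, 506, 707, 819, 1391, 2293, 2327, 2776, 2888, 2984, 3308, 4156, 4257]) (.leaf [0, 813, 921, 1057, 1771, 2131, 2605, 2846, 3104, 3139, 3152, 3770, 4035])) (.node (.leaf [72, 79, 234, 1364, 1372, 1915, 1916, 2153, 2723, 3281, 3289, 3310, 3859]) (.leaf [194, 425, 463, 1106, 1778, 2344, 2619, 2981, 3028, 3350, 3788, 4174, 4225])))))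

def nbr2250 : Janko.Tree (List ℕ) :=
  (.node (.node (.node (.node (.node (.leaf [323, 426, 616, 818, 2044, 2161, 2663, 2815, 2864, 3023, 3324, 3331, 4038]) (.leaf [174, 1441, 1514, 1741, 1879, 2060, 2147, 2281, 2400, 2538, 3130, 3389, 4003])) (.leaf [364, 860, 864, 1133, 1923, 2248, 2415, 2651, 2677, 2913, 3260, 3312, 4413])) (.node (.leaf [604, 1036, 1391, 1573, 1596, 1903, 1943, 1950, 2117, 2889, 3904, 3998, 4380]) (.leaf [323, 504, 1389, 1974, 2284, 2578, 2829, 3040, 3222, 3788, 4175, 4228, 4332]))) (.node (.node (.leaf [9, 56, 1200, 1607, 1630, 2081, 2102, 2671, 3119, 3149, 3733, 3870, 4017]) (.leaf [187, 633, 1387, 1752, 2207, 2287, 2431, 2708, 2753, 3045, 3276, 3450, 3690])) (.node (.leaf [555, 668, 777, 869, 1174, 1706, 1985, 2088, 2238, 2512, 2951, 3495, 4128]) (.leaf [460, 555, 690, 800, 1028, 1057, 1752, 2525, 3045, 3109, 3494, 3762, 4009])))) (.node (.node (.node (.leaf [175, 530, 786, 991, 1307, 1539, 1756, 1783, 2154, 2260, 3390, 4053, 4259]) (.leaf [273, 680, 767, 848, 2282, 2288, 2362, 2616, 2799, 3354, 3548, 4241, 4384])) (.node (.leaf [280, 604, 862, 1079, 1367,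 1572, 1816, 2129, 2321, 2556, 2942, 3477, 3795]) (.leaf [295, 504, 1059, 1616, 2087, 2118, 2530, 2771, 3083, 3233, 3795, 3960, 4074]))) (.node (.node (.leaf [16, 505, 579, 1187, 1402, 2368, 2412, 2723, 3265, 3311, 3445, 3449, 3890]) (.leaf [229, 616, 814, 922, 1002, 1772, 1954, 2160, 2849, 3039, 3140, 3903, 4457])) (.node (.leaf [14, 589, 695, 884, 978, 1185, 1233, 1385, 2028, 3249, 3577, 4001, 4161]) (.leaf [11, 858, 926, 1723, 1992, 2055, 2420, 3175, 3344, 3380, 3653, 3897, 4239])))))

def nbr2251 : Janko.Tree (List ℕ) :=
  (.node (.node (.node (.node (.node (.leaf [322, 427, 617, 819, 2045, 2160, 2662, 2814, 2865, 3022, 3325, 3330, 4039]) (.leaf [175, 1440, 1515, 1740, 1878, 2061, 2146, 2280, 2401, 2539, 3131, 3388, 4002])) (.leaf [365, 861, 865, 1132, 1922, 2249, 2414, 2650, 2676, 2912, 3261, 3313, 4412])) (.node (.leaf [605, 1037, 1390, 1572, 1597, 1902, 1942, 1951, 2116, 2888, 3905, 3999, 4381]) (.leaf [322, 505, 1388, 1975, 2285, 2579, 2828, 3041, 3223, 3789, 4174, 4229, 4333]))) (.node (.node (.leaf [8, 57, 1201, 1606, 1631, 2080, 2103, 2670, 3118, 3148, 3732, 3871, 4016])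 (.leaf [186, 632, 1386, 1753, 2206, 2286, 2430, 2709, 2752, 3044, 3277, 3451, 3691])) (.node (.leaf [554, 669, 776, 868, 1175, 1707, 1984, 2089, 2239, 2513, 2950, 3494, 4129]) (.leaf [461, 554, 691, 801, 1029, 1056, 1753, 2524, 3044, 3108, 3495, 3763, 4008])))) (.node (.node (.node (.leaf [174, 531, 787, 990, 1306, 1538, 1757, 1782, 2155, 2261, 3391, 4052, 4258]) (.leaf [272, 681, 766, 849, 2283, 2289, 2363, 2617, 2798, 3355, 3549, 4240, 4385])) (.node (.leaf [281, 605, 863, 1078, 1366, 1573, 1817, 2128, 2320, 2557, 2943, 3476, 3794]) (.leaf [294, 505, 1058, 1617, 2086, 2119, 2531, 2770, 3082, 3232, 3794, 3961, 4075]))) (.node (.node (.leaf [17, 504, 578, 1186, 1403, 2369, 2413, 2722, 3264, 3310, 3444, 3448, 3891]) (.leaf [228, 617, 815, 923, 1003, 1773, 1955, 2161, 2848, 3038, 3141, 3902, 4456])) (.node (.leaf [15, 588, 694, 885, 979, 1184, 1232, 1384, 2029, 3248, 3576, 4000, 4160]) (.leaf [10, 859, 927, 1722, 1993, 2054, 2421, 3174, 3345, 3381, 3652, 3896, 4238])))))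

def nbr2252 : Janko.Tree (List ℕ) :=
  (.node (.node (.node (.node (.node (.leaf [428, 445, 750, 1073, 1454, 1499, 1612, 2046, 2049, 2470, 2544, 2905, 3648]) (.leaf [57, 254, 268, 837, 1204, 2388, 2450, 2811, 3015, 3385, 3582, 3803, 3838])) (.leaf [110, 151, 432, 953, 1511, 1931, 2010, 2609, 2773, 2872, 3120, 4256, 4301])) (.node (.leaf [598, 1400, 1575, 1852, 1915, 1967, 2647, 3235, 3871, 3881, 4097, 4353, 4437]) (.leaf [32, 487, 643, 668, 853, 1657, 2299, 2739, 3469, 3507, 3633, 3912, 3951]))) (.node (.node (.leaf [1202, 1247, 1462, 1503, 1878, 1938, 2281, 2463, 2906, 2976, 3974, 4203, 4426]) (.leaf [400, 548, 830, 852, 1815, 2239, 2433, 2951, 3500, 3509, 3611, 3664, 4084])) (.node (.leaf [591, 724, 825, 842, 1211, 1821, 2435, 2936, 3092, 3099, 3152, 3205, 3545]) (.leaf [264, 583, 586, 882, 1067, 2066, 2125, 2342, 3568, 3730, 3750, 4168, 4243])))) (.node (.node (.node (.leaf [251, 788, 993, 1309, 1503, 1785, 2462, 2793, 2819, 2872, 3046, 4261, 4363]) (.leaf [81, 1434, 1931, 2158, 2246, 2712, 2772, 3060, 3454, 3739, 3836, 4121, 4189])) (.node (.leaf [63, 310, 688, 886, 1371, 1582,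 1820, 2219, 2936, 2971, 3831, 3853, 3908]) (.leaf [415, 1249, 1284, 2128, 2162, 2215, 2361, 2597, 2899, 3601, 3794, 4115, 4468]))) (.node (.node (.leaf [80, 839, 845, 1282, 1408, 1805, 2355, 2638, 3245, 3679, 3782, 3907, 4010]) (.leaf [92, 239, 1064, 1141, 1190, 1441, 2059, 2147, 2162, 2242, 2565, 3286, 3353])) (.node (.leaf [16, 697, 886, 1187, 1481, 1513, 1594, 2120, 2687, 3505, 3908, 4177, 4421]) (.leaf [204, 603, 739, 1294, 1644, 1890, 2212, 2269, 2565, 2760, 3253, 3829, 4449])))))

def nbr2253 : Janko.Tree (List ℕ) :=
  (.node (.node (.node (.node (.node (.leaf [429, 444, 751, 1072, 1455, 1498, 1613, 2047, 2048, 2471, 2545, 2904, 3649]) (.leaf [56, 255, 269, 836, 1205, 2389, 2451, 2810, 3014, 3384, 3583, 3802, 3839])) (.leaf [111, 150, 433, 952, 1510, 1930, 2011, 2608, 2772, 2873, 3121, 4257, 4300])) (.node (.leaf [599, 1401, 1574, 1853, 1914, 1966, 2646, 3234, 3870, 3880, 4096, 4352, 4436]) (.leaf [33, 486, 642, 669, 852, 1656, 2298, 2738, 3468, 3506, 3632, 3913, 3950]))) (.node (.node (.leaf [1203, 1246, 1463, 1502, 1879, 1939, 2280, 2462, 2907, 2977, 3975, 4202, 4427]) (.leaf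 [401, 549, 831, 853, 1814, 2238, 2432, 2950, 3501, 3508, 3610, 3665, 4085])) (.node (.leaf [590, 725, 824, 843, 1210, 1820, 2434, 2937, 3093, 3098, 3153, 3204, 3544]) (.leaf [265, 582, 587, 883, 1066, 2067, 2124, 2343, 3569, 3731, 3751, 4169, 4242])))) (.node (.node (.node (.leaf [250, 789, 992, 1308, 1502, 1784, 2463, 2792, 2818, 2873, 3047, 4260, 4362]) (.leaf [80, 1435, 1930, 2159, 2247, 2713, 2773, 3061, 3455, 3738, 3837, 4120, 4188])) (.node (.leaf [62, 311, 689, 887, 1370, 1583, 1821, 2218, 2937, 2970, 3830, 3852, 3909]) (.leaf [414, 1248, 1285, 2129, 2163, 2214, 2360, 2596, 2898, 3600, 3795, 4114, 4469]))) (.node (.node (.leaf [81, 838, 844, 1283, 1409, 1804, 2354, 2639, 3244, 3678, 3783, 3906, 4011]) (.leaf [93, 238, 1065, 1140, 1191, 1440, 2058, 2146, 2163, 2243, 2564, 3287, 3352])) (.node (.leaf [17, 696, 887, 1186, 1480, 1512, 1595, 2121, 2686, 3504, 3909, 4176, 4420]) (.leaf [205, 602, 738, 1295, 1645, 1891, 2213, 2268, 2564, 2761, 3252, 3828, 4448])))))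

def nbr2254 : Janko.Tree (List ℕ) :=
  (.node (.node (.node (.node (.node (.leaf [288, 430, 447, 809, 1330, 1879, 2473, 2907, 2916, 3025, 3848, 3899, 4470]) (.leaf [191, 1142, 1162, 1474, 1500, 1552, 1861, 2060, 2483, 3548, 3737, 3984, 4473])) (.leaf [70, 422, 1171, 1363, 2281, 2388, 2816, 2876, 3573, 3710, 3842, 4092, 4307])) (.node (.leaf [114, 517, 813, 920, 924, 963, 1038, 1835, 2170, 2499, 3431, 3659, 4138]) (.leaf [46, 438, 653, 678, 841, 1361, 1376, 3083, 3271, 3845, 4075, 4336, 4429]))) (.node (.node (.leaf [685, 913, 1204, 1249, 1339, 1464, 1880, 2162, 3182, 3385, 3414, 4205, 4345]) (.leaf [231, 786, 1442, 1507, 1605, 1718, 1825, 2155, 3044, 3156, 4131, 4316, 4370])) (.node (.leaf [173, 622, 844, 1213, 1823, 2437, 2938, 3094, 3097, 3101, 3902, 3915, 4338]) (.leaf [361, 428, 712, 938, 1167, 1925, 3686, 3817, 3836, 4048, 4186, 4313, 4358])))) (.node (.node (.node (.leaf [253, 576, 782, 790, 809, 995, 1311, 2795, 2821, 3316, 3693, 4095, 4141]) (.leaf [223, 263, 1026, 1113, 1518, 2542, 2641, 2714, 3120, 3908, 4006, 4176, 4322])) (.node (.leaf [65, 366, 895, 904, 968, 1198, 1584,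 1822, 2938, 3255, 3410, 3939, 4099]) (.leaf [417, 705, 1286, 1485, 1713, 2164, 2488, 2599, 2943, 3285, 3892, 4327, 4407]))) (.node (.node (.leaf [160, 260, 655, 841, 1006, 1758, 2156, 2638, 2640, 2994, 3132, 3489, 3520]) (.leaf [94, 241, 418, 1054, 1066, 2149, 2164, 2266, 2874, 3107, 3322, 3355, 3507])) (.node (.leaf [18, 645, 908, 914, 982, 2494, 2796, 2840, 3456, 3803, 3807, 4198, 4237]) (.leaf [11, 184, 379, 394, 1257, 1527, 3475, 3926, 3946, 3996, 4208, 4398, 4439])))))

def nbr2255 : Janko.Tree (List ℕ) :=
  (.node (.node (.node (.node (.node (.leaf [289, 431, 446, 808, 1331, 1878, 2472, 2906, 2917, 3024, 3849, 3898, 4471]) (.leaf [190, 1143, 1163, 1475, 1501, 1553, 1860, 2061, 2482, 3549, 3736, 3985, 4472])) (.leaf [71, 423, 1170, 1362, 2280, 2389, 2817, 2877, 3572, 3711, 3843, 4093, 4306])) (.node (.leaf [115, 516, 812, 921, 925, 962, 1039, 1834, 2171, 2498, 3430, 3658, 4139]) (.leaf [47, 439, 652, 679, 840, 1360, 1377, 3082, 3270, 3844, 4074, 4337, 4428]))) (.node (.node (.leaf [684, 912, 1205, 1248, 1338, 1465, 1881, 2163, 3183, 3384, 3415, 4204, 4344]) (.leaf [230, 787, 1443,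 1506, 1604, 1719, 1824, 2154, 3045, 3157, 4130, 4317, 4371])) (.node (.leaf [172, 623, 845, 1212, 1822, 2436, 2939, 3095, 3096, 3100, 3903, 3914, 4339]) (.leaf [360, 429, 713, 939, 1166, 1924, 3687, 3816, 3837, 4049, 4187, 4312, 4359])))) (.node (.node (.node (.leaf [252, 577, 783, 791, 808, 994, 1310, 2794, 2820, 3317, 3692, 4094, 4140]) (.leaf [222, 262, 1027, 1112, 1519, 2543, 2640, 2715, 3121, 3909, 4007, 4177, 4323])) (.node (.leaf [64, 367, 894, 905, 969, 1199, 1585, 1823, 2939, 3254, 3411, 3938, 4098]) (.leaf [416, 704, 1287, 1484, 1712, 2165, 2489, 2598, 2942, 3284, 3893, 4326, 4406]))) (.node (.node (.leaf [161, 261, 654, 840, 1007, 1759, 2157, 2639, 2641, 2995, 3133, 3488, 3521]) (.leaf [95, 240, 419, 1055, 1067, 2148, 2165, 2267, 2875, 3106, 3323, 3354, 3506])) (.node (.leaf [19, 644, 909, 915, 983, 2495, 2797, 2841, 3457, 3802, 3806, 4199, 4236]) (.leaf [10, 185, 378, 395, 1256, 1526, 3474, 3927, 3947, 3997, 4209, 4399, 4438])))))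

def nbr2 : Janko.Tree (List ℕ) :=
  (.node (.node (.node (.node (.node (.node (.node (.node nbr20 nbr2128) (.node nbr264 nbr2192)) (.node (.node nbr232 nbr2160) (.node nbr296 nbr2224))) (.node (.node (.node nbr216 nbr2144) (.node nbr280 nbr2208)) (.node (.node nbr248 nbr2176) (.node nbr2112 nbr2240)))) (.node (.node (.node (.node nbr28 nbr2136) (.node nbr272 nbr2200)) (.node (.node nbr240 nbr2168) (.node nbr2104 nbr2232))) (.node (.node (.node nbr224 nbr2152) (.node nbr288 nbr2216)) (.node (.node nbr256 nbr2184) (.node nbr2120 nbr2248))))) (.node (.node (.node (.node (.node nbr24 nbr2132) (.node nbr268 nbr2196)) (.node (.node nbr236 nbr2164) (.node nbr2100 nbr2228))) (.node (.node (.node nbr220 nbr2148) (.node nbr284 nbr2212)) (.node (.node nbr252 nbr2180) (.node nbr2116 nbr2244)))) (.node (.node (.node (.node nbr212 nbr2140) (.node nbr276 nbr2204)) (.node (.node nbr244 nbr2172) (.node nbr2108 nbr2236))) (.node (.node (.node nbr228 nbr2156) (.node nbr292 nbr2220)) (.node (.node nbr260 nbr2188) (.node nbr2124 nbr2252)))))) (.node (.node (.node (.node (.node (.node nbr22 nbr2130) (.node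 nbr266 nbr2194)) (.node (.node nbr234 nbr2162) (.node nbr298 nbr2226))) (.node (.node (.node nbr218 nbr2146) (.node nbr282 nbr2210)) (.node (.node nbr250 nbr2178) (.node nbr2114 nbr2242)))) (.node (.node (.node (.node nbr210 nbr2138) (.node nbr274 nbr2202)) (.node (.node nbr242 nbr2170) (.node nbr2106 nbr2234))) (.node (.node (.node nbr226 nbr2154) (.node nbr290 nbr2218)) (.node (.node nbr258 nbr2186) (.node nbr2122 nbr2250))))) (.node (.node (.node (.node (.node nbr26 nbr2134) (.node nbr270 nbr2198)) (.node (.node nbr238 nbr2166) (.node nbr2102 nbr2230))) (.node (.node (.node nbr222 nbr2150) (.node nbr286 nbr2214)) (.node (.node nbr254 nbr2182) (.node nbr2118 nbr2246)))) (.node (.node (.node (.node nbr214 nbr2142) (.node nbr278 nbr2206)) (.node (.node nbr246 nbr2174) (.node nbr2110 nbr2238))) (.node (.node (.node nbr230 nbr2158) (.node nbr294 nbr2222)) (.node (.node nbr262 nbr2190) (.node nbr2126 nbr2254))))))) (.node (.node (.node (.node (.node (.node (.node nbr21 nbr2129) (.node nbr265 nbr2193)) (.node (.node nbr233 nbr2161) (.node nbr297 nbr2225))) (.node (.node (.node nbr217 nbr2145)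 (.node nbr281 nbr2209)) (.node (.node nbr249 nbr2177) (.node nbr2113 nbr2241)))) (.node (.node (.node (.node nbr29 nbr2137) (.node nbr273 nbr2201)) (.node (.node nbr241 nbr2169) (.node nbr2105 nbr2233))) (.node (.node (.node nbr225 nbr2153) (.node nbr289 nbr2217)) (.node (.node nbr257 nbr2185) (.node nbr2121 nbr2249))))) (.node (.node (.node (.node (.node nbr25 nbr2133) (.node nbr269 nbr2197)) (.node (.node nbr237 nbr2165) (.node nbr2101 nbr2229))) (.node (.node (.node nbr221 nbr2149) (.node nbr285 nbr2213)) (.node (.node nbr253 nbr2181) (.node nbr2117 nbr2245)))) (.node (.node (.node (.node nbr213 nbr2141) (.node nbr277 nbr2205)) (.node (.node nbr245 nbr2173) (.node nbr2109 nbr2237))) (.node (.node (.node nbr229 nbr2157) (.node nbr293 nbr2221)) (.node (.node nbr261 nbr2189) (.node nbr2125 nbr2253)))))) (.node (.node (.node (.node (.node (.node nbr23 nbr2131) (.node nbr267 nbr2195)) (.node (.node nbr235 nbr2163) (.node nbr299 nbr2227))) (.node (.node (.node nbr219 nbr2147) (.node nbr283 nbr2211)) (.node (.node nbr251 nbr2179) (.node nbr2115 nbr2243)))) (.node (.node (.node (.node nbr211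 nbr2139) (.node nbr275 nbr2203)) (.node (.node nbr243 nbr2171) (.node nbr2107 nbr2235))) (.node (.node (.node nbr227 nbr2155) (.node nbr291 nbr2219)) (.node (.node nbr259 nbr2187) (.node nbr2123 nbr2251))))) (.node (.node (.node (.node (.node nbr27 nbr2135) (.node nbr271 nbr2199)) (.node (.node nbr239 nbr2167) (.node nbr2103 nbr2231))) (.node (.node (.node nbr223 nbr2151) (.node nbr287 nbr2215)) (.node (.node nbr255 nbr2183) (.node nbr2119 nbr2247)))) (.node (.node (.node (.node nbr215 nbr2143) (.node nbr279 nbr2207)) (.node (.node nbr247 nbr2175) (.node nbr2111 nbr2239))) (.node (.node (.node nbr231 nbr2159) (.node nbr295 nbr2223)) (.node (.node nbr263 nbr2191) (.node nbr2127 nbr2255))))))))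

def spar20 : Janko.Tree (ℕ × Bool) :=
  (.node (.node (.node (.node (.node (.leaf (0, false)) (.leaf (1720, false))) (.leaf (126, true))) (.node (.leaf (1800, false)) (.leaf (1028, true)))) (.node (.node (.leaf (1682, true)) (.leaf (430, true))) (.node (.leaf (460, true)) (.leaf (1250, false))))) (.node (.node (.node (.node (.leaf (672, false)) (.leaf (1920, false))) (.leaf (1695, true))) (.node (.leaf (1636, true)) (.leaf (1783, false)))) (.node (.node (.leaf (2051, true)) (.leaf (304, true))) (.node (.leaf (1913, true)) (.leaf (1644, true))))))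

def spar21 : Janko.Tree (ℕ × Bool) :=
  (.node (.node (.node (.node (.node (.leaf (0, false)) (.leaf (1507, false))) (.leaf (2024, false))) (.node (.leaf (1256, true)) (.leaf (1882, false)))) (.node (.node (.leaf (2169, true)) (.leaf (407, false))) (.node (.leaf (253, true)) (.leaf (90, true))))) (.node (.node (.node (.node (.leaf (77, false)) (.leaf (1762, true))) (.leaf (1355, false))) (.node (.leaf (2140, false)) (.leaf (388, false)))) (.node (.node (.leaf (694, true)) (.leaf (745, true))) (.node (.leaf (534, false)) (.leaf (1288, false))))))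

def spar22 : Janko.Tree (ℕ × Bool) :=
  (.node (.node (.node (.node (.node (.leaf (2075, true)) (.leaf (2203, true))) (.leaf (460, true))) (.node (.leaf (1280, false)) (.leaf (1520, false)))) (.node (.node (.leaf (2065, true)) (.leaf (1534, true))) (.node (.leaf (1100, false)) (.leaf (91, true))))) (.node (.node (.node (.node (.leaf (1831, true)) (.leaf (1312, false))) (.leaf (1739, true))) (.node (.leaf (2002, false)) (.leaf (1312, true)))) (.node (.node (.leaf (1742, false)) (.leaf (1732, true))) (.node (.leaf (440, false)) (.leaf (1663, true))))))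

def spar23 : Janko.Tree (ℕ × Bool) :=
  (.node (.node (.node (.node (.node (.leaf (1, false)) (.leaf (1520, false))) (.leaf (1910, false))) (.node (.leaf (2142, true)) (.leaf (387, true)))) (.node (.node (.leaf (1762, true)) (.leaf (601, false))) (.node (.leaf (1745, true)) (.leaf (659, true))))) (.node (.node (.node (.node (.leaf (548, false)) (.leaf (130, true))) (.leaf (534, false))) (.node (.leaf (430, false)) (.leaf (342, false)))) (.node (.node (.leaf (1389, true)) (.leaf (314, true))) (.node (.leaf (460, false)) (.leaf (1288, true))))))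

def spar24 : Janko.Tree (ℕ × Bool) :=
  (.node (.node (.node (.node (.node (.leaf (1941, true)) (.leaf (1629, true))) (.leaf (0, false))) (.node (.leaf (1773, false)) (.leaf (2125, false)))) (.node (.node (.leaf (2052, false)) (.leaf (1987, true))) (.node (.leaf (341, false)) (.leaf (1172, true))))) (.node (.node (.node (.node (.leaf (1955, false)) (.leaf (30, true))) (.leaf (689, true))) (.node (.leaf (311, true)) (.leaf (1876, true)))) (.node (.node (.leaf (697, true)) (.leaf (340, false))) (.node (.leaf (149, false)) (.leaf (948, true))))))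

def spar25 : Janko.Tree (ℕ × Bool) :=
  (.node (.node (.node (.node (.node (.leaf (1495, false)) (.leaf (1786, false))) (.leaf (1534, true))) (.node (.leaf (1783, false)) (.leaf (1663, true)))) (.node (.node (.leaf (1495, true)) (.leaf (658, true))) (.node (.leaf (1003, true)) (.leaf (2110, true))))) (.node (.node (.node (.node (.leaf (2026, false)) (.leaf (164, false))) (.leaf (690, true))) (.node (.leaf (146, true)) (.leaf (1935, true)))) (.node (.node (.leaf (1887, true)) (.leaf (222, false))) (.node (.leaf (826, false)) (.leaf (387, true))))))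

def spar26 : Janko.Tree (ℕ × Bool) :=
  (.node (.node (.node (.node (.node (.leaf (1422, true)) (.leaf (252, false))) (.leaf (2004, false))) (.node (.leaf (1006, false)) (.leaf (814, false)))) (.node (.node (.leaf (2125, false)) (.leaf (659, true))) (.node (.leaf (2053, false)) (.leaf (2075, true))))) (.node (.node (.node (.node (.leaf (1220, false)) (.leaf (2059, true))) (.leaf (93, true))) (.node (.leaf (770, false)) (.leaf (1485, false)))) (.node (.node (.leaf (2158, false)) (.leaf (1661, true))) (.node (.leaf (510, true)) (.leaf (1786, true))))))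

def spar27 : Janko.Tree (ℕ × Bool) :=
  (.node (.node (.node (.node (.node (.leaf (1021, false)) (.leaf (2142, true))) (.leaf (1485, true))) (.node (.leaf (1565, false)) (.leaf (1967, false)))) (.node (.node (.leaf (2139, false)) (.leaf (819, true))) (.node (.leaf (1699, false)) (.leaf (1517, false))))) (.node (.node (.node (.node (.leaf (800, true)) (.leaf (1885, true))) (.leaf (1003, true))) (.node (.leaf (662, true)) (.leaf (1969, false)))) (.node (.node (.leaf (1205, true)) (.leaf (535, true))) (.node (.leaf (1614, false)) (.leaf (1887, true))))))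

def spar28 : Janko.Tree (ℕ × Bool) :=
  (.node (.node (.node (.node (.node (.leaf (1205, false)) (.leaf (1003, false))) (.leaf (2002, true))) (.node (.leaf (1882, true)) (.leaf (994, true)))) (.node (.node (.leaf (1521, true)) (.leaf (658, true))) (.node (.leaf (2175, false)) (.leaf (1, false))))) (.node (.node (.node (.node (.leaf (992, false)) (.leaf (2171, false))) (.leaf (15, true))) (.node (.leaf (1006, false)) (.leaf (770, true)))) (.node (.node (.leaf (1019, false)) (.leaf (1762, true))) (.node (.leaf (1081, false)) (.leaf (1266, false))))))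

def spar29 : Janko.Tree (ℕ × Bool) :=
  (.node (.node (.node (.node (.node (.leaf (600, false)) (.leaf (1834, false))) (.leaf (729, true))) (.node (.leaf (1288, false)) (.leaf (1442, false)))) (.node (.node (.leaf (253, false)) (.leaf (1661, false))) (.node (.leaf (749, false)) (.leaf (793, false))))) (.node (.node (.node (.node (.leaf (2051, true)) (.leaf (2051, false))) (.leaf (2142, false))) (.node (.leaf (230, true)) (.leaf (1725, false)))) (.node (.node (.leaf (253, false)) (.leaf (1614, false))) (.node (.leaf (729, false)) (.leaf (2139, true))))))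

def spar210 : Janko.Tree (ℕ × Bool) :=
  (.node (.node (.node (.node (.node (.leaf (665, false)) (.leaf (1465, false))) (.leaf (2026, false))) (.node (.leaf (729, true)) (.leaf (403, false)))) (.node (.node (.leaf (1100, false)) (.leaf (387, false))) (.node (.leaf (530, false)) (.leaf (14, false))))) (.node (.node (.node (.node (.leaf (653, true)) (.leaf (1220, false))) (.leaf (834, false))) (.node (.leaf (439, false)) (.leaf (1, true)))) (.node (.node (.leaf (1208, true)) (.leaf (733, true))) (.node (.leaf (440, false)) (.leaf (130, true))))))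

def spar211 : Janko.Tree (ℕ × Bool) :=
  (.node (.node (.node (.node (.node (.leaf (277, false)) (.leaf (1644, false))) (.leaf (2203, true))) (.node (.leaf (1941, false)) (.leaf (1866, true)))) (.node (.node (.leaf (186, false)) (.leaf (733, false))) (.node (.leaf (1019, true)) (.leaf (112, false))))) (.node (.node (.node (.node (.leaf (600, true)) (.leaf (668, true))) (.leaf (702, true))) (.node (.leaf (1292, false)) (.leaf (28, false)))) (.node (.node (.leaf (1466, true)) (.leaf (121, false))) (.node (.leaf (1100, true)) (.leaf (1499, false))))))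

def spar212 : Janko.Tree (ℕ × Bool) :=
  (.node (.node (.node (.node (.node (.leaf (1208, false)) (.leaf (775, false))) (.leaf (773, false))) (.node (.leaf (2140, false)) (.leaf (1265, true)))) (.node (.node (.leaf (1389, true)) (.leaf (1205, false))) (.node (.leaf (1702, false)) (.leaf (28, false))))) (.node (.node (.node (.node (.leaf (2110, false)) (.leaf (720, false))) (.leaf (1577, true))) (.node (.leaf (460, false)) (.leaf (1534, true)))) (.node (.node (.leaf (1596, false)) (.leaf (2018, false))) (.node (.leaf (379, true)) (.leaf (1767, true))))))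

def spar213 : Janko.Tree (ℕ × Bool) :=
  (.node (.node (.node (.node (.node (.leaf (452, false)) (.leaf (1420, false))) (.leaf (82, false))) (.node (.leaf (82, false)) (.leaf (1614, false)))) (.node (.node (.leaf (710, false)) (.leaf (1695, false))) (.node (.leaf (1086, true)) (.leaf (1725, false))))) (.node (.node (.node (.node (.leaf (874, true)) (.leaf (1536, true))) (.leaf (440, true))) (.node (.leaf (253, true)) (.leaf (2140, false)))) (.node (.node (.leaf (410, true)) (.leaf (1237, false))) (.node (.leaf (18, true)) (.leaf (800, true))))))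

def spar214 : Janko.Tree (ℕ × Bool) :=
  (.node (.node (.node (.node (.node (.leaf (2158, true)) (.leaf (407, false))) (.leaf (1369, true))) (.node (.leaf (733, true)) (.leaf (1588, false)))) (.node (.node (.leaf (28, false)) (.leaf (1086, false))) (.node (.leaf (1800, true)) (.leaf (395, false))))) (.node (.node (.node (.node (.leaf (1866, false)) (.leaf (430, false))) (.leaf (2029, true))) (.node (.leaf (2018, true)) (.leaf (1513, false)))) (.node (.node (.leaf (258, false)) (.leaf (2158, true))) (.node (.leaf (272, false)) (.leaf (259, true))))))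

def spar215 : Janko.Tree (ℕ × Bool) :=
  (.node (.node (.node (.node (.node (.leaf (1205, true)) (.leaf (18, false))) (.leaf (1205, false))) (.node (.leaf (733, false)) (.leaf (1505, false)))) (.node (.node (.leaf (2142, true)) (.leaf (706, false))) (.node (.leaf (2053, false)) (.leaf (1926, false))))) (.node (.node (.node (.node (.leaf (662, true)) (.leaf (1219, true))) (.leaf (551, true))) (.node (.leaf (1674, true)) (.leaf (689, true)))) (.node (.node (.leaf (259, false)) (.leaf (341, true))) (.node (.leaf (1834, true)) (.leaf (1429, true))))))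

def spar216 : Janko.Tree (ℕ × Bool) :=
  (.node (.node (.node (.node (.node (.leaf (39, true)) (.leaf (1172, false))) (.leaf (1588, false))) (.node (.leaf (87, true)) (.leaf (14, false)))) (.node (.node (.leaf (1028, false)) (.leaf (1972, true))) (.node (.leaf (1910, false)) (.leaf (1256, true))))) (.node (.node (.node (.node (.leaf (1355, true)) (.leaf (615, false))) (.leaf (2203, false))) (.node (.leaf (590, false)) (.leaf (1019, true)))) (.node (.node (.leaf (149, false)) (.leaf (1249, true))) (.node (.leaf (1507, true)) (.leaf (1205, false))))))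

def spar217 : Janko.Tree (ℕ × Bool) :=
  (.node (.node (.node (.node (.node (.leaf (1003, false)) (.leaf (0, false))) (.leaf (1771, false))) (.node (.leaf (580, false)) (.leaf (2000, false)))) (.node (.node (.leaf (697, false)) (.leaf (548, true))) (.node (.leaf (429, true)) (.leaf (1249, true))))) (.node (.node (.node (.node (.leaf (1566, false)) (.leaf (1682, true))) (.leaf (1208, true))) (.node (.leaf (1645, true)) (.leaf (93, true)))) (.node (.node (.leaf (2142, true)) (.leaf (1955, true))) (.node (.leaf (1871, false)) (.leaf (936, true))))))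

def spar218 : Janko.Tree (ℕ × Bool) :=
  (.node (.node (.node (.node (.node (.leaf (1389, false)) (.leaf (615, true))) (.leaf (720, false))) (.node (.leaf (1859, false)) (.leaf (878, false)))) (.node (.node (.leaf (2203, false)) (.leaf (1429, true))) (.node (.leaf (430, true)) (.leaf (2065, false))))) (.node (.node (.node (.node (.leaf (1699, false)) (.leaf (878, true))) (.leaf (668, false))) (.node (.leaf (0, false)) (.leaf (1725, true)))) (.node (.node (.leaf (697, false)) (.leaf (662, false))) (.node (.leaf (733, false)) (.leaf (1208, false))))))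

def spar219 : Janko.Tree (ℕ × Bool) :=
  (.node (.node (.node (.node (.node (.leaf (1702, true)) (.leaf (2140, true))) (.leaf (1249, false))) (.node (.leaf (795, false)) (.leaf (285, true)))) (.node (.node (.leaf (1566, true)) (.leaf (393, true))) (.node (.leaf (1926, true)) (.leaf (1380, true))))) (.node (.node (.node (.node (.leaf (1880, false)) (.leaf (663, true))) (.leaf (1725, true))) (.node (.leaf (2158, false)) (.leaf (992, true)))) (.node (.node (.leaf (1831, true)) (.leaf (196, true))) (.node (.leaf (750, false)) (.leaf (1914, true))))))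

def spar220 : Janko.Tree (ℕ × Bool) :=
  (.node (.node (.node (.node (.node (.leaf (1416, false)) (.leaf (880, false))) (.leaf (1745, false))) (.node (.leaf (1416, false)) (.leaf (495, true)))) (.node (.node (.leaf (18, true)) (.leaf (1859, true))) (.node (.leaf (455, false)) (.leaf (1536, false))))) (.node (.node (.node (.node (.leaf (2177, true)) (.leaf (1461, true))) (.leaf (1028, false))) (.node (.leaf (2092, false)) (.leaf (994, true)))) (.node (.node (.leaf (1951, true)) (.leaf (1220, false))) (.node (.leaf (268, true)) (.leaf (152, false))))))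

def spar221 : Janko.Tree (ℕ × Bool) :=
  (.node (.node (.node (.node (.node (.leaf (1086, false)) (.leaf (1285, true))) (.leaf (1673, false))) (.node (.leaf (1535, false)) (.leaf (1380, true)))) (.node (.node (.leaf (1831, true)) (.leaf (943, false))) (.node (.leaf (1899, true)) (.leaf (130, false))))) (.node (.node (.node (.node (.leaf (1644, true)) (.leaf (1787, true))) (.leaf (960, true))) (.node (.leaf (929, true)) (.leaf (783, false)))) (.node (.node (.leaf (2129, true)) (.leaf (1389, true))) (.node (.leaf (1285, true)) (.leaf (1520, true))))))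

def spar222 : Janko.Tree (ℕ × Bool) :=
  (.node (.node (.node (.node (.node (.leaf (330, false)) (.leaf (3, true))) (.leaf (1420, true))) (.node (.leaf (2053, false)) (.leaf (1529, false)))) (.node (.node (.leaf (1288, false)) (.leaf (186, true))) (.node (.leaf (929, true)) (.leaf (1773, true))))) (.node (.node (.node (.node (.leaf (1171, false)) (.leaf (410, true))) (.leaf (615, false))) (.node (.leaf (2065, false)) (.leaf (1429, false)))) (.node (.node (.leaf (1100, true)) (.leaf (1389, true))) (.node (.leaf (2088, true)) (.leaf (25, true))))))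

def spar223 : Janko.Tree (ℕ × Bool) :=
  (.node (.node (.node (.node (.node (.leaf (1663, false)) (.leaf (1430, false))) (.leaf (884, false))) (.node (.leaf (1725, true)) (.leaf (1982, false)))) (.node (.node (.leaf (277, true)) (.leaf (277, true))) (.node (.leaf (272, true)) (.leaf (1389, true))))) (.node (.node (.node (.node (.leaf (2203, true)) (.leaf (1673, false))) (.leaf (259, false))) (.node (.leaf (1250, true)) (.leaf (1987, true)))) (.node (.node (.leaf (1389, true)) (.leaf (2196, false))) (.node (.leaf (2053, true)) (.leaf (1536, true))))))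

def spar224 : Janko.Tree (ℕ × Bool) :=
  (.node (.node (.node (.node (.node (.leaf (2097, true)) (.leaf (18, true))) (.leaf (994, true))) (.node (.leaf (126, true)) (.leaf (1279, false)))) (.node (.node (.leaf (1876, true)) (.leaf (460, false))) (.node (.leaf (273, true)) (.leaf (871, true))))) (.node (.node (.node (.node (.leaf (2018, true)) (.leaf (942, false))) (.leaf (2171, false))) (.node (.leaf (455, false)) (.leaf (152, false)))) (.node (.node (.leaf (268, false)) (.leaf (733, false))) (.node (.leaf (2177, false)) (.leaf (2018, false))))))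

def spar225 : Janko.Tree (ℕ × Bool) :=
  (.node (.node (.node (.node (.node (.leaf (1028, true)) (.leaf (849, false))) (.leaf (1324, false))) (.node (.leaf (1379, false)) (.leaf (527, false)))) (.node (.node (.leaf (697, true)) (.leaf (662, true))) (.node (.leaf (2065, false)) (.leaf (1890, false))))) (.node (.node (.node (.node (.leaf (936, false)) (.leaf (943, true))) (.leaf (2203, true))) (.node (.leaf (1379, true)) (.leaf (1675, false)))) (.node (.node (.leaf (2177, true)) (.leaf (330, false))) (.node (.leaf (1877, false)) (.leaf (1629, true))))))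

def spar226 : Janko.Tree (ℕ × Bool) :=
  (.node (.node (.node (.node (.node (.leaf (542, false)) (.leaf (1747, false))) (.leaf (1420, true))) (.node (.leaf (942, true)) (.leaf (1086, false)))) (.node (.node (.leaf (259, false)) (.leaf (1645, true))) (.node (.leaf (615, false)) (.leaf (2, false))))) (.node (.node (.node (.node (.leaf (1536, false)) (.leaf (259, false))) (.leaf (1487, false))) (.node (.leaf (252, false)) (.leaf (537, true)))) (.node (.node (.leaf (1416, true)) (.leaf (2000, true))) (.node (.leaf (2125, true)) (.leaf (2029, true))))))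

def spar227 : Janko.Tree (ℕ × Bool) :=
  (.node (.node (.node (.node (.node (.leaf (1180, false)) (.leaf (1762, false))) (.leaf (2051, true))) (.node (.leaf (2075, false)) (.leaf (455, true)))) (.node (.node (.leaf (1877, true)) (.leaf (285, true))) (.node (.leaf (1644, true)) (.leaf (769, false))))) (.node (.node (.node (.node (.leaf (766, false)) (.leaf (658, true))) (.leaf (1166, true))) (.node (.leaf (460, false)) (.leaf (1347, false)))) (.node (.node (.leaf (1583, true)) (.leaf (1773, true))) (.node (.leaf (1788, false)) (.leaf (1229, true))))))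

def spar228 : Janko.Tree (ℕ × Bool) :=
  (.node (.node (.node (.node (.node (.leaf (1762, false)) (.leaf (1972, false))) (.leaf (268, true))) (.node (.leaf (112, true)) (.leaf (1219, false)))) (.node (.node (.leaf (93, true)) (.leaf (1277, false))) (.node (.leaf (1711, false)) (.leaf (1926, true))))) (.node (.node (.node (.node (.leaf (1442, true)) (.leaf (1969, false))) (.leaf (1487, true))) (.node (.leaf (2053, false)) (.leaf (1369, true)))) (.node (.node (.leaf (2161, false)) (.leaf (1485, true))) (.node (.leaf (196, false)) (.leaf (1773, true))))))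

def spar229 : Janko.Tree (ℕ × Bool) :=
  (.node (.node (.node (.node (.node (.leaf (2234, true)) (.leaf (960, true))) (.leaf (1220, false))) (.node (.leaf (1078, false)) (.leaf (1699, true)))) (.node (.node (.leaf (1078, true)) (.leaf (1028, false))) (.node (.leaf (1885, true)) (.leaf (1609, false))))) (.node (.node (.node (.node (.leaf (577, true)) (.leaf (2158, true))) (.leaf (164, false))) (.node (.leaf (2088, false)) (.leaf (258, true)))) (.node (.node (.leaf (1747, false)) (.leaf (871, true))) (.node (.leaf (1081, true)) (.leaf (1815, false))))))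

def spar230 : Janko.Tree (ℕ × Bool) :=
  (.node (.node (.node (.node (.node (.leaf (58, false)) (.leaf (2177, true))) (.leaf (1520, false))) (.node (.leaf (1629, true)) (.leaf (1831, false)))) (.node (.node (.leaf (690, false)) (.leaf (340, false))) (.node (.leaf (1747, false)) (.leaf (834, false))))) (.node (.node (.node (.node (.leaf (402, true)) (.leaf (399, true))) (.leaf (1210, true))) (.node (.leaf (1972, true)) (.leaf (1350, true)))) (.node (.node (.leaf (1465, false)) (.leaf (1644, false))) (.node (.leaf (159, false)) (.leaf (1329, false))))))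

def spar231 : Janko.Tree (ℕ × Bool) :=
  (.node (.node (.node (.node (.node (.leaf (1538, false)) (.leaf (1955, true))) (.leaf (460, true))) (.node (.leaf (2205, false)) (.leaf (1945, true)))) (.node (.node (.leaf (2146, true)) (.leaf (1229, false))) (.node (.leaf (2004, false)) (.leaf (600, false))))) (.node (.node (.node (.node (.leaf (403, true)) (.leaf (2053, false))) (.leaf (1505, true))) (.node (.leaf (1300, true)) (.leaf (253, false)))) (.node (.node (.leaf (2129, false)) (.leaf (793, false))) (.node (.leaf (2111, true)) (.leaf (1699, false))))))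

def spar232 : Janko.Tree (ℕ × Bool) :=
  (.node (.node (.node (.node (.node (.leaf (880, false)) (.leaf (1021, true))) (.leaf (449, true))) (.node (.leaf (77, false)) (.leaf (793, true)))) (.node (.node (.leaf (1353, true)) (.leaf (1859, true))) (.node (.leaf (2065, true)) (.leaf (126, false))))) (.node (.node (.node (.node (.leaf (1430, true)) (.leaf (1338, true))) (.leaf (2205, true))) (.node (.leaf (1028, false)) (.leaf (1815, true)))) (.node (.node (.leaf (277, false)) (.leaf (1430, true))) (.node (.leaf (403, true)) (.leaf (361, true))))))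

def spar233 : Janko.Tree (ℕ × Bool) :=
  (.node (.node (.node (.node (.node (.leaf (590, true)) (.leaf (2207, true))) (.leaf (1265, true))) (.node (.leaf (840, false)) (.leaf (14, true)))) (.node (.node (.leaf (795, false)) (.leaf (1205, false))) (.node (.leaf (1969, true)) (.leaf (672, true))))) (.node (.node (.node (.node (.leaf (1661, true)) (.leaf (2171, true))) (.leaf (1583, false))) (.node (.leaf (467, false)) (.leaf (530, false)))) (.node (.node (.leaf (1078, true)) (.leaf (277, false))) (.node (.leaf (658, false)) (.leaf (1324, false))))))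

def spar234 : Janko.Tree (ℕ × Bool) :=
  (.node (.node (.node (.node (.node (.leaf (18, false)) (.leaf (2000, false))) (.leaf (361, false))) (.node (.leaf (1028, true)) (.leaf (2140, true)))) (.node (.node (.leaf (1416, false)) (.leaf (358, false))) (.node (.leaf (936, false)) (.leaf (1800, false))))) (.node (.node (.node (.node (.leaf (1815, false)) (.leaf (1379, true))) (.leaf (1130, false))) (.node (.leaf (774, false)) (.leaf (1866, true)))) (.node (.node (.leaf (2055, true)) (.leaf (2029, false))) (.node (.leaf (2175, true)) (.leaf (548, false))))))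

def spar235 : Janko.Tree (ℕ × Bool) :=
  (.node (.node (.node (.node (.node (.leaf (1019, true)) (.leaf (3, false))) (.leaf (1222, false))) (.node (.leaf (1, false)) (.leaf (774, true)))) (.node (.node (.leaf (1312, false)) (.leaf (2205, false))) (.node (.leaf (99, true)) (.leaf (259, false))))) (.node (.node (.node (.node (.leaf (774, false)) (.leaf (1720, false))) (.leaf (960, true))) (.node (.leaf (1081, true)) (.leaf (1786, false)))) (.node (.node (.leaf (1205, true)) (.leaf (826, true))) (.node (.leaf (2011, false)) (.leaf (658, false))))))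

def spar236 : Janko.Tree (ℕ × Bool) :=
  (.node (.node (.node (.node (.node (.leaf (20, false)) (.leaf (277, true))) (.leaf (22, true))) (.node (.leaf (658, true)) (.leaf (775, true)))) (.node (.node (.leaf (1416, true)) (.leaf (546, false))) (.node (.leaf (1270, false)) (.leaf (2104, true))))) (.node (.node (.node (.node (.leaf (1644, true)) (.leaf (2004, true))) (.leaf (1229, false))) (.node (.leaf (1807, true)) (.leaf (1815, true)))) (.node (.node (.leaf (39, true)) (.leaf (1394, false))) (.node (.leaf (467, true)) (.leaf (1108, true))))))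

def spar237 : Janko.Tree (ℕ × Bool) :=
  (.node (.node (.node (.node (.node (.leaf (1507, false)) (.leaf (795, true))) (.leaf (1505, true))) (.node (.leaf (1229, false)) (.leaf (1300, false)))) (.node (.node (.leaf (1465, false)) (.leaf (994, false))) (.node (.leaf (2002, true)) (.leaf (834, true))))) (.node (.node (.node (.node (.leaf (1517, true)) (.leaf (1166, true))) (.leaf (152, false))) (.node (.leaf (230, true)) (.leaf (1682, false)))) (.node (.node (.leaf (1728, false)) (.leaf (2002, false))) (.node (.leaf (627, false)) (.leaf (387, false))))))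

def spar238 : Janko.Tree (ℕ × Bool) :=
  (.node (.node (.node (.node (.node (.leaf (22, false)) (.leaf (2203, false))) (.leaf (1913, true))) (.node (.leaf (14, false)) (.leaf (1082, false)))) (.node (.node (.leaf (1021, true)) (.leaf (1166, true))) (.node (.leaf (126, false)) (.leaf (1941, false))))) (.node (.node (.node (.node (.leaf (2155, true)) (.leaf (1663, true))) (.leaf (1946, false))) (.node (.leaf (1285, false)) (.leaf (1926, false)))) (.node (.node (.leaf (510, true)) (.leaf (2002, false))) (.node (.leaf (800, false)) (.leaf (3, false))))))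

def spar239 : Janko.Tree (ℕ × Bool) :=
  (.node (.node (.node (.node (.node (.leaf (1762, true)) (.leaf (1661, true))) (.leaf (548, false))) (.node (.leaf (2029, false)) (.leaf (1771, true)))) (.node (.node (.leaf (1172, false)) (.leaf (77, false))) (.node (.leaf (2088, true)) (.leaf (0, true))))) (.node (.node (.node (.node (.leaf (769, false)) (.leaf (73, false))) (.leaf (1233, false))) (.node (.leaf (2042, false)) (.leaf (465, true)))) (.node (.node (.leaf (1914, true)) (.leaf (2029, false))) (.node (.leaf (1859, true)) (.leaf (2124, false))))))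

def spar240 : Janko.Tree (ℕ × Bool) :=
  (.node (.node (.node (.node (.node (.leaf (943, false)) (.leaf (1028, true))) (.leaf (409, false))) (.node (.leaf (1017, false)) (.leaf (247, true)))) (.node (.node (.leaf (1720, true)) (.leaf (1469, true))) (.node (.leaf (1972, false)) (.leaf (966, true))))) (.node (.node (.node (.node (.leaf (821, false)) (.leaf (130, true))) (.leaf (1695, true))) (.node (.leaf (1517, false)) (.leaf (1172, false)))) (.node (.node (.leaf (258, false)) (.leaf (1805, true))) (.node (.leaf (2053, false)) (.leaf (495, false))))))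

def spar241 : Janko.Tree (ℕ × Bool) :=
  (.node (.node (.node (.node (.node (.leaf (25, false)) (.leaf (14, false))) (.leaf (130, true))) (.node (.leaf (1962, false)) (.leaf (1520, true)))) (.node (.node (.leaf (230, true)) (.leaf (742, true))) (.node (.leaf (1288, true)) (.leaf (18, false))))) (.node (.node (.node (.node (.leaf (1505, false)) (.leaf (737, false))) (.leaf (440, false))) (.node (.leaf (1466, true)) (.leaf (2161, false)))) (.node (.node (.leaf (1603, true)) (.leaf (1270, true))) (.node (.leaf (1422, true)) (.leaf (880, true))))))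

def spar242 : Janko.Tree (ℕ × Bool) :=
  (.node (.node (.node (.node (.node (.leaf (1767, false)) (.leaf (1465, false))) (.leaf (733, true))) (.node (.leaf (1577, true)) (.leaf (929, true)))) (.node (.node (.leaf (2004, false)) (.leaf (403, true))) (.node (.leaf (1613, true)) (.leaf (2158, false))))) (.node (.node (.node (.node (.leaf (1467, true)) (.leaf (1379, false))) (.leaf (891, false))) (.node (.leaf (2139, true)) (.leaf (653, true)))) (.node (.node (.leaf (929, true)) (.leaf (1686, true))) (.node (.leaf (310, true)) (.leaf (1429, false))))))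

def spar243 : Janko.Tree (ℕ × Bool) :=
  (.node (.node (.node (.node (.node (.leaf (1028, false)) (.leaf (57, true))) (.leaf (1499, false))) (.node (.leaf (2161, true)) (.leaf (2065, false)))) (.node (.node (.leaf (2171, false)) (.leaf (1429, false))) (.node (.leaf (2142, false)) (.leaf (706, true))))) (.node (.node (.node (.node (.leaf (1208, false)) (.leaf (601, true))) (.leaf (121, false))) (.node (.leaf (1702, false)) (.leaf (1466, true)))) (.node (.node (.leaf (272, true)) (.leaf (87, true))) (.node (.leaf (1609, true)) (.leaf (998, false))))))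

def spar244 : Janko.Tree (ℕ × Bool) :=
  (.node (.node (.node (.node (.node (.leaf (1926, false)) (.leaf (1379, true))) (.leaf (1880, true))) (.node (.leaf (1749, false)) (.leaf (1071, false)))) (.node (.node (.leaf (1433, true)) (.leaf (1, true))) (.node (.leaf (943, false)) (.leaf (2002, true))))) (.node (.node (.node (.node (.leaf (814, false)) (.leaf (419, true))) (.leaf (1982, true))) (.node (.leaf (783, false)) (.leaf (43, true)))) (.node (.node (.leaf (273, true)) (.leaf (28, true))) (.node (.leaf (907, true)) (.leaf (1394, true))))))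

def spar245 : Janko.Tree (ℕ × Bool) :=
  (.node (.node (.node (.node (.node (.leaf (548, false)) (.leaf (737, true))) (.leaf (390, false))) (.node (.leaf (1885, false)) (.leaf (1596, false)))) (.node (.node (.leaf (2004, true)) (.leaf (1866, true))) (.node (.leaf (1852, false)) (.leaf (1728, true))))) (.node (.node (.node (.node (.leaf (1078, false)) (.leaf (534, true))) (.leaf (44, true))) (.node (.leaf (766, true)) (.leaf (1082, false)))) (.node (.node (.leaf (1028, false)) (.leaf (1255, true))) (.node (.leaf (28, true)) (.leaf (1991, false))))))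

def spar246 : Janko.Tree (ℕ × Bool) :=
  (.node (.node (.node (.node (.node (.leaf (1534, false)) (.leaf (247, true))) (.leaf (1422, false))) (.node (.leaf (1728, true)) (.leaf (314, true)))) (.node (.node (.leaf (1006, true)) (.leaf (101, true))) (.node (.leaf (277, true)) (.leaf (1082, true))))) (.node (.node (.node (.node (.leaf (1521, false)) (.leaf (1416, true))) (.leaf (653, false))) (.node (.leaf (2104, false)) (.leaf (403, false)))) (.node (.node (.leaf (1831, false)) (.leaf (474, true))) (.node (.leaf (1725, false)) (.leaf (268, false))))))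

def spar247 : Janko.Tree (ℕ × Bool) :=
  (.node (.node (.node (.node (.node (.leaf (1535, false)) (.leaf (99, true))) (.leaf (407, true))) (.node (.leaf (1265, false)) (.leaf (1389, true)))) (.node (.node (.leaf (1577, true)) (.leaf (430, true))) (.node (.leaf (1972, false)) (.leaf (510, true))))) (.node (.node (.node (.node (.leaf (44, false)) (.leaf (1926, false))) (.leaf (2234, false))) (.node (.leaf (1507, false)) (.leaf (1003, true)))) (.node (.node (.leaf (268, false)) (.leaf (348, false))) (.node (.leaf (658, false)) (.leaf (1205, true))))))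

def spar248 : Janko.Tree (ℕ × Bool) :=
  (.node (.node (.node (.node (.node (.leaf (526, false)) (.leaf (1256, true))) (.leaf (1398, true))) (.node (.leaf (662, false)) (.leaf (1078, false)))) (.node (.node (.leaf (1926, false)) (.leaf (121, false))) (.node (.leaf (387, false)) (.leaf (1082, true))))) (.node (.node (.node (.node (.leaf (793, false)) (.leaf (1433, false))) (.leaf (1810, true))) (.node (.leaf (1663, false)) (.leaf (1101, true)))) (.node (.node (.leaf (1397, false)) (.leaf (44, true))) (.node (.leaf (2088, false)) (.leaf (39, true))))))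

def spar249 : Janko.Tree (ℕ × Bool) :=
  (.node (.node (.node (.node (.node (.leaf (1771, false)) (.leaf (1205, false))) (.leaf (183, false))) (.node (.leaf (690, true)) (.leaf (580, false)))) (.node (.node (.leaf (85, false)) (.leaf (28, true))) (.node (.leaf (22, false)) (.leaf (542, true))))) (.node (.node (.node (.node (.leaf (54, false)) (.leaf (1312, false))) (.leaf (1054, false))) (.node (.leaf (1461, false)) (.leaf (672, false)))) (.node (.node (.leaf (18, true)) (.leaf (547, true))) (.node (.leaf (960, true)) (.leaf (330, false))))))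

def spar250 : Janko.Tree (ℕ × Bool) :=
  (.node (.node (.node (.node (.node (.leaf (474, false)) (.leaf (1485, false))) (.leaf (1535, true))) (.node (.leaf (1566, true)) (.leaf (1885, true)))) (.node (.node (.leaf (1565, true)) (.leaf (1810, true))) (.node (.leaf (729, true)) (.leaf (265, true))))) (.node (.node (.node (.node (.leaf (1429, false)) (.leaf (1747, true))) (.leaf (2146, false))) (.node (.leaf (2018, false)) (.leaf (8, true)))) (.node (.node (.leaf (1866, true)) (.leaf (2011, true))) (.node (.leaf (1641, true)) (.leaf (2177, false))))))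

def spar251 : Janko.Tree (ℕ × Bool) :=
  (.node (.node (.node (.node (.node (.leaf (737, true)) (.leaf (1890, false))) (.leaf (659, true))) (.node (.leaf (99, false)) (.leaf (1300, false)))) (.node (.node (.leaf (338, false)) (.leaf (43, true))) (.node (.leaf (2158, false)) (.leaf (1919, false))))) (.node (.node (.node (.node (.leaf (272, true)) (.leaf (1566, true))) (.leaf (2139, false))) (.node (.leaf (668, true)) (.leaf (1913, false)))) (.node (.node (.leaf (668, true)) (.leaf (1461, false))) (.node (.leaf (1749, false)) (.leaf (387, true))))))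

def spar252 : Janko.Tree (ℕ × Bool) :=
  (.node (.node (.node (.node (.node (.leaf (1742, false)) (.leaf (1430, false))) (.leaf (542, false))) (.node (.leaf (2125, false)) (.leaf (1250, false)))) (.node (.node (.leaf (1566, false)) (.leaf (992, false))) (.node (.leaf (1641, false)) (.leaf (270, true))))) (.node (.node (.node (.node (.leaf (1019, true)) (.leaf (358, true))) (.leaf (1222, false))) (.node (.leaf (1021, true)) (.leaf (710, true)))) (.node (.node (.leaf (361, false)) (.leaf (960, false))) (.node (.leaf (1219, true)) (.leaf (1831, false))))))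

def spar253 : Janko.Tree (ℕ × Bool) :=
  (.node (.node (.node (.node (.node (.leaf (1566, false)) (.leaf (196, false))) (.leaf (253, false))) (.node (.leaf (750, false)) (.leaf (1538, false)))) (.node (.node (.leaf (668, false)) (.leaf (1815, true))) (.node (.leaf (1725, true)) (.leaf (304, true))))) (.node (.node (.node (.node (.leaf (729, false)) (.leaf (258, true))) (.leaf (1786, true))) (.node (.leaf (667, false)) (.leaf (542, true)))) (.node (.node (.leaf (750, true)) (.leaf (1762, false))) (.node (.leaf (1220, true)) (.leaf (1583, true))))))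

def spar254 : Janko.Tree (ℕ × Bool) :=
  (.node (.node (.node (.node (.node (.leaf (1466, false)) (.leaf (25, true))) (.leaf (1762, false))) (.node (.leaf (1485, false)) (.leaf (750, true)))) (.node (.node (.leaf (1250, true)) (.leaf (259, false))) (.node (.leaf (1397, false)) (.leaf (534, false))))) (.node (.node (.node (.node (.leaf (1171, false)) (.leaf (292, true))) (.leaf (277, true))) (.node (.leaf (1661, true)) (.leaf (1749, true)))) (.node (.node (.leaf (548, true)) (.leaf (1255, false))) (.node (.leaf (1312, true)) (.leaf (1577, false))))))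

def spar255 : Janko.Tree (ℕ × Bool) :=
  (.node (.node (.node (.node (.node (.leaf (1877, true)) (.leaf (600, false))) (.leaf (134, false))) (.node (.leaf (590, false)) (.leaf (2075, true)))) (.node (.node (.leaf (1520, true)) (.leaf (539, true))) (.node (.leaf (734, true)) (.leaf (14, false))))) (.node (.node (.node (.node (.leaf (330, false)) (.leaf (770, true))) (.leaf (1485, true))) (.node (.leaf (495, false)) (.leaf (407, false)))) (.node (.node (.leaf (1078, false)) (.leaf (277, false))) (.node (.leaf (1438, true)) (.leaf (173, true))))))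

def spar256 : Janko.Tree (ℕ × Bool) :=
  (.node (.node (.node (.node (.node (.leaf (429, false)) (.leaf (2029, false))) (.leaf (87, false))) (.node (.leaf (615, false)) (.leaf (406, false)))) (.node (.node (.leaf (878, false)) (.leaf (1699, true))) (.node (.leaf (1120, true)) (.leaf (1871, true))))) (.node (.node (.node (.node (.leaf (615, true)) (.leaf (1614, true))) (.leaf (1520, false))) (.node (.leaf (1682, true)) (.leaf (330, true)))) (.node (.node (.leaf (1416, true)) (.leaf (1742, false))) (.node (.leaf (338, true)) (.leaf (2207, false))))))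

def spar257 : Janko.Tree (ℕ × Bool) :=
  (.node (.node (.node (.node (.node (.leaf (277, true)) (.leaf (403, false))) (.leaf (58, false))) (.node (.leaf (1219, false)) (.leaf (1955, true)))) (.node (.node (.leaf (1379, true)) (.leaf (292, false))) (.node (.leaf (943, false)) (.leaf (1850, true))))) (.node (.node (.node (.node (.leaf (1910, true)) (.leaf (1422, false))) (.leaf (2205, true))) (.node (.leaf (1786, false)) (.leaf (1003, false)))) (.node (.node (.leaf (1955, false)) (.leaf (697, false))) (.node (.leaf (356, true)) (.leaf (2129, false))))))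

def spar258 : Janko.Tree (ℕ × Bool) :=
  (.node (.node (.node (.node (.node (.leaf (1786, true)) (.leaf (1739, false))) (.leaf (2029, false))) (.node (.leaf (1220, false)) (.leaf (1970, false)))) (.node (.node (.leaf (1461, false)) (.leaf (2018, false))) (.node (.leaf (1859, true)) (.leaf (1430, false))))) (.node (.node (.node (.node (.leaf (697, true)) (.leaf (1, true))) (.leaf (130, false))) (.node (.leaf (2161, false)) (.leaf (1249, false)))) (.node (.node (.leaf (1536, false)) (.leaf (1786, true))) (.node (.leaf (1720, false)) (.leaf (2222, true))))))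

def spar259 : Janko.Tree (ℕ × Bool) :=
  (.node (.node (.node (.node (.node (.leaf (149, false)) (.leaf (30, false))) (.leaf (787, true))) (.node (.leaf (1815, true)) (.leaf (358, true)))) (.node (.node (.leaf (1369, false)) (.leaf (1208, true))) (.node (.leaf (1673, false)) (.leaf (1871, true))))) (.node (.node (.node (.node (.leaf (654, false)) (.leaf (2052, true))) (.leaf (1219, true))) (.node (.leaf (1538, false)) (.leaf (1583, false)))) (.node (.node (.leaf (729, true)) (.leaf (1219, false))) (.node (.leaf (230, true)) (.leaf (85, true))))))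

def spar260 : Janko.Tree (ℕ × Bool) :=
  (.node (.node (.node (.node (.node (.leaf (2088, true)) (.leaf (230, false))) (.leaf (115, true))) (.node (.leaf (697, false)) (.leaf (2029, false)))) (.node (.node (.leaf (1220, true)) (.leaf (1815, false))) (.node (.leaf (152, false)) (.leaf (1629, false))))) (.node (.node (.node (.node (.leaf (2129, false)) (.leaf (2125, false))) (.leaf (1220, true))) (.node (.leaf (819, true)) (.leaf (1636, false)))) (.node (.node (.leaf (815, false)) (.leaf (766, false))) (.node (.leaf (1019, false)) (.leaf (2196, false))))))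

def spar261 : Janko.Tree (ℕ × Bool) :=
  (.node (.node (.node (.node (.node (.leaf (1172, false)) (.leaf (387, false))) (.leaf (25, false))) (.node (.leaf (851, true)) (.leaf (266, true)))) (.node (.node (.leaf (1487, true)) (.leaf (929, true))) (.node (.leaf (1101, false)) (.leaf (465, false))))) (.node (.node (.node (.node (.leaf (1612, false)) (.leaf (1936, true))) (.leaf (2125, true))) (.node (.leaf (220, false)) (.leaf (1786, false)))) (.node (.node (.leaf (311, true)) (.leaf (1699, true))) (.node (.leaf (2002, true)) (.leaf (774, false))))))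

def spar262 : Janko.Tree (ℕ × Bool) :=
  (.node (.node (.node (.node (.node (.leaf (213, false)) (.leaf (1100, false))) (.leaf (1028, true))) (.node (.leaf (706, false)) (.leaf (1875, false)))) (.node (.node (.leaf (1172, true)) (.leaf (1250, false))) (.node (.leaf (1309, false)) (.leaf (1019, true))))) (.node (.node (.node (.node (.leaf (1969, false)) (.leaf (1086, true))) (.leaf (690, false))) (.node (.leaf (1379, true)) (.leaf (82, true)))) (.node (.node (.leaf (1430, false)) (.leaf (196, false))) (.node (.leaf (1875, false)) (.leaf (1699, true))))))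

def spar263 : Janko.Tree (ℕ × Bool) :=
  (.node (.node (.node (.node (.node (.leaf (1609, true)) (.leaf (259, true))) (.leaf (14, false))) (.node (.leaf (1673, false)) (.leaf (706, false)))) (.node (.node (.leaf (548, false)) (.leaf (541, false))) (.node (.leaf (1077, false)) (.leaf (1912, false))))) (.node (.node (.node (.node (.leaf (1499, false)) (.leaf (455, true))) (.leaf (455, false))) (.node (.leaf (681, true)) (.leaf (183, true)))) (.node (.node (.leaf (1955, true)) (.leaf (430, false))) (.node (.leaf (745, false)) (.leaf (941, false))))))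

def spar264 : Janko.Tree (ℕ × Bool) :=
  (.node (.node (.node (.node (.node (.leaf (1882, true)) (.leaf (1752, false))) (.leaf (1430, false))) (.node (.leaf (258, false)) (.leaf (1505, false)))) (.node (.node (.leaf (793, true)) (.leaf (819, true))) (.node (.leaf (1883, true)) (.leaf (1507, true))))) (.node (.node (.node (.leaf (2139, false)) (.leaf (600, false))) (.node (.leaf (706, false)) (.leaf (600, false)))) (.node (.node (.leaf (1505, false)) (.leaf (1430, true))) (.node (.leaf (1859, false)) (.leaf (1312, true))))))

def spar265 : Janko.Tree (ℕ × Bool) :=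
  (.node (.node (.node (.node (.node (.leaf (1380, true)) (.leaf (1420, false))) (.leaf (39, false))) (.node (.leaf (2203, false)) (.leaf (2004, false)))) (.node (.node (.leaf (311, false)) (.leaf (388, true))) (.node (.leaf (1583, true)) (.leaf (2075, true))))) (.node (.node (.node (.leaf (739, true)) (.leaf (1702, false))) (.node (.leaf (546, false)) (.leaf (1172, false)))) (.node (.node (.leaf (1972, true)) (.leaf (623, false))) (.node (.leaf (1442, true)) (.leaf (2207, true))))))

def spar266 : Janko.Tree (ℕ × Bool) :=
  (.node (.node (.node (.node (.node (.leaf (1739, true)) (.leaf (1661, false))) (.leaf (225, false))) (.node (.leaf (745, false)) (.leaf (1702, true)))) (.node (.node (.leaf (1890, false)) (.leaf (2088, true))) (.node (.leaf (330, false)) (.leaf (340, false))))) (.node (.node (.node (.leaf (1807, false)) (.leaf (164, false))) (.node (.leaf (330, false)) (.leaf (82, true)))) (.node (.node (.leaf (1773, true)) (.leaf (18, true))) (.node (.leaf (1219, false)) (.leaf (1288, false))))))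

def spar267 : Janko.Tree (ℕ × Bool) :=
  (.node (.node (.node (.node (.node (.leaf (2056, false)) (.leaf (164, false))) (.leaf (1788, false))) (.node (.leaf (873, false)) (.leaf (600, false)))) (.node (.node (.leaf (1871, false)) (.leaf (1972, false))) (.node (.leaf (2222, false)) (.leaf (0, false))))) (.node (.node (.node (.leaf (1809, true)) (.leaf (1831, true))) (.node (.leaf (1355, false)) (.leaf (1695, true)))) (.node (.node (.leaf (22, false)) (.leaf (1172, false))) (.node (.leaf (1229, false)) (.leaf (1461, true))))))

def spar268 : Janko.Tree (ℕ × Bool) :=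
  (.node (.node (.node (.node (.node (.leaf (1607, false)) (.leaf (258, true))) (.leaf (1517, false))) (.node (.leaf (1699, true)) (.leaf (1220, true)))) (.node (.node (.leaf (1078, true)) (.leaf (1222, true))) (.node (.leaf (793, false)) (.leaf (1815, true))))) (.node (.node (.node (.leaf (2029, true)) (.leaf (1389, true))) (.node (.leaf (962, false)) (.leaf (737, false)))) (.node (.node (.leaf (1725, false)) (.leaf (1913, false))) (.node (.leaf (615, false)) (.leaf (534, true))))))

def spar269 : Janko.Tree (ℕ × Bool) :=
  (.node (.node (.node (.node (.node (.leaf (39, false)) (.leaf (259, true))) (.leaf (1800, true))) (.node (.leaf (2175, false)) (.leaf (601, true)))) (.node (.node (.leaf (259, true)) (.leaf (1596, true))) (.node (.leaf (1934, true)) (.leaf (1820, false))))) (.node (.node (.node (.leaf (1809, false)) (.leaf (1078, false))) (.node (.leaf (800, false)) (.leaf (793, false)))) (.node (.node (.leaf (2169, true)) (.leaf (79, false))) (.node (.leaf (1398, false)) (.leaf (1353, true))))))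

def spar270 : Janko.Tree (ℕ × Bool) :=
  (.node (.node (.node (.node (.node (.leaf (1309, false)) (.leaf (535, false))) (.leaf (2203, true))) (.node (.leaf (225, false)) (.leaf (572, false)))) (.node (.node (.leaf (1517, true)) (.leaf (2075, false))) (.node (.leaf (868, true)) (.leaf (1771, true))))) (.node (.node (.node (.leaf (338, false)) (.leaf (1100, false))) (.node (.leaf (2029, false)) (.leaf (1629, true)))) (.node (.node (.leaf (1023, false)) (.leaf (600, false))) (.node (.leaf (1379, true)) (.leaf (14, false))))))

def spar271 : Janko.Tree (ℕ × Bool) :=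
  (.node (.node (.node (.node (.node (.leaf (1913, false)) (.leaf (65, true))) (.leaf (1430, true))) (.node (.leaf (615, true)) (.leaf (697, false)))) (.node (.node (.leaf (2140, false)) (.leaf (733, false))) (.node (.leaf (821, false)) (.leaf (196, false))))) (.node (.node (.node (.leaf (1438, true)) (.leaf (2088, false))) (.node (.leaf (1429, true)) (.leaf (1890, false)))) (.node (.node (.leaf (330, false)) (.leaf (1220, false))) (.node (.leaf (272, false)) (.leaf (1926, false))))))

def spar272 : Janko.Tree (ℕ × Bool) :=
  (.node (.node (.node (.node (.node (.leaf (1711, false)) (.leaf (258, false))) (.leaf (273, false))) (.node (.leaf (2000, false)) (.leaf (25, false)))) (.node (.node (.leaf (1749, false)) (.leaf (2146, true))) (.node (.leaf (1219, false)) (.leaf (1885, false))))) (.node (.node (.node (.leaf (880, true)) (.leaf (2169, true))) (.node (.leaf (957, false)) (.leaf (1355, true)))) (.node (.node (.leaf (474, true)) (.leaf (1926, true))) (.node (.leaf (73, true)) (.leaf (702, true))))))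

def spar273 : Janko.Tree (ℕ × Bool) :=
  (.node (.node (.node (.node (.node (.leaf (1699, true)) (.leaf (1388, false))) (.leaf (541, true))) (.node (.leaf (551, true)) (.leaf (2029, true)))) (.node (.node (.leaf (1398, false)) (.leaf (1859, true))) (.node (.leaf (395, false)) (.leaf (880, true))))) (.node (.node (.node (.leaf (615, false)) (.leaf (1397, false))) (.node (.leaf (259, true)) (.leaf (2075, true)))) (.node (.node (.leaf (1834, true)) (.leaf (1565, true))) (.node (.leaf (1003, true)) (.leaf (1229, false))))))

def spar274 : Janko.Tree (ℕ × Bool) :=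
  (.node (.node (.node (.node (.node (.leaf (44, false)) (.leaf (1288, false))) (.leaf (1442, true))) (.node (.leaf (18, false)) (.leaf (1609, true)))) (.node (.node (.leaf (0, false)) (.leaf (919, true))) (.node (.leaf (2202, true)) (.leaf (1, false))))) (.node (.node (.node (.leaf (340, false)) (.leaf (1616, false))) (.node (.leaf (2088, true)) (.leaf (737, false)))) (.node (.node (.leaf (1422, false)) (.leaf (1466, false))) (.node (.leaf (1609, true)) (.leaf (2169, false))))))

def spar275 : Janko.Tree (ℕ × Bool) :=
  (.node (.node (.node (.node (.node (.leaf (402, true)) (.leaf (258, false))) (.leaf (399, false))) (.node (.leaf (358, false)) (.leaf (1661, false)))) (.node (.node (.leaf (800, false)) (.leaf (58, false))) (.node (.leaf (1131, true)) (.leaf (1767, false))))) (.node (.node (.node (.leaf (1566, false)) (.leaf (672, false))) (.node (.leaf (1882, false)) (.leaf (2065, true)))) (.node (.node (.leaf (134, false)) (.leaf (78, true))) (.node (.leaf (1292, false)) (.leaf (720, true))))))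

def spar276 : Janko.Tree (ℕ × Bool) :=
  (.node (.node (.node (.node (.node (.leaf (548, false)) (.leaf (58, false))) (.leaf (1786, false))) (.node (.leaf (2011, true)) (.leaf (1466, true)))) (.node (.node (.leaf (1414, true)) (.leaf (183, true))) (.node (.leaf (407, true)) (.leaf (1629, false))))) (.node (.node (.node (.leaf (868, false)) (.leaf (2084, true))) (.node (.leaf (406, true)) (.leaf (1100, true)))) (.node (.node (.leaf (1389, false)) (.leaf (1536, true))) (.node (.leaf (689, false)) (.leaf (1208, true))))))

def spar277 : Janko.Tree (ℕ × Bool) :=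
  (.node (.node (.node (.node (.node (.leaf (1859, false)) (.leaf (1520, false))) (.leaf (1520, false))) (.node (.leaf (943, false)) (.leaf (1461, true)))) (.node (.node (.leaf (551, false)) (.leaf (1757, true))) (.node (.leaf (1607, true)) (.leaf (943, false))))) (.node (.node (.node (.leaf (1944, false)) (.leaf (2065, false))) (.node (.leaf (290, false)) (.leaf (1771, false)))) (.node (.node (.leaf (1130, false)) (.leaf (2158, false))) (.node (.leaf (919, false)) (.leaf (1461, false))))))

def spar278 : Janko.Tree (ℕ × Bool) :=
  (.node (.node (.node (.node (.node (.leaf (2018, true)) (.leaf (929, false))) (.leaf (1815, false))) (.node (.leaf (1859, false)) (.leaf (1859, false)))) (.node (.node (.leaf (1565, false)) (.leaf (1810, false))) (.node (.leaf (668, false)) (.leaf (1910, true))))) (.node (.node (.node (.leaf (1629, false)) (.leaf (1866, false))) (.node (.leaf (1914, true)) (.leaf (658, false)))) (.node (.node (.leaf (1890, true)) (.leaf (259, true))) (.node (.leaf (2104, false)) (.leaf (2075, false))))))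

def spar279 : Janko.Tree (ℕ × Bool) :=
  (.node (.node (.node (.node (.node (.leaf (2177, false)) (.leaf (1882, true))) (.leaf (292, false))) (.node (.leaf (710, true)) (.leaf (1887, true)))) (.node (.node (.leaf (1890, true)) (.leaf (1438, false))) (.node (.leaf (1645, true)) (.leaf (28, false))))) (.node (.node (.node (.leaf (2051, true)) (.leaf (2146, false))) (.node (.leaf (43, false)) (.leaf (1229, true)))) (.node (.node (.leaf (130, true)) (.leaf (1725, true))) (.node (.leaf (1082, true)) (.leaf (1742, true))))))

def spar280 : Janko.Tree (ℕ × Bool) :=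
  (.node (.node (.node (.node (.node (.leaf (1771, true)) (.leaf (2142, false))) (.leaf (2161, true))) (.node (.leaf (358, false)) (.leaf (58, false)))) (.node (.node (.leaf (548, false)) (.leaf (1019, false))) (.node (.leaf (1391, false)) (.leaf (340, false))))) (.node (.node (.node (.leaf (1914, false)) (.leaf (39, true))) (.node (.leaf (58, false)) (.leaf (1805, false)))) (.node (.node (.leaf (1834, true)) (.leaf (196, false))) (.node (.leaf (1471, true)) (.leaf (1859, false))))))

def spar281 : Janko.Tree (ℕ × Bool) :=
  (.node (.node (.node (.node (.node (.leaf (1312, false)) (.leaf (253, true))) (.leaf (196, false))) (.node (.leaf (1885, true)) (.leaf (206, false)))) (.node (.node (.leaf (1285, true)) (.leaf (1641, false))) (.node (.leaf (1466, false)) (.leaf (935, true))))) (.node (.node (.node (.leaf (530, false)) (.leaf (1644, false))) (.node (.leaf (455, false)) (.leaf (1100, false)))) (.node (.node (.leaf (58, false)) (.leaf (78, false))) (.node (.leaf (1309, true)) (.leaf (1480, true))))))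

def spar282 : Janko.Tree (ℕ × Bool) :=
  (.node (.node (.node (.node (.node (.leaf (330, false)) (.leaf (389, true))) (.leaf (1211, false))) (.node (.leaf (1969, true)) (.leaf (310, false)))) (.node (.node (.leaf (2018, false)) (.leaf (1641, false))) (.node (.leaf (989, false)) (.leaf (1641, false))))) (.node (.node (.node (.leaf (601, false)) (.leaf (455, false))) (.node (.leaf (546, false)) (.leaf (1887, true)))) (.node (.node (.leaf (795, true)) (.leaf (1420, false))) (.node (.leaf (546, true)) (.leaf (1831, true))))))

def spar283 : Janko.Tree (ℕ × Bool) :=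
  (.node (.node (.node (.node (.node (.leaf (2059, false)) (.leaf (1810, true))) (.leaf (429, false))) (.node (.leaf (460, false)) (.leaf (1577, false)))) (.node (.node (.leaf (1663, false)) (.leaf (1875, false))) (.node (.leaf (1926, false)) (.leaf (1466, true))))) (.node (.node (.node (.leaf (468, true)) (.leaf (126, false))) (.node (.leaf (2146, true)) (.leaf (658, true)))) (.node (.node (.leaf (600, true)) (.leaf (1609, false))) (.node (.leaf (1353, true)) (.leaf (1946, false))))))

def spar284 : Janko.Tree (ℕ × Bool) :=
  (.node (.node (.node (.node (.node (.leaf (206, false)) (.leaf (1066, true))) (.leaf (1379, true))) (.node (.leaf (1583, false)) (.leaf (1972, true)))) (.node (.node (.leaf (2053, true)) (.leaf (1517, true))) (.node (.leaf (1771, false)) (.leaf (403, true))))) (.node (.node (.node (.leaf (800, false)) (.leaf (1285, false))) (.node (.leaf (547, false)) (.leaf (2088, false)))) (.node (.node (.leaf (1629, false)) (.leaf (159, true))) (.node (.leaf (393, true)) (.leaf (697, true))))))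

def spar285 : Janko.Tree (ℕ × Bool) :=
  (.node (.node (.node (.node (.node (.leaf (58, false)) (.leaf (1416, true))) (.leaf (774, true))) (.node (.leaf (390, true)) (.leaf (681, true)))) (.node (.node (.leaf (1629, false)) (.leaf (1485, true))) (.node (.leaf (1739, false)) (.leaf (1, true))))) (.node (.node (.node (.leaf (2161, false)) (.leaf (1926, false))) (.node (.leaf (548, false)) (.leaf (2018, true)))) (.node (.node (.leaf (750, true)) (.leaf (1536, true))) (.node (.leaf (93, false)) (.leaf (510, false))))))

def spar286 : Janko.Tree (ℕ × Bool) :=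
  (.node (.node (.node (.node (.node (.leaf (2166, true)) (.leaf (2075, true))) (.leaf (1972, true))) (.node (.leaf (1747, true)) (.leaf (510, true)))) (.node (.node (.leaf (1250, true)) (.leaf (1430, true))) (.node (.leaf (653, false)) (.leaf (1936, true))))) (.node (.node (.node (.leaf (126, false)) (.leaf (1222, false))) (.node (.leaf (2000, false)) (.leaf (218, true)))) (.node (.node (.leaf (148, false)) (.leaf (259, false))) (.node (.leaf (1771, false)) (.leaf (943, true))))))

def spar287 : Janko.Tree (ℕ × Bool) :=
  (.node (.node (.node (.node (.node (.leaf (253, true)) (.leaf (1629, false))) (.leaf (551, true))) (.node (.leaf (880, true)) (.leaf (694, true)))) (.node (.node (.leaf (1885, true)) (.leaf (292, false))) (.node (.leaf (1101, false)) (.leaf (1130, false))))) (.node (.node (.node (.leaf (2139, false)) (.leaf (1429, true))) (.node (.leaf (126, false)) (.leaf (1285, false)))) (.node (.node (.leaf (282, true)) (.leaf (1250, false))) (.node (.leaf (2002, false)) (.leaf (2177, true))))))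

def spar288 : Janko.Tree (ℕ × Bool) :=
  (.node (.node (.node (.node (.node (.leaf (943, true)) (.leaf (1077, false))) (.leaf (548, false))) (.node (.leaf (1762, true)) (.leaf (1021, true)))) (.node (.node (.leaf (729, false)) (.leaf (713, true))) (.node (.leaf (1880, true)) (.leaf (1, false))))) (.node (.node (.node (.leaf (1991, false)) (.leaf (2125, true))) (.node (.leaf (1292, true)) (.leaf (1379, false)))) (.node (.node (.leaf (1003, true)) (.leaf (1852, false))) (.node (.leaf (1517, true)) (.leaf (1505, true))))))

def spar289 : Janko.Tree (ℕ × Bool) :=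
  (.node (.node (.node (.node (.node (.leaf (1292, false)) (.leaf (455, false))) (.leaf (885, false))) (.node (.leaf (330, false)) (.leaf (590, false)))) (.node (.node (.leaf (551, true)) (.leaf (1629, true))) (.node (.leaf (1447, true)) (.leaf (1913, true))))) (.node (.node (.node (.leaf (429, false)) (.leaf (1636, false))) (.node (.leaf (2065, true)) (.leaf (1771, false)))) (.node (.node (.leaf (1270, false)) (.leaf (304, false))) (.node (.leaf (733, false)) (.leaf (1588, false))))))

def spar290 : Janko.Tree (ℕ × Bool) :=
  (.node (.node (.node (.node (.node (.leaf (1205, true)) (.leaf (1485, true))) (.leaf (2059, true))) (.node (.leaf (2059, true)) (.leaf (1487, true)))) (.node (.node (.leaf (93, true)) (.leaf (18, true))) (.node (.leaf (819, false)) (.leaf (1, true))))) (.node (.node (.node (.leaf (130, false)) (.leaf (1771, false))) (.node (.leaf (800, false)) (.leaf (600, true)))) (.node (.node (.leaf (1, true)) (.leaf (474, true))) (.node (.leaf (429, true)) (.leaf (39, true))))))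

def spar291 : Janko.Tree (ℕ × Bool) :=
  (.node (.node (.node (.node (.node (.leaf (39, true)) (.leaf (1028, false))) (.leaf (1300, false))) (.node (.leaf (659, true)) (.leaf (2097, true)))) (.node (.node (.leaf (1021, true)) (.leaf (1485, true))) (.node (.leaf (1740, false)) (.leaf (2177, false))))) (.node (.node (.node (.leaf (1663, false)) (.leaf (1969, false))) (.node (.leaf (1447, false)) (.leaf (1422, false)))) (.node (.node (.leaf (1885, true)) (.leaf (2065, true))) (.node (.leaf (1661, false)) (.leaf (1461, false))))))

def spar292 : Janko.Tree (ℕ × Bool) :=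
  (.node (.node (.node (.node (.node (.leaf (919, false)) (.leaf (2158, true))) (.leaf (1788, true))) (.node (.leaf (1338, true)) (.leaf (2075, true)))) (.node (.node (.leaf (1725, false)) (.leaf (1982, false))) (.node (.leaf (1466, false)) (.leaf (2000, false))))) (.node (.node (.node (.leaf (387, true)) (.leaf (1249, true))) (.node (.leaf (546, false)) (.leaf (1280, true)))) (.node (.node (.leaf (1081, false)) (.leaf (1324, false))) (.node (.leaf (1447, false)) (.leaf (1309, false))))))

def spar293 : Janko.Tree (ℕ × Bool) :=
  (.node (.node (.node (.node (.node (.leaf (2029, true)) (.leaf (551, false))) (.leaf (745, true))) (.node (.leaf (1499, true)) (.leaf (1786, true)))) (.node (.node (.leaf (1300, true)) (.leaf (407, true))) (.node (.leaf (1910, false)) (.leaf (1520, true))))) (.node (.node (.node (.leaf (324, true)) (.leaf (1054, false))) (.node (.leaf (1389, true)) (.leaf (1250, true)))) (.node (.node (.leaf (795, true)) (.leaf (1583, false))) (.node (.leaf (2158, false)) (.leaf (495, true))))))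

def spar294 : Janko.Tree (ℕ × Bool) :=
  (.node (.node (.node (.node (.node (.leaf (1804, true)) (.leaf (1831, false))) (.leaf (225, true))) (.node (.leaf (387, false)) (.leaf (1442, true)))) (.node (.node (.leaf (1834, true)) (.leaf (2111, false))) (.node (.leaf (1420, false)) (.leaf (2203, true))))) (.node (.node (.node (.leaf (126, true)) (.leaf (43, false))) (.node (.leaf (1583, true)) (.leaf (78, false)))) (.node (.node (.leaf (627, true)) (.leaf (1882, false))) (.node (.leaf (935, true)) (.leaf (58, true))))))

def spar295 : Janko.Tree (ℕ × Bool) :=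
  (.node (.node (.node (.node (.node (.leaf (1644, false)) (.leaf (1739, false))) (.leaf (2203, false))) (.node (.leaf (929, true)) (.leaf (1583, true)))) (.node (.node (.leaf (1256, false)) (.leaf (530, false))) (.node (.leaf (272, true)) (.leaf (2053, false))))) (.node (.node (.node (.leaf (1433, true)) (.leaf (1641, false))) (.node (.leaf (1229, false)) (.leaf (1644, false)))) (.node (.node (.leaf (1175, false)) (.leaf (340, true))) (.node (.leaf (1747, true)) (.leaf (1233, false))))))

def spar296 : Janko.Tree (ℕ × Bool) :=
  (.node (.node (.node (.node (.node (.leaf (430, false)) (.leaf (2042, false))) (.leaf (1644, true))) (.node (.leaf (390, false)) (.leaf (2205, false)))) (.node (.node (.leaf (907, false)) (.leaf (14, false))) (.node (.leaf (1969, false)) (.leaf (406, false))))) (.node (.node (.node (.leaf (1899, false)) (.leaf (1019, false))) (.node (.leaf (2051, true)) (.leaf (1885, false)))) (.node (.node (.leaf (402, false)) (.leaf (2075, true))) (.node (.leaf (697, true)) (.leaf (2021, false))))))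

def spar297 : Janko.Tree (ℕ × Bool) :=
  (.node (.node (.node (.node (.node (.leaf (769, true)) (.leaf (1810, true))) (.leaf (1596, true))) (.node (.leaf (2002, true)) (.leaf (2108, true)))) (.node (.node (.leaf (1752, false)) (.leaf (1834, false))) (.node (.leaf (1222, false)) (.leaf (546, false))))) (.node (.node (.node (.leaf (1461, true)) (.leaf (1831, false))) (.node (.leaf (1831, false)) (.leaf (1459, false)))) (.node (.node (.leaf (402, false)) (.leaf (330, false))) (.node (.leaf (572, true)) (.leaf (1788, true))))))

def spar298 : Janko.Tree (ℕ × Bool) :=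
  (.node (.node (.node (.node (.node (.leaf (1102, true)) (.leaf (2158, true))) (.leaf (1699, true))) (.node (.leaf (22, true)) (.leaf (2087, false)))) (.node (.node (.leaf (8, false)) (.leaf (834, false))) (.node (.leaf (2042, true)) (.leaf (2029, true))))) (.node (.node (.node (.leaf (1309, true)) (.leaf (1762, false))) (.node (.leaf (1899, true)) (.leaf (0, false)))) (.node (.node (.leaf (403, false)) (.leaf (690, true))) (.node (.leaf (1, false)) (.leaf (1786, false))))))

def spar299 : Janko.Tree (ℕ × Bool) :=
  (.node (.node (.node (.node (.node (.leaf (28, false)) (.leaf (1742, true))) (.leaf (541, false))) (.node (.leaf (340, true)) (.leaf (1663, true)))) (.node (.node (.leaf (600, true)) (.leaf (1762, false))) (.node (.leaf (1249, false)) (.leaf (510, false))))) (.node (.node (.node (.leaf (2104, false)) (.leaf (90, true))) (.node (.leaf (1422, false)) (.leaf (2169, true)))) (.node (.node (.leaf (1913, false)) (.leaf (2065, true))) (.node (.leaf (1941, false)) (.leaf (1342, false))))))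

def spar2100 : Janko.Tree (ℕ × Bool) :=
  (.node (.node (.node (.node (.node (.leaf (1507, true)) (.leaf (112, true))) (.leaf (1221, false))) (.node (.leaf (919, true)) (.leaf (58, false)))) (.node (.node (.leaf (737, false)) (.leaf (2053, true))) (.node (.leaf (1250, false)) (.leaf (1485, false))))) (.node (.node (.node (.leaf (826, true)) (.leaf (681, false))) (.node (.leaf (2169, false)) (.leaf (1673, true)))) (.node (.node (.leaf (774, true)) (.leaf (800, true))) (.node (.leaf (710, true)) (.leaf (1077, true))))))

def spar2101 : Janko.Tree (ℕ × Bool) :=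
  (.node (.node (.node (.node (.node (.leaf (1256, false)) (.leaf (1579, true))) (.leaf (1081, false))) (.node (.leaf (745, false)) (.leaf (943, true)))) (.node (.node (.leaf (2139, false)) (.leaf (885, true))) (.node (.leaf (82, true)) (.leaf (1609, true))))) (.node (.node (.node (.leaf (1759, true)) (.leaf (1219, false))) (.node (.leaf (272, false)) (.leaf (1433, false)))) (.node (.node (.leaf (1054, true)) (.leaf (348, true))) (.node (.leaf (183, true)) (.leaf (1078, true))))))

def spar2102 : Janko.Tree (ℕ × Bool) :=
  (.node (.node (.node (.node (.node (.leaf (1536, true)) (.leaf (1955, false))) (.leaf (1710, true))) (.node (.leaf (672, true)) (.leaf (1256, false)))) (.node (.node (.leaf (2158, false)) (.leaf (706, true))) (.node (.leaf (1890, true)) (.leaf (1661, false))))) (.node (.node (.node (.leaf (658, false)) (.leaf (1951, true))) (.node (.leaf (737, true)) (.leaf (9, true)))) (.node (.node (.leaf (1391, false)) (.leaf (281, false))) (.node (.leaf (130, true)) (.leaf (1737, true))))))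

def spar2103 : Janko.Tree (ℕ × Bool) :=
  (.node (.node (.node (.node (.node (.leaf (268, false)) (.leaf (1430, false))) (.leaf (989, false))) (.node (.leaf (1028, true)) (.leaf (1440, true)))) (.node (.node (.leaf (1166, false)) (.leaf (2171, false))) (.node (.leaf (2053, false)) (.leaf (1955, true))))) (.node (.node (.node (.leaf (659, false)) (.leaf (2018, true))) (.node (.leaf (2074, true)) (.leaf (697, false)))) (.node (.node (.leaf (1350, true)) (.leaf (1747, false))) (.node (.leaf (430, false)) (.leaf (1946, true))))))

def spar2104 : Janko.Tree (ℕ × Bool) :=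
  (.node (.node (.node (.node (.node (.leaf (285, false)) (.leaf (2135, true))) (.leaf (2140, false))) (.node (.leaf (1536, true)) (.leaf (2177, true)))) (.node (.node (.leaf (272, false)) (.leaf (3, false))) (.node (.leaf (1745, false)) (.leaf (206, true))))) (.node (.node (.node (.leaf (1674, true)) (.leaf (1389, true))) (.node (.leaf (395, true)) (.leaf (1513, false)))) (.node (.node (.leaf (2125, false)) (.leaf (530, true))) (.node (.leaf (783, true)) (.leaf (1219, false))))))

def spar2105 : Janko.Tree (ℕ × Bool) :=
  (.node (.node (.node (.node (.node (.leaf (93, false)) (.leaf (2084, true))) (.leaf (1521, false))) (.node (.leaf (821, true)) (.leaf (1520, true)))) (.node (.node (.leaf (1466, true)) (.leaf (406, true))) (.node (.leaf (1747, false)) (.leaf (1429, true))))) (.node (.node (.node (.leaf (943, false)) (.leaf (546, false))) (.node (.leaf (330, false)) (.leaf (1899, true)))) (.node (.node (.leaf (1021, false)) (.leaf (1699, false))) (.node (.leaf (2117, false)) (.leaf (1369, false))))))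

def spar2106 : Janko.Tree (ℕ × Bool) :=
  (.node (.node (.node (.node (.node (.leaf (2171, false)) (.leaf (2129, true))) (.leaf (253, false))) (.node (.leaf (403, false)) (.leaf (1219, true)))) (.node (.node (.leaf (403, true)) (.leaf (54, true))) (.node (.leaf (1461, true)) (.leaf (720, false))))) (.node (.node (.node (.leaf (146, false)) (.leaf (304, true))) (.node (.leaf (628, false)) (.leaf (39, true)))) (.node (.node (.leaf (819, false)) (.leaf (659, true))) (.node (.leaf (2205, false)) (.leaf (253, true))))))

def spar2107 : Janko.Tree (ℕ × Bool) :=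
  (.node (.node (.node (.node (.node (.leaf (1229, true)) (.leaf (39, true))) (.leaf (1100, false))) (.node (.leaf (1292, true)) (.leaf (1220, true)))) (.node (.node (.leaf (1355, true)) (.leaf (1232, true))) (.node (.leaf (1379, false)) (.leaf (1859, true))))) (.node (.node (.node (.leaf (77, true)) (.leaf (1054, false))) (.node (.leaf (3, true)) (.leaf (658, true)))) (.node (.node (.leaf (1834, true)) (.leaf (880, true))) (.node (.leaf (1762, true)) (.leaf (73, true))))))

def spar2108 : Janko.Tree (ℕ × Bool) :=
  (.node (.node (.node (.node (.node (.leaf (1300, false)) (.leaf (1019, false))) (.leaf (1422, true))) (.node (.leaf (710, true)) (.leaf (1786, true)))) (.node (.node (.leaf (1513, true)) (.leaf (429, true))) (.node (.leaf (1641, true)) (.leaf (1565, true))))) (.node (.node (.node (.leaf (1682, true)) (.leaf (460, false))) (.node (.leaf (1101, true)) (.leaf (1172, false)))) (.node (.node (.leaf (1482, false)) (.leaf (1507, false))) (.node (.leaf (1309, true)) (.leaf (186, true))))))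

def spar2109 : Janko.Tree (ℕ × Bool) :=
  (.node (.node (.node (.node (.node (.leaf (1614, false)) (.leaf (112, false))) (.leaf (1309, false))) (.node (.leaf (1338, false)) (.leaf (1416, false)))) (.node (.node (.leaf (1494, false)) (.leaf (0, true))) (.node (.leaf (311, false)) (.leaf (891, false))))) (.node (.node (.node (.leaf (2234, true)) (.leaf (547, false))) (.node (.leaf (1379, true)) (.leaf (1, true)))) (.node (.node (.leaf (1285, true)) (.leaf (1389, false))) (.node (.leaf (733, false)) (.leaf (0, true))))))

def spar2110 : Janko.Tree (ℕ × Bool) :=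
  (.node (.node (.node (.node (.node (.leaf (1288, true)) (.leaf (0, true))) (.leaf (1256, true))) (.node (.leaf (407, false)) (.leaf (878, true)))) (.node (.node (.leaf (225, false)) (.leaf (439, false))) (.node (.leaf (253, false)) (.leaf (615, true))))) (.node (.node (.node (.leaf (151, false)) (.leaf (1609, true))) (.node (.leaf (2065, false)) (.leaf (992, true)))) (.node (.node (.leaf (1536, false)) (.leaf (311, true))) (.node (.leaf (387, true)) (.leaf (653, false))))))

def spar2111 : Janko.Tree (ℕ × Bool) :=
  (.node (.node (.node (.node (.node (.leaf (1256, true)) (.leaf (388, false))) (.leaf (403, true))) (.node (.leaf (1003, true)) (.leaf (1674, false)))) (.node (.node (.leaf (1391, true)) (.leaf (1466, true))) (.node (.leaf (929, false)) (.leaf (1720, false))))) (.node (.node (.node (.leaf (1517, false)) (.leaf (217, false))) (.node (.leaf (308, false)) (.leaf (1270, false)))) (.node (.node (.leaf (253, true)) (.leaf (672, true))) (.node (.leaf (1614, false)) (.leaf (277, true))))))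

def spar2112 : Janko.Tree (ℕ × Bool) :=
  (.node (.node (.node (.node (.node (.leaf (2018, true)) (.leaf (1256, false))) (.leaf (430, true))) (.node (.leaf (409, false)) (.leaf (390, true)))) (.node (.node (.leaf (164, true)) (.leaf (1877, false))) (.node (.leaf (2065, true)) (.leaf (1433, false))))) (.node (.node (.node (.leaf (8, true)) (.leaf (1054, false))) (.node (.leaf (706, true)) (.leaf (706, false)))) (.node (.node (.leaf (271, false)) (.leaf (0, true))) (.node (.leaf (1398, false)) (.leaf (25, true))))))

def spar2113 : Janko.Tree (ℕ × Bool) :=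
  (.node (.node (.node (.node (.node (.leaf (1739, false)) (.leaf (1831, true))) (.leaf (720, true))) (.node (.leaf (410, false)) (.leaf (455, true)))) (.node (.node (.leaf (941, false)) (.leaf (662, true))) (.node (.leaf (1788, false)) (.leaf (1499, false))))) (.node (.node (.node (.leaf (1391, false)) (.leaf (58, false))) (.node (.leaf (542, false)) (.leaf (1912, true)))) (.node (.node (.leaf (393, true)) (.leaf (1461, true))) (.node (.leaf (1946, false)) (.leaf (936, true))))))

def spar2114 : Janko.Tree (ℕ × Bool) :=
  (.node (.node (.node (.node (.node (.leaf (358, false)) (.leaf (9, false))) (.leaf (793, true))) (.node (.leaf (989, false)) (.leaf (1720, false)))) (.node (.node (.leaf (1538, true)) (.leaf (1100, false))) (.node (.leaf (1438, false)) (.leaf (1309, true))))) (.node (.node (.node (.leaf (1810, false)) (.leaf (1416, true))) (.node (.leaf (1478, false)) (.leaf (1122, true)))) (.node (.node (.leaf (800, true)) (.leaf (455, true))) (.node (.leaf (1771, true)) (.leaf (1003, true))))))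

def spar2115 : Janko.Tree (ℕ × Bool) :=
  (.node (.node (.node (.node (.node (.leaf (1461, false)) (.leaf (737, false))) (.leaf (1391, true))) (.node (.leaf (1699, false)) (.leaf (1566, false)))) (.node (.node (.leaf (230, false)) (.leaf (1579, false))) (.node (.leaf (1588, true)) (.leaf (1834, false))))) (.node (.node (.node (.leaf (1255, true)) (.leaf (659, true))) (.node (.leaf (1616, false)) (.leaf (992, false)))) (.node (.node (.leaf (672, true)) (.leaf (793, false))) (.node (.leaf (1641, false)) (.leaf (601, false))))))

def spar2116 : Janko.Tree (ℕ × Bool) :=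
  (.node (.node (.node (.node (.node (.leaf (1910, false)) (.leaf (1078, false))) (.leaf (1249, true))) (.node (.leaf (2002, false)) (.leaf (1773, true)))) (.node (.node (.leaf (942, false)) (.leaf (1852, true))) (.node (.leaf (1466, false)) (.leaf (358, false))))) (.node (.node (.node (.leaf (737, true)) (.leaf (452, false))) (.node (.leaf (1398, false)) (.leaf (1447, true)))) (.node (.node (.leaf (1771, true)) (.leaf (2002, true))) (.node (.leaf (258, false)) (.leaf (989, false))))))

def spar2117 : Janko.Tree (ℕ × Bool) :=
  (.node (.node (.node (.node (.node (.leaf (1422, false)) (.leaf (1024, true))) (.leaf (1880, false))) (.node (.leaf (1967, false)) (.leaf (268, true)))) (.node (.node (.leaf (1101, true)) (.leaf (1100, false))) (.node (.leaf (2075, false)) (.leaf (672, true))))) (.node (.node (.node (.leaf (452, true)) (.leaf (1077, false))) (.node (.leaf (1747, false)) (.leaf (1636, true)))) (.node (.node (.leaf (737, true)) (.leaf (2171, false))) (.node (.leaf (795, true)) (.leaf (1663, true))))))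

def spar2118 : Janko.Tree (ℕ × Bool) :=
  (.node (.node (.node (.node (.node (.leaf (1742, true)) (.leaf (1661, false))) (.leaf (1661, false))) (.node (.leaf (1485, true)) (.leaf (1120, false)))) (.node (.node (.leaf (1614, true)) (.leaf (2018, true))) (.node (.leaf (935, false)) (.leaf (330, true))))) (.node (.node (.node (.leaf (1309, true)) (.leaf (1078, false))) (.node (.leaf (672, false)) (.leaf (1355, false)))) (.node (.node (.leaf (388, false)) (.leaf (1130, true))) (.node (.leaf (1021, false)) (.leaf (115, true))))))

def spar2119 : Janko.Tree (ℕ × Bool) :=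
  (.node (.node (.node (.node (.node (.leaf (460, true)) (.leaf (1336, true))) (.leaf (1265, true))) (.node (.leaf (2051, false)) (.leaf (1249, true)))) (.node (.node (.leaf (126, false)) (.leaf (1913, false))) (.node (.leaf (2146, false)) (.leaf (2207, false))))) (.node (.node (.node (.leaf (1699, true)) (.leaf (2140, true))) (.node (.leaf (2140, false)) (.leaf (1416, false)))) (.node (.node (.leaf (1820, true)) (.leaf (1256, false))) (.node (.leaf (745, false)) (.leaf (268, true))))))

def spar2120 : Janko.Tree (ℕ × Bool) :=
  (.node (.node (.node (.node (.node (.leaf (1517, false)) (.leaf (1663, false))) (.leaf (1742, true))) (.node (.leaf (2114, false)) (.leaf (1529, false)))) (.node (.node (.leaf (2146, false)) (.leaf (689, true))) (.node (.leaf (2164, true)) (.leaf (1100, true))))) (.node (.node (.node (.leaf (989, true)) (.leaf (126, false))) (.node (.leaf (1616, false)) (.leaf (1086, true)))) (.node (.node (.leaf (1675, false)) (.leaf (1579, false))) (.node (.leaf (821, true)) (.leaf (1054, true))))))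

def spar2121 : Janko.Tree (ℕ × Bool) :=
  (.node (.node (.node (.node (.node (.leaf (58, true)) (.leaf (2018, true))) (.leaf (1507, false))) (.node (.leaf (14, false)) (.leaf (1877, false)))) (.node (.node (.leaf (750, true)) (.leaf (1108, false))) (.node (.leaf (1517, false)) (.leaf (2158, false))))) (.node (.node (.node (.leaf (149, false)) (.leaf (1982, true))) (.node (.leaf (654, false)) (.leaf (1222, false)))) (.node (.node (.leaf (1017, true)) (.leaf (1725, false))) (.node (.leaf (2177, false)) (.leaf (311, false))))))

def spar2122 : Janko.Tree (ℕ × Bool) :=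
  (.node (.node (.node (.node (.node (.leaf (1767, true)) (.leaf (78, false))) (.leaf (2161, true))) (.node (.leaf (1505, true)) (.leaf (733, false)))) (.node (.node (.leaf (419, true)) (.leaf (539, true))) (.node (.leaf (1233, true)) (.leaf (2053, false))))) (.node (.node (.node (.leaf (1131, false)) (.leaf (1447, false))) (.node (.leaf (654, false)) (.leaf (0, true)))) (.node (.node (.leaf (966, false)) (.leaf (1171, false))) (.node (.leaf (1229, true)) (.leaf (1416, false))))))

def spar2123 : Janko.Tree (ℕ × Bool) :=
  (.node (.node (.node (.node (.node (.leaf (1265, false)) (.leaf (1520, true))) (.leaf (1800, false))) (.node (.leaf (1810, false)) (.leaf (2110, false)))) (.node (.node (.leaf (1003, false)) (.leaf (43, true))) (.node (.leaf (253, true)) (.leaf (1538, true))))) (.node (.node (.node (.leaf (164, false)) (.leaf (546, false))) (.node (.leaf (1019, false)) (.leaf (407, true)))) (.node (.node (.leaf (1250, false)) (.leaf (1172, false))) (.node (.leaf (658, false)) (.leaf (534, true))))))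

def spar2124 : Janko.Tree (ℕ × Bool) :=
  (.node (.node (.node (.node (.node (.leaf (1166, false)) (.leaf (2223, false))) (.leaf (2088, true))) (.node (.leaf (2088, false)) (.leaf (2092, true)))) (.node (.node (.leaf (1820, true)) (.leaf (2114, true))) (.node (.leaf (395, false)) (.leaf (1229, false))))) (.node (.node (.node (.leaf (1661, false)) (.leaf (2097, false))) (.node (.leaf (1644, false)) (.leaf (1859, true)))) (.node (.node (.leaf (1529, false)) (.leaf (230, true))) (.node (.leaf (659, false)) (.leaf (1866, true))))))

def spar2125 : Janko.Tree (ℕ × Bool) :=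
  (.node (.node (.node (.node (.node (.leaf (73, false)) (.leaf (935, true))) (.leaf (1972, false))) (.node (.leaf (1465, true)) (.leaf (1762, true)))) (.node (.node (.leaf (1651, false)) (.leaf (25, true))) (.node (.leaf (737, false)) (.leaf (273, false))))) (.node (.node (.node (.leaf (1786, true)) (.leaf (1466, false))) (.node (.leaf (1265, false)) (.leaf (1914, false)))) (.node (.node (.leaf (1482, false)) (.leaf (18, true))) (.node (.leaf (1520, true)) (.leaf (379, true))))))

def spar2126 : Janko.Tree (ℕ × Bool) :=
  (.node (.node (.node (.node (.node (.leaf (1831, false)) (.leaf (1422, false))) (.leaf (1438, false))) (.node (.leaf (1394, false)) (.leaf (2142, true)))) (.node (.node (.leaf (115, true)) (.leaf (402, true))) (.node (.leaf (406, true)) (.leaf (358, false))))) (.node (.node (.node (.leaf (1682, false)) (.leaf (1086, true))) (.node (.leaf (697, false)) (.leaf (393, true)))) (.node (.node (.leaf (1725, true)) (.leaf (1205, false))) (.node (.leaf (2142, false)) (.leaf (808, true))))))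

def spar2127 : Janko.Tree (ℕ × Bool) :=
  (.node (.node (.node (.node (.node (.leaf (1946, false)) (.leaf (2177, false))) (.leaf (1579, false))) (.node (.leaf (39, false)) (.leaf (658, true)))) (.node (.node (.leaf (1616, false)) (.leaf (230, true))) (.node (.leaf (407, true)) (.leaf (1725, true))))) (.node (.node (.node (.leaf (1607, true)) (.leaf (403, false))) (.node (.leaf (391, true)) (.leaf (361, true)))) (.node (.node (.leaf (1913, false)) (.leaf (1100, true))) (.node (.leaf (1379, true)) (.leaf (702, false))))))

def spar2 : Janko.Tree (ℕ × Bool) :=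
  (.node (.node (.node (.node (.node (.node (.node spar20 spar264) (.node spar232 spar296)) (.node (.node spar216 spar280) (.node spar248 spar2112))) (.node (.node (.node spar28 spar272) (.node spar240 spar2104)) (.node (.node spar224 spar288) (.node spar256 spar2120)))) (.node (.node (.node (.node spar24 spar268) (.node spar236 spar2100)) (.node (.node spar220 spar284) (.node spar252 spar2116))) (.node (.node (.node spar212 spar276) (.node spar244 spar2108)) (.node (.node spar228 spar292) (.node spar260 spar2124))))) (.node (.node (.node (.node (.node spar22 spar266) (.node spar234 spar298)) (.node (.node spar218 spar282) (.node spar250 spar2114))) (.node (.node (.node spar210 spar274) (.node spar242 spar2106)) (.node (.node spar226 spar290) (.node spar258 spar2122)))) (.node (.node (.node (.node spar26 spar270) (.node spar238 spar2102)) (.node (.node spar222 spar286) (.node spar254 spar2118))) (.node (.node (.node spar214 spar278) (.node spar246 spar2110)) (.node (.node spar230 spar294) (.node spar262 spar2126)))))) (.node (.node (.node (.node (.node (.node spar21 spar265) (.node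 spar233 spar297)) (.node (.node spar217 spar281) (.node spar249 spar2113))) (.node (.node (.node spar29 spar273) (.node spar241 spar2105)) (.node (.node spar225 spar289) (.node spar257 spar2121)))) (.node (.node (.node (.node spar25 spar269) (.node spar237 spar2101)) (.node (.node spar221 spar285) (.node spar253 spar2117))) (.node (.node (.node spar213 spar277) (.node spar245 spar2109)) (.node (.node spar229 spar293) (.node spar261 spar2125))))) (.node (.node (.node (.node (.node spar23 spar267) (.node spar235 spar299)) (.node (.node spar219 spar283) (.node spar251 spar2115))) (.node (.node (.node spar211 spar275) (.node spar243 spar2107)) (.node (.node spar227 spar291) (.node spar259 spar2123)))) (.node (.node (.node (.node spar27 spar271) (.node spar239 spar2103)) (.node (.node spar223 spar287) (.node spar255 spar2119))) (.node (.node (.node spar215 spar279) (.node spar247 spar2111)) (.node (.node spar231 spar295) (.node spar263 spar2127)))))))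

def srank20 : Janko.Tree (ℕ) :=
  (.node (.node (.node (.node (.node (.leaf 0) (.leaf 3)) (.leaf 3)) (.node (.leaf 3) (.leaf 2))) (.node (.node (.leaf 4) (.leaf 3)) (.node (.leaf 3) (.leaf 3)))) (.node (.node (.node (.node (.leaf 3) (.leaf 4)) (.leaf 4)) (.node (.leaf 4) (.leaf 4))) (.node (.node (.leaf 3) (.leaf 4)) (.node (.leaf 3) (.leaf 3)))))

def srank21 : Janko.Tree (ℕ) :=
  (.node (.node (.node (.node (.node (.leaf 1) (.leaf 3)) (.leaf 4)) (.node (.leaf 3) (.leaf 3))) (.node (.node (.leaf 4) (.leaf 3)) (.node (.leaf 3) (.leaf 4)))) (.node (.node (.node (.node (.leaf 3) (.leaf 2)) (.leaf 4)) (.node (.leaf 3) (.leaf 4))) (.node (.node (.leaf 4) (.leaf 3)) (.node (.leaf 4) (.leaf 3)))))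

def srank22 : Janko.Tree (ℕ) :=
  (.node (.node (.node (.node (.node (.leaf 3) (.leaf 3)) (.leaf 3)) (.node (.leaf 4) (.leaf 2))) (.node (.node (.leaf 2) (.leaf 4)) (.node (.leaf 3) (.leaf 4)))) (.node (.node (.node (.node (.leaf 2) (.leaf 3)) (.leaf 3)) (.node (.leaf 3) (.leaf 3))) (.node (.node (.leaf 3) (.leaf 4)) (.node (.leaf 4) (.leaf 3)))))

def srank23 : Janko.Tree (ℕ) :=
  (.node (.node (.node (.node (.node (.leaf 2) (.leaf 2)) (.leaf 3)) (.node (.leaf 3) (.leaf 3))) (.node (.node (.leaf 2) (.leaf 3)) (.node (.leaf 4) (.leaf 3)))) (.node (.node (.node (.node (.leaf 3) (.leaf 3)) (.leaf 4)) (.node (.leaf 3) (.leaf 4))) (.node (.node (.leaf 2) (.leaf 4)) (.node (.leaf 3) (.leaf 3)))))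

def srank24 : Janko.Tree (ℕ) :=
  (.node (.node (.node (.node (.node (.leaf 3) (.leaf 3)) (.leaf 1)) (.node (.leaf 3) (.leaf 3))) (.node (.node (.leaf 4) (.leaf 4)) (.node (.leaf 4) (.leaf 3)))) (.node (.node (.node (.node (.leaf 3) (.leaf 4)) (.leaf 4)) (.node (.leaf 3) (.leaf 4))) (.node (.node (.leaf 3) (.leaf 4)) (.node (.leaf 4) (.leaf 4)))))

def srank25 : Janko.Tree (ℕ) :=
  (.node (.node (.node (.node (.node (.leaf 4) (.leaf 2)) (.leaf 4)) (.node (.leaf 4) (.leaf 3))) (.node (.node (.leaf 4) (.leaf 2)) (.node (.leaf 3) (.leaf 4)))) (.node (.node (.node (.node (.leaf 4) (.leaf 4)) (.leaf 4)) (.node (.leaf 4) (.leaf 4))) (.node (.node (.leaf 4) (.leaf 4)) (.node (.leaf 3) (.leaf 3)))))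

def srank26 : Janko.Tree (ℕ) :=
  (.node (.node (.node (.node (.node (.leaf 3) (.leaf 4)) (.leaf 4)) (.node (.leaf 4) (.leaf 4))) (.node (.node (.leaf 3) (.leaf 3)) (.node (.leaf 3) (.leaf 3)))) (.node (.node (.node (.node (.leaf 3) (.leaf 4)) (.leaf 3)) (.node (.leaf 4) (.leaf 3))) (.node (.node (.leaf 2) (.leaf 3)) (.node (.leaf 4) (.leaf 2)))))

def srank27 : Janko.Tree (ℕ) :=
  (.node (.node (.node (.node (.node (.leaf 3) (.leaf 3)) (.leaf 3)) (.node (.leaf 4) (.leaf 4))) (.node (.node (.leaf 3) (.leaf 3)) (.node (.leaf 3) (.leaf 3)))) (.node (.node (.node (.node (.leaf 3) (.leaf 3)) (.leaf 3)) (.node (.leaf 3) (.leaf 3))) (.node (.node (.leaf 3) (.leaf 4)) (.node (.leaf 3) (.leaf 4)))))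

def srank28 : Janko.Tree (ℕ) :=
  (.node (.node (.node (.node (.node (.leaf 3) (.leaf 3)) (.leaf 3)) (.node (.leaf 3) (.leaf 3))) (.node (.node (.leaf 4) (.leaf 2)) (.node (.leaf 4) (.leaf 2)))) (.node (.node (.node (.node (.leaf 4) (.leaf 3)) (.leaf 4)) (.node (.leaf 4) (.leaf 4))) (.node (.node (.leaf 3) (.leaf 2)) (.node (.leaf 4) (.leaf 4)))))

def srank29 : Janko.Tree (ℕ) :=
  (.node (.node (.node (.node (.node (.leaf 3) (.leaf 3)) (.leaf 3)) (.node (.leaf 3) (.leaf 3))) (.node (.node (.leaf 3) (.leaf 3)) (.node (.leaf 4) (.leaf 3)))) (.node (.node (.node (.node (.leaf 3) (.leaf 3)) (.leaf 3)) (.node (.leaf 3) (.leaf 3))) (.node (.node (.leaf 3) (.leaf 3)) (.node (.leaf 3) (.leaf 3)))))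

def srank210 : Janko.Tree (ℕ) :=
  (.node (.node (.node (.node (.node (.leaf 4) (.leaf 4)) (.leaf 4)) (.node (.leaf 3) (.leaf 3))) (.node (.node (.leaf 3) (.leaf 3)) (.node (.leaf 3) (.leaf 3)))) (.node (.node (.node (.node (.leaf 4) (.leaf 3)) (.leaf 3)) (.node (.leaf 4) (.leaf 2))) (.node (.node (.leaf 3) (.leaf 3)) (.node (.leaf 4) (.leaf 3)))))

def srank211 : Janko.Tree (ℕ) :=
  (.node (.node (.node (.node (.node (.leaf 3) (.leaf 3)) (.leaf 3)) (.node (.leaf 3) (.leaf 3))) (.node (.node (.leaf 4) (.leaf 3)) (.node (.leaf 3) (.leaf 4)))) (.node (.node (.node (.node (.leaf 3) (.leaf 4)) (.leaf 4)) (.node (.leaf 4) (.leaf 3))) (.node (.node (.leaf 3) (.leaf 4)) (.node (.leaf 3) (.leaf 3)))))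

def srank212 : Janko.Tree (ℕ) :=
  (.node (.node (.node (.node (.node (.leaf 3) (.leaf 4)) (.leaf 4)) (.node (.leaf 3) (.leaf 4))) (.node (.node (.leaf 2) (.leaf 3)) (.node (.leaf 4) (.leaf 3)))) (.node (.node (.node (.node (.leaf 4) (.leaf 4)) (.leaf 3)) (.node (.leaf 3) (.leaf 4))) (.node (.node (.leaf 3) (.leaf 3)) (.node (.leaf 4) (.leaf 4)))))

def srank213 : Janko.Tree (ℕ) :=
  (.node (.node (.node (.node (.node (.leaf 4) (.leaf 4)) (.leaf 3)) (.node (.leaf 3) (.leaf 3))) (.node (.node (.leaf 3) (.leaf 4)) (.node (.leaf 3) (.leaf 3)))) (.node (.node (.node (.node (.leaf 4) (.leaf 3)) (.leaf 4)) (.node (.leaf 3) (.leaf 3))) (.node (.node (.leaf 4) (.leaf 4)) (.node (.leaf 3) (.leaf 3)))))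

def srank214 : Janko.Tree (ℕ) :=
  (.node (.node (.node (.node (.node (.leaf 2) (.leaf 3)) (.leaf 4)) (.node (.leaf 3) (.leaf 4))) (.node (.node (.leaf 3) (.leaf 3)) (.node (.leaf 3) (.leaf 4)))) (.node (.node (.node (.node (.leaf 3) (.leaf 3)) (.leaf 2)) (.node (.leaf 3) (.leaf 4))) (.node (.node (.leaf 3) (.leaf 2)) (.node (.leaf 3) (.leaf 3)))))

def srank215 : Janko.Tree (ℕ) :=
  (.node (.node (.node (.node (.node (.leaf 3) (.leaf 3)) (.leaf 3)) (.node (.leaf 3) (.leaf 3))) (.node (.node (.leaf 3) (.leaf 3)) (.node (.leaf 3) (.leaf 3)))) (.node (.node (.node (.node (.leaf 3) (.leaf 3)) (.leaf 3)) (.node (.leaf 3) (.leaf 4))) (.node (.node (.leaf 3) (.leaf 4)) (.node (.leaf 3) (.leaf 3)))))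

def srank216 : Janko.Tree (ℕ) :=
  (.node (.node (.node (.node (.node (.leaf 3) (.leaf 3)) (.leaf 4)) (.node (.leaf 4) (.leaf 3))) (.node (.node (.leaf 2) (.leaf 3)) (.node (.leaf 3) (.leaf 3)))) (.node (.node (.node (.node (.leaf 4) (.leaf 3)) (.leaf 3)) (.node (.leaf 3) (.leaf 3))) (.node (.node (.leaf 4) (.leaf 3)) (.node (.leaf 3) (.leaf 3)))))

def srank217 : Janko.Tree (ℕ) :=
  (.node (.node (.node (.node (.node (.leaf 3) (.leaf 1)) (.leaf 3)) (.node (.leaf 4) (.leaf 3))) (.node (.node (.leaf 3) (.leaf 3)) (.node (.leaf 3) (.leaf 3)))) (.node (.node (.node (.node (.leaf 3) (.leaf 4)) (.leaf 3)) (.node (.leaf 4) (.leaf 3))) (.node (.node (.leaf 3) (.leaf 3)) (.node (.leaf 4) (.leaf 4)))))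

def srank218 : Janko.Tree (ℕ) :=
  (.node (.node (.node (.node (.node (.leaf 2) (.leaf 3)) (.leaf 4)) (.node (.leaf 2) (.leaf 4))) (.node (.node (.leaf 3) (.leaf 3)) (.node (.leaf 3) (.leaf 2)))) (.node (.node (.node (.node (.leaf 3) (.leaf 4)) (.leaf 4)) (.node (.leaf 1) (.leaf 3))) (.node (.node (.leaf 3) (.leaf 3)) (.node (.leaf 3) (.leaf 3)))))

def srank219 : Janko.Tree (ℕ) :=
  (.node (.node (.node (.node (.node (.leaf 4) (.leaf 3)) (.leaf 3)) (.node (.leaf 4) (.leaf 4))) (.node (.node (.leaf 3) (.leaf 4)) (.node (.leaf 3) (.leaf 4)))) (.node (.node (.node (.node (.leaf 3) (.leaf 4)) (.leaf 3)) (.node (.leaf 2) (.leaf 4))) (.node (.node (.leaf 2) (.leaf 3)) (.node (.leaf 3) (.leaf 4)))))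

def srank220 : Janko.Tree (ℕ) :=
  (.node (.node (.node (.node (.node (.leaf 3) (.leaf 3)) (.leaf 4)) (.node (.leaf 3) (.leaf 4))) (.node (.node (.leaf 3) (.leaf 2)) (.node (.leaf 3) (.leaf 3)))) (.node (.node (.node (.node (.leaf 3) (.leaf 3)) (.leaf 2)) (.node (.leaf 4) (.leaf 3))) (.node (.node (.leaf 4) (.leaf 3)) (.node (.leaf 3) (.leaf 4)))))

def srank221 : Janko.Tree (ℕ) :=
  (.node (.node (.node (.node (.node (.leaf 3) (.leaf 3)) (.leaf 4)) (.node (.leaf 4) (.leaf 4))) (.node (.node (.leaf 2) (.leaf 3)) (.node (.leaf 3) (.leaf 3)))) (.node (.node (.node (.node (.leaf 3) (.leaf 4)) (.leaf 3)) (.node (.leaf 3) (.leaf 4))) (.node (.node (.leaf 4) (.leaf 2)) (.node (.leaf 3) (.leaf 2)))))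

def srank222 : Janko.Tree (ℕ) :=
  (.node (.node (.node (.node (.node (.leaf 2) (.leaf 3)) (.leaf 4)) (.node (.leaf 3) (.leaf 4))) (.node (.node (.leaf 3) (.leaf 4)) (.node (.leaf 3) (.leaf 3)))) (.node (.node (.node (.node (.leaf 4) (.leaf 4)) (.leaf 3)) (.node (.leaf 2) (.leaf 3))) (.node (.node (.leaf 3) (.leaf 2)) (.node (.leaf 3) (.leaf 3)))))

def srank223 : Janko.Tree (ℕ) :=
  (.node (.node (.node (.node (.node (.leaf 3) (.leaf 3)) (.leaf 4)) (.node (.leaf 3) (.leaf 4))) (.node (.node (.leaf 3) (.leaf 3)) (.node (.leaf 3) (.leaf 2)))) (.node (.node (.node (.node (.leaf 3) (.leaf 4)) (.leaf 3)) (.node (.leaf 3) (.leaf 4))) (.node (.node (.leaf 2) (.leaf 4)) (.node (.leaf 3) (.leaf 3)))))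

def srank224 : Janko.Tree (ℕ) :=
  (.node (.node (.node (.node (.node (.leaf 4) (.leaf 3)) (.leaf 3)) (.node (.leaf 3) (.leaf 4))) (.node (.node (.leaf 4) (.leaf 3)) (.node (.leaf 4) (.leaf 4)))) (.node (.node (.node (.node (.leaf 3) (.leaf 4)) (.leaf 3)) (.node (.leaf 3) (.leaf 4))) (.node (.node (.leaf 3) (.leaf 3)) (.node (.leaf 3) (.leaf 3)))))

def srank225 : Janko.Tree (ℕ) :=
  (.node (.node (.node (.node (.node (.leaf 2) (.leaf 4)) (.leaf 3)) (.node (.leaf 3) (.leaf 4))) (.node (.node (.leaf 3) (.leaf 3)) (.node (.leaf 2) (.leaf 3)))) (.node (.node (.node (.node (.leaf 4) (.leaf 3)) (.leaf 3)) (.node (.leaf 3) (.leaf 4))) (.node (.node (.leaf 3) (.leaf 2)) (.node (.leaf 3) (.leaf 3)))))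

def srank226 : Janko.Tree (ℕ) :=
  (.node (.node (.node (.node (.node (.leaf 4) (.leaf 3)) (.leaf 4)) (.node (.leaf 4) (.leaf 3))) (.node (.node (.leaf 3) (.leaf 4)) (.node (.leaf 3) (.leaf 4)))) (.node (.node (.node (.node (.leaf 3) (.leaf 3)) (.leaf 4)) (.node (.leaf 4) (.leaf 4))) (.node (.node (.leaf 3) (.leaf 3)) (.node (.leaf 3) (.leaf 2)))))

def srank227 : Janko.Tree (ℕ) :=
  (.node (.node (.node (.node (.node (.leaf 5) (.leaf 2)) (.leaf 3)) (.node (.leaf 3) (.leaf 3))) (.node (.node (.leaf 3) (.leaf 4)) (.node (.leaf 3) (.leaf 4)))) (.node (.node (.node (.node (.leaf 4) (.leaf 2)) (.leaf 3)) (.node (.leaf 3) (.leaf 4))) (.node (.node (.leaf 3) (.leaf 3)) (.node (.leaf 3) (.leaf 3)))))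

def srank228 : Janko.Tree (ℕ) :=
  (.node (.node (.node (.node (.node (.leaf 2) (.leaf 3)) (.leaf 3)) (.node (.leaf 4) (.leaf 3))) (.node (.node (.leaf 3) (.leaf 4)) (.node (.leaf 4) (.leaf 3)))) (.node (.node (.node (.node (.leaf 3) (.leaf 3)) (.leaf 4)) (.node (.leaf 3) (.leaf 4))) (.node (.node (.leaf 3) (.leaf 3)) (.node (.leaf 3) (.leaf 3)))))

def srank229 : Janko.Tree (ℕ) :=
  (.node (.node (.node (.node (.node (.leaf 3) (.leaf 3)) (.leaf 3)) (.node (.leaf 3) (.leaf 3))) (.node (.node (.leaf 3) (.leaf 2)) (.node (.leaf 3) (.leaf 3)))) (.node (.node (.node (.node (.leaf 4) (.leaf 2)) (.leaf 4)) (.node (.leaf 3) (.leaf 3))) (.node (.node (.leaf 3) (.leaf 4)) (.node (.leaf 4) (.leaf 3)))))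

def srank230 : Janko.Tree (ℕ) :=
  (.node (.node (.node (.node (.node (.leaf 3) (.leaf 3)) (.leaf 2)) (.node (.leaf 3) (.leaf 2))) (.node (.node (.leaf 4) (.leaf 4)) (.node (.leaf 3) (.leaf 3)))) (.node (.node (.node (.node (.leaf 4) (.leaf 4)) (.leaf 4)) (.node (.leaf 3) (.leaf 4))) (.node (.node (.leaf 4) (.leaf 3)) (.node (.leaf 4) (.leaf 4)))))

def srank231 : Janko.Tree (ℕ) :=
  (.node (.node (.node (.node (.node (.leaf 3) (.leaf 3)) (.leaf 3)) (.node (.leaf 3) (.leaf 4))) (.node (.node (.leaf 3) (.leaf 3)) (.node (.leaf 4) (.leaf 3)))) (.node (.node (.node (.node (.leaf 3) (.leaf 3)) (.leaf 3)) (.node (.leaf 3) (.leaf 3))) (.node (.node (.leaf 4) (.leaf 3)) (.node (.leaf 4) (.leaf 3)))))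

def srank232 : Janko.Tree (ℕ) :=
  (.node (.node (.node (.node (.node (.leaf 3) (.leaf 3)) (.leaf 4)) (.node (.leaf 3) (.leaf 3))) (.node (.node (.leaf 3) (.leaf 2)) (.node (.leaf 2) (.leaf 3)))) (.node (.node (.node (.node (.leaf 3) (.leaf 4)) (.leaf 3)) (.node (.leaf 2) (.leaf 3))) (.node (.node (.leaf 3) (.leaf 3)) (.node (.leaf 3) (.leaf 4)))))

def srank233 : Janko.Tree (ℕ) :=
  (.node (.node (.node (.node (.node (.leaf 3) (.leaf 4)) (.leaf 4)) (.node (.leaf 4) (.leaf 3))) (.node (.node (.leaf 4) (.leaf 3)) (.node (.leaf 3) (.leaf 3)))) (.node (.node (.node (.node (.leaf 3) (.leaf 3)) (.leaf 3)) (.node (.leaf 4) (.leaf 3))) (.node (.node (.leaf 3) (.leaf 3)) (.node (.leaf 2) (.leaf 3)))))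

def srank234 : Janko.Tree (ℕ) :=
  (.node (.node (.node (.node (.node (.leaf 3) (.leaf 3)) (.leaf 4)) (.node (.leaf 2) (.leaf 3))) (.node (.node (.leaf 3) (.leaf 3)) (.node (.leaf 4) (.leaf 3)))) (.node (.node (.node (.node (.leaf 3) (.leaf 3)) (.leaf 4)) (.node (.leaf 4) (.leaf 3))) (.node (.node (.leaf 4) (.leaf 2)) (.node (.leaf 4) (.leaf 3)))))

def srank235 : Janko.Tree (ℕ) :=
  (.node (.node (.node (.node (.node (.leaf 3) (.leaf 3)) (.leaf 4)) (.node (.leaf 2) (.leaf 4))) (.node (.node (.leaf 3) (.leaf 3)) (.node (.leaf 4) (.leaf 3)))) (.node (.node (.node (.node (.leaf 4) (.leaf 3)) (.leaf 3)) (.node (.leaf 4) (.leaf 2))) (.node (.node (.leaf 3) (.leaf 3)) (.node (.leaf 4) (.leaf 2)))))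

def srank236 : Janko.Tree (ℕ) :=
  (.node (.node (.node (.node (.node (.leaf 4) (.leaf 3)) (.leaf 3)) (.node (.leaf 2) (.leaf 4))) (.node (.node (.leaf 3) (.leaf 3)) (.node (.leaf 4) (.leaf 3)))) (.node (.node (.node (.node (.leaf 3) (.leaf 4)) (.leaf 3)) (.node (.leaf 4) (.leaf 3))) (.node (.node (.leaf 3) (.leaf 4)) (.node (.leaf 4) (.leaf 4)))))

def srank237 : Janko.Tree (ℕ) :=
  (.node (.node (.node (.node (.node (.leaf 3) (.leaf 4)) (.leaf 3)) (.node (.leaf 3) (.leaf 3))) (.node (.node (.leaf 4) (.leaf 3)) (.node (.leaf 3) (.leaf 3)))) (.node (.node (.node (.node (.leaf 3) (.leaf 3)) (.leaf 4)) (.node (.leaf 3) (.leaf 4))) (.node (.node (.leaf 4) (.leaf 3)) (.node (.leaf 4) (.leaf 3)))))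

def srank238 : Janko.Tree (ℕ) :=
  (.node (.node (.node (.node (.node (.leaf 3) (.leaf 3)) (.leaf 3)) (.node (.leaf 3) (.leaf 3))) (.node (.node (.leaf 3) (.leaf 3)) (.node (.leaf 3) (.leaf 3)))) (.node (.node (.node (.node (.leaf 4) (.leaf 3)) (.leaf 3)) (.node (.leaf 3) (.leaf 3))) (.node (.node (.leaf 4) (.leaf 3)) (.node (.leaf 3) (.leaf 3)))))

def srank239 : Janko.Tree (ℕ) :=
  (.node (.node (.node (.node (.node (.leaf 2) (.leaf 3)) (.leaf 3)) (.node (.leaf 2) (.leaf 3))) (.node (.node (.leaf 3) (.leaf 3)) (.node (.leaf 3) (.leaf 1)))) (.node (.node (.node (.node (.leaf 4) (.leaf 4)) (.leaf 4)) (.node (.leaf 4) (.leaf 4))) (.node (.node (.leaf 4) (.leaf 2)) (.node (.leaf 2) (.leaf 4)))))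

def srank240 : Janko.Tree (ℕ) :=
  (.node (.node (.node (.node (.node (.leaf 3) (.leaf 2)) (.leaf 4)) (.node (.leaf 4) (.leaf 4))) (.node (.node (.leaf 3) (.leaf 4)) (.node (.leaf 3) (.leaf 4)))) (.node (.node (.node (.node (.leaf 4) (.leaf 3)) (.leaf 4)) (.node (.leaf 3) (.leaf 3))) (.node (.node (.leaf 3) (.leaf 4)) (.node (.leaf 3) (.leaf 4)))))

def srank241 : Janko.Tree (ℕ) :=
  (.node (.node (.node (.node (.node (.leaf 3) (.leaf 3)) (.leaf 3)) (.node (.leaf 4) (.leaf 2))) (.node (.node (.leaf 3) (.leaf 4)) (.node (.leaf 3) (.leaf 3)))) (.node (.node (.node (.node (.leaf 3) (.leaf 3)) (.leaf 4)) (.node (.leaf 3) (.leaf 3))) (.node (.node (.leaf 4) (.leaf 4)) (.node (.leaf 3) (.leaf 3)))))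

def srank242 : Janko.Tree (ℕ) :=
  (.node (.node (.node (.node (.node (.leaf 4) (.leaf 4)) (.leaf 3)) (.node (.leaf 3) (.leaf 3))) (.node (.node (.leaf 4) (.leaf 3)) (.node (.leaf 4) (.leaf 2)))) (.node (.node (.node (.node (.leaf 4) (.leaf 3)) (.leaf 4)) (.node (.leaf 3) (.leaf 4))) (.node (.node (.leaf 3) (.leaf 4)) (.node (.leaf 4) (.leaf 3)))))

def srank243 : Janko.Tree (ℕ) :=
  (.node (.node (.node (.node (.node (.leaf 2) (.leaf 4)) (.leaf 3)) (.node (.leaf 3) (.leaf 2))) (.node (.node (.leaf 3) (.leaf 3)) (.node (.leaf 3) (.leaf 3)))) (.node (.node (.node (.node (.leaf 3) (.leaf 3)) (.leaf 4)) (.node (.leaf 4) (.leaf 3))) (.node (.node (.leaf 3) (.leaf 4)) (.node (.leaf 3) (.leaf 4)))))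

def srank244 : Janko.Tree (ℕ) :=
  (.node (.node (.node (.node (.node (.leaf 3) (.leaf 3)) (.leaf 3)) (.node (.leaf 4) (.leaf 4))) (.node (.node (.leaf 3) (.leaf 2)) (.node (.leaf 3) (.leaf 3)))) (.node (.node (.node (.node (.leaf 4) (.leaf 4)) (.leaf 4)) (.node (.leaf 4) (.leaf 3))) (.node (.node (.leaf 4) (.leaf 3)) (.node (.leaf 4) (.leaf 4)))))

def srank245 : Janko.Tree (ℕ) :=
  (.node (.node (.node (.node (.node (.leaf 3) (.leaf 3)) (.leaf 3)) (.node (.leaf 3) (.leaf 3))) (.node (.node (.leaf 4) (.leaf 3)) (.node (.leaf 4) (.leaf 4)))) (.node (.node (.node (.node (.leaf 3) (.leaf 4)) (.leaf 4)) (.node (.leaf 4) (.leaf 3))) (.node (.node (.leaf 2) (.leaf 4)) (.node (.leaf 3) (.leaf 4)))))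

def srank246 : Janko.Tree (ℕ) :=
  (.node (.node (.node (.node (.node (.leaf 4) (.leaf 4)) (.leaf 3)) (.node (.leaf 4) (.leaf 4))) (.node (.node (.leaf 4) (.leaf 4)) (.node (.leaf 3) (.leaf 3)))) (.node (.node (.node (.node (.leaf 4) (.leaf 3)) (.leaf 4)) (.node (.leaf 3) (.leaf 3))) (.node (.node (.leaf 2) (.leaf 3)) (.node (.leaf 3) (.leaf 3)))))

def srank247 : Janko.Tree (ℕ) :=
  (.node (.node (.node (.node (.node (.leaf 4) (.leaf 4)) (.leaf 3)) (.node (.leaf 4) (.leaf 2))) (.node (.node (.leaf 3) (.leaf 3)) (.node (.leaf 3) (.leaf 4)))) (.node (.node (.node (.node (.leaf 4) (.leaf 3)) (.leaf 3)) (.node (.leaf 3) (.leaf 3))) (.node (.node (.leaf 3) (.leaf 4)) (.node (.leaf 2) (.leaf 3)))))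

def srank248 : Janko.Tree (ℕ) :=
  (.node (.node (.node (.node (.node (.leaf 4) (.leaf 3)) (.leaf 4)) (.node (.leaf 3) (.leaf 3))) (.node (.node (.leaf 3) (.leaf 4)) (.node (.leaf 3) (.leaf 3)))) (.node (.node (.node (.node (.leaf 3) (.leaf 3)) (.leaf 3)) (.node (.leaf 3) (.leaf 3))) (.node (.node (.leaf 4) (.leaf 4)) (.node (.leaf 3) (.leaf 3)))))

def srank249 : Janko.Tree (ℕ) :=
  (.node (.node (.node (.node (.node (.leaf 3) (.leaf 3)) (.leaf 3)) (.node (.leaf 4) (.leaf 4))) (.node (.node (.leaf 4) (.leaf 3)) (.node (.leaf 3) (.leaf 4)))) (.node (.node (.node (.node (.leaf 4) (.leaf 3)) (.leaf 3)) (.node (.leaf 3) (.leaf 3))) (.node (.node (.leaf 3) (.leaf 3)) (.node (.leaf 3) (.leaf 2)))))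

def srank250 : Janko.Tree (ℕ) :=
  (.node (.node (.node (.node (.node (.leaf 3) (.leaf 3)) (.leaf 4)) (.node (.leaf 3) (.leaf 3))) (.node (.node (.leaf 4) (.leaf 3)) (.node (.leaf 3) (.leaf 4)))) (.node (.node (.node (.node (.leaf 3) (.leaf 3)) (.leaf 3)) (.node (.leaf 3) (.leaf 4))) (.node (.node (.leaf 3) (.leaf 4)) (.node (.leaf 3) (.leaf 3)))))

def srank251 : Janko.Tree (ℕ) :=
  (.node (.node (.node (.node (.node (.leaf 3) (.leaf 3)) (.leaf 3)) (.node (.leaf 4) (.leaf 3))) (.node (.node (.leaf 4) (.leaf 3)) (.node (.leaf 2) (.leaf 4)))) (.node (.node (.node (.node (.leaf 3) (.leaf 3)) (.leaf 3)) (.node (.leaf 4) (.leaf 3))) (.node (.node (.leaf 4) (.leaf 3)) (.node (.leaf 4) (.leaf 3)))))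

def srank252 : Janko.Tree (ℕ) :=
  (.node (.node (.node (.node (.node (.leaf 3) (.leaf 3)) (.leaf 4)) (.node (.leaf 3) (.leaf 3))) (.node (.node (.leaf 3) (.leaf 4)) (.node (.leaf 3) (.leaf 4)))) (.node (.node (.node (.node (.leaf 3) (.leaf 3)) (.leaf 4)) (.node (.leaf 3) (.leaf 3))) (.node (.node (.leaf 4) (.leaf 3)) (.node (.leaf 3) (.leaf 2)))))

def srank253 : Janko.Tree (ℕ) :=
  (.node (.node (.node (.node (.node (.leaf 3) (.leaf 3)) (.leaf 3)) (.node (.leaf 3) (.leaf 3))) (.node (.node (.leaf 4) (.leaf 3)) (.node (.leaf 3) (.leaf 4)))) (.node (.node (.node (.node (.leaf 3) (.leaf 3)) (.leaf 2)) (.node (.leaf 4) (.leaf 4))) (.node (.node (.leaf 3) (.leaf 2)) (.node (.leaf 3) (.leaf 3)))))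

def srank254 : Janko.Tree (ℕ) :=
  (.node (.node (.node (.node (.node (.leaf 3) (.leaf 3)) (.leaf 2)) (.node (.leaf 3) (.leaf 3))) (.node (.node (.leaf 3) (.leaf 3)) (.node (.leaf 4) (.leaf 4)))) (.node (.node (.node (.node (.leaf 4) (.leaf 4)) (.leaf 3)) (.node (.leaf 3) (.leaf 4))) (.node (.node (.leaf 3) (.leaf 4)) (.node (.leaf 3) (.leaf 3)))))

def srank255 : Janko.Tree (ℕ) :=
  (.node (.node (.node (.node (.node (.leaf 3) (.leaf 3)) (.leaf 4)) (.node (.leaf 3) (.leaf 3))) (.node (.node (.leaf 2) (.leaf 4)) (.node (.leaf 4) (.leaf 3)))) (.node (.node (.node (.node (.leaf 2) (.leaf 4)) (.leaf 3)) (.node (.leaf 4) (.leaf 3))) (.node (.node (.leaf 3) (.leaf 3)) (.node (.leaf 4) (.leaf 4)))))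

def srank256 : Janko.Tree (ℕ) :=
  (.node (.node (.node (.node (.node (.leaf 3) (.leaf 2)) (.leaf 4)) (.node (.leaf 3) (.leaf 4))) (.node (.node (.leaf 4) (.leaf 3)) (.node (.leaf 4) (.leaf 4)))) (.node (.node (.node (.node (.leaf 3) (.leaf 3)) (.leaf 2)) (.node (.leaf 4) (.leaf 2))) (.node (.node (.leaf 3) (.leaf 3)) (.node (.leaf 4) (.leaf 4)))))

def srank257 : Janko.Tree (ℕ) :=
  (.node (.node (.node (.node (.node (.leaf 3) (.leaf 3)) (.leaf 3)) (.node (.leaf 3) (.leaf 3))) (.node (.node (.leaf 3) (.leaf 4)) (.node (.leaf 3) (.leaf 4)))) (.node (.node (.node (.node (.leaf 3) (.leaf 3)) (.leaf 3)) (.node (.leaf 2) (.leaf 3))) (.node (.node (.leaf 3) (.leaf 3)) (.node (.leaf 4) (.leaf 4)))))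

def srank258 : Janko.Tree (ℕ) :=
  (.node (.node (.node (.node (.node (.leaf 2) (.leaf 3)) (.leaf 2)) (.node (.leaf 3) (.leaf 4))) (.node (.node (.leaf 3) (.leaf 3)) (.node (.leaf 2) (.leaf 3)))) (.node (.node (.node (.node (.leaf 3) (.leaf 2)) (.leaf 3)) (.node (.leaf 3) (.leaf 3))) (.node (.node (.leaf 3) (.leaf 2)) (.node (.leaf 3) (.leaf 4)))))

def srank259 : Janko.Tree (ℕ) :=
  (.node (.node (.node (.node (.node (.leaf 4) (.leaf 4)) (.leaf 4)) (.node (.leaf 3) (.leaf 3))) (.node (.node (.leaf 4) (.leaf 3)) (.node (.leaf 4) (.leaf 4)))) (.node (.node (.node (.node (.leaf 4) (.leaf 4)) (.leaf 3)) (.node (.leaf 3) (.leaf 3))) (.node (.node (.leaf 3) (.leaf 3)) (.node (.leaf 3) (.leaf 4)))))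

def srank260 : Janko.Tree (ℕ) :=
  (.node (.node (.node (.node (.node (.leaf 3) (.leaf 3)) (.leaf 4)) (.node (.leaf 3) (.leaf 2))) (.node (.node (.leaf 3) (.leaf 3)) (.node (.leaf 4) (.leaf 3)))) (.node (.node (.node (.node (.leaf 4) (.leaf 3)) (.leaf 3)) (.node (.leaf 3) (.leaf 4))) (.node (.node (.leaf 4) (.leaf 4)) (.node (.leaf 3) (.leaf 4)))))

def srank261 : Janko.Tree (ℕ) :=
  (.node (.node (.node (.node (.node (.leaf 3) (.leaf 3)) (.leaf 3)) (.node (.leaf 4) (.leaf 4))) (.node (.node (.leaf 4) (.leaf 3)) (.node (.leaf 3) (.leaf 4)))) (.node (.node (.node (.node (.leaf 4) (.leaf 4)) (.leaf 3)) (.node (.leaf 4) (.leaf 2))) (.node (.node (.leaf 3) (.leaf 3)) (.node (.leaf 3) (.leaf 4)))))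

def srank262 : Janko.Tree (ℕ) :=
  (.node (.node (.node (.node (.node (.leaf 4) (.leaf 3)) (.leaf 2)) (.node (.leaf 3) (.leaf 4))) (.node (.node (.leaf 3) (.leaf 3)) (.node (.leaf 3) (.leaf 3)))) (.node (.node (.node (.node (.leaf 3) (.leaf 3)) (.leaf 4)) (.node (.leaf 3) (.leaf 3))) (.node (.node (.leaf 3) (.leaf 3)) (.node (.leaf 4) (.leaf 3)))))

def srank263 : Janko.Tree (ℕ) :=
  (.node (.node (.node (.node (.node (.leaf 3) (.leaf 3)) (.leaf 3)) (.node (.leaf 4) (.leaf 3))) (.node (.node (.leaf 3) (.leaf 4)) (.node (.leaf 4) (.leaf 4)))) (.node (.node (.node (.node (.leaf 3) (.leaf 3)) (.leaf 3)) (.node (.leaf 4) (.leaf 3))) (.node (.node (.leaf 3) (.leaf 3)) (.node (.leaf 3) (.leaf 4)))))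

def srank264 : Janko.Tree (ℕ) :=
  (.node (.node (.node (.node (.node (.leaf 3) (.leaf 4)) (.leaf 3)) (.node (.leaf 3) (.leaf 3))) (.node (.node (.leaf 3) (.leaf 3)) (.node (.leaf 4) (.leaf 3)))) (.node (.node (.node (.leaf 3) (.leaf 3)) (.node (.leaf 3) (.leaf 3))) (.node (.node (.leaf 3) (.leaf 3)) (.node (.leaf 2) (.leaf 3)))))

def srank265 : Janko.Tree (ℕ) :=
  (.node (.node (.node (.node (.node (.leaf 4) (.leaf 4)) (.leaf 3)) (.node (.leaf 3) (.leaf 4))) (.node (.node (.leaf 3) (.leaf 4)) (.node (.leaf 3) (.leaf 3)))) (.node (.node (.node (.leaf 4) (.leaf 4)) (.node (.leaf 3) (.leaf 3))) (.node (.node (.leaf 3) (.leaf 4)) (.node (.leaf 3) (.leaf 4)))))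

def srank266 : Janko.Tree (ℕ) :=
  (.node (.node (.node (.node (.node (.leaf 3) (.leaf 3)) (.leaf 4)) (.node (.leaf 3) (.leaf 4))) (.node (.node (.leaf 3) (.leaf 3)) (.node (.leaf 2) (.leaf 4)))) (.node (.node (.node (.leaf 4) (.leaf 4)) (.node (.leaf 2) (.leaf 3))) (.node (.node (.leaf 3) (.leaf 3)) (.node (.leaf 3) (.leaf 3)))))

def srank267 : Janko.Tree (ℕ) :=
  (.node (.node (.node (.node (.node (.leaf 4) (.leaf 4)) (.leaf 3)) (.node (.leaf 4) (.leaf 3))) (.node (.node (.leaf 4) (.leaf 3)) (.node (.leaf 4) (.leaf 1)))) (.node (.node (.node (.leaf 4) (.leaf 2)) (.node (.leaf 4) (.leaf 4))) (.node (.node (.leaf 3) (.leaf 3)) (.node (.leaf 3) (.leaf 3)))))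

def srank268 : Janko.Tree (ℕ) :=
  (.node (.node (.node (.node (.node (.leaf 4) (.leaf 3)) (.leaf 3)) (.node (.leaf 3) (.leaf 3))) (.node (.node (.leaf 3) (.leaf 4)) (.node (.leaf 3) (.leaf 3)))) (.node (.node (.node (.leaf 2) (.leaf 2)) (.node (.leaf 4) (.leaf 3))) (.node (.node (.leaf 3) (.leaf 3)) (.node (.leaf 3) (.leaf 4)))))

def srank269 : Janko.Tree (ℕ) :=
  (.node (.node (.node (.node (.node (.leaf 3) (.leaf 3)) (.leaf 3)) (.node (.leaf 4) (.leaf 3))) (.node (.node (.leaf 3) (.leaf 3)) (.node (.leaf 4) (.leaf 4)))) (.node (.node (.node (.leaf 4) (.leaf 3)) (.node (.leaf 3) (.leaf 3))) (.node (.node (.leaf 4) (.leaf 4)) (.node (.leaf 4) (.leaf 3)))))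

def srank270 : Janko.Tree (ℕ) :=
  (.node (.node (.node (.node (.node (.leaf 3) (.leaf 4)) (.leaf 3)) (.node (.leaf 4) (.leaf 4))) (.node (.node (.leaf 3) (.leaf 3)) (.node (.leaf 4) (.leaf 3)))) (.node (.node (.node (.leaf 4) (.leaf 3)) (.node (.leaf 2) (.leaf 3))) (.node (.node (.leaf 4) (.leaf 3)) (.node (.leaf 3) (.leaf 3)))))

def srank271 : Janko.Tree (ℕ) :=
  (.node (.node (.node (.node (.node (.leaf 3) (.leaf 5)) (.leaf 3)) (.node (.leaf 3) (.leaf 3))) (.node (.node (.leaf 3) (.leaf 3)) (.node (.leaf 4) (.leaf 3)))) (.node (.node (.node (.leaf 4) (.leaf 3)) (.node (.leaf 3) (.leaf 3))) (.node (.node (.leaf 2) (.leaf 3)) (.node (.leaf 3) (.leaf 3)))))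

def srank272 : Janko.Tree (ℕ) :=
  (.node (.node (.node (.node (.node (.leaf 4) (.leaf 3)) (.leaf 4)) (.node (.leaf 3) (.leaf 3))) (.node (.node (.leaf 4) (.leaf 3)) (.node (.leaf 3) (.leaf 3)))) (.node (.node (.node (.leaf 3) (.leaf 4)) (.node (.leaf 4) (.leaf 4))) (.node (.node (.leaf 3) (.leaf 3)) (.node (.leaf 4) (.leaf 4)))))

def srank273 : Janko.Tree (ℕ) :=
  (.node (.node (.node (.node (.node (.leaf 3) (.leaf 4)) (.leaf 4)) (.node (.leaf 3) (.leaf 2))) (.node (.node (.leaf 4) (.leaf 2)) (.node (.leaf 4) (.leaf 3)))) (.node (.node (.node (.leaf 3) (.leaf 4)) (.node (.leaf 3) (.leaf 3))) (.node (.node (.leaf 3) (.leaf 4)) (.node (.leaf 3) (.leaf 3)))))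

def srank274 : Janko.Tree (ℕ) :=
  (.node (.node (.node (.node (.node (.leaf 4) (.leaf 3)) (.leaf 3)) (.node (.leaf 3) (.leaf 3))) (.node (.node (.leaf 1) (.leaf 4)) (.node (.leaf 4) (.leaf 2)))) (.node (.node (.node (.leaf 4) (.leaf 4)) (.node (.leaf 3) (.leaf 3))) (.node (.node (.leaf 3) (.leaf 3)) (.node (.leaf 3) (.leaf 4)))))

def srank275 : Janko.Tree (ℕ) :=
  (.node (.node (.node (.node (.node (.leaf 4) (.leaf 3)) (.leaf 4)) (.node (.leaf 3) (.leaf 3))) (.node (.node (.leaf 3) (.leaf 3)) (.node (.leaf 4) (.leaf 4)))) (.node (.node (.node (.leaf 3) (.leaf 3)) (.node (.leaf 3) (.leaf 2))) (.node (.node (.leaf 4) (.leaf 4)) (.node (.leaf 4) (.leaf 4)))))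

def srank276 : Janko.Tree (ℕ) :=
  (.node (.node (.node (.node (.node (.leaf 3) (.leaf 3)) (.leaf 2)) (.node (.leaf 4) (.leaf 3))) (.node (.node (.leaf 4) (.leaf 3)) (.node (.leaf 3) (.leaf 3)))) (.node (.node (.node (.leaf 4) (.leaf 4)) (.node (.leaf 4) (.leaf 3))) (.node (.node (.leaf 2) (.leaf 3)) (.node (.leaf 4) (.leaf 3)))))

def srank277 : Janko.Tree (ℕ) :=
  (.node (.node (.node (.node (.node (.leaf 2) (.leaf 2)) (.leaf 2)) (.node (.leaf 3) (.leaf 3))) (.node (.node (.leaf 3) (.leaf 4)) (.node (.leaf 4) (.leaf 3)))) (.node (.node (.node (.leaf 4) (.leaf 2)) (.node (.leaf 4) (.leaf 3))) (.node (.node (.leaf 4) (.leaf 2)) (.node (.leaf 4) (.leaf 3)))))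

def srank278 : Janko.Tree (ℕ) :=
  (.node (.node (.node (.node (.node (.leaf 3) (.leaf 3)) (.leaf 3)) (.node (.leaf 2) (.leaf 2))) (.node (.node (.leaf 4) (.leaf 3)) (.node (.leaf 4) (.leaf 3)))) (.node (.node (.node (.leaf 3) (.leaf 3)) (.node (.leaf 4) (.leaf 2))) (.node (.node (.leaf 3) (.leaf 3)) (.node (.leaf 3) (.leaf 3)))))

def srank279 : Janko.Tree (ℕ) :=
  (.node (.node (.node (.node (.node (.leaf 3) (.leaf 3)) (.leaf 4)) (.node (.leaf 3) (.leaf 4))) (.node (.node (.leaf 3) (.leaf 4)) (.node (.leaf 4) (.leaf 3)))) (.node (.node (.node (.leaf 3) (.leaf 3)) (.node (.leaf 3) (.leaf 3))) (.node (.node (.leaf 3) (.leaf 3)) (.node (.leaf 3) (.leaf 3)))))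

def srank280 : Janko.Tree (ℕ) :=
  (.node (.node (.node (.node (.node (.leaf 3) (.leaf 3)) (.leaf 3)) (.node (.leaf 3) (.leaf 3))) (.node (.node (.leaf 3) (.leaf 3)) (.node (.leaf 4) (.leaf 4)))) (.node (.node (.node (.leaf 4) (.leaf 3)) (.node (.leaf 3) (.leaf 4))) (.node (.node (.leaf 3) (.leaf 3)) (.node (.leaf 4) (.leaf 2)))))

def srank281 : Janko.Tree (ℕ) :=
  (.node (.node (.node (.node (.node (.leaf 3) (.leaf 3)) (.leaf 3)) (.node (.leaf 3) (.leaf 4))) (.node (.node (.leaf 3) (.leaf 3)) (.node (.leaf 3) (.leaf 3)))) (.node (.node (.node (.leaf 3) (.leaf 3)) (.node (.leaf 3) (.leaf 3))) (.node (.node (.leaf 3) (.leaf 4)) (.node (.leaf 3) (.leaf 4)))))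

def srank282 : Janko.Tree (ℕ) :=
  (.node (.node (.node (.node (.node (.leaf 2) (.leaf 5)) (.leaf 4)) (.node (.leaf 3) (.leaf 4))) (.node (.node (.leaf 3) (.leaf 3)) (.node (.leaf 3) (.leaf 3)))) (.node (.node (.node (.leaf 3) (.leaf 3)) (.node (.leaf 3) (.leaf 4))) (.node (.node (.leaf 4) (.leaf 4)) (.node (.leaf 3) (.leaf 2)))))

def srank283 : Janko.Tree (ℕ) :=
  (.node (.node (.node (.node (.node (.leaf 4) (.leaf 3)) (.leaf 3)) (.node (.leaf 3) (.leaf 3))) (.node (.node (.leaf 3) (.leaf 4)) (.node (.leaf 3) (.leaf 3)))) (.node (.node (.node (.leaf 4) (.leaf 3)) (.node (.leaf 3) (.leaf 2))) (.node (.node (.leaf 3) (.leaf 3)) (.node (.leaf 3) (.leaf 3)))))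

def srank284 : Janko.Tree (ℕ) :=
  (.node (.node (.node (.node (.node (.leaf 4) (.leaf 4)) (.leaf 3)) (.node (.leaf 3) (.leaf 3))) (.node (.node (.leaf 3) (.leaf 3)) (.node (.leaf 3) (.leaf 3)))) (.node (.node (.node (.leaf 3) (.leaf 3)) (.node (.leaf 3) (.leaf 3))) (.node (.node (.leaf 3) (.leaf 4)) (.node (.leaf 4) (.leaf 3)))))

def srank285 : Janko.Tree (ℕ) :=
  (.node (.node (.node (.node (.node (.leaf 3) (.leaf 3)) (.leaf 4)) (.node (.leaf 3) (.leaf 4))) (.node (.node (.leaf 3) (.leaf 3)) (.node (.leaf 3) (.leaf 2)))) (.node (.node (.node (.leaf 3) (.leaf 3)) (.node (.leaf 3) (.leaf 3))) (.node (.node (.leaf 3) (.leaf 3)) (.node (.leaf 3) (.leaf 4)))))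

def srank286 : Janko.Tree (ℕ) :=
  (.node (.node (.node (.node (.node (.leaf 4) (.leaf 3)) (.leaf 3)) (.node (.leaf 3) (.leaf 4))) (.node (.node (.leaf 3) (.leaf 3)) (.node (.leaf 4) (.leaf 4)))) (.node (.node (.node (.leaf 3) (.leaf 4)) (.node (.leaf 3) (.leaf 4))) (.node (.node (.leaf 4) (.leaf 3)) (.node (.leaf 3) (.leaf 3)))))

def srank287 : Janko.Tree (ℕ) :=
  (.node (.node (.node (.node (.node (.leaf 3) (.leaf 3)) (.leaf 3)) (.node (.leaf 3) (.leaf 4))) (.node (.node (.leaf 3) (.leaf 4)) (.node (.leaf 3) (.leaf 4)))) (.node (.node (.node (.leaf 3) (.leaf 3)) (.node (.leaf 3) (.leaf 3))) (.node (.node (.leaf 4) (.leaf 3)) (.node (.leaf 3) (.leaf 3)))))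

def srank288 : Janko.Tree (ℕ) :=
  (.node (.node (.node (.node (.node (.leaf 3) (.leaf 4)) (.leaf 3)) (.node (.leaf 2) (.leaf 3))) (.node (.node (.leaf 3) (.leaf 4)) (.node (.leaf 3) (.leaf 2)))) (.node (.node (.node (.leaf 4) (.leaf 3)) (.node (.leaf 4) (.leaf 3))) (.node (.node (.leaf 3) (.leaf 4)) (.node (.leaf 3) (.leaf 3)))))

def srank289 : Janko.Tree (ℕ) :=
  (.node (.node (.node (.node (.node (.leaf 4) (.leaf 3)) (.leaf 4)) (.node (.leaf 2) (.leaf 3))) (.node (.node (.leaf 3) (.leaf 3)) (.node (.leaf 3) (.leaf 3)))) (.node (.node (.node (.leaf 3) (.leaf 4)) (.node (.leaf 2) (.leaf 3))) (.node (.node (.leaf 4) (.leaf 4)) (.node (.leaf 3) (.leaf 4)))))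

def srank290 : Janko.Tree (ℕ) :=
  (.node (.node (.node (.node (.node (.leaf 3) (.leaf 3)) (.leaf 4)) (.node (.leaf 4) (.leaf 4))) (.node (.node (.leaf 3) (.leaf 3)) (.node (.leaf 3) (.leaf 2)))) (.node (.node (.node (.leaf 3) (.leaf 3)) (.node (.leaf 3) (.leaf 3))) (.node (.node (.leaf 2) (.leaf 3)) (.node (.leaf 3) (.leaf 3)))))

def srank291 : Janko.Tree (ℕ) :=
  (.node (.node (.node (.node (.node (.leaf 3) (.leaf 2)) (.leaf 3)) (.node (.leaf 3) (.leaf 4))) (.node (.node (.leaf 3) (.leaf 3)) (.node (.leaf 4) (.leaf 3)))) (.node (.node (.node (.leaf 3) (.leaf 3)) (.node (.leaf 3) (.leaf 3))) (.node (.node (.leaf 3) (.leaf 2)) (.node (.leaf 3) (.leaf 3)))))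

def srank292 : Janko.Tree (ℕ) :=
  (.node (.node (.node (.node (.node (.leaf 4) (.leaf 2)) (.leaf 3)) (.node (.leaf 4) (.leaf 3))) (.node (.node (.leaf 3) (.leaf 4)) (.node (.leaf 3) (.leaf 3)))) (.node (.node (.node (.leaf 3) (.leaf 3)) (.node (.leaf 3) (.leaf 4))) (.node (.node (.leaf 4) (.leaf 3)) (.node (.leaf 3) (.leaf 3)))))

def srank293 : Janko.Tree (ℕ) :=
  (.node (.node (.node (.node (.node (.leaf 2) (.leaf 3)) (.leaf 3)) (.node (.leaf 3) (.leaf 2))) (.node (.node (.leaf 3) (.leaf 3)) (.node (.leaf 3) (.leaf 2)))) (.node (.node (.node (.leaf 4) (.leaf 3)) (.node (.leaf 2) (.leaf 3))) (.node (.node (.leaf 4) (.leaf 3)) (.node (.leaf 2) (.leaf 4)))))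

def srank294 : Janko.Tree (ℕ) :=
  (.node (.node (.node (.node (.node (.leaf 4) (.leaf 2)) (.leaf 4)) (.node (.leaf 3) (.leaf 3))) (.node (.node (.leaf 3) (.leaf 4)) (.node (.leaf 4) (.leaf 3)))) (.node (.node (.node (.leaf 3) (.leaf 3)) (.node (.leaf 3) (.leaf 4))) (.node (.node (.leaf 4) (.leaf 3)) (.node (.leaf 3) (.leaf 3)))))

def srank295 : Janko.Tree (ℕ) :=
  (.node (.node (.node (.node (.node (.leaf 3) (.leaf 3)) (.leaf 3)) (.node (.leaf 3) (.leaf 3))) (.node (.node (.leaf 3) (.leaf 3)) (.node (.leaf 3) (.leaf 3)))) (.node (.node (.node (.leaf 3) (.leaf 3)) (.node (.leaf 3) (.leaf 3))) (.node (.node (.leaf 4) (.leaf 4)) (.node (.leaf 3) (.leaf 4)))))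

def srank296 : Janko.Tree (ℕ) :=
  (.node (.node (.node (.node (.node (.leaf 3) (.leaf 4)) (.leaf 3)) (.node (.leaf 3) (.leaf 3))) (.node (.node (.leaf 4) (.leaf 3)) (.node (.leaf 3) (.leaf 4)))) (.node (.node (.node (.leaf 3) (.leaf 3)) (.node (.leaf 3) (.leaf 3))) (.node (.node (.leaf 4) (.leaf 3)) (.node (.leaf 3) (.leaf 4)))))

def srank297 : Janko.Tree (ℕ) :=
  (.node (.node (.node (.node (.node (.leaf 4) (.leaf 3)) (.leaf 3)) (.node (.leaf 3) (.leaf 4))) (.node (.node (.leaf 4) (.leaf 3)) (.node (.leaf 4) (.leaf 3)))) (.node (.node (.node (.leaf 3) (.leaf 2)) (.node (.leaf 2) (.leaf 4))) (.node (.node (.leaf 4) (.leaf 2)) (.node (.leaf 4) (.leaf 3)))))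

def srank298 : Janko.Tree (ℕ) :=
  (.node (.node (.node (.node (.node (.leaf 4) (.leaf 2)) (.leaf 3)) (.node (.leaf 3) (.leaf 4))) (.node (.node (.leaf 4) (.leaf 3)) (.node (.leaf 4) (.leaf 2)))) (.node (.node (.node (.leaf 3) (.leaf 2)) (.node (.leaf 3) (.leaf 1))) (.node (.node (.leaf 3) (.leaf 4)) (.node (.leaf 2) (.leaf 2)))))

def srank299 : Janko.Tree (ℕ) :=
  (.node (.node (.node (.node (.node (.leaf 3) (.leaf 3)) (.leaf 4)) (.node (.leaf 4) (.leaf 3))) (.node (.node (.leaf 3) (.leaf 2)) (.node (.leaf 3) (.leaf 4)))) (.node (.node (.node (.leaf 3) (.leaf 4)) (.node (.leaf 3) (.leaf 4))) (.node (.node (.leaf 3) (.leaf 2)) (.node (.leaf 3) (.leaf 4)))))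

def srank2100 : Janko.Tree (ℕ) :=
  (.node (.node (.node (.node (.node (.leaf 3) (.leaf 4)) (.leaf 4)) (.node (.leaf 4) (.leaf 3))) (.node (.node (.leaf 3) (.leaf 3)) (.node (.leaf 3) (.leaf 3)))) (.node (.node (.node (.leaf 3) (.leaf 4)) (.node (.leaf 4) (.leaf 4))) (.node (.node (.leaf 4) (.leaf 3)) (.node (.leaf 3) (.leaf 4)))))

def srank2101 : Janko.Tree (ℕ) :=
  (.node (.node (.node (.node (.node (.leaf 3) (.leaf 3)) (.leaf 4)) (.node (.leaf 3) (.leaf 3))) (.node (.node (.leaf 3) (.leaf 4)) (.node (.leaf 3) (.leaf 3)))) (.node (.node (.node (.leaf 4) (.leaf 3)) (.node (.leaf 3) (.leaf 3))) (.node (.node (.leaf 3) (.leaf 4)) (.node (.leaf 3) (.leaf 3)))))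

def srank2102 : Janko.Tree (ℕ) :=
  (.node (.node (.node (.node (.node (.leaf 3) (.leaf 3)) (.leaf 4)) (.node (.leaf 3) (.leaf 3))) (.node (.node (.leaf 2) (.leaf 3)) (.node (.leaf 3) (.leaf 3)))) (.node (.node (.node (.leaf 2) (.leaf 4)) (.node (.leaf 3) (.leaf 4))) (.node (.node (.leaf 4) (.leaf 4)) (.node (.leaf 3) (.leaf 4)))))

def srank2103 : Janko.Tree (ℕ) :=
  (.node (.node (.node (.node (.node (.leaf 3) (.leaf 3)) (.leaf 3)) (.node (.leaf 2) (.leaf 4))) (.node (.node (.leaf 3) (.leaf 3)) (.node (.leaf 3) (.leaf 3)))) (.node (.node (.node (.leaf 3) (.leaf 3)) (.node (.leaf 4) (.leaf 3))) (.node (.node (.leaf 4) (.leaf 3)) (.node (.leaf 3) (.leaf 3)))))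

def srank2104 : Janko.Tree (ℕ) :=
  (.node (.node (.node (.node (.node (.leaf 4) (.leaf 4)) (.leaf 3)) (.node (.leaf 3) (.leaf 3))) (.node (.node (.leaf 3) (.leaf 3)) (.node (.leaf 4) (.leaf 4)))) (.node (.node (.node (.leaf 3) (.leaf 2)) (.node (.leaf 4) (.leaf 4))) (.node (.node (.leaf 3) (.leaf 3)) (.node (.leaf 4) (.leaf 3)))))

def srank2105 : Janko.Tree (ℕ) :=
  (.node (.node (.node (.node (.node (.leaf 3) (.leaf 4)) (.leaf 4)) (.node (.leaf 4) (.leaf 2))) (.node (.node (.leaf 3) (.leaf 4)) (.node (.leaf 3) (.leaf 3)))) (.node (.node (.node (.leaf 3) (.leaf 3)) (.node (.leaf 2) (.leaf 3))) (.node (.node (.leaf 3) (.leaf 3)) (.node (.leaf 4) (.leaf 4)))))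

def srank2106 : Janko.Tree (ℕ) :=
  (.node (.node (.node (.node (.node (.leaf 3) (.leaf 4)) (.leaf 3)) (.node (.leaf 3) (.leaf 3))) (.node (.node (.leaf 3) (.leaf 4)) (.node (.leaf 3) (.leaf 4)))) (.node (.node (.node (.leaf 4) (.leaf 4)) (.node (.leaf 4) (.leaf 3))) (.node (.node (.leaf 3) (.leaf 3)) (.node (.leaf 3) (.leaf 3)))))

def srank2107 : Janko.Tree (ℕ) :=
  (.node (.node (.node (.node (.node (.leaf 3) (.leaf 3)) (.leaf 3)) (.node (.leaf 4) (.leaf 3))) (.node (.node (.leaf 4) (.leaf 4)) (.node (.leaf 3) (.leaf 2)))) (.node (.node (.node (.leaf 3) (.leaf 3)) (.node (.leaf 3) (.leaf 2))) (.node (.node (.leaf 3) (.leaf 3)) (.node (.leaf 2) (.leaf 4)))))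

def srank2108 : Janko.Tree (ℕ) :=
  (.node (.node (.node (.node (.node (.leaf 3) (.leaf 3)) (.leaf 3)) (.node (.leaf 3) (.leaf 2))) (.node (.node (.leaf 4) (.leaf 3)) (.node (.leaf 3) (.leaf 4)))) (.node (.node (.node (.leaf 4) (.leaf 3)) (.node (.leaf 3) (.leaf 3))) (.node (.node (.leaf 4) (.leaf 3)) (.node (.leaf 3) (.leaf 4)))))

def srank2109 : Janko.Tree (ℕ) :=
  (.node (.node (.node (.node (.node (.leaf 3) (.leaf 4)) (.leaf 3)) (.node (.leaf 4) (.leaf 3))) (.node (.node (.leaf 4) (.leaf 1)) (.node (.leaf 3) (.leaf 4)))) (.node (.node (.node (.leaf 3) (.leaf 3)) (.node (.leaf 3) (.leaf 2))) (.node (.node (.leaf 3) (.leaf 2)) (.node (.leaf 3) (.leaf 1)))))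

def srank2110 : Janko.Tree (ℕ) :=
  (.node (.node (.node (.node (.node (.leaf 3) (.leaf 1)) (.leaf 3)) (.node (.leaf 3) (.leaf 4))) (.node (.node (.leaf 4) (.leaf 4)) (.node (.leaf 3) (.leaf 3)))) (.node (.node (.node (.leaf 4) (.leaf 3)) (.node (.leaf 2) (.leaf 4))) (.node (.node (.leaf 3) (.leaf 3)) (.node (.leaf 3) (.leaf 4)))))

def srank2111 : Janko.Tree (ℕ) :=
  (.node (.node (.node (.node (.node (.leaf 3) (.leaf 4)) (.leaf 3)) (.node (.leaf 3) (.leaf 3))) (.node (.node (.leaf 4) (.leaf 3)) (.node (.leaf 3) (.leaf 3)))) (.node (.node (.node (.leaf 3) (.leaf 4)) (.node (.leaf 4) (.leaf 4))) (.node (.node (.leaf 3) (.leaf 3)) (.node (.leaf 3) (.leaf 3)))))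

def srank2112 : Janko.Tree (ℕ) :=
  (.node (.node (.node (.node (.node (.leaf 3) (.leaf 3)) (.leaf 3)) (.node (.leaf 4) (.leaf 3))) (.node (.node (.leaf 4) (.leaf 3)) (.node (.leaf 2) (.leaf 3)))) (.node (.node (.node (.leaf 4) (.leaf 3)) (.node (.leaf 3) (.leaf 3))) (.node (.node (.leaf 4) (.leaf 1)) (.node (.leaf 4) (.leaf 3)))))

def srank2113 : Janko.Tree (ℕ) :=
  (.node (.node (.node (.node (.node (.leaf 3) (.leaf 2)) (.leaf 4)) (.node (.leaf 4) (.leaf 3))) (.node (.node (.leaf 4) (.leaf 3)) (.node (.leaf 3) (.leaf 3)))) (.node (.node (.node (.leaf 4) (.leaf 3)) (.node (.leaf 4) (.leaf 4))) (.node (.node (.leaf 4) (.leaf 3)) (.node (.leaf 3) (.leaf 4)))))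

def srank2114 : Janko.Tree (ℕ) :=
  (.node (.node (.node (.node (.node (.leaf 3) (.leaf 4)) (.leaf 3)) (.node (.leaf 3) (.leaf 3))) (.node (.node (.leaf 3) (.leaf 3)) (.node (.leaf 4) (.leaf 3)))) (.node (.node (.node (.leaf 3) (.leaf 3)) (.node (.leaf 4) (.leaf 4))) (.node (.node (.leaf 3) (.leaf 3)) (.node (.leaf 3) (.leaf 3)))))

def srank2115 : Janko.Tree (ℕ) :=
  (.node (.node (.node (.node (.node (.leaf 3) (.leaf 3)) (.leaf 4)) (.node (.leaf 3) (.leaf 3))) (.node (.node (.leaf 3) (.leaf 3)) (.node (.leaf 4) (.leaf 3)))) (.node (.node (.node (.leaf 4) (.leaf 3)) (.node (.leaf 4) (.leaf 4))) (.node (.node (.leaf 3) (.leaf 3)) (.node (.leaf 3) (.leaf 3)))))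

def srank2116 : Janko.Tree (ℕ) :=
  (.node (.node (.node (.node (.node (.leaf 3) (.leaf 3)) (.leaf 3)) (.node (.leaf 3) (.leaf 3))) (.node (.node (.leaf 4) (.leaf 4)) (.node (.leaf 3) (.leaf 3)))) (.node (.node (.node (.leaf 3) (.leaf 4)) (.node (.leaf 4) (.leaf 3))) (.node (.node (.leaf 3) (.leaf 3)) (.node (.leaf 3) (.leaf 3)))))

def srank2117 : Janko.Tree (ℕ) :=
  (.node (.node (.node (.node (.node (.leaf 3) (.leaf 4)) (.leaf 3)) (.node (.leaf 4) (.leaf 3))) (.node (.node (.leaf 3) (.leaf 3)) (.node (.leaf 3) (.leaf 3)))) (.node (.node (.node (.leaf 4) (.leaf 4)) (.node (.leaf 3) (.leaf 4))) (.node (.node (.leaf 3) (.leaf 3)) (.node (.leaf 4) (.leaf 3)))))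

def srank2118 : Janko.Tree (ℕ) :=
  (.node (.node (.node (.node (.node (.leaf 3) (.leaf 3)) (.leaf 3)) (.node (.leaf 3) (.leaf 4))) (.node (.node (.leaf 3) (.leaf 3)) (.node (.leaf 3) (.leaf 2)))) (.node (.node (.node (.leaf 3) (.leaf 3)) (.node (.leaf 3) (.leaf 4))) (.node (.node (.leaf 4) (.leaf 4)) (.node (.leaf 3) (.leaf 4)))))

def srank2119 : Janko.Tree (ℕ) :=
  (.node (.node (.node (.node (.node (.leaf 3) (.leaf 4)) (.leaf 4)) (.node (.leaf 3) (.leaf 3))) (.node (.node (.leaf 3) (.leaf 3)) (.node (.leaf 3) (.leaf 4)))) (.node (.node (.node (.leaf 3) (.leaf 3)) (.node (.leaf 3) (.leaf 3))) (.node (.node (.leaf 4) (.leaf 3)) (.node (.leaf 3) (.leaf 3)))))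

def srank2120 : Janko.Tree (ℕ) :=
  (.node (.node (.node (.node (.node (.leaf 3) (.leaf 3)) (.leaf 3)) (.node (.leaf 4) (.leaf 4))) (.node (.node (.leaf 3) (.leaf 4)) (.node (.leaf 4) (.leaf 3)))) (.node (.node (.node (.leaf 3) (.leaf 3)) (.node (.leaf 4) (.leaf 3))) (.node (.node (.leaf 4) (.leaf 3)) (.node (.leaf 4) (.leaf 3)))))

def srank2121 : Janko.Tree (ℕ) :=
  (.node (.node (.node (.node (.node (.leaf 3) (.leaf 3)) (.leaf 3)) (.node (.leaf 3) (.leaf 3))) (.node (.node (.leaf 3) (.leaf 4)) (.node (.leaf 3) (.leaf 2)))) (.node (.node (.node (.leaf 4) (.leaf 4)) (.node (.leaf 4) (.leaf 4))) (.node (.node (.leaf 4) (.leaf 3)) (.node (.leaf 3) (.leaf 3)))))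

def srank2122 : Janko.Tree (ℕ) :=
  (.node (.node (.node (.node (.node (.leaf 4) (.leaf 4)) (.leaf 3)) (.node (.leaf 3) (.leaf 3))) (.node (.node (.leaf 4) (.leaf 4)) (.node (.leaf 4) (.leaf 3)))) (.node (.node (.node (.leaf 4) (.leaf 3)) (.node (.leaf 4) (.leaf 1))) (.node (.node (.leaf 4) (.leaf 4)) (.node (.leaf 3) (.leaf 3)))))

def srank2123 : Janko.Tree (ℕ) :=
  (.node (.node (.node (.node (.node (.leaf 4) (.leaf 2)) (.leaf 3)) (.node (.leaf 3) (.leaf 4))) (.node (.node (.leaf 3) (.leaf 3)) (.node (.leaf 3) (.leaf 3)))) (.node (.node (.node (.leaf 4) (.leaf 3)) (.node (.leaf 3) (.leaf 3))) (.node (.node (.leaf 3) (.leaf 3)) (.node (.leaf 2) (.leaf 4)))))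

def srank2124 : Janko.Tree (ℕ) :=
  (.node (.node (.node (.node (.node (.leaf 3) (.leaf 4)) (.leaf 3)) (.node (.leaf 3) (.leaf 4))) (.node (.node (.leaf 4) (.leaf 4)) (.node (.leaf 4) (.leaf 3)))) (.node (.node (.node (.leaf 3) (.leaf 4)) (.node (.leaf 3) (.leaf 2))) (.node (.node (.leaf 4) (.leaf 3)) (.node (.leaf 3) (.leaf 3)))))

def srank2125 : Janko.Tree (ℕ) :=
  (.node (.node (.node (.node (.node (.leaf 4) (.leaf 3)) (.leaf 3)) (.node (.leaf 4) (.leaf 2))) (.node (.node (.leaf 4) (.leaf 3)) (.node (.leaf 3) (.leaf 4)))) (.node (.node (.node (.leaf 2) (.leaf 3)) (.node (.leaf 4) (.leaf 4))) (.node (.node (.leaf 4) (.leaf 3)) (.node (.leaf 2) (.leaf 4)))))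

def srank2126 : Janko.Tree (ℕ) :=
  (.node (.node (.node (.node (.node (.leaf 2) (.leaf 3)) (.leaf 4)) (.node (.leaf 4) (.leaf 3))) (.node (.node (.leaf 4) (.leaf 4)) (.node (.leaf 4) (.leaf 3)))) (.node (.node (.node (.leaf 4) (.leaf 3)) (.node (.leaf 3) (.leaf 4))) (.node (.node (.leaf 3) (.leaf 3)) (.node (.leaf 3) (.leaf 4)))))

def srank2127 : Janko.Tree (ℕ) :=
  (.node (.node (.node (.node (.node (.leaf 3) (.leaf 3)) (.leaf 3)) (.node (.leaf 3) (.leaf 2))) (.node (.node (.leaf 4) (.leaf 3)) (.node (.leaf 3) (.leaf 3)))) (.node (.node (.node (.leaf 4) (.leaf 3)) (.node (.leaf 4) (.leaf 4))) (.node (.node (.leaf 3) (.leaf 3)) (.node (.leaf 3) (.leaf 4)))))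

def srank2 : Janko.Tree (ℕ) :=
  (.node (.node (.node (.node (.node (.node (.node srank20 srank264) (.node srank232 srank296)) (.node (.node srank216 srank280) (.node srank248 srank2112))) (.node (.node (.node srank28 srank272) (.node srank240 srank2104)) (.node (.node srank224 srank288) (.node srank256 srank2120)))) (.node (.node (.node (.node srank24 srank268) (.node srank236 srank2100)) (.node (.node srank220 srank284) (.node srank252 srank2116))) (.node (.node (.node srank212 srank276) (.node srank244 srank2108)) (.node (.node srank228 srank292) (.node srank260 srank2124))))) (.node (.node (.node (.node (.node srank22 srank266) (.node srank234 srank298)) (.node (.node srank218 srank282) (.node srank250 srank2114))) (.node (.node (.node srank210 srank274) (.node srank242 srank2106)) (.node (.node srank226 srank290) (.node srank258 srank2122)))) (.node (.node (.node (.node srank26 srank270) (.node srank238 srank2102)) (.node (.node srank222 srank286) (.node srank254 srank2118))) (.node (.node (.node srank214 srank278) (.node srank246 srank2110)) (.node (.node srank230 srank294)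 (.node srank262 srank2126)))))) (.node (.node (.node (.node (.node (.node srank21 srank265) (.node srank233 srank297)) (.node (.node srank217 srank281) (.node srank249 srank2113))) (.node (.node (.node srank29 srank273) (.node srank241 srank2105)) (.node (.node srank225 srank289) (.node srank257 srank2121)))) (.node (.node (.node (.node srank25 srank269) (.node srank237 srank2101)) (.node (.node srank221 srank285) (.node srank253 srank2117))) (.node (.node (.node srank213 srank277) (.node srank245 srank2109)) (.node (.node srank229 srank293) (.node srank261 srank2125))))) (.node (.node (.node (.node (.node srank23 srank267) (.node srank235 srank299)) (.node (.node srank219 srank283) (.node srank251 srank2115))) (.node (.node (.node srank211 srank275) (.node srank243 srank2107)) (.node (.node srank227 srank291) (.node srank259 srank2123)))) (.node (.node (.node (.node srank27 srank271) (.node srank239 srank2103)) (.node (.node srank223 srank287) (.node srank255 srank2119))) (.node (.node (.node srank215 srank279) (.node srank247 srank2111)) (.node (.node srank231 srank295) (.node srank263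 srank2127)))))))

/-- The signs. -/
def signs2 : CentralTable.Signs where
  bit := bit2
  rel := fun a b => (nbr2.get a).any (Nat.beq b)
  par := spar2
  rank := srank2
  word := [false, false, false, false, false, true, true, true, false, false, false, true, true, true, false, false, false, true, true, false, true, false, false, true, true, true, true]

/-- A generator as a word in `t(1,0)`, `d(α)`, `w`. -/
def genX : List ℕ := [0, 1, 1, 1, 2, 0, 2, 0, 2, 1, 1, 0]

/-- A generator as a word in `t(1,0)`, `d(α)`, `w`. -/
def genY : List ℕ := [1, 2, 0, 1, 1, 0, 1, 2, 0, 1]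

/-- A generator as a word in `t(1,0)`, `d(α)`, `w`. -/
def genA : List ℕ := [0, 2, 1]

def transWord0 : Janko.Tree (List Bool) :=
  (.node (.node (.node (.node (.leaf []) (.leaf [false, false, false, true, true, true, true, true, false, false, false])) (.node (.leaf [true, false, false, false, true, true, true, false, false, false, true, false, false, false, false, true, true]) (.leaf [true, true, false, false, false, true, false, false, false, true, true, true, false, false, false, false, true, false, true]))) (.node (.node (.leaf [true, false, true, true, true, true, false, false, false, false, true, false, true]) (.leaf [false, false, true, true, true, true, true, false, false, false, true, true, true, true, false, false, false, false, true, false])) (.node (.leaf [false, true, true, true, false, false, false, true, true, true, true, false, true, false, false, true, true, false, true, false]) (.leaf [false, false, false, true, true, false, true, true, false, false, false, false, false, true, false, true, true, true])))) (.node (.node (.node (.leaf [false, false, true, false, false,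 false, false, false, false, true]) (.leaf [true, true, false, false, false, false, true, true, false, true])) (.node (.leaf [true, false, false, false, true, true, true, false, false, true, false, false, false, true, true, false]) (.leaf [true, true, true, false, true, true, true, false, false, false, false, true, true, true, true, true, true]))) (.node (.node (.leaf [true, false, true, true, true, true, false, false, true, false, false, true, true, true]) (.leaf [true, true, false, true, false, false, false, true, true, true, false, false, false, false, true, true, true, false, true])) (.node (.leaf [true, true, true, true, false, false, true, false, false, true, true, true, false, false, false, false, false, true, false]) (.leaf [false, false, true, true, true, true, true, false, true, true, true, true, false, false, false, true, true])))))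

def transWord1 : Janko.Tree (List Bool) :=
  (.node (.node (.node (.node (.leaf [false, false, false, false, true, true, true, false, true, true, true, false, false, false, false, true, false, false]) (.leaf [false, false, false, true, false, true, true, true, false, false, false, false, true, false, false])) (.node (.leaf [false, true, false, false, false, true, true, true, true, false, true, false, false, true, true, true, false]) (.leaf [true, false, false, false, false, true, true, true, false, true, true, true, false, true, true, true, false]))) (.node (.node (.leaf [false, true, true, true, true, false, false, false, false, true, false]) (.leaf [true, false, false, true, true, true, false, false, false, false, true])) (.node (.leaf [false, false, false, false, false, false, true, true, true, true, false, false, false, true, true]) (.leaf [true, false, true, true, false, false, false, false, true, false, false, false, false, true, false, false, false, false])))) (.node (.node (.node (.leaf [false, true, false, false, false, true, true, true, true, true, false, true, false, false,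 false, false, true, false]) (.leaf [false, true, false, true, true, false, false, false, true, true, true, true, true, false, false, true, false, false])) (.node (.leaf [false, true, false, false, false, true, false, true, true, false, false, false, true, true, true, true, false, false, false]) (.leaf [false, true, true, true, true, false, false, false, false, true, true, true, true, true, false, true, true, true, false, false]))) (.node (.node (.leaf [false, true, false, true, true, true, false, true, true, true, true, true, false, false, false, false, true, false]) (.leaf [false, false, true, false, false, false, false, true, false, false, false, false, true])) (.node (.leaf [true, false, true, false, false, false, false, false, true, true, false, true, true]) (.leaf [true, true, false, false, true, false, false, true, true, false, true, true, true, false])))))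

def transWord2 : Janko.Tree (List Bool) :=
  (.node (.node (.node (.node (.leaf [true, false, false, false, false, true, false, false, false, true, false, false, false]) (.leaf [true, false, false, false, false, true, false, false, false, true, false, true, true, false, false, false, false, false])) (.node (.leaf [false, false, false, false, true, true, true, true, false, true, false, false, false, true, false, true, true, false, false, false, true]) (.leaf [true, true, true, true, false, false, false, false, true, true, true, false, true, true, false, false, true, false, false, true]))) (.node (.node (.leaf [true, false, false, false, true, true, true, false, false, false, true, false, true, true, true, false]) (.leaf [false, false, true, false, true, true, true, false, true, true, true, false, false, false, false, false, true, true, true])) (.node (.leaf [false, true, true, false, false, false, true, true, true, true, false, false, false, true, false, false, false, true, true, false]) (.leaf [false, true, true, false, true, true, true, false, true, false, false, true, true, true,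 true, false, true, true, true])))) (.node (.node (.node (.leaf [false, true, false, true, true, true, true, false, true, true, true, true, false, false, false, true, false, false]) (.leaf [true, false, false, true, false, false, true, true, true, false, false, false, false, false, true, false, true, true])) (.node (.leaf [true, false, true, true, true, false, true, false, false, true, true, true, true, false, false, false, true]) (.leaf [true, true, true, false, true, true, true, false, true, false, false, false, true, false, false, false]))) (.node (.node (.leaf [true, true, true, false, false, false, false, true, true, true, true, false, true, true, true, false, true, false, false]) (.leaf [false, true, false, false, false, true, true, true, true, false, true, false, false, false, true, true, true, false, false])) (.node (.leaf [false, false, false, true, true, true, false, false, false, false, false, true, true, false, true, true, true, false, false]) (.leaf [false, false, true, true, false, true, true, false, false, false, true, true, true, true, false, true, true, true])))))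

def transWord3 : Janko.Tree (List Bool) :=
  (.node (.node (.node (.node (.leaf [false, false, false, false, true, true, false, true, true, false, false, false, false]) (.leaf [false, false, true, true, true, true, true, false, false])) (.node (.leaf [true, false, true, true, true, false, true, true, true, true, true, false, false, false, true, false]) (.leaf [false, false, true, false, false, false, false, true, false, true, true, true, true, false, false, false, true, true, true]))) (.node (.node (.leaf [true, false, false, false, false, true, true, true, true, false, true, true, true, true, false, true, false]) (.leaf [false, false, false, false, true, false, false, false, true, false, true, true, true, true, false, true, false, false])) (.node (.leaf [true, true, true, true, true, false, false, false, false, true, true, true, false]) (.leaf [false, false, false, true, true, true, false, false, false, false, true, false, true, true, true])))) (.node (.node (.node (.leaf [true, true, true, false, false, false, true, false, false, true, true, true, true, true]) (.leaf [true, true,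 true, true, true, true, false, true, true, true, true, false, false])) (.node (.leaf [true, true, true, true, false, false, false, true, false, false, false, true, false, true, true, true]) (.leaf [false, true, false, false, false, true, true, false, true, true, true, false, false, false, true, true, true]))) (.node (.node (.leaf [true, false, true, false, false, false, false, true, true, false, true, true, true, false, false, false, true, true, true, true]) (.leaf [true, false, false, false, false, true, true, true, false, true, true, true, false, false, false, false, true, true])) (.node (.leaf [false, true, false, true, true, false, false, true, false, true, true, true, true, false]) (.leaf [false, false, false, true, true, true, false, false, false, true, true, true, true, true, false, true, true])))))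

def transWord : Janko.Tree (List Bool) :=
  (.node (.node transWord0 transWord2) (.node transWord1 transWord3))

def diagWord : List Bool := [false, false, true, false, false, true, true, false, true, true, true]

def wordW : List Bool := [true, false, true, false, false, false, true, true, true, true, false, false, false]

/-- The first parity. -/
def parity0 : List ℤ := [1, 0, 0, 0, 0, 0, 1, 1, 1]

/-- The second parity. -/
def parity1 : List ℤ := [0, 0, 0, 1, 0, 0, 0, 0, 1]

end Cfsg.Agent.Lie.SuzukiEight
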