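import Mathlib

/-!
The field with eight elements as bit strings.
-/

set_option autoImplicit false

namespace Cfsg.Agent.Lie.SuzukiEight

/-- Multiplication by the generator. -/
def xt (a : ℕ) : ℕ := bif (2 * a).testBit 3 then (2 * a) ^^^ 11 else 2 * a

/-- Multiplication. -/
def gmul (a b : ℕ) : ℕ :=
  (bif b.testBit 0 then a else 0) ^^^ ((bif b.testBit 1 then xt a else 0) ^^^ (bif b.testBit 2 then xt (xt a) else 0))

/-- Powers. -/
def gpow (a : ℕ) : ℕ → ℕ
  | 0 => 1
  | n + 1 => gmul (gpow a n) a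

/-- Inverses. -/
def ginv (a : ℕ) : ℕ := gpow a 6

theorem table_ok : (∀ a : Fin 8, xt a < 8) ∧ (∀ a b : Fin 8, gmul a b < 8 ∧ (a.val ^^^ b.val) < 8) ∧
    (∀ a : Fin 8, (a : ℕ) ≠ 0 → gmul a (ginv a) = 1) ∧
    (∀ a : Fin 8, (a : ℕ) ≠ 0 → ∃ n : Fin 7, gpow 2 n = a) := by decide +kernel

variable {F : Type*} [Field F] [Fintype F] (hF : Fintype.card F = 2 ^ (2 * 1 + 1))

include hF in
theorem add_self' (x : F) : x + x = 0 := by
  haveI : Fact (Nat.Prime 2) := ⟨Nat.prime_two⟩
  haveI : CharP F 2 := charP_of_card_eq_prime_pow (f := 3) (by rw [hF])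
  exact CharTwo.add_self_eq_zero x

include hF in
theorem exists_root : ∃ α : F, α ^ 3 = α + 1 := by
  classical
  have h2 : (2 : F) = 0 := by rw [← one_add_one_eq_two]; exact add_self' hF 1
  obtain ⟨k, -, hk⟩ := Finset.exists_mem_notMem_of_card_lt_card (t := (Finset.univ : Finset F)) (s := {0, 1})
    (by rw [Finset.card_univ, hF]; exact lt_of_le_of_lt Finset.card_le_two (by norm_num))
  simp only [Finset.mem_insert, Finset.mem_singleton, not_or] at hk
  obtain ⟨hk0, hk1⟩ := hk
  have h7 : k ^ 7 = 1 := by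
    have := FiniteField.pow_card_sub_one_eq_one k hk0
    rwa [hF] at this
  have hprod : (k ^ 3 + k + 1) * (k ^ 3 + k ^ 2 + 1) = 0 := by
    refine (mul_eq_zero.1 (show (k - 1) * ((k ^ 3 + k + 1) * (k ^ 3 + k ^ 2 + 1)) = 0 from ?_)).resolve_left
      (sub_ne_zero.2 hk1)
    linear_combination h7 + (k ^ 4 - k ^ 3) * h2
  rcases mul_eq_zero.1 hprod with h | h
  · exact ⟨k, by linear_combination h - (k + 1) * h2⟩
  · refine ⟨k⁻¹, mul_left_cancel₀ (pow_ne_zero 3 hk0) ?_⟩
    have e : k * k⁻¹ = 1 := mul_inv_cancel₀ hk0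
    rw [mul_add, ← mul_pow, e, one_pow, mul_one, show k ^ 3 * k⁻¹ = k ^ 2 by field_simp]
    linear_combination -h + (1 : F) * h2

/-- A root of `X³ + X + 1`. -/
noncomputable def root : F := (exists_root hF).choose

theorem root_cube : root hF ^ 3 = root hF + 1 := (exists_root hF).choose_spec

/-- The element with given bits. -/
noncomputable def el (n : ℕ) : F :=
  (bif n.testBit 0 then 1 else 0) + ((bif n.testBit 1 then root hF else 0) + (bif n.testBit 2 then root hF ^ 2 else 0))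

theorem el_add (a b : ℕ) : el hF a + el hF b = el hF (a ^^^ b) := by
  have h := add_self' hF
  unfold el
  simp only [Nat.testBit_xor]
  rw [add_add_add_comm, add_add_add_comm (bif a.testBit 1 then root hF else 0)]
  congr 1
  · cases a.testBit 0 <;> cases b.testBit 0 <;> simp [h]
  congr 1
  · cases a.testBit 1 <;> cases b.testBit 1 <;> simp [h]
  · cases a.testBit 2 <;> cases b.testBit 2 <;> simp [h]

theorem el_zero : el hF 0 = 0 := by simp [el]

theorem el_one : el hF 1 = 1 := by simp [el, Nat.testBit, Nat.shiftRight_eq_div_pow]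

theorem el_two : el hF 2 = root hF := by simp [el, Nat.testBit, Nat.shiftRight_eq_div_pow]

theorem el_xt (a : Fin 8) : el hF (xt a) = root hF * el hF a := by
  have h := root_cube hF
  have h2 : (2 : F) = 0 := by rw [← one_add_one_eq_two]; exact add_self' hF 1
  fin_cases a <;> simp [el, xt, Nat.testBit, Nat.shiftRight_eq_div_pow] <;>
    first
      | ring1
      | linear_combination -h
      | linear_combination h
      | linear_combination -h - root hF * h2

theorem el_mul (a b : Fin 8) : el hF a * el hF b = el hF (gmul a b) := by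
  have hx : ∀ c : ℕ, ∀ t : Bool, el hF (bif t then c else 0) = bif t then el hF c else 0 := by
    intro c t; cases t
    · exact el_zero hF
    · rfl
  have h1 := el_xt hF a
  have h2 := el_xt hF ⟨xt a, table_ok.1 a⟩
  rw [gmul, ← el_add, ← el_add, hx, hx, hx, h2, h1]
  conv_lhs => arg 2; rw [el]
  cases (b : ℕ).testBit 0 <;> cases (b : ℕ).testBit 1 <;> cases (b : ℕ).testBit 2 <;> simp <;> ring

theorem gpow_lt (a : Fin 8) : ∀ n, gpow a n < 8
  | 0 => by simp [gpow]
  | n + 1 => (table_ok.2.1 ⟨gpow a n, gpow_lt a n⟩ a).1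

theorem el_pow (a : Fin 8) : ∀ n, el hF a ^ n = el hF (gpow a n)
  | 0 => by rw [pow_zero, gpow, el_one]
  | n + 1 => by rw [pow_succ, el_pow a n, el_mul hF ⟨gpow a n, gpow_lt a n⟩ a]; rfl

theorem el_ne_zero (a : Fin 8) (ha : (a : ℕ) ≠ 0) : el hF a ≠ 0 := fun h => by
  have h1 := el_mul hF a ⟨ginv a, gpow_lt a 6⟩
  rw [h, zero_mul, show gmul a (ginv a) = 1 from table_ok.2.2.1 a ha, el_one] at h1
  exact zero_ne_one h1

theorem el_inv (a : Fin 8) (ha : (a : ℕ) ≠ 0) : (el hF a)⁻¹ = el hF (ginv a) := by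
  refine inv_eq_of_mul_eq_one_right ?_
  rw [show ginv a = ((⟨ginv a, gpow_lt a 6⟩ : Fin 8) : ℕ) from rfl, el_mul]
  show el hF (gmul a (ginv a)) = 1
  rw [table_ok.2.2.1 a ha, el_one]

theorem el_bijective : Function.Bijective fun a : Fin 8 => el hF a := by
  refine (Fintype.bijective_iff_injective_and_card _).2 ⟨fun a b h => ?_, by rw [Fintype.card_fin, hF]; rfl⟩
  have h0 : el hF ((a : ℕ) ^^^ b) = 0 := by rw [← el_add, show el hF a = el hF b from h, add_self' hF]
  have := mt (el_ne_zero hF ⟨_, (table_ok.2.1 a b).2⟩) (not_not.2 h0)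
  rw [ne_eq, not_not] at this
  exact Fin.ext (Nat.xor_eq_zero_iff.1 this)

theorem exists_unit_pow (k : Fˣ) : ∃ n : ℕ, (k : F) = root hF ^ n := by
  obtain ⟨a, ha⟩ := (el_bijective hF).2 (k : F)
  have ha0 : (a : ℕ) ≠ 0 := fun h => k.ne_zero (by rw [← ha]; show el hF a = 0; rw [h, el_zero])
  obtain ⟨n, hn⟩ := table_ok.2.2.2 a ha0
  refine ⟨n, ?_⟩
  rw [← ha, ← el_two hF]
  show el hF a = el hF ((2 : Fin 8) : ℕ) ^ (n : ℕ)
  rw [el_pow]
  exact congrArg (el hF) hn.symm

end Cfsg.Agent.Lie.SuzukiEight
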