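import Mathlib
import Cfsg.Agent.Lib.Lie.SuzukiGroup
import Cfsg.Agent.Lib.Lie.SuzukiEight.Field

/-!
The Suzuki group over eight elements on the 65 points of the ovoid, by bit strings.
-/

set_option autoImplicit false
set_option maxRecDepth 20000

noncomputable section

namespace Cfsg.Agent.Lie.SuzukiEight

open Cfsg.Agent.Lie.Suzuki

/-- The function of the ovoid. -/
def fN (x y : ℕ) : ℕ := gmul x y ^^^ (gpow x 6 ^^^ gpow y 4)

/-- `t(a, b)` on the indices. -/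
def tN (a b k : ℕ) : ℕ :=
  bif Nat.beq k 64 then 64 else 8 * ((k / 8) ^^^ a) + ((k % 8) ^^^ (gmul (gpow a 4) (k / 8) ^^^ b))

/-- `d(c)` on the indices. -/
def dN (c k : ℕ) : ℕ := bif Nat.beq k 64 then 64 else 8 * gmul c (k / 8) + gmul (gpow c 5) (k % 8)

/-- `w` on the indices. -/
def wN (k : ℕ) : ℕ :=
  bif Nat.beq k 64 then 0 else bif Nat.beq (fN (k / 8) (k % 8)) 0 then 64 else
    8 * gmul (k % 8) (ginv (fN (k / 8) (k % 8))) + gmul (k / 8) (ginv (fN (k / 8) (k % 8)))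

theorem images_ok : (∀ a b : Fin 8, ∀ k : Fin 65, tN a b k < 65) ∧ (∀ k : Fin 65, dN 2 k < 65 ∧ wN k < 65) ∧
    (∀ x y : Fin 8, fN x y = 0 → (x : ℕ) = 0 ∧ (y : ℕ) = 0) := by decide +kernel

variable {F : Type*} [Field F] [Fintype F] (hF : Fintype.card F = 2 ^ (2 * 1 + 1))

/-- The points of the ovoid. -/
def ovPt (k : Fin 65) : Cfsg.suzukiOvoid F 1 :=
  if (k : ℕ) = 64 then ⟨_, inf_mem⟩ else ⟨_, pt_mem (el hF ((k : ℕ) / 8)) (el hF ((k : ℕ) % 8))⟩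

theorem ovPt_inf {k : Fin 65} (h : (k : ℕ) = 64) :
    (ovPt hF k : Projectivization F (Fin 4 → F)) = Cfsg.suzukiPointInfinity F := by
  rw [ovPt, if_pos h]

theorem ovPt_affine {k : Fin 65} (h : (k : ℕ) ≠ 64) :
    (ovPt hF k : Projectivization F (Fin 4 → F)) = pt 1 (el hF ((k : ℕ) / 8)) (el hF ((k : ℕ) % 8)) := by
  rw [ovPt, if_neg h]

theorem ovPt_injective : Function.Injective (ovPt hF) := by
  intro j k h
  have h' := congrArg Subtype.val h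
  by_cases hj : (j : ℕ) = 64 <;> by_cases hk : (k : ℕ) = 64
  · exact Fin.ext (hj.trans hk.symm)
  · rw [ovPt_inf hF hj, ovPt_affine hF hk] at h'
    exact absurd h'.symm (pt_ne_inf _ _)
  · rw [ovPt_inf hF hk, ovPt_affine hF hj] at h'
    exact absurd h' (pt_ne_inf _ _)
  · rw [ovPt_affine hF hj, ovPt_affine hF hk] at h'
    obtain ⟨e1, e2⟩ := pt_inj h'
    have a1 := j.2
    have a2 := k.2
    have d1 := congrArg Fin.val ((el_bijective hF).1 (a₁ := ⟨(j : ℕ) / 8, by omega⟩) (a₂ := ⟨(k : ℕ) / 8, by omega⟩) e1)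
    have d2 := congrArg Fin.val ((el_bijective hF).1 (a₁ := ⟨(j : ℕ) % 8, by omega⟩) (a₂ := ⟨(k : ℕ) % 8, by omega⟩) e2)
    simp only at d1 d2
    exact Fin.ext (by omega)

theorem ovPt_bijective : Function.Bijective (ovPt hF) :=
  (ovPt_injective hF).bijective_of_nat_card_le (by rw [card_ovoid, hF, Nat.card_fin]; norm_num)

/-- The ovoid numbered. -/
def ovEquiv : Fin 65 ≃ Cfsg.suzukiOvoid F 1 := Equiv.ofBijective _ (ovPt_bijective hF)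

/-- The permutation representation. -/
def permHom : Cfsg.Sz F 1 →* Equiv.Perm (Fin 65) :=
  (Equiv.permCongrHom (ovEquiv hF).symm).toMonoidHom.comp (MulAction.toPermHom (Cfsg.Sz F 1) (Cfsg.suzukiOvoid F 1))

theorem permHom_injective : Function.Injective (permHom hF) := by
  haveI := faithful hF le_rfl
  exact (Equiv.permCongrHom (ovEquiv hF).symm).injective.comp MulAction.toPerm_injective

theorem permHom_eq {g : Cfsg.Sz F 1} {k l : Fin 65} (h : (g : Matrix.SpecialLinearGroup (Fin 4) F) •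
    (ovPt hF k : Projectivization F (Fin 4 → F)) = ovPt hF l) : permHom hF g k = l := by
  show (ovEquiv hF).symm (g • ovEquiv hF k) = l
  rw [Equiv.symm_apply_eq]
  exact Subtype.ext h

theorem perm_t (a b : Fin 8) (k : Fin 65) :
    (permHom hF (tS hF (el hF a) (el hF b)) k : ℕ) = tN a b k := by
  refine congrArg Fin.val (permHom_eq hF (l := ⟨tN a b k, images_ok.1 a b k⟩) ?_)
  show tM 1 (el hF a) (el hF b) • _ = _
  by_cases hk : (k : ℕ) = 64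
  · rw [ovPt_inf hF hk, ovPt_inf hF (show tN a b k = 64 by rw [tN, hk]; rfl), tM_inf]
  · obtain ⟨hx, hy⟩ : (k : ℕ) / 8 < 8 ∧ (k : ℕ) % 8 < 8 := by have := k.2; omega
    have e : tN a b k = 8 * (((k : ℕ) / 8) ^^^ a) + (((k : ℕ) % 8) ^^^ (gmul (gpow a 4) ((k : ℕ) / 8) ^^^ b)) := by
      rw [tN, show Nat.beq (k : ℕ) 64 = false by rw [← Bool.not_eq_true, Nat.beq_eq]; exact hk]
      rfl
    have h1 : ((k : ℕ) / 8) ^^^ a < 8 := (table_ok.2.1 ⟨_, hx⟩ a).2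
    have hm : gmul (gpow a 4) ((k : ℕ) / 8) < 8 := (table_ok.2.1 ⟨_, gpow_lt a 4⟩ ⟨_, hx⟩).1
    have h2 : ((k : ℕ) % 8) ^^^ (gmul (gpow a 4) ((k : ℕ) / 8) ^^^ b) < 8 :=
      (table_ok.2.1 ⟨_, hy⟩ ⟨_, (table_ok.2.1 ⟨_, hm⟩ b).2⟩).2
    have hne : tN a b k ≠ 64 := by omega
    rw [ovPt_affine hF hk, ovPt_affine hF hne, tM_pt hF]
    simp only [e]
    rw [show (8 * (((k : ℕ) / 8) ^^^ a) + (((k : ℕ) % 8) ^^^ (gmul (gpow a 4) ((k : ℕ) / 8) ^^^ b))) / 8 =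
      ((k : ℕ) / 8) ^^^ a by omega, show (8 * (((k : ℕ) / 8) ^^^ a) +
      (((k : ℕ) % 8) ^^^ (gmul (gpow a 4) ((k : ℕ) / 8) ^^^ b))) % 8 =
      ((k : ℕ) % 8) ^^^ (gmul (gpow a 4) ((k : ℕ) / 8) ^^^ b) by omega]
    rw [← el_add, ← el_add, ← el_add]
    have hmul := el_mul hF ⟨gpow a 4, gpow_lt a 4⟩ ⟨(k : ℕ) / 8, hx⟩
    simp only at hmul
    rw [← hmul, ← el_pow, show (2 : ℕ) ^ (1 + 1) = 4 by norm_num, ← add_assoc]

theorem perm_d (c : Fˣ) (hc : (c : F) = el hF 2) (k : Fin 65) : (permHom hF (dS hF c) k : ℕ) = dN 2 k := by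
  refine congrArg Fin.val (permHom_eq hF (l := ⟨dN 2 k, (images_ok.2.1 k).1⟩) ?_)
  show dM 1 c • _ = _
  by_cases hk : (k : ℕ) = 64
  · rw [ovPt_inf hF hk, ovPt_inf hF (show dN 2 k = 64 by rw [dN, hk]; rfl), dM_inf]
  · obtain ⟨hx, hy⟩ : (k : ℕ) / 8 < 8 ∧ (k : ℕ) % 8 < 8 := by have := k.2; omega
    have e : dN 2 k = 8 * gmul 2 ((k : ℕ) / 8) + gmul (gpow 2 5) ((k : ℕ) % 8) := by
      rw [dN, show Nat.beq (k : ℕ) 64 = false by rw [← Bool.not_eq_true, Nat.beq_eq]; exact hk]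
      rfl
    have h5 : gpow 2 5 < 8 := gpow_lt 2 5
    have h1 : gmul 2 ((k : ℕ) / 8) < 8 := (table_ok.2.1 2 ⟨_, hx⟩).1
    have h2 : gmul (gpow 2 5) ((k : ℕ) % 8) < 8 := (table_ok.2.1 ⟨_, h5⟩ ⟨_, hy⟩).1
    have hne : dN 2 k ≠ 64 := by omega
    rw [ovPt_affine hF hk, ovPt_affine hF hne, dM_pt hF]
    simp only [e]
    rw [show (8 * gmul 2 ((k : ℕ) / 8) + gmul (gpow 2 5) ((k : ℕ) % 8)) / 8 = gmul 2 ((k : ℕ) / 8) by omega,
      show (8 * gmul 2 ((k : ℕ) / 8) + gmul (gpow 2 5) ((k : ℕ) % 8)) % 8 = gmul (gpow 2 5) ((k : ℕ) % 8) by omega,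
      hc, show (2 : ℕ) ^ (1 + 1) + 1 = 5 by norm_num]
    have m1 := el_mul hF 2 ⟨(k : ℕ) / 8, hx⟩
    have m2 := el_mul hF ⟨gpow 2 5, h5⟩ ⟨(k : ℕ) % 8, hy⟩
    have p := el_pow hF 2 5
    simp only [show ((2 : Fin 8) : ℕ) = 2 from rfl] at m1 m2 p
    rw [← m1, ← m2, p]

theorem perm_w (k : Fin 65) : (permHom hF (wS hF) k : ℕ) = wN k := by
  refine congrArg Fin.val (permHom_eq hF (l := ⟨wN k, (images_ok.2.1 k).2⟩) ?_)
  show wM F • _ = _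
  by_cases hk : (k : ℕ) = 64
  · have e : wN k = 0 := by rw [wN, hk]; rfl
    rw [ovPt_inf hF hk, ovPt_affine hF (show (⟨wN k, (images_ok.2.1 k).2⟩ : Fin 65).val ≠ 64 by simp [e]),
      wM_inf (m := 1)]
    simp [e, el_zero]
  · obtain ⟨hx, hy⟩ : (k : ℕ) / 8 < 8 ∧ (k : ℕ) % 8 < 8 := by have := k.2; omega
    obtain ⟨x, rfl⟩ : ∃ x, (k : ℕ) / 8 = x := ⟨_, rfl⟩
    have hb : Nat.beq (k : ℕ) 64 = false := by rw [← Bool.not_eq_true, Nat.beq_eq]; exact hk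
    have h6 := gpow_lt ⟨_, hx⟩ 6
    have h4 := gpow_lt ⟨_, hy⟩ 4
    have hf : fN ((k : ℕ) / 8) ((k : ℕ) % 8) < 8 :=
      (table_ok.2.1 ⟨_, (table_ok.2.1 ⟨_, hx⟩ ⟨_, hy⟩).1⟩ ⟨_, (table_ok.2.1 ⟨_, h6⟩ ⟨_, h4⟩).2⟩).2
    have hfv : fv 1 (el hF ((k : ℕ) / 8)) (el hF ((k : ℕ) % 8)) = el hF (fN ((k : ℕ) / 8) ((k : ℕ) % 8)) := by
      have m := el_mul hF ⟨_, hx⟩ ⟨_, hy⟩
      have p6 := el_pow hF ⟨_, hx⟩ 6
      have p4 := el_pow hF ⟨_, hy⟩ 4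
      simp only at m p6 p4
      rw [fv, show (2 : ℕ) ^ (1 + 1) + 2 = 6 by norm_num, show (2 : ℕ) ^ (1 + 1) = 4 by norm_num, m, p6, p4, add_assoc,
        el_add, el_add]
      rfl
    rw [ovPt_affine hF hk]
    by_cases h0 : fN ((k : ℕ) / 8) ((k : ℕ) % 8) = 0
    · have e : wN k = 64 := by rw [wN, hb, h0]; rfl
      obtain ⟨hx0, hy0⟩ := images_ok.2.2 ⟨_, hx⟩ ⟨_, hy⟩ h0
      simp only at hx0 hy0
      rw [ovPt_inf hF (show (⟨wN k, (images_ok.2.1 k).2⟩ : Fin 65).val = 64 from e), hx0, hy0, el_zero, wM_zero]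
    · have e : wN k = 8 * gmul ((k : ℕ) % 8) (ginv (fN ((k : ℕ) / 8) ((k : ℕ) % 8))) +
          gmul ((k : ℕ) / 8) (ginv (fN ((k : ℕ) / 8) ((k : ℕ) % 8))) := by
        rw [wN, hb, show Nat.beq (fN ((k : ℕ) / 8) ((k : ℕ) % 8)) 0 = false by
          rw [← Bool.not_eq_true, Nat.beq_eq]; exact h0]
        rfl
      have hi : ginv (fN ((k : ℕ) / 8) ((k : ℕ) % 8)) < 8 := gpow_lt ⟨_, hf⟩ 6
      have h1 : gmul ((k : ℕ) % 8) (ginv (fN ((k : ℕ) / 8) ((k : ℕ) % 8))) < 8 := (table_ok.2.1 ⟨_, hy⟩ ⟨_, hi⟩).1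
      have h2 : gmul ((k : ℕ) / 8) (ginv (fN ((k : ℕ) / 8) ((k : ℕ) % 8))) < 8 := (table_ok.2.1 ⟨_, hx⟩ ⟨_, hi⟩).1
      have hne : wN k ≠ 64 := by omega
      rw [ovPt_affine hF (show (⟨wN k, (images_ok.2.1 k).2⟩ : Fin 65).val ≠ 64 from hne),
        wM_pt hF (by rw [hfv]; exact el_ne_zero hF ⟨_, hf⟩ h0)]
      show pt 1 _ _ = pt 1 (el hF (wN k / 8)) (el hF (wN k % 8))
      rw [e]
      generalize hA : gmul ((k : ℕ) % 8) (ginv (fN ((k : ℕ) / 8) ((k : ℕ) % 8))) = A at h1 ⊢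
      generalize hB : gmul ((k : ℕ) / 8) (ginv (fN ((k : ℕ) / 8) ((k : ℕ) % 8))) = B at h2 ⊢
      rw [show (8 * A + B) / 8 = A by omega, show (8 * A + B) % 8 = B by omega, ← hA, ← hB, hfv, div_eq_mul_inv,
        div_eq_mul_inv]
      have iv := el_inv hF ⟨_, hf⟩ h0
      have m1 := el_mul hF ⟨_, hy⟩ ⟨_, hi⟩
      have m2 := el_mul hF ⟨_, hx⟩ ⟨_, hi⟩
      simp only at iv m1 m2
      rw [iv, m1, m2]

end Cfsg.Agent.Lie.SuzukiEight
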