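import Mathlib
import Cfsg.Agent.Lib.Lie.SuzukiEight.Points
import Cfsg.Agent.Lib.Lie.SuzukiEight.Data

/-!
Definitions of the checks for the multiplier of the Suzuki group over eight elements.
-/

set_option autoImplicit false
set_option maxRecDepth 20000

namespace Cfsg.Agent.Lie.SuzukiEight

open Cfsg.Agent.Lie CentralTable

/-- One of the three basic generators `t(1,0)`, `d(α)`, `w`. -/
def baseN (i k : ℕ) : ℕ := bif Nat.beq i 0 then tN 1 0 k else bif Nat.beq i 1 then dN 2 k else wN k

/-- A product of basic generators applied to a point. -/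
def evalB (w : List ℕ) (k : ℕ) : ℕ := w.foldr (fun i j => baseN i j) k

/-- The generators and their basic properties. -/
def genCheck (k : ℕ) : Bool :=
  (Nat.beq (evalB genX k) (pget certS.g0 k) && Nat.beq (evalB genY k) (pget certS.g1 k)) &&
  ((Nat.beq (evalB genA k) (pget certS.h0 k) && Nat.beq (pget certS.h1 k) (pget certS.h0 k)) &&
  ((Nat.beq (Cert.evalP certS.g0 certS.g1 (List.replicate 7 false) k) k &&
    Nat.beq (Cert.evalP certS.g0 certS.g1 (List.replicate 7 true) k) k) &&
  (Nat.beq (Cert.evalP certS.h0 certS.h0 (List.replicate 13 false) k) k &&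
  (Nat.beq (Cert.evalP certS.g0 certS.g1 diagWord k) (dN 2 k) &&
    Nat.beq (Cert.evalP certS.g0 certS.g1 wordW k) (wN k)))))

/-- The translations as words. -/
def transCheck (q : ℕ) : Bool :=
  (List.range 65).all fun k => Nat.beq (Cert.evalP certS.g0 certS.g1 (transWord.get q) k) (tN (q / 8) (q % 8) k)

end Cfsg.Agent.Lie.SuzukiEight
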