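import Mathlib
import Cfsg.Agent.Lib.Lie.CentralKlein
import Cfsg.Agent.Lib.Lie.SuzukiEight.Defs

/-!
Kernel checks for the multiplier of the Suzuki group over eight elements.
-/

set_option autoImplicit false
set_option maxRecDepth 100000
set_option maxHeartbeats 0
set_option Elab.async false

namespace Cfsg.Agent.Lie.SuzukiEight

open Cfsg.Agent.Lie CentralTable

theorem sz_gen_ok : (List.range 65).all genCheck = true := by decide +kernel

theorem sz_trans_ok : (List.range 64).all transCheck = true := by decide +kernel

theorem sz_edges0 : (List.range 560).all (fun k => certS.edgeCheck (0 + k)) = true := by decide +kernel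

theorem sz_edges1 : (List.range 560).all (fun k => certS.edgeCheck (560 + k)) = true := by decide +kernel

theorem sz_edges2 : (List.range 560).all (fun k => certS.edgeCheck (1120 + k)) = true := by decide +kernel

theorem sz_edges3 : (List.range 560).all (fun k => certS.edgeCheck (1680 + k)) = true := by decide +kernel

theorem sz_edges : (List.range 2240).all certS.edgeCheck = true := by
  rw [List.all_eq_true]
  intro i hi
  rw [List.mem_range] at hi
  have key : ∀ c, (List.range 560).all (fun k => certS.edgeCheck (c + k)) = true → c ≤ i → i < c + 560 →
      certS.edgeCheck i = true := fun c h h1 h2 => by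
    have := List.all_eq_true.1 h (i - c) (List.mem_range.2 (by omega))
    rwa [Nat.add_sub_cancel' h1] at this
  rcases Nat.lt_or_ge i 560 with h0 | h0
  · exact key 0 sz_edges0 (Nat.zero_le i) (by omega)
  rcases Nat.lt_or_ge i 1120 with h1 | h1
  · exact key 560 sz_edges1 h0 (by omega)
  rcases Nat.lt_or_ge i 1680 with h2 | h2
  · exact key 1120 sz_edges2 h1 (by omega)
  · exact key 1680 sz_edges3 h2 (by omega)

theorem sz_tree : (List.range 2240).all certS.treeCheck = true := by decide +kernel

theorem sz_rels : certS.rels.all certS.relCheck = true := by decide +kernel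

theorem sz_vars0 : (List.range 570).all (fun k => !(Nat.blt (0 + k) certS.V) || certS.varCheck (0 + k)) = true := by decide +kernel

theorem sz_vars1 : (List.range 570).all (fun k => !(Nat.blt (570 + k) certS.V) || certS.varCheck (570 + k)) = true := by decide +kernel

theorem sz_vars2 : (List.range 570).all (fun k => !(Nat.blt (1140 + k) certS.V) || certS.varCheck (1140 + k)) = true := by decide +kernel

theorem sz_vars3 : (List.range 570).all (fun k => !(Nat.blt (1710 + k) certS.V) || certS.varCheck (1710 + k)) = true := by decide +kernel

theorem sz_vars4 : (List.range 570).all (fun k => !(Nat.blt (2280 + k) certS.V) || certS.varCheck (2280 + k)) = true := by decide +kernel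

theorem sz_vars5 : (List.range 570).all (fun k => !(Nat.blt (2850 + k) certS.V) || certS.varCheck (2850 + k)) = true := by decide +kernel

theorem sz_vars6 : (List.range 570).all (fun k => !(Nat.blt (3420 + k) certS.V) || certS.varCheck (3420 + k)) = true := by decide +kernel

theorem sz_vars7 : (List.range 570).all (fun k => !(Nat.blt (3990 + k) certS.V) || certS.varCheck (3990 + k)) = true := by decide +kernel

theorem sz_vars_bound : Nat.ble certS.V 4560 = true := by decide +kernel

theorem sz_vars : (List.range certS.V).all certS.varCheck = true := by
  rw [List.all_eq_true]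
  intro i hi
  rw [List.mem_range] at hi
  have hb := Nat.le_of_ble_eq_true sz_vars_bound
  have key : ∀ c, (List.range 570).all (fun k => !(Nat.blt (c + k) certS.V) || certS.varCheck (c + k)) = true →
      c ≤ i → i < c + 570 → certS.varCheck i = true := fun c h h1 h2 => by
    have := List.all_eq_true.1 h (i - c) (List.mem_range.2 (by omega))
    have hlt : Nat.blt i certS.V = true := by rw [Nat.blt_eq]; exact hi
    rw [Nat.add_sub_cancel' h1, hlt, Bool.not_true, Bool.false_or] at this
    exact this
  rcases Nat.lt_or_ge i 570 with h0 | h0
  · exact key 0 sz_vars0 (by omega) (by omega)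
  rcases Nat.lt_or_ge i 1140 with h1 | h1
  · exact key 570 sz_vars1 (by omega) (by omega)
  rcases Nat.lt_or_ge i 1710 with h2 | h2
  · exact key 1140 sz_vars2 (by omega) (by omega)
  rcases Nat.lt_or_ge i 2280 with h3 | h3
  · exact key 1710 sz_vars3 (by omega) (by omega)
  rcases Nat.lt_or_ge i 2850 with h4 | h4
  · exact key 2280 sz_vars4 (by omega) (by omega)
  rcases Nat.lt_or_ge i 3420 with h5 | h5
  · exact key 2850 sz_vars5 (by omega) (by omega)
  rcases Nat.lt_or_ge i 3990 with h6 | h6
  · exact key 3420 sz_vars6 (by omega) (by omega)
  exact key 3990 sz_vars7 (by omega) (by omega)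

theorem sz_combos : certS.combos.all certS.comboCheck = true := by decide +kernel

theorem sz_targets : certS.lenCheck = true ∧ certS.fourTargets 91 0 3 parity0 parity1 = true := by decide +kernel

end Cfsg.Agent.Lie.SuzukiEight
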