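import Mathlib
import Cfsg.Agent.Lib.Lie.SuzukiEight.Data

/-!
Kernel checks of the invariant relation of the double cover number 1; evaluated one after another to bound memory.
-/

set_option autoImplicit false
set_option maxRecDepth 100000
set_option maxHeartbeats 0
set_option Elab.async false

namespace Cfsg.Agent.Lie.SuzukiEight

open Cfsg.Agent.Lie CentralTable

theorem sign1_rows0 : (List.range 560).all (fun a => signs1.listCheck certS nbr1 (0 + a)) = true := by
  decide +kernel

theorem sign1_rows1 : (List.range 560).all (fun a => signs1.listCheck certS nbr1 (560 + a)) = true := by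
  decide +kernel

theorem sign1_rows2 : (List.range 560).all (fun a => signs1.listCheck certS nbr1 (1120 + a)) = true := by
  decide +kernel

theorem sign1_rows3 : (List.range 560).all (fun a => signs1.listCheck certS nbr1 (1680 + a)) = true := by
  decide +kernel

theorem sign1_rows4 : (List.range 560).all (fun a => signs1.listCheck certS nbr1 (2240 + a)) = true := by
  decide +kernel

theorem sign1_rows5 : (List.range 560).all (fun a => signs1.listCheck certS nbr1 (2800 + a)) = true := by
  decide +kernel

theorem sign1_rows6 : (List.range 560).all (fun a => signs1.listCheck certS nbr1 (3360 + a)) = true := by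
  decide +kernel

theorem sign1_rows7 : (List.range 560).all (fun a => signs1.listCheck certS nbr1 (3920 + a)) = true := by
  decide +kernel

theorem sign1_row {a : ℕ} (ha : a < 4480) : signs1.listCheck certS nbr1 a = true := by
  have key : ∀ c b : ℕ, (List.range 560).all (fun a => signs1.listCheck certS nbr1 (c + a)) = true →
      c ≤ b → b < c + 560 → signs1.listCheck certS nbr1 b = true := fun c b h h1 h2 => by
    have := List.all_eq_true.1 h (b - c) (List.mem_range.2 (by omega))
    rwa [show c + (b - c) = b by omega] at this
  by_cases h0 : a < 560
  · exact key _ a sign1_rows0 (by omega) (by omega)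
  by_cases h1 : a < 1120
  · exact key _ a sign1_rows1 (by omega) (by omega)
  by_cases h2 : a < 1680
  · exact key _ a sign1_rows2 (by omega) (by omega)
  by_cases h3 : a < 2240
  · exact key _ a sign1_rows3 (by omega) (by omega)
  by_cases h4 : a < 2800
  · exact key _ a sign1_rows4 (by omega) (by omega)
  by_cases h5 : a < 3360
  · exact key _ a sign1_rows5 (by omega) (by omega)
  by_cases h6 : a < 3920
  · exact key _ a sign1_rows6 (by omega) (by omega)
  exact key _ a sign1_rows7 (by omega) (by omega)

end Cfsg.Agent.Lie.SuzukiEight
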