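import Mathlib
import Cfsg.Agent.Lib.Lie.SuzukiEight.Data

/-!
Kernel checks for the two double covers of the Suzuki group over eight elements.
-/

set_option autoImplicit false
set_option maxRecDepth 100000
set_option maxHeartbeats 0
set_option Elab.async false

namespace Cfsg.Agent.Lie.SuzukiEight

open Cfsg.Agent.Lie CentralTable

theorem sign_trees : (List.range 2240).all (signs1.treeOK 2240) = true ∧
    (List.range 2240).all (signs2.treeOK 2240) = true := by decide +kernel

theorem sign_words : (signs1.wordOK certS = true ∧ signs2.wordOK certS = true) ∧
    certS.relCheck signs1.word = true ∧ certS.relCheck signs2.word = true ∧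
    signs2.parity certS 0 signs1.word = false ∧ signs1.parity certS 0 signs2.word = false := by decide +kernel

end Cfsg.Agent.Lie.SuzukiEight
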