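import Mathlib
import Cfsg.Agent.Lib.Lie.SuzukiSp4
import Cfsg.Agent.Lib.Lie.CentralKlein
import Cfsg.Agent.Lib.Lie.SuzukiEight.Checks
import Cfsg.Agent.Lib.Lie.SuzukiEight.SignChecks
import Cfsg.Agent.Lib.Lie.SuzukiEight.RowChecks1
import Cfsg.Agent.Lib.Lie.SuzukiEight.RowChecks2

/-!
The Schur multiplier of the Suzuki group over eight elements is a four-group.
-/

set_option autoImplicit false
set_option maxRecDepth 20000
set_option maxHeartbeats 1000000
set_option linter.style.haveILetI false

noncomputable section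

namespace Cfsg.Agent.Lie.SuzukiEight

open Cfsg.Agent.Lie Suzuki

attribute [local irreducible] CentralTable.pget CentralTable.Cert.evalP CentralTable.Cert.edgeCheck
  CentralTable.Cert.treeCheck CentralTable.Cert.relCheck CentralTable.Cert.varCheck CentralTable.Cert.comboCheck
  CentralTable.Signs.listCheck CentralTable.Signs.treeOK CentralTable.Signs.wordOK genCheck transCheck tN dN wN

theorem gen_facts (k : Fin 65) :
    (evalB genX k = CentralTable.pget certS.g0 k ∧ evalB genY k = CentralTable.pget certS.g1 k) ∧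
    (evalB genA k = CentralTable.pget certS.h0 k ∧
      CentralTable.pget certS.h1 k = CentralTable.pget certS.h0 k) ∧
    (CentralTable.Cert.evalP certS.g0 certS.g1 (List.replicate 7 false) k = k ∧
      CentralTable.Cert.evalP certS.g0 certS.g1 (List.replicate 7 true) k = k) ∧
    CentralTable.Cert.evalP certS.h0 certS.h0 (List.replicate 13 false) k = k ∧
    CentralTable.Cert.evalP certS.g0 certS.g1 diagWord k = dN 2 k ∧
    CentralTable.Cert.evalP certS.g0 certS.g1 wordW k = wN k := by
  have h := List.all_eq_true.1 sz_gen_ok k (List.mem_range.2 k.2)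
  unfold genCheck at h
  simp only [Bool.and_eq_true, Nat.beq_eq] at h
  exact h

theorem certS_valid : certS.Valid where
  npos := by show 0 < 2240; norm_num
  edges i hi := List.all_eq_true.1 sz_edges i (List.mem_range.2 hi)
  tree i hi := List.all_eq_true.1 sz_tree i (List.mem_range.2 hi)
  rels := List.all_eq_true.1 sz_rels
  vars v hv := List.all_eq_true.1 sz_vars v (List.mem_range.2 hv)
  combos := List.all_eq_true.1 sz_combos

variable {F : Type*} [Field F] [Fintype F] (hF : Fintype.card F = 2 ^ (2 * 1 + 1))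

local notation "Gs" => Cfsg.Sz F 1

/-- The unit `α`. -/
def alpha : Fˣ := Units.mk0 (el hF ((2 : Fin 8) : ℕ)) (el_ne_zero hF 2 (by decide))

/-- The basic generators. -/
def base (i : ℕ) : Gs :=
  bif Nat.beq i 0 then tS hF (el hF ((1 : Fin 8) : ℕ)) (el hF ((0 : Fin 8) : ℕ)) else
    bif Nat.beq i 1 then dS hF (alpha hF) else wS hF

theorem perm_base (i : ℕ) (k : Fin 65) : (permHom hF (base hF i) k : ℕ) = baseN i k := by
  rcases i with _ | _ | i
  · exact perm_t hF 1 0 k
  · exact perm_d hF (alpha hF) rfl k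
  · exact perm_w hF k

/-- A product of basic generators. -/
def prodB (w : List ℕ) : Gs := (w.map (base hF)).prod

theorem prodB_apply (w : List ℕ) (k : Fin 65) : (permHom hF (prodB hF w) k : ℕ) = evalB w k := by
  induction w with
  | nil => simp [prodB, evalB]
  | cons a w ih =>
    simp only [prodB, List.map_cons, List.prod_cons, map_mul, Equiv.Perm.mul_apply]
    rw [perm_base, show evalB (a :: w) k = baseN a (evalB w k) from rfl, ← ih]
    rfl

/-- The two generators. -/
def sx (s : Bool) : Gs := prodB hF (bif s then genY else genX)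

/-- The generator of the labels. -/
def sa : Gs := prodB hF genA

theorem rep_sx (s : Bool) : CentralTable.Rep (permHom hF) (sx hF s) (bif s then certS.g1 else certS.g0) := by
  intro k
  cases s
  · exact (prodB_apply hF _ k).trans (gen_facts k).1.1
  · exact (prodB_apply hF _ k).trans (gen_facts k).1.2

theorem rep_sa (s : Bool) : CentralTable.Rep (permHom hF) (sa hF) (bif s then certS.h1 else certS.h0) := by
  intro k
  refine (prodB_apply hF _ k).trans ((gen_facts k).2.1.1.trans ?_)
  cases s
  exacts [rfl, (gen_facts k).2.1.2.symm]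

theorem sx_seven (s : Bool) : sx hF s ^ 7 = 1 := by
  refine CentralTable.eq_of_rep (permHom_injective hF) fun k => ?_
  rw [show sx hF s ^ 7 = CentralTable.ev (sx hF) (List.replicate 7 s) by
    rw [CentralTable.ev, List.map_replicate, List.prod_replicate], CentralTable.rep_ev (rep_sx hF), map_one]
  cases s
  exacts [(gen_facts k).2.2.1.1, (gen_facts k).2.2.1.2]

theorem sa_thirteen : sa hF ^ 13 = 1 := by
  refine CentralTable.eq_of_rep (permHom_injective hF) fun k => ?_
  rw [show sa hF ^ 13 = CentralTable.ev (fun _ => sa hF) (List.replicate 13 false) by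
    rw [CentralTable.ev, List.map_replicate, List.prod_replicate],
    CentralTable.rep_ev (a := certS.h0) (b := certS.h0) (fun s => by cases s <;> exact rep_sa hF false), map_one]
  exact (gen_facts k).2.2.2.1

theorem sx_gen : Subgroup.closure (Set.range (sx hF)) = ⊤ := by
  set W := Subgroup.closure (Set.range (sx hF)) with hW
  have hword : ∀ (g : Gs) (w : List Bool), (∀ k : Fin 65, CentralTable.Cert.evalP certS.g0 certS.g1 w k =
      (permHom hF g k : ℕ)) → g ∈ W := fun g w h => by
    rw [show g = CentralTable.ev (sx hF) w from CentralTable.eq_of_rep (permHom_injective hF) fun k => by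
      rw [CentralTable.rep_ev (rep_sx hF), h]]
    exact CentralTable.ev_mem _ _
  have ht : ∀ a b : F, tS hF a b ∈ W := by
    intro a b
    obtain ⟨i, rfl⟩ := (el_bijective hF).2 a
    obtain ⟨j, rfl⟩ := (el_bijective hF).2 b
    refine hword _ (transWord.get (8 * i + j)) fun k => ?_
    have hi := i.2
    have hj := j.2
    have h := List.all_eq_true.1 sz_trans_ok (8 * i + j) (List.mem_range.2 (by omega))
    unfold transCheck at h
    rw [List.all_eq_true] at h
    have h' := Nat.eq_of_beq_eq_true (h k (List.mem_range.2 k.2))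
    rw [show (8 * (i : ℕ) + j) / 8 = i by omega, show (8 * (i : ℕ) + j) % 8 = j by omega] at h'
    rw [h', perm_t]
  have hw : wS hF ∈ W := hword _ wordW fun k => by rw [(gen_facts k).2.2.2.2.2, perm_w]
  have hd : dS hF (alpha hF) ∈ W := hword _ diagWord fun k => by
    rw [(gen_facts k).2.2.2.2.1, perm_d hF (alpha hF) rfl]
  have hd' : ∀ c : Fˣ, dS hF c ∈ W := fun c => by
    obtain ⟨n, hn⟩ := exists_unit_pow hF c
    rw [show c = alpha hF ^ n from Units.ext (by
      rw [Units.val_pow_eq_pow_val, hn]
      show root hF ^ n = el hF 2 ^ n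
      rw [el_two]), map_pow]
    exact pow_mem hd n
  rw [eq_top_iff]
  intro g _
  rcases sz_decomp hF le_rfl g with ⟨a, b, c, rfl⟩ | ⟨a, b, a', b', c, rfl⟩
  · exact mul_mem (ht _ _) (hd' _)
  · exact mul_mem (mul_mem (ht _ _) hw) (mul_mem (ht _ _) (hd' _))

/-- The subgroup of the labels. -/
def subA : Subgroup Gs := Subgroup.zpowers (sa hF)

include hF in
theorem card_group : Nat.card Gs = 29120 := by
  rw [card_sz hF le_rfl, hF]; norm_num

theorem coset_bound : certS.N * Nat.card (subA hF) ≤ Nat.card Gs := by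
  rw [card_group hF, subA, Nat.card_zpowers]
  have := Nat.le_of_dvd (by norm_num) (orderOf_dvd_of_pow_eq_one (sa_thirteen hF))
  show 2240 * _ ≤ _
  omega

/-- The table of the group itself. -/
def baseS : CentralTable.Setup certS Gs Gs where
  σ := MonoidHom.id _
  φ := permHom hF
  faithful := permHom_injective hF
  central := by rw [MonoidHom.ker_id]; exact bot_le
  x := sx hF
  y := fun _ => sa hF
  rep_x := rep_sx hF
  rep_y := rep_sa hF
  pow_x := fun s => by cases s <;> exact sx_seven hF _
  inj := fun _ h => h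
  valid := certS_valid

include hF in
theorem upper (Γ : Type*) [Group Γ] [Finite Γ] (σ : Γ →* Gs) (hσ : Cfsg.IsStemExtension σ) :
    ∃ a b : σ.ker, a ^ 2 = 1 ∧ b ^ 2 = 1 ∧ ∀ k : σ.ker, k ∈ Subgroup.closure {a, b} := by
  haveI : Finite Gs := Nat.finite_of_card_ne_zero (by rw [card_group hF]; norm_num)
  have h7 : ∀ z : σ.ker, z ^ 7 = 1 → z = 1 :=
    CentralTable.ker_no_torsion hσ (by norm_num) (by rw [card_group hF]; decide)
  have h13 : ∀ z : σ.ker, z ^ 13 = 1 → z = 1 :=
    CentralTable.ker_no_torsion hσ (by norm_num) (by rw [card_group hF]; decide)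
  have h91 : ∀ z : σ.ker, z ^ 91 = 1 → z = 1 := fun z h => h13 z (h7 _ (by rw [← pow_mul]; exact h))
  choose X hX hX7 using fun s => CentralTable.exists_lift hσ.1 hσ.2.1 h7 (sx_seven hF s)
  obtain ⟨A, hA, hA13⟩ := CentralTable.exists_lift hσ.1 hσ.2.1 h13 (sa_thirteen hF)
  have hne : sa hF ≠ 1 := fun e => by
    have h : (List.range 65).all (fun k => Nat.beq (CentralTable.pget certS.h0 k) k) = true := by
      rw [List.all_eq_true]
      intro k hk
      rw [Nat.beq_eq]
      have h0 := rep_sa hF false ⟨k, List.mem_range.1 hk⟩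
      rw [e, map_one] at h0
      exact h0.symm
    exact absurd h (by decide +kernel)
  let S : CentralTable.Setup certS Γ Gs :=
    { σ := σ, φ := permHom hF, faithful := permHom_injective hF, central := hσ.2.1, x := X, y := fun _ => A
      rep_x := fun s => (hX s).symm ▸ rep_sx hF s
      rep_y := fun s => hA.symm ▸ rep_sa hF s
      pow_x := fun s => by cases s <;> exact hX7 _
      inj := fun w hw => by
        rw [CentralTable.ev, List.map_const', List.prod_replicate] at hw ⊢
        rw [map_pow, hA] at hw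
        haveI : Fact (Nat.Prime 13) := ⟨by norm_num⟩
        obtain ⟨m, hm⟩ := (orderOf_eq_prime (sa_thirteen hF) hne) ▸ orderOf_dvd_of_pow_eq_one hw
        rw [hm, pow_mul, hA13, one_pow]
      valid := certS_valid }
  exact S.four_stage hσ (subA hF) (fun _ => hA.symm ▸ Subgroup.mem_zpowers _)
    (by show Subgroup.closure (Set.range fun s => σ (X s)) = ⊤
        rw [show (fun s => σ (X s)) = sx hF from funext hX]
        exact sx_gen hF)
    (coset_bound hF) parity0 parity1 h91 (show 0 < 9 by norm_num) (show 3 < 9 by norm_num) sz_targets.1 sz_targets.2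

/-- A signed table as a double cover. -/
def double [Finite Gs] (D : CentralTable.Signs)
    (hinv : ∀ a < 2 * certS.N, ∀ b < 2 * certS.N, D.rel a b = true → D.pairCheck certS a b = true)
    (htree : ∀ i < certS.N, D.treeOK certS.N i = true) (hw : D.wordOK certS = true) :
    CentralTable.DoubleSetup certS D Gs where
  φ := permHom hF
  faithful := permHom_injective hF
  x := sx hF
  rep_x := rep_sx hF
  H := subA hF
  t := fun i => (baseS hF).t i
  step_lt := fun i hi s => (baseS hF).step_lt hi s
  edge := fun i s => by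
    rw [show (baseS hF).t i * sx hF s = _ from (baseS hF).edge_image i.2 s]
    show CentralTable.ev (fun _ => sa hF) _ * _ * _ ∈ subA hF
    rw [mul_inv_cancel_right, CentralTable.ev, List.map_const', List.prod_replicate]
    exact pow_mem (Subgroup.mem_zpowers _) _
  inj := fun i j h => Fin.ext
    ((baseS hF).coset_inj (subA hF) (fun _ => Subgroup.mem_zpowers _) (sx_gen hF) (coset_bound hF) i.2 j.2 h)
  gen := sx_gen hF
  npos := certS_valid.npos
  odd := ⟨⟨3, rfl⟩, ⟨3, rfl⟩⟩
  invariant := hinv
  tree := htree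
  words := hw

theorem multiplier_sz {F : Type*} [Field F] [Fintype F] (hF : Fintype.card F = 2 ^ (2 * 1 + 1)) :
    Cfsg.HasSchurMultiplier (Cfsg.Sz F 1) (Multiplicative (ZMod 2 × ZMod 2)) := by
  haveI : Finite (Cfsg.Sz F 1) := Nat.finite_of_card_ne_zero (by rw [card_group hF]; norm_num)
  have key : ∀ (nb : Janko.Tree (List ℕ)) (D : CentralTable.Signs), D.rel = (fun a b => (nb.get a).any (Nat.beq b)) →
      (∀ a < 4480, D.listCheck certS nb a = true) →
      ∀ a < 2 * certS.N, ∀ b < 2 * certS.N, D.rel a b = true → D.pairCheck certS a b = true := by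
    intro nb D hD h a ha b _ hab
    rw [hD] at hab
    have := h a ha
    unfold CentralTable.Signs.listCheck at this
    obtain ⟨c, hc, hcb⟩ := List.any_eq_true.1 hab
    rw [Nat.eq_of_beq_eq_true hcb]
    exact List.all_eq_true.1 this c hc
  refine CentralTable.hasKleinSchur
    (double hF signs1 (key nbr1 signs1 rfl fun _ => sign1_row)
      (fun i hi => List.all_eq_true.1 sign_trees.1 i (List.mem_range.2 hi)) sign_words.1.1)
    (double hF signs2 (key nbr2 signs2 rfl fun _ => sign2_row)
      (fun i hi => List.all_eq_true.1 sign_trees.2 i (List.mem_range.2 hi)) sign_words.1.2)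
    rfl sign_words.2 ?_
  intro Γ _ _ σ hσ
  exact upper hF Γ σ hσ

/-- Schur multipliers transport along isomorphisms. -/
theorem schur_transport.{u, v} {G H : Type u} {A : Type v} [Group G] [Group H] [CommGroup A] (e : G ≃* H)
    (h : Cfsg.HasSchurMultiplier G A) : Cfsg.HasSchurMultiplier H A := by
  obtain ⟨⟨Γ, _, _, σ, hσ, ⟨f⟩⟩, hall⟩ := h
  have hker : ∀ {Δ : Type u} [Group Δ] (τ : Δ →* G), (e.toMonoidHom.comp τ).ker = τ.ker := fun τ => by
    ext x; simp [MonoidHom.mem_ker]
  refine ⟨⟨Γ, ‹_›, ‹_›, e.toMonoidHom.comp σ, ⟨e.surjective.comp hσ.1, ?_, ?_⟩,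
    ⟨(MulEquiv.subgroupCongr (hker σ)).trans f⟩⟩, fun Δ _ _ τ hτ => ?_⟩
  · rw [hker]; exact hσ.2.1
  · rw [hker]; exact hσ.2.2
  have hk : (e.symm.toMonoidHom.comp τ).ker = τ.ker := by ext x; simp [MonoidHom.mem_ker]
  obtain ⟨π, hπ⟩ := hall Δ (e.symm.toMonoidHom.comp τ)
    ⟨e.symm.surjective.comp hτ.1, hk ▸ hτ.2.1, hk ▸ hτ.2.2⟩
  exact ⟨(MulEquiv.subgroupCongr hk).toMonoidHom.comp π, (MulEquiv.subgroupCongr hk).surjective.comp hπ⟩

/-- The Schur multiplier of `Sz(8)`. -/
theorem multiplier {F : Type*} [Field F] [Fintype F] (hF : Fintype.card F = 8) :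
    Cfsg.HasSchurMultiplier (Cfsg.Lie.Sz F 4) (Multiplicative (ZMod 2 × ZMod 2)) := by
  have hF' : Fintype.card F = 2 ^ (2 * 1 + 1) := hF.trans (by norm_num)
  obtain ⟨e⟩ := lie_sz_equiv hF' le_rfl
  exact schur_transport e (multiplier_sz hF')

end Cfsg.Agent.Lie.SuzukiEight
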